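import Mathlib

set_option autoImplicit false

/-!
Two-by-two matrices: cyclic vectors, conjugacy by trace and determinant, commutant.
-/

namespace CfsgLib.SL2

open Matrix

variable {F : Type*} [Field F]

/-- A matrix which is not a scalar multiple of the identity. -/
def NonScalar (M : Matrix (Fin 2) (Fin 2) F) : Prop := ∀ c : F, M ≠ c • 1

theorem cayley (M : Matrix (Fin 2) (Fin 2) F) : M * M = M.trace • M - M.det • 1 := by
  ext i j
  fin_cases i <;> fin_cases j <;>
    simp [Matrix.mul_apply, Matrix.trace_fin_two, Matrix.det_fin_two] <;> ring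

theorem det_smul_one_add_smul (M : Matrix (Fin 2) (Fin 2) F) (a b : F) :
    (a • (1 : Matrix (Fin 2) (Fin 2) F) + b • M).det = a * a + a * b * M.trace + b * b * M.det := by
  simp [Matrix.trace_fin_two, Matrix.det_fin_two]
  ring

theorem trace_smul_one_add_smul (M : Matrix (Fin 2) (Fin 2) F) (a b : F) :
    (a • (1 : Matrix (Fin 2) (Fin 2) F) + b • M).trace = 2 * a + b * M.trace := by
  simp [Matrix.trace_fin_two]
  ring

theorem smul_one_add_smul_mul (M : Matrix (Fin 2) (Fin 2) F) (a b c d : F) :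
    (a • (1 : Matrix (Fin 2) (Fin 2) F) + b • M) * (c • 1 + d • M) =
      (a * c - b * d * M.det) • 1 + (a * d + b * c + b * d * M.trace) • M := by
  ext i j
  fin_cases i <;> fin_cases j <;>
    simp [Matrix.mul_apply, Matrix.trace_fin_two, Matrix.det_fin_two] <;> ring

theorem nonScalar_iff (M : Matrix (Fin 2) (Fin 2) F) :
    NonScalar M ↔ M 0 1 ≠ 0 ∨ M 1 0 ≠ 0 ∨ M 0 0 ≠ M 1 1 := by
  constructor
  · intro h
    by_contra hc
    push Not at hc
    obtain ⟨h1, h2, h3⟩ := hc
    apply h (M 0 0)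
    ext i j
    fin_cases i <;> fin_cases j <;> simp [h1, h2, h3]
  · rintro h c rfl
    simp at h

/-- Every non-scalar matrix is similar to its companion matrix. -/
theorem exists_companion (M : Matrix (Fin 2) (Fin 2) F) (h : NonScalar M) :
    ∃ P : Matrix (Fin 2) (Fin 2) F, P.det ≠ 0 ∧
      M * P = P * !![0, -M.det; 1, M.trace] := by
  have key : ∀ v w : F, v * (M 1 0 * v + M 1 1 * w) - (M 0 0 * v + M 0 1 * w) * w ≠ 0 →
      ∃ P : Matrix (Fin 2) (Fin 2) F, P.det ≠ 0 ∧ M * P = P * !![0, -M.det; 1, M.trace] := by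
    intro v w hvw
    refine ⟨!![v, M 0 0 * v + M 0 1 * w; w, M 1 0 * v + M 1 1 * w], ?_, ?_⟩
    · rw [Matrix.det_fin_two_of]
      exact hvw
    · ext i j
      fin_cases i <;> fin_cases j <;>
        simp [Matrix.mul_apply, Matrix.trace_fin_two, Matrix.det_fin_two] <;> ring
  rw [nonScalar_iff] at h
  by_cases h10 : M 1 0 = 0
  · by_cases h01 : M 0 1 = 0
    · refine key 1 1 ?_
      rw [h10, h01]
      have h3 : M 0 0 ≠ M 1 1 := by simpa [h10, h01] using h
      intro hc
      exact h3 (by linear_combination -hc)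
    · refine key 0 1 ?_
      intro hc
      exact h01 (by linear_combination -hc)
  · refine key 1 0 ?_
    intro hc
    exact h10 (by linear_combination hc)

/-- Non-scalar matrices with the same trace and determinant are similar. -/
theorem exists_conj_of_trace_det {M N : Matrix (Fin 2) (Fin 2) F} (hM : NonScalar M)
    (hN : NonScalar N) (ht : M.trace = N.trace) (hd : M.det = N.det) :
    ∃ P : Matrix (Fin 2) (Fin 2) F, P.det ≠ 0 ∧ P * M = N * P := by
  obtain ⟨A, hA, hA'⟩ := exists_companion M hM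
  obtain ⟨B, hB, hB'⟩ := exists_companion N hN
  have hu : IsUnit A.det := isUnit_iff_ne_zero.mpr hA
  refine ⟨B * A⁻¹, ?_, ?_⟩
  · rw [Matrix.det_mul, Matrix.det_nonsing_inv, Ring.inverse_eq_inv']
    exact mul_ne_zero hB (inv_ne_zero hA)
  · calc B * A⁻¹ * M = B * A⁻¹ * (M * A) * A⁻¹ := by
          simp only [Matrix.mul_assoc, Matrix.mul_nonsing_inv _ hu, Matrix.mul_one]
      _ = B * (A⁻¹ * A) * !![0, -M.det; 1, M.trace] * A⁻¹ := by
          rw [hA']; simp only [Matrix.mul_assoc]
      _ = B * !![0, -N.det; 1, N.trace] * A⁻¹ := by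
          rw [Matrix.nonsing_inv_mul _ hu, Matrix.mul_one, ht, hd]
      _ = N * (B * A⁻¹) := by rw [← hB', Matrix.mul_assoc]

/-- The commutant of a non-scalar matrix `M` consists of the matrices `a + b M`. -/
theorem exists_eq_of_commute {M X : Matrix (Fin 2) (Fin 2) F} (hM : NonScalar M)
    (hX : X * M = M * X) : ∃ a b : F, X = a • 1 + b • M := by
  obtain ⟨P, hP, hPM⟩ := exists_companion M hM
  have hu : IsUnit P.det := isUnit_iff_ne_zero.mpr hP
  set C : Matrix (Fin 2) (Fin 2) F := !![0, -M.det; 1, M.trace] with hC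
  set Y := P⁻¹ * X * P with hY
  have hM' : M = P * C * P⁻¹ := by
    rw [← hPM, Matrix.mul_assoc, Matrix.mul_nonsing_inv _ hu, Matrix.mul_one]
  have hX' : X = P * Y * P⁻¹ := by
    rw [hY]
    simp only [Matrix.mul_assoc, Matrix.mul_nonsing_inv _ hu, Matrix.mul_one]
    rw [← Matrix.mul_assoc, Matrix.mul_nonsing_inv _ hu, Matrix.one_mul]
  have hcomm : Y * C = C * Y := by
    have h1 : P⁻¹ * (X * M) * P = P⁻¹ * (M * X) * P := by rw [hX]
    calc Y * C = P⁻¹ * X * (P * C) := by rw [hY]; simp only [Matrix.mul_assoc]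
      _ = P⁻¹ * X * (M * P) := by rw [hPM]
      _ = P⁻¹ * (M * X) * P := by rw [← h1]; simp only [Matrix.mul_assoc]
      _ = P⁻¹ * (P * C * P⁻¹ * X) * P := by rw [← hM']
      _ = C * Y := by
          rw [hY]
          simp only [Matrix.mul_assoc]
          rw [← Matrix.mul_assoc P⁻¹ P, Matrix.nonsing_inv_mul _ hu, Matrix.one_mul]
  refine ⟨Y 0 0, Y 1 0, ?_⟩
  have hYeq : Y = Y 0 0 • 1 + Y 1 0 • C := by
    have e1 := congrFun (congrFun hcomm 0) 0
    have e2 := congrFun (congrFun hcomm 1) 0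
    simp [hC, Matrix.mul_apply] at e1 e2
    ext i j
    fin_cases i <;> fin_cases j <;> simp [hC]
    · linear_combination e1
    · linear_combination e2
  rw [hX', hM', hYeq]
  simp only [Matrix.mul_add, Matrix.add_mul, Matrix.mul_smul, Matrix.smul_mul, Matrix.mul_one,
    Matrix.mul_nonsing_inv _ hu]
  congr 2 <;> simp [hC]

theorem smul_one_add_smul_inj {M : Matrix (Fin 2) (Fin 2) F} (hM : NonScalar M) {a b c d : F}
    (h : a • (1 : Matrix (Fin 2) (Fin 2) F) + b • M = c • 1 + d • M) : a = c ∧ b = d := by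
  by_cases hbd : b = d
  · subst hbd
    refine ⟨?_, rfl⟩
    have h' : a • (1 : Matrix (Fin 2) (Fin 2) F) = c • 1 := add_right_cancel h
    have := congrFun (congrFun h' 0) 0
    simpa using this
  · exfalso
    refine hM ((c - a) / (b - d)) ?_
    have h2 : (b - d) • M = (c - a) • (1 : Matrix (Fin 2) (Fin 2) F) := by
      rw [sub_smul, sub_smul, sub_eq_sub_iff_add_eq_add, add_comm, h]
    rw [div_eq_inv_mul, mul_smul, ← h2, smul_smul, inv_mul_cancel₀ (sub_ne_zero.mpr hbd), one_smul]

end CfsgLib.SL2
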