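import Mathlib
import Cfsg.Agent.Lib.SL2.Basic

set_option autoImplicit false

/-!
`SL_2` over a finite field: norm forms are surjective, semisimple elements are conjugate by trace.
-/

namespace CfsgLib.SL2

open Matrix
open scoped MatrixGroups

variable {F : Type*} [Field F]

theorem card_mod_two_eq_one [Fintype F] (h : ringChar F ≠ 2) : Fintype.card F % 2 = 1 :=
  FiniteField.odd_card_of_char_ne_two h

theorem two_ne_zero_of_ringChar (h : ringChar F ≠ 2) : (2 : F) ≠ 0 := Ring.two_ne_zero h

/-- The binary form `a² + tab + b²` represents every non-zero element when its discriminant is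
non-zero or the characteristic is two. -/
theorem exists_norm_eq [Finite F] (t c : F) (h : t * t ≠ 4 ∨ ringChar F = 2) :
    ∃ a b : F, a * a + a * b * t + b * b = c := by
  by_cases h2 : ringChar F = 2
  · obtain ⟨r, hr⟩ := FiniteField.isSquare_of_char_two h2 c
    exact ⟨r, 0, by rw [hr]; ring⟩
  · have ht : t * t ≠ 4 := h.resolve_right h2
    have := Fintype.ofFinite F
    have h20 : (2 : F) ≠ 0 := Ring.two_ne_zero h2
    set e : F := 1 - t * t / 4 with he
    have h40 : (4 : F) ≠ 0 := by
      rw [show (4 : F) = 2 * 2 by norm_num]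
      exact mul_ne_zero h20 h20
    have he0 : e ≠ 0 := by
      intro hz
      apply ht
      rw [he, sub_eq_zero, eq_div_iff h40, one_mul] at hz
      exact hz.symm
    obtain ⟨x, y, hxy⟩ := FiniteField.exists_root_sum_quadratic
      (f := (Polynomial.X : Polynomial F) ^ 2)
      (g := Polynomial.C e * Polynomial.X ^ 2 + Polynomial.C 0 * Polynomial.X + Polynomial.C (-c))
      (Polynomial.degree_X_pow 2) (Polynomial.degree_quadratic he0) (FiniteField.odd_card_of_char_ne_two h2)
    simp only [Polynomial.eval_pow, Polynomial.eval_X, Polynomial.eval_add, Polynomial.eval_mul,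
      Polynomial.eval_C, zero_mul, add_zero] at hxy
    refine ⟨x - y * t / 2, y, ?_⟩
    rw [he] at hxy
    field_simp at hxy ⊢
    linear_combination hxy

theorem isUnit_det_SL (g : SL(2, F)) : IsUnit (g : Matrix (Fin 2) (Fin 2) F).det := by
  rw [g.det_coe]; exact isUnit_one

theorem coe_inv_eq (g : SL(2, F)) :
    ((g⁻¹ : SL(2, F)) : Matrix (Fin 2) (Fin 2) F) =
      (g : Matrix (Fin 2) (Fin 2) F).trace • 1 - (g : Matrix (Fin 2) (Fin 2) F) := by
  rw [Matrix.SpecialLinearGroup.coe_inv, Matrix.adjugate_fin_two]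
  ext i j
  fin_cases i <;> fin_cases j <;> simp [Matrix.trace_fin_two]

theorem trace_inv (g : SL(2, F)) :
    ((g⁻¹ : SL(2, F)) : Matrix (Fin 2) (Fin 2) F).trace =
      (g : Matrix (Fin 2) (Fin 2) F).trace := by
  rw [coe_inv_eq]
  simp [Matrix.trace_fin_two]
  ring

theorem trace_conj (h g : SL(2, F)) :
    ((h * g * h⁻¹ : SL(2, F)) : Matrix (Fin 2) (Fin 2) F).trace =
      (g : Matrix (Fin 2) (Fin 2) F).trace := by
  rw [Matrix.SpecialLinearGroup.coe_mul, Matrix.SpecialLinearGroup.coe_mul, Matrix.trace_mul_comm,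
    ← Matrix.mul_assoc, ← Matrix.SpecialLinearGroup.coe_mul, inv_mul_cancel,
    Matrix.SpecialLinearGroup.coe_one, Matrix.one_mul]

theorem det_smul_add_smul_SL (g : SL(2, F)) (a b : F) :
    (a • (1 : Matrix (Fin 2) (Fin 2) F) + b • (g : Matrix (Fin 2) (Fin 2) F)).det =
      a * a + a * b * (g : Matrix (Fin 2) (Fin 2) F).trace + b * b := by
  rw [det_smul_one_add_smul, g.det_coe, mul_one]

/-- A scalar element of `SL_2` is `1` or `-1`. -/
theorem eq_one_or_neg_one_of_not_nonScalar (g : SL(2, F))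
    (h : ¬ NonScalar (g : Matrix (Fin 2) (Fin 2) F)) :
    (g : Matrix (Fin 2) (Fin 2) F) = 1 ∨ (g : Matrix (Fin 2) (Fin 2) F) = -1 := by
  simp only [NonScalar, not_forall, not_not] at h
  obtain ⟨c, hc⟩ := h
  have hd := g.det_coe
  rw [hc, Matrix.det_smul, Matrix.det_one, mul_one, Fintype.card_fin, sq] at hd
  rcases mul_self_eq_one_iff.mp hd with h | h
  · left; rw [hc, h, one_smul]
  · right; rw [hc, h, neg_one_smul]

theorem mem_center_iff_not_nonScalar (g : SL(2, F)) :
    g ∈ Subgroup.center SL(2, F) ↔ ¬ NonScalar (g : Matrix (Fin 2) (Fin 2) F) := by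
  constructor
  · intro h hn
    obtain ⟨r, -, hr⟩ := Matrix.SpecialLinearGroup.mem_center_iff.mp h
    exact hn r (by rw [← hr, Matrix.scalar_apply, Matrix.smul_one_eq_diagonal])
  · intro h
    rw [Subgroup.mem_center_iff]
    intro k
    apply Subtype.ext
    simp only [Matrix.SpecialLinearGroup.coe_mul]
    rcases eq_one_or_neg_one_of_not_nonScalar g h with h | h <;> rw [h] <;> simp

theorem nonScalar_of_trace (g : SL(2, F))
    (h : (g : Matrix (Fin 2) (Fin 2) F).trace * (g : Matrix (Fin 2) (Fin 2) F).trace ≠ 4) :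
    NonScalar (g : Matrix (Fin 2) (Fin 2) F) := by
  by_contra hn
  apply h
  rcases eq_one_or_neg_one_of_not_nonScalar g hn with h | h <;> rw [h] <;>
    simp [Matrix.trace_fin_two] <;> ring

/-- Non-central elements of `SL_2(q)` with the same trace `t`, `t² ≠ 4` or `q` even, are conjugate. -/
theorem isConj_of_trace [Finite F] {g h : SL(2, F)}
    (hg : NonScalar (g : Matrix (Fin 2) (Fin 2) F)) (hh : NonScalar (h : Matrix (Fin 2) (Fin 2) F))
    (htr : (g : Matrix (Fin 2) (Fin 2) F).trace = (h : Matrix (Fin 2) (Fin 2) F).trace)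
    (h4 : (g : Matrix (Fin 2) (Fin 2) F).trace * (g : Matrix (Fin 2) (Fin 2) F).trace ≠ 4 ∨
      ringChar F = 2) :
    ∃ k : SL(2, F), k * g * k⁻¹ = h := by
  obtain ⟨P, hP, hPg⟩ := exists_conj_of_trace_det hg hh htr (by rw [g.det_coe, h.det_coe])
  obtain ⟨a, b, hab⟩ := exists_norm_eq (g : Matrix (Fin 2) (Fin 2) F).trace P.det⁻¹ h4
  set X := a • (1 : Matrix (Fin 2) (Fin 2) F) + b • (g : Matrix (Fin 2) (Fin 2) F) with hX
  have hd : (P * X).det = 1 := by
    rw [Matrix.det_mul, hX, det_smul_add_smul_SL, hab, mul_inv_cancel₀ hP]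
  obtain ⟨k, hk⟩ : ∃ k : SL(2, F), (k : Matrix (Fin 2) (Fin 2) F) = P * X := ⟨⟨P * X, hd⟩, rfl⟩
  refine ⟨k, ?_⟩
  rw [mul_inv_eq_iff_eq_mul]
  apply Subtype.ext
  rw [Matrix.SpecialLinearGroup.coe_mul, Matrix.SpecialLinearGroup.coe_mul, hk]
  rw [← Matrix.mul_assoc (h : Matrix (Fin 2) (Fin 2) F), ← hPg, Matrix.mul_assoc P,
    Matrix.mul_assoc P]
  congr 1
  rw [hX]
  simp [Matrix.mul_add, Matrix.add_mul]

/-- The element with trace `t`. -/
def companion (t : F) : SL(2, F) := ⟨!![0, -1; 1, t], by simp [Matrix.det_fin_two_of]⟩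

theorem companion_trace (t : F) : (companion t : Matrix (Fin 2) (Fin 2) F).trace = t := by
  simp [companion, Matrix.trace_fin_two]

theorem companion_nonScalar (t : F) : NonScalar (companion t : Matrix (Fin 2) (Fin 2) F) := by
  rw [nonScalar_iff]
  simp [companion]

/-- Some trace gives an irreducible characteristic polynomial. -/
theorem exists_trace_irreducible [Finite F] : ∃ t : F, ∀ c : F, c * c - t * c + 1 ≠ 0 := by
  have := Fintype.ofFinite F
  classical
  by_contra hcon
  push Not at hcon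
  have hsurj : Function.Surjective (fun u : Fˣ => (u : F) + (u : F)⁻¹) := by
    intro t
    obtain ⟨c, hc⟩ := hcon t
    have hc0 : c ≠ 0 := by rintro rfl; simp at hc
    refine ⟨Units.mk0 c hc0, ?_⟩
    show c + c⁻¹ = t
    field_simp
    linear_combination hc
  have h1 := Fintype.card_le_of_surjective _ hsurj
  rw [Fintype.card_units] at h1
  have : 0 < Fintype.card F := Fintype.card_pos
  omega

end CfsgLib.SL2
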