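import Mathlib
import Cfsg.Agent.Lib.SL2.Conj
import Cfsg.Agent.Lib.Classical.Card

set_option autoImplicit false

/-!
Centralisers of non-central elements of `SL_2(q)`: abelian, and cyclic of order `q - 1` or `q + 1`
for semisimple elements; their normalisers.
-/

namespace CfsgLib.SL2

open Matrix
open scoped MatrixGroups

variable {F : Type*} [Field F]

/-- The centraliser of an element of `SL_2`. -/
abbrev cent (g : SL(2, F)) : Subgroup SL(2, F) := Subgroup.centralizer ({g} : Set SL(2, F))

theorem mem_cent_iff {g h : SL(2, F)} : h ∈ cent g ↔ g * h = h * g := by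
  rw [Subgroup.mem_centralizer_iff]
  simp

theorem self_mem_cent (g : SL(2, F)) : g ∈ cent g := mem_cent_iff.mpr rfl

theorem cent_comm_val {g h : SL(2, F)} (h' : h ∈ cent g) :
    (h : Matrix (Fin 2) (Fin 2) F) * (g : Matrix (Fin 2) (Fin 2) F) =
      (g : Matrix (Fin 2) (Fin 2) F) * (h : Matrix (Fin 2) (Fin 2) F) := by
  rw [← Matrix.SpecialLinearGroup.coe_mul, ← Matrix.SpecialLinearGroup.coe_mul, mem_cent_iff.mp h']

theorem mem_cent_of_eq {g h : SL(2, F)} {a b : F}
    (h' : (h : Matrix (Fin 2) (Fin 2) F) = a • 1 + b • (g : Matrix (Fin 2) (Fin 2) F)) :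
    h ∈ cent g := by
  rw [mem_cent_iff]
  apply Subtype.ext
  simp only [Matrix.SpecialLinearGroup.coe_mul, h']
  simp [Matrix.mul_add, Matrix.add_mul]

theorem exists_coords {g h : SL(2, F)} (hg : NonScalar (g : Matrix (Fin 2) (Fin 2) F))
    (h' : h ∈ cent g) :
    ∃ a b : F, (h : Matrix (Fin 2) (Fin 2) F) = a • 1 + b • (g : Matrix (Fin 2) (Fin 2) F) ∧
      a * a + a * b * (g : Matrix (Fin 2) (Fin 2) F).trace + b * b = 1 := by
  obtain ⟨a, b, hab⟩ := exists_eq_of_commute hg (cent_comm_val h')
  exact ⟨a, b, hab, by rw [← det_smul_add_smul_SL, ← hab, h.det_coe]⟩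

/-- The coordinates of an element of the centraliser. -/
noncomputable def coordA {g : SL(2, F)} (hg : NonScalar (g : Matrix (Fin 2) (Fin 2) F))
    (h : cent g) : F := (exists_coords hg h.2).choose

/-- The coordinates of an element of the centraliser. -/
noncomputable def coordB {g : SL(2, F)} (hg : NonScalar (g : Matrix (Fin 2) (Fin 2) F))
    (h : cent g) : F := (exists_coords hg h.2).choose_spec.choose

theorem coord_spec {g : SL(2, F)} (hg : NonScalar (g : Matrix (Fin 2) (Fin 2) F)) (h : cent g) :
    ((h : SL(2, F)) : Matrix (Fin 2) (Fin 2) F) =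
      coordA hg h • 1 + coordB hg h • (g : Matrix (Fin 2) (Fin 2) F) :=
  (exists_coords hg h.2).choose_spec.choose_spec.1

theorem coord_norm {g : SL(2, F)} (hg : NonScalar (g : Matrix (Fin 2) (Fin 2) F)) (h : cent g) :
    coordA hg h * coordA hg h + coordA hg h * coordB hg h * (g : Matrix (Fin 2) (Fin 2) F).trace +
      coordB hg h * coordB hg h = 1 :=
  (exists_coords hg h.2).choose_spec.choose_spec.2

theorem coord_unique {g : SL(2, F)} (hg : NonScalar (g : Matrix (Fin 2) (Fin 2) F)) {h : cent g}
    {a b : F} (h' : ((h : SL(2, F)) : Matrix (Fin 2) (Fin 2) F) =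
      a • 1 + b • (g : Matrix (Fin 2) (Fin 2) F)) : coordA hg h = a ∧ coordB hg h = b :=
  smul_one_add_smul_inj hg ((coord_spec hg h).symm.trans h')

theorem coord_one {g : SL(2, F)} (hg : NonScalar (g : Matrix (Fin 2) (Fin 2) F)) :
    coordA hg 1 = 1 ∧ coordB hg 1 = 0 := by
  refine coord_unique hg (?_ : _ = (1 : F) • (1 : Matrix (Fin 2) (Fin 2) F) + (0 : F) • _)
  simp

theorem coord_mul {g : SL(2, F)} (hg : NonScalar (g : Matrix (Fin 2) (Fin 2) F)) (x y : cent g) :
    coordA hg (x * y) = coordA hg x * coordA hg y - coordB hg x * coordB hg y ∧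
      coordB hg (x * y) = coordA hg x * coordB hg y + coordB hg x * coordA hg y +
        coordB hg x * coordB hg y * (g : Matrix (Fin 2) (Fin 2) F).trace := by
  apply coord_unique hg
  rw [Subgroup.coe_mul, Matrix.SpecialLinearGroup.coe_mul, coord_spec hg x, coord_spec hg y,
    smul_one_add_smul_mul, g.det_coe, mul_one]

/-- Centralisers of non-central elements are abelian. -/
theorem cent_comm {g : SL(2, F)} (hg : NonScalar (g : Matrix (Fin 2) (Fin 2) F)) {x y : SL(2, F)}
    (hx : x ∈ cent g) (hy : y ∈ cent g) : x * y = y * x := by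
  obtain ⟨a, b, hab, -⟩ := exists_coords hg hx
  obtain ⟨c, d, hcd, -⟩ := exists_coords hg hy
  apply Subtype.ext
  simp only [Matrix.SpecialLinearGroup.coe_mul, hab, hcd, smul_one_add_smul_mul]
  congr 2 <;> ring

/-- Centralisers of commuting non-central elements agree. -/
theorem cent_eq_of_mem {g h : SL(2, F)} (hg : NonScalar (g : Matrix (Fin 2) (Fin 2) F))
    (hh : NonScalar (h : Matrix (Fin 2) (Fin 2) F)) (hmem : h ∈ cent g) : cent h = cent g := by
  refine le_antisymm (fun x hx => ?_) (fun x hx => ?_)
  · exact mem_cent_iff.mpr (cent_comm hh (mem_cent_iff.mpr (mem_cent_iff.mp hmem).symm) hx)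
  · exact mem_cent_iff.mpr (cent_comm hg hmem hx)

/-- Evaluation `a + bg ↦ a + bλ` at a root of the characteristic polynomial. -/
noncomputable def evalHom {g : SL(2, F)} (hg : NonScalar (g : Matrix (Fin 2) (Fin 2) F))
    {K : Type*} [Field K] (i : F →+* K) (l : K)
    (hl : l * l - i (g : Matrix (Fin 2) (Fin 2) F).trace * l + 1 = 0) : cent g →* K where
  toFun x := i (coordA hg x) + i (coordB hg x) * l
  map_one' := by simp [coord_one hg]
  map_mul' x y := by
    rw [(coord_mul hg x y).1, (coord_mul hg x y).2]
    simp only [map_sub, map_mul, map_add]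
    linear_combination -(i (coordB hg x) * i (coordB hg y)) * hl

/-- Semisimple non-split: the centraliser is cyclic of order `q + 1`. -/
theorem cent_nonsplit [Finite F] {g : SL(2, F)}
    (hirr : ∀ c : F, c * c - (g : Matrix (Fin 2) (Fin 2) F).trace * c + 1 ≠ 0) :
    IsCyclic (cent g) ∧ Nat.card (cent g) = Nat.card F + 1 := by
  set t := (g : Matrix (Fin 2) (Fin 2) F).trace with ht
  have hg : NonScalar (g : Matrix (Fin 2) (Fin 2) F) := by
    by_contra hn
    rcases eq_one_or_neg_one_of_not_nonScalar g hn with h | h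
    · exact hirr 1 (by rw [ht, h, Matrix.trace_one]; simp; ring)
    · exact hirr (-1) (by rw [ht, h, Matrix.trace_neg, Matrix.trace_one]; simp; ring)
  have hanis : ∀ a b : F, a * a + a * b * t + b * b = 0 → a = 0 ∧ b = 0 := by
    intro a b h
    by_cases hb : b = 0
    · subst hb
      exact ⟨by simpa using h, rfl⟩
    · refine absurd ?_ (hirr (-a / b))
      field_simp
      linear_combination h
  constructor
  · obtain ⟨l, hl⟩ := IsAlgClosed.exists_root
      ((Polynomial.C 1 * Polynomial.X ^ 2 + Polynomial.C (-(algebraMap F (AlgebraicClosure F) t)) *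
        Polynomial.X + Polynomial.C 1 : Polynomial (AlgebraicClosure F)))
      (by rw [Polynomial.degree_quadratic one_ne_zero]; decide)
    simp only [Polynomial.IsRoot, Polynomial.eval_add, Polynomial.eval_mul, Polynomial.eval_pow,
      Polynomial.eval_X, Polynomial.eval_C] at hl
    refine isCyclic_of_injective_ringHom (evalHom hg (algebraMap F (AlgebraicClosure F)) l
      (by rw [← ht]; linear_combination hl)) ?_
    rw [injective_iff_map_eq_one]
    intro x hx
    have hx' : algebraMap F (AlgebraicClosure F) (coordA hg x) +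
        algebraMap F (AlgebraicClosure F) (coordB hg x) * l = 1 := hx
    have hb : coordB hg x = 0 := by
      by_contra hb
      have hbK : algebraMap F (AlgebraicClosure F) (coordB hg x) ≠ 0 :=
        (map_ne_zero _).mpr hb
      set c : F := (1 - coordA hg x) / coordB hg x with hc
      have hlc : l = algebraMap F (AlgebraicClosure F) c := by
        rw [hc, map_div₀, map_sub, map_one, eq_div_iff hbK]
        linear_combination hx'
      refine hirr c ((algebraMap F (AlgebraicClosure F)).injective ?_)
      rw [hlc] at hl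
      simp only [map_add, map_sub, map_mul, map_one, map_zero]
      linear_combination hl
    rw [hb, map_zero, zero_mul, add_zero] at hx'
    have ha : coordA hg x = 1 := (algebraMap F (AlgebraicClosure F)).injective (by rw [hx', map_one])
    apply Subtype.ext
    apply Subtype.ext
    rw [coord_spec hg x, ha, hb]
    simp
  · classical
    have hP : ∀ p : {p : F × F // p ≠ 0},
        (p.1.1 • (1 : Matrix (Fin 2) (Fin 2) F) + p.1.2 • (g : Matrix (Fin 2) (Fin 2) F)).det ≠ 0 := by
      rintro ⟨⟨a, b⟩, hp⟩ h
      rw [det_smul_add_smul_SL] at h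
      obtain ⟨rfl, rfl⟩ := hanis a b h
      exact hp rfl
    set H : Subgroup (GL (Fin 2) F) :=
      Subgroup.centralizer ({Matrix.SpecialLinearGroup.toGL g} : Set (GL (Fin 2) F)) with hH
    have hmemH : ∀ x : GL (Fin 2) F, x ∈ H ↔
        (x : Matrix (Fin 2) (Fin 2) F) * (g : Matrix (Fin 2) (Fin 2) F) =
          (g : Matrix (Fin 2) (Fin 2) F) * (x : Matrix (Fin 2) (Fin 2) F) := by
      intro x
      rw [hH, Subgroup.mem_centralizer_iff]
      simp only [Set.mem_singleton_iff, forall_eq]
      constructor
      · intro h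
        exact (congrArg Units.val h).symm
      · intro h
        exact Units.ext h.symm
    let f : {p : F × F // p ≠ 0} → H := fun p =>
      ⟨Matrix.GeneralLinearGroup.mk'' _ (isUnit_iff_ne_zero.mpr (hP p)), (hmemH _).mpr (by
        show (p.1.1 • (1 : Matrix (Fin 2) (Fin 2) F) + p.1.2 • (g : Matrix (Fin 2) (Fin 2) F)) * _ =
          _ * (p.1.1 • (1 : Matrix (Fin 2) (Fin 2) F) + p.1.2 • (g : Matrix (Fin 2) (Fin 2) F))
        simp [Matrix.mul_add, Matrix.add_mul])⟩
    have hf : Function.Bijective f := by
      constructor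
      · intro p q h
        have h1 := congrArg (fun x : H => ((x : GL (Fin 2) F) : Matrix (Fin 2) (Fin 2) F)) h
        have h2 := smul_one_add_smul_inj hg h1
        exact Subtype.ext (Prod.ext h2.1 h2.2)
      · intro x
        obtain ⟨a, b, hab⟩ := exists_eq_of_commute hg ((hmemH x).mp x.2)
        refine ⟨⟨(a, b), fun h => ?_⟩, ?_⟩
        · simp only [Prod.mk_eq_zero] at h
          rw [h.1, h.2, zero_smul, zero_smul, add_zero] at hab
          exact ((Matrix.isUnit_iff_isUnit_det _).mp (x : GL (Fin 2) F).isUnit).ne_zero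
            (by rw [hab]; exact Matrix.det_zero)
        · exact Subtype.ext (Units.ext hab.symm)
    have hcardH : Nat.card H = Nat.card F * Nat.card F - 1 := by
      rw [← Nat.card_eq_of_bijective f hf]
      have := Fintype.ofFinite F
      rw [Nat.card_eq_fintype_card, Fintype.card_subtype_compl, Fintype.card_prod,
        Nat.card_eq_fintype_card, Fintype.card_subtype_eq]
    let D : H →* Fˣ := Matrix.GeneralLinearGroup.det.comp H.subtype
    have hD : Function.Surjective D := by
      intro u
      have h4 : t * t ≠ 4 ∨ ringChar F = 2 := by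
        by_contra hc
        push Not at hc
        have h20 : (2 : F) ≠ 0 := Ring.two_ne_zero hc.2
        refine hirr (t / 2) ?_
        field_simp
        linear_combination -hc.1
      obtain ⟨a, b, hab⟩ := exists_norm_eq t (u : F) h4
      have hne : ((a, b) : F × F) ≠ 0 := by
        intro h
        simp only [Prod.mk_eq_zero] at h
        rw [h.1, h.2] at hab
        simp at hab
        exact u.ne_zero hab.symm
      refine ⟨f ⟨(a, b), hne⟩, Units.ext ?_⟩
      show (a • (1 : Matrix (Fin 2) (Fin 2) F) + b • (g : Matrix (Fin 2) (Fin 2) F)).det = u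
      rw [det_smul_add_smul_SL, ← ht, hab]
    have hker : Nat.card D.ker = Nat.card (cent g) := by
      refine (Nat.card_eq_of_bijective
        (fun x : cent g => (⟨⟨Matrix.SpecialLinearGroup.toGL x.1, (hmemH _).mpr
          (cent_comm_val x.2)⟩, Units.ext x.1.det_coe⟩ : D.ker)) ⟨?_, ?_⟩).symm
      · intro x y h
        exact Subtype.ext (Subtype.ext
          (congrArg (fun z : D.ker => ((z : H) : GL (Fin 2) F).1) h))
      · rintro ⟨⟨x, hx⟩, hx'⟩
        have hdx : (x : Matrix (Fin 2) (Fin 2) F).det = 1 := congrArg Units.val hx'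
        refine ⟨⟨⟨x, hdx⟩, mem_cent_iff.mpr (Subtype.ext ((hmemH x).mp hx).symm)⟩, ?_⟩
        exact Subtype.ext (Subtype.ext (Units.ext rfl))
    have h := Subgroup.card_eq_card_quotient_mul_card_subgroup D.ker
    rw [Nat.card_congr (QuotientGroup.quotientKerEquivOfSurjective D hD).toEquiv, hker, hcardH,
      Nat.card_units] at h
    have h1 : 1 < Nat.card F := Finite.one_lt_card
    refine Nat.eq_of_mul_eq_mul_left (show 0 < Nat.card F - 1 by omega) ?_
    rw [← h, mul_comm (Nat.card F - 1), ← Nat.sq_sub_sq, sq, one_pow]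

/-- Semisimple split: the centraliser is cyclic of order `q - 1`. -/
theorem cent_split [Finite F] {g : SL(2, F)} {c : F}
    (hc : c * c - (g : Matrix (Fin 2) (Fin 2) F).trace * c + 1 = 0)
    (h4 : (g : Matrix (Fin 2) (Fin 2) F).trace * (g : Matrix (Fin 2) (Fin 2) F).trace ≠ 4) :
    IsCyclic (cent g) ∧ Nat.card (cent g) = Nat.card F - 1 := by
  set t := (g : Matrix (Fin 2) (Fin 2) F).trace with ht
  have hg := nonScalar_of_trace g h4
  have hc0 : c ≠ 0 := by rintro rfl; simp at hc
  have hne : 2 * c - t ≠ 0 := by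
    intro h
    apply h4
    linear_combination (-4 : F) * hc + (2 * c - t) * h
  set φ := evalHom hg (RingHom.id F) c (by simpa using hc) with hφ
  have hφi : Function.Injective φ := by
    rw [injective_iff_map_eq_one]
    intro x hx
    have hx' : coordA hg x + coordB hg x * c = 1 := hx
    have hn := coord_norm hg x
    rw [← ht] at hn
    have h2 : coordA hg x + coordB hg x * (t - c) = 1 := by
      linear_combination hn - coordB hg x * coordB hg x * hc +
        (-coordA hg x - coordB hg x * (t - c)) * hx'
    have hb : coordB hg x = 0 := by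
      have : coordB hg x * (2 * c - t) = 0 := by linear_combination hx' - h2
      exact (mul_eq_zero.mp this).resolve_right hne
    rw [hb, zero_mul, add_zero] at hx'
    apply Subtype.ext
    apply Subtype.ext
    rw [coord_spec hg x, hx', hb]
    simp
  refine ⟨isCyclic_of_injective_ringHom φ hφi, ?_⟩
  rw [← Nat.card_units]
  refine Nat.card_eq_of_bijective φ.toHomUnits ⟨fun x y h => hφi (congrArg Units.val h), fun u => ?_⟩
  set b : F := ((u : F) - (u : F)⁻¹) / (2 * c - t) with hb
  set a : F := (u : F) - b * c with ha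
  have hb' : b * (2 * c - t) = (u : F) - (u : F)⁻¹ := by
    rw [hb, div_mul_cancel₀ _ hne]
  have hu : (u : F) * (u : F)⁻¹ = 1 := mul_inv_cancel₀ u.ne_zero
  have hdet : (a • (1 : Matrix (Fin 2) (Fin 2) F) + b • (g : Matrix (Fin 2) (Fin 2) F)).det = 1 := by
    rw [det_smul_add_smul_SL, ← ht, ha]
    linear_combination b * b * hc - (u : F) * hb' + hu
  refine ⟨⟨⟨_, hdet⟩, mem_cent_of_eq rfl⟩, Units.ext ?_⟩
  have huniq := coord_unique hg (h := ⟨⟨_, hdet⟩, mem_cent_of_eq rfl⟩) (a := a) (b := b) rfl
  show coordA hg _ + coordB hg _ * c = u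
  rw [huniq.1, huniq.2, ha]
  ring

end CfsgLib.SL2
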