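import Mathlib
import Cfsg.Agent.Lib.SL2.Centralizer

set_option autoImplicit false

/-!
Semisimple and unipotent elements of `SL_2(q)`: orders, tori and their normalisers.
-/

namespace CfsgLib.SL2

open Matrix
open scoped MatrixGroups

variable {F : Type*} [Field F]

/-- The elements of square trace different from `4` (semisimple, non-central). -/
def Regular (g : SL(2, F)) : Prop :=
  (g : Matrix (Fin 2) (Fin 2) F).trace * (g : Matrix (Fin 2) (Fin 2) F).trace ≠ 4

theorem Regular.nonScalar {g : SL(2, F)} (h : Regular g) :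
    NonScalar (g : Matrix (Fin 2) (Fin 2) F) :=
  nonScalar_of_trace g h

theorem Regular.conj {g : SL(2, F)} (hg : Regular g) (h : SL(2, F)) : Regular (h * g * h⁻¹) := by
  unfold Regular
  rw [trace_conj]
  exact hg

theorem Regular.ne_inv {g : SL(2, F)} (hg : Regular g) : g ≠ g⁻¹ := by
  intro h
  apply hg
  set t := (g : Matrix (Fin 2) (Fin 2) F).trace with ht
  have h1 : (g : Matrix (Fin 2) (Fin 2) F) = t • 1 - (g : Matrix (Fin 2) (Fin 2) F) := by
    conv_lhs => rw [h]
    exact coe_inv_eq g
  have e00 := congrFun (congrFun h1 0) 0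
  have e01 := congrFun (congrFun h1 0) 1
  have e10 := congrFun (congrFun h1 1) 0
  simp [ht, Matrix.trace_fin_two] at e00 e01 e10
  have hn := (nonScalar_iff _).mp hg.nonScalar
  have hdiag : (g : Matrix (Fin 2) (Fin 2) F) 0 0 = (g : Matrix (Fin 2) (Fin 2) F) 1 1 := by
    linear_combination e00
  have h2 : (2 : F) = 0 := by
    rcases hn with h | h | h
    · exact (mul_eq_zero.mp (by linear_combination e01 :
        (2 : F) * (g : Matrix (Fin 2) (Fin 2) F) 0 1 = 0)).resolve_right h
    · exact (mul_eq_zero.mp (by linear_combination e10 :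
        (2 : F) * (g : Matrix (Fin 2) (Fin 2) F) 1 0 = 0)).resolve_right h
    · exact absurd hdiag h
  have : t = 0 := by
    rw [ht, Matrix.trace_fin_two, hdiag]
    linear_combination ((g : Matrix (Fin 2) (Fin 2) F) 1 1) * h2
  rw [show (4 : F) = 2 * 2 by norm_num, h2, this]

/-- In the centraliser of a semisimple element the only elements with the same trace are `g`, `g⁻¹`. -/
theorem eq_or_eq_inv_of_trace {g x : SL(2, F)} (hg : Regular g) (hx : x ∈ cent g)
    (ht : (x : Matrix (Fin 2) (Fin 2) F).trace = (g : Matrix (Fin 2) (Fin 2) F).trace) :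
    x = g ∨ x = g⁻¹ := by
  obtain ⟨a, b, hab, hn⟩ := exists_coords hg.nonScalar hx
  set t := (g : Matrix (Fin 2) (Fin 2) F).trace with ht'
  rw [hab, trace_smul_one_add_smul, ← ht'] at ht
  have hb2 : b * b = 1 := by
    have h4 : (b * b - 1) * (t * t - 4) = 0 := by
      linear_combination (-4 : F) * hn + (2 * a + b * t + t) * ht
    rcases mul_eq_zero.mp h4 with h | h
    · exact sub_eq_zero.mp h
    · exact absurd (sub_eq_zero.mp h) hg
  have ha : a = 0 ∨ a + b * t = 0 := by
    have : a * (a + b * t) = 0 := by linear_combination hn - hb2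
    exact mul_eq_zero.mp this
  have hcases : ∀ e : F, e * e = 1 → e * t = t → e = 1 ∨ t = 0 := by
    intro e _ h
    by_cases h0 : t = 0
    · exact Or.inr h0
    · exact Or.inl (mul_right_cancel₀ h0 (h.trans (one_mul t).symm))
  rcases ha with ha | ha
  · subst ha
    have hbt : b * t = t := by linear_combination ht
    rcases hcases b hb2 hbt with h | h
    · left
      apply Subtype.ext
      rw [hab, h]
      simp
    · rcases mul_self_eq_one_iff.mp hb2 with h' | h'
      · left
        apply Subtype.ext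
        rw [hab, h']
        simp
      · right
        apply Subtype.ext
        rw [hab, coe_inv_eq, h', ← ht', h]
        simp
  · have ha' : a = -(b * t) := by linear_combination ha
    subst ha'
    have hbt : -b * t = t := by linear_combination ht
    rcases hcases (-b) (by linear_combination hb2) hbt with h | h
    · right
      apply Subtype.ext
      rw [hab, coe_inv_eq, ← ht', show b = -1 by linear_combination -h]
      simp [sub_eq_add_neg]
    · rcases mul_self_eq_one_iff.mp hb2 with h' | h'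
      · left
        apply Subtype.ext
        rw [hab, h', h]
        simp
      · right
        apply Subtype.ext
        rw [hab, coe_inv_eq, h', ← ht', h]
        simp

/-- A semisimple element is inverted by some element. -/
theorem exists_inverting [Finite F] {g : SL(2, F)} (hg : Regular g) :
    ∃ w : SL(2, F), w * g * w⁻¹ = g⁻¹ := by
  refine isConj_of_trace hg.nonScalar ?_ (trace_inv g).symm (Or.inl hg)
  apply nonScalar_of_trace
  rw [trace_inv]
  exact hg

theorem mem_normalizer_cent_iff {g h : SL(2, F)} (hg : Regular g) :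
    h ∈ Subgroup.normalizer (cent g : Set SL(2, F)) ↔ (h * g * h⁻¹ = g ∨ h * g * h⁻¹ = g⁻¹) := by
  constructor
  · intro hh
    exact eq_or_eq_inv_of_trace hg ((Subgroup.mem_normalizer_iff.mp hh g).mp (self_mem_cent g))
      (trace_conj h g)
  · intro hh
    rw [Subgroup.mem_normalizer_iff]
    intro x
    have key : ∀ y, y ∈ cent g ↔ y ∈ cent (h * g * h⁻¹) := by
      intro y
      rcases hh with e | e <;> rw [e]
      rw [mem_cent_iff, mem_cent_iff]
      exact ⟨fun h1 => (inv_mul_eq_iff_eq_mul.mpr (by rw [← mul_assoc, h1, mul_assoc, mul_inv_cancel, mul_one])),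
        fun h1 => by
          rw [inv_mul_eq_iff_eq_mul, ← mul_assoc] at h1
          calc g * y = g * y * g⁻¹ * g := by group
            _ = y * g := by rw [← h1]⟩
    rw [key (h * x * h⁻¹), mem_cent_iff, mem_cent_iff]
    constructor
    · intro h1
      calc h * g * h⁻¹ * (h * x * h⁻¹) = h * (g * x) * h⁻¹ := by group
        _ = h * (x * g) * h⁻¹ := by rw [h1]
        _ = h * x * h⁻¹ * (h * g * h⁻¹) := by group
    · intro h1
      calc g * x = h⁻¹ * (h * g * h⁻¹ * (h * x * h⁻¹)) * h := by group
        _ = h⁻¹ * (h * x * h⁻¹ * (h * g * h⁻¹)) * h := by rw [h1]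
        _ = x * g := by group

/-- Elements inverting a semisimple element square to `-1`. -/
theorem mul_self_of_inverting {g w : SL(2, F)} (hg : Regular g) (hw : w * g * w⁻¹ = g⁻¹) :
    (w : Matrix (Fin 2) (Fin 2) F) * (w : Matrix (Fin 2) (Fin 2) F) = -1 := by
  have hwi : w * g = g⁻¹ * w := by rw [← hw, inv_mul_cancel_right]
  have hne : w * g ≠ g * w := by
    intro h
    apply hg.ne_inv
    rw [← hw, h, mul_inv_cancel_right]
  have hsq : w * w * g = g * (w * w) := by
    calc w * w * g = w * (w * g) := by rw [mul_assoc]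
      _ = w * g⁻¹ * w := by rw [hwi, mul_assoc]
      _ = g * w * w := by
          congr 1
          calc w * g⁻¹ = g * (g⁻¹ * w) * g⁻¹ := by group
            _ = g * (w * g) * g⁻¹ := by rw [hwi]
            _ = g * w := by group
      _ = g * (w * w) := by rw [mul_assoc]
  have hm : ((w : Matrix (Fin 2) (Fin 2) F) * (w : Matrix (Fin 2) (Fin 2) F)) * (g : Matrix (Fin 2) (Fin 2) F) =
      (g : Matrix (Fin 2) (Fin 2) F) * ((w : Matrix (Fin 2) (Fin 2) F) * (w : Matrix (Fin 2) (Fin 2) F)) := by
    simpa only [Matrix.SpecialLinearGroup.coe_mul] using congrArg Subtype.val hsq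
  rw [cayley, w.det_coe, one_smul] at hm ⊢
  set τ := (w : Matrix (Fin 2) (Fin 2) F).trace
  simp only [Matrix.sub_mul, Matrix.mul_sub, Matrix.one_mul, Matrix.mul_one, Matrix.smul_mul,
    Matrix.mul_smul, sub_left_inj] at hm
  by_cases hτ : τ = 0
  · rw [hτ, zero_smul, zero_sub]
  · exfalso
    apply hne
    apply Subtype.ext
    simp only [Matrix.SpecialLinearGroup.coe_mul]
    calc (w : Matrix (Fin 2) (Fin 2) F) * (g : Matrix (Fin 2) (Fin 2) F)
        = τ⁻¹ • (τ • ((w : Matrix (Fin 2) (Fin 2) F) * (g : Matrix (Fin 2) (Fin 2) F))) := by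
          rw [smul_smul, inv_mul_cancel₀ hτ, one_smul]
      _ = _ := by rw [hm, smul_smul, inv_mul_cancel₀ hτ, one_smul]

theorem relIndex_cent_normalizer [Finite F] {g : SL(2, F)} (hg : Regular g) :
    (cent g).relIndex (Subgroup.normalizer (cent g : Set SL(2, F))) = 2 := by
  obtain ⟨w, hw⟩ := exists_inverting hg
  rw [Subgroup.relIndex, Subgroup.index_eq_two_iff]
  refine ⟨⟨w, (mem_normalizer_cent_iff hg).mpr (Or.inr hw)⟩, fun b => ?_⟩
  simp only [Subgroup.mem_subgroupOf, Subgroup.coe_mul]
  have hmem : ∀ x : SL(2, F), x ∈ cent g ↔ x * g * x⁻¹ = g := by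
    intro x
    rw [mem_cent_iff, mul_inv_eq_iff_eq_mul]
    exact eq_comm
  rw [hmem, hmem]
  have e : (b : SL(2, F)) * w * g * ((b : SL(2, F)) * w)⁻¹ = ((b : SL(2, F)) * g * (b : SL(2, F))⁻¹)⁻¹ := by
    calc (b : SL(2, F)) * w * g * ((b : SL(2, F)) * w)⁻¹
        = (b : SL(2, F)) * (w * g * w⁻¹) * (b : SL(2, F))⁻¹ := by group
      _ = (b : SL(2, F)) * g⁻¹ * (b : SL(2, F))⁻¹ := by rw [hw]
      _ = _ := by group
  rw [e]
  rcases (mem_normalizer_cent_iff hg).mp b.2 with h | h
  · right
    refine ⟨h, ?_⟩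
    rw [h]
    exact fun h' => hg.ne_inv h'.symm
  · left
    refine ⟨by rw [h, inv_inv], fun h' => ?_⟩
    rw [h] at h'
    exact hg.ne_inv h'.symm

theorem card_normalizer_cent [Finite F] {g : SL(2, F)} (hg : Regular g) :
    Nat.card (Subgroup.normalizer (cent g : Set SL(2, F))) = 2 * Nat.card (cent g) := by
  have h := Subgroup.relIndex_mul_relIndex ⊥ (cent g) (Subgroup.normalizer (cent g : Set SL(2, F)))
    bot_le Subgroup.le_normalizer
  rw [Subgroup.relIndex_bot_left, Subgroup.relIndex_bot_left, relIndex_cent_normalizer hg] at h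
  rw [← h, mul_comm]

/-- A regular element lies in a cyclic torus of order `q - 1` or `q + 1`. -/
theorem cent_regular [Finite F] {g : SL(2, F)} (hg : Regular g) :
    IsCyclic (cent g) ∧ (Nat.card (cent g) = Nat.card F - 1 ∨ Nat.card (cent g) = Nat.card F + 1) := by
  by_cases h : ∃ c : F, c * c - (g : Matrix (Fin 2) (Fin 2) F).trace * c + 1 = 0
  · obtain ⟨c, hc⟩ := h
    exact ⟨(cent_split hc hg).1, Or.inl (cent_split hc hg).2⟩
  · push Not at h
    exact ⟨(cent_nonsplit h).1, Or.inr (cent_nonsplit h).2⟩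

theorem orderOf_dvd_card_cent [Finite F] (g : SL(2, F)) : orderOf g ∣ Nat.card (cent g) :=
  (Subgroup.orderOf_mk g (self_mem_cent g)) ▸ orderOf_dvd_natCard (⟨g, self_mem_cent g⟩ : cent g)

theorem orderOf_regular [Finite F] {g : SL(2, F)} (hg : Regular g) :
    orderOf g ∣ Nat.card F - 1 ∨ orderOf g ∣ Nat.card F + 1 := by
  rcases (cent_regular hg).2 with h | h
  · exact Or.inl (h ▸ orderOf_dvd_card_cent g)
  · exact Or.inr (h ▸ orderOf_dvd_card_cent g)

/-- Non-regular elements: `g ^ p = ± 1`. -/
theorem pow_char_of_not_regular {g : SL(2, F)} (hg : ¬ Regular g) (p : ℕ) [Fact p.Prime]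
    [CharP F p] :
    ((g : Matrix (Fin 2) (Fin 2) F) ^ p = 1 ∧ (g : Matrix (Fin 2) (Fin 2) F).trace = 2) ∨
    ((g : Matrix (Fin 2) (Fin 2) F) ^ p = -1 ∧ (g : Matrix (Fin 2) (Fin 2) F).trace = -2) := by
  have h : (g : Matrix (Fin 2) (Fin 2) F).trace * (g : Matrix (Fin 2) (Fin 2) F).trace = 2 * 2 := by
    rw [not_not.mp hg]; norm_num
  have : CharP (Matrix (Fin 2) (Fin 2) F) p := inferInstance
  have hp : 2 ≤ p := (Fact.out : p.Prime).two_le
  set M := (g : Matrix (Fin 2) (Fin 2) F)
  have key : ∀ s : F, s * s = 1 → M.trace = 2 * s → M ^ p = (s ^ p) • 1 := by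
    intro s hs ht
    have hN : (M - s • 1) * (M - s • 1) = 0 := by
      simp only [Matrix.sub_mul, Matrix.mul_sub, Matrix.smul_mul, Matrix.mul_smul, Matrix.one_mul,
        Matrix.mul_one]
      rw [cayley, g.det_coe, ht, smul_sub, smul_smul, hs]
      rw [two_mul, add_smul]
      abel
    have hc : Commute (M - s • 1) (s • (1 : Matrix (Fin 2) (Fin 2) F)) :=
      (Commute.one_right _).smul_right s
    have h1 := add_pow_char_of_commute p hc
    rw [sub_add_cancel] at h1
    rw [h1, smul_pow, one_pow]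
    have h0 : (M - s • 1) ^ p = 0 := by
      rw [show p = 2 + (p - 2) by omega, pow_add, sq, hN, zero_mul]
    rw [h0, zero_add]
  rcases mul_self_eq_mul_self_iff.mp h with ht | ht
  · left
    exact ⟨by rw [key 1 (by ring) (by rw [ht]; ring), one_pow, one_smul], ht⟩
  · right
    refine ⟨?_, ht⟩
    rw [key (-1) (by ring) (by rw [ht]; ring)]
    rcases (Fact.out : p.Prime).eq_two_or_odd' with rfl | ho
    · rw [neg_one_sq, one_smul, ← neg_one_smul F (1 : Matrix (Fin 2) (Fin 2) F)]
      have : (-1 : F) = 1 := CharTwo.neg_eq 1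
      rw [this, one_smul]
    · rw [ho.neg_one_pow, neg_one_smul]

theorem pow_two_mul_char_of_not_regular {g : SL(2, F)} (hg : ¬ Regular g) (p : ℕ) [Fact p.Prime]
    [CharP F p] : g ^ (2 * p) = 1 := by
  apply Subtype.ext
  rw [Matrix.SpecialLinearGroup.coe_pow, mul_comm, pow_mul]
  rcases pow_char_of_not_regular hg p with ⟨h, -⟩ | ⟨h, -⟩ <;> rw [h] <;> simp

end CfsgLib.SL2
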