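import Mathlib
import Cfsg.Agent.Lib.SL2.Torus
import Cfsg.Agent.Lib.Classical.QuaternionRec

set_option autoImplicit false

/-!
Global facts on `SL_2(q)`: centre, tori of either order and their conjugacy, unipotent centralisers,
order-four elements, Sylow subgroups in odd characteristic.
-/

namespace CfsgLib.SL2

open Matrix
open scoped MatrixGroups

variable {F : Type*} [Field F]

theorem evalHom_injective {g : SL(2, F)} (hg : Regular g) {K : Type*} [Field K] (i : F →+* K)
    (l : K) (hl : l * l - i (g : Matrix (Fin 2) (Fin 2) F).trace * l + 1 = 0) :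
    Function.Injective (evalHom hg.nonScalar i l hl) := by
  set t := (g : Matrix (Fin 2) (Fin 2) F).trace with ht
  have hne : 2 * l - i t ≠ 0 := by
    intro h
    apply hg
    apply i.injective
    rw [← ht, map_mul, map_ofNat]
    linear_combination (-4 : K) * hl + (2 * l - i t) * h
  rw [injective_iff_map_eq_one]
  intro x hx
  have hx' : i (coordA hg.nonScalar x) + i (coordB hg.nonScalar x) * l = 1 := hx
  have hn := congrArg i (coord_norm hg.nonScalar x)
  rw [← ht] at hn
  simp only [map_add, map_mul, map_one] at hn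
  set A := i (coordA hg.nonScalar x)
  set B := i (coordB hg.nonScalar x)
  have h2 : A + B * (i t - l) = 1 := by
    linear_combination hn - B * B * hl + (-A - B * (i t - l)) * hx'
  have hb : B = 0 := by
    have : B * (2 * l - i t) = 0 := by linear_combination hx' - h2
    exact (mul_eq_zero.mp this).resolve_right hne
  have ha : coordA hg.nonScalar x = 1 := by
    apply i.injective
    rw [map_one]
    calc A = A + B * l := by rw [hb, zero_mul, add_zero]
      _ = 1 := hx'
  have hb' : coordB hg.nonScalar x = 0 := i.injective (by rw [map_zero]; exact hb)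
  apply Subtype.ext
  apply Subtype.ext
  rw [coord_spec hg.nonScalar x, ha, hb']
  simp

/-- The trace is the sum of the eigenvalue and its inverse. -/
theorem trace_evalHom {g : SL(2, F)} (hg : NonScalar (g : Matrix (Fin 2) (Fin 2) F)) {K : Type*}
    [Field K] (i : F →+* K) (l : K)
    (hl : l * l - i (g : Matrix (Fin 2) (Fin 2) F).trace * l + 1 = 0) (x : cent g) :
    i ((x : SL(2, F)) : Matrix (Fin 2) (Fin 2) F).trace =
      evalHom hg i l hl x + (evalHom hg i l hl x)⁻¹ := by
  set t := (g : Matrix (Fin 2) (Fin 2) F).trace with ht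
  have hn := congrArg i (coord_norm hg x)
  rw [← ht] at hn
  simp only [map_add, map_mul, map_one] at hn
  rw [show ((x : SL(2, F)) : Matrix (Fin 2) (Fin 2) F).trace = 2 * coordA hg x + coordB hg x * t by
    rw [coord_spec hg x, trace_smul_one_add_smul]]
  show _ = (i (coordA hg x) + i (coordB hg x) * l) + (i (coordA hg x) + i (coordB hg x) * l)⁻¹
  set A := i (coordA hg x)
  set B := i (coordB hg x)
  have hprod : (A + B * l) * (A + B * (i t - l)) = 1 := by linear_combination hn - B * B * hl
  rw [inv_eq_of_mul_eq_one_right hprod, map_add, map_mul, map_mul, map_ofNat]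
  ring

/-- Tori of the same order are conjugate. -/
theorem exists_conj_mem_cent [Finite F] {g h : SL(2, F)} (hg : Regular g) (hh : Regular h)
    (hcard : orderOf h ∣ Nat.card (cent g)) :
    ∃ k : SL(2, F), k * h * k⁻¹ ∈ cent g := by
  classical
  have : Fintype (cent g) := Fintype.ofFinite _
  let i : F →+* AlgebraicClosure F := algebraMap F (AlgebraicClosure F)
  have hroot : ∀ t : F, ∃ l : AlgebraicClosure F, l * l - i t * l + 1 = 0 := by
    intro t
    obtain ⟨l, hl⟩ := IsAlgClosed.exists_root (Polynomial.C 1 * Polynomial.X ^ 2 +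
      Polynomial.C (-(i t)) * Polynomial.X + Polynomial.C 1 : Polynomial (AlgebraicClosure F))
      (by rw [Polynomial.degree_quadratic one_ne_zero]; decide)
    simp only [Polynomial.IsRoot, Polynomial.eval_add, Polynomial.eval_mul, Polynomial.eval_pow,
      Polynomial.eval_X, Polynomial.eval_C] at hl
    exact ⟨l, by linear_combination hl⟩
  obtain ⟨l, hl⟩ := hroot (g : Matrix (Fin 2) (Fin 2) F).trace
  obtain ⟨m, hm⟩ := hroot (h : Matrix (Fin 2) (Fin 2) F).trace
  set N := Nat.card (cent g) with hN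
  have hmN : evalHom hh.nonScalar i m hm ⟨h, self_mem_cent h⟩ ^ N = 1 := by
    rw [← map_pow, show (⟨h, self_mem_cent h⟩ : cent h) ^ N = 1 from
      Subtype.ext (orderOf_dvd_iff_pow_eq_one.mp hcard), map_one]
  set μ := evalHom hh.nonScalar i m hm ⟨h, self_mem_cent h⟩ with hμ
  set φ := evalHom hg.nonScalar i l hl with hφ
  have himage : Finset.univ.image φ = (Polynomial.nthRoots N (1 : AlgebraicClosure F)).toFinset := by
    apply Finset.eq_of_subset_of_card_le
    · intro y hy
      obtain ⟨x, -, rfl⟩ := Finset.mem_image.mp hy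
      rw [Multiset.mem_toFinset, Polynomial.mem_nthRoots Nat.card_pos, ← map_pow,
        pow_card_eq_one', map_one]
    · rw [Finset.card_image_of_injective _ (evalHom_injective hg i l hl), Finset.card_univ,
        ← Nat.card_eq_fintype_card, ← hN]
      exact (Multiset.toFinset_card_le _).trans (Polynomial.card_nthRoots _ _)
  have hμmem : μ ∈ Finset.univ.image φ := by
    rw [himage, Multiset.mem_toFinset, Polynomial.mem_nthRoots Nat.card_pos]
    exact hmN
  obtain ⟨x, -, hx⟩ := Finset.mem_image.mp hμmem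
  have htr : (h : Matrix (Fin 2) (Fin 2) F).trace = ((x : SL(2, F)) : Matrix (Fin 2) (Fin 2) F).trace := by
    apply i.injective
    rw [trace_evalHom hg.nonScalar i l hl x, ← hφ, hx, hμ,
      ← trace_evalHom hh.nonScalar i m hm ⟨h, self_mem_cent h⟩]
  obtain ⟨k, hk⟩ := isConj_of_trace hh.nonScalar
    (nonScalar_of_trace (x : SL(2, F)) (by rw [← htr]; exact hh)) htr (Or.inl hh)
  exact ⟨k, hk ▸ x.2⟩

theorem exists_regular_nonsplit [Finite F] :
    ∃ g : SL(2, F), Regular g ∧ IsCyclic (cent g) ∧ Nat.card (cent g) = Nat.card F + 1 := by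
  obtain ⟨t, ht⟩ := exists_trace_irreducible (F := F)
  refine ⟨companion t, ?_, ?_⟩
  · intro h
    rw [companion_trace] at h
    rcases eq_or_ne (ringChar F) 2 with h2 | h2
    · have : CharP F 2 := ringChar.of_eq h2
      refine ht 1 ?_
      have h0 : t * t = 0 := by rw [h, show (4 : F) = 2 * 2 by norm_num, CharTwo.two_eq_zero, zero_mul]
      rw [mul_self_eq_zero.mp h0, zero_mul, sub_zero, one_mul]
      rw [← one_add_one_eq_two] at *
      exact CharTwo.add_self_eq_zero 1
    · have h20 : (2 : F) ≠ 0 := Ring.two_ne_zero h2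
      refine ht (t / 2) ?_
      field_simp
      linear_combination -h
  · exact cent_nonsplit (by rw [companion_trace]; exact ht)

theorem exists_regular_split [Finite F] (h4 : 4 ≤ Nat.card F) :
    ∃ g : SL(2, F), Regular g ∧ IsCyclic (cent g) ∧ Nat.card (cent g) = Nat.card F - 1 := by
  obtain ⟨u, hu⟩ : ∃ u : Fˣ, (u : F) * u ≠ 1 := by
    by_contra hcon
    push Not at hcon
    have := Fintype.ofFinite F
    classical
    have h1 : (Finset.univ : Finset Fˣ) ⊆ {1, -1} := by
      intro u _
      rcases mul_self_eq_one_iff.mp (hcon u) with h | h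
      · exact Finset.mem_insert.mpr (Or.inl (Units.ext h))
      · exact Finset.mem_insert_of_mem (Finset.mem_singleton.mpr (Units.ext (by simpa using h)))
    have h2 := (Finset.card_le_card h1).trans Finset.card_le_two
    rw [Finset.card_univ, Fintype.card_units] at h2
    rw [Nat.card_eq_fintype_card] at h4
    omega
  set t : F := (u : F) + (u : F)⁻¹ with ht
  have hc : (u : F) * u - t * u + 1 = 0 := by
    rw [ht]
    have := mul_inv_cancel₀ u.ne_zero
    linear_combination -this
  have hreg : Regular (companion t) := by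
    intro h
    rw [companion_trace] at h
    apply hu
    have e := mul_inv_cancel₀ u.ne_zero
    have : ((u : F) - (u : F)⁻¹) * ((u : F) - (u : F)⁻¹) = 0 := by
      rw [ht] at h
      linear_combination h - 4 * e
    have h5 := sub_eq_zero.mp (mul_self_eq_zero.mp this)
    nth_rewrite 2 [h5]
    exact e
  exact ⟨companion t, hreg, cent_split (c := (u : F)) (by rw [companion_trace]; exact hc) hreg⟩

theorem coe_eq_one_iff (g : SL(2, F)) : (g : Matrix (Fin 2) (Fin 2) F) = 1 ↔ g = 1 :=
  ⟨fun h => Subtype.ext h, fun h => by rw [h]; rfl⟩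

theorem coe_eq_neg_one_iff (g : SL(2, F)) : (g : Matrix (Fin 2) (Fin 2) F) = -1 ↔ g = -1 := by
  constructor
  · intro h
    apply Subtype.ext
    rw [h]
    simp
  · rintro rfl
    simp

theorem eq_one_or_eq_neg_one_of_mem_center (g : SL(2, F)) (h : g ∈ Subgroup.center SL(2, F)) :
    g = 1 ∨ g = -1 := by
  rcases eq_one_or_neg_one_of_not_nonScalar g ((mem_center_iff_not_nonScalar g).mp h) with h | h
  · exact Or.inl ((coe_eq_one_iff g).mp h)
  · exact Or.inr ((coe_eq_neg_one_iff g).mp h)

theorem neg_one_mem_center : (-1 : SL(2, F)) ∈ Subgroup.center SL(2, F) := by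
  rw [mem_center_iff_not_nonScalar, nonScalar_iff]
  simp

theorem neg_one_ne_one (h2 : (2 : F) ≠ 0) : (-1 : SL(2, F)) ≠ 1 := by
  intro h
  apply h2
  have e : (-1 : F) = 1 := by
    simpa using congrFun (congrFun (congrArg Subtype.val h) 0) 0
  linear_combination -e

theorem orderOf_neg_one (h2 : (2 : F) ≠ 0) : orderOf (-1 : SL(2, F)) = 2 :=
  orderOf_eq_prime (by simp) (neg_one_ne_one h2)

/-- In odd characteristic `-1` is the only involution. -/
theorem eq_neg_one_of_mul_self (h2 : (2 : F) ≠ 0) {g : SL(2, F)} (h : g * g = 1) (h1 : g ≠ 1) :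
    g = -1 := by
  have hz : g ∈ Subgroup.center SL(2, F) := by
    rw [mem_center_iff_not_nonScalar]
    intro hn
    have e := congrArg Subtype.val h
    rw [Matrix.SpecialLinearGroup.coe_mul, Matrix.SpecialLinearGroup.coe_one, cayley, g.det_coe,
      one_smul] at e
    have e' : (g : Matrix (Fin 2) (Fin 2) F).trace • (g : Matrix (Fin 2) (Fin 2) F) =
        (2 : F) • (1 : Matrix (Fin 2) (Fin 2) F) := by
      rw [two_smul]; exact sub_eq_iff_eq_add.mp e
    by_cases ht : (g : Matrix (Fin 2) (Fin 2) F).trace = 0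
    · rw [ht, zero_smul] at e'
      exact h2 (by simpa using (congrFun (congrFun e' 0) 0).symm)
    · refine hn (2 / (g : Matrix (Fin 2) (Fin 2) F).trace) ?_
      rw [div_eq_inv_mul, mul_smul, ← e', smul_smul, inv_mul_cancel₀ ht, one_smul]
  exact (eq_one_or_eq_neg_one_of_mem_center g hz).resolve_left h1

/-- `g² = -1` iff the trace vanishes (for non-central `g`). -/
theorem mul_self_eq_neg_one_of_trace {g : SL(2, F)}
    (h : (g : Matrix (Fin 2) (Fin 2) F).trace = 0) : g * g = -1 := by
  rw [← coe_eq_neg_one_iff, Matrix.SpecialLinearGroup.coe_mul, cayley, g.det_coe, h, zero_smul,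
    one_smul, zero_sub]

theorem trace_eq_zero_of_mul_self (h2 : (2 : F) ≠ 0) {g : SL(2, F)} (h : g * g = -1) :
    (g : Matrix (Fin 2) (Fin 2) F).trace = 0 := by
  rw [← coe_eq_neg_one_iff, Matrix.SpecialLinearGroup.coe_mul, cayley, g.det_coe, one_smul,
    sub_eq_neg_self, smul_eq_zero] at h
  rcases h with h | h
  · exact h
  · rw [h, Matrix.trace_zero]

theorem regular_of_trace_zero (h2 : (2 : F) ≠ 0) {g : SL(2, F)}
    (h : (g : Matrix (Fin 2) (Fin 2) F).trace = 0) : Regular g := by
  intro h4
  rw [h, mul_zero, show (4 : F) = 2 * 2 by norm_num] at h4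
  exact h2 (mul_self_eq_zero.mp h4.symm)

theorem regular_of_mul_self (h2 : (2 : F) ≠ 0) {g : SL(2, F)} (h : g * g = -1) : Regular g :=
  regular_of_trace_zero h2 (trace_eq_zero_of_mul_self h2 h)

theorem orderOf_of_mul_self (h2 : (2 : F) ≠ 0) {g : SL(2, F)} (h : g * g = -1) : orderOf g = 4 :=
  orderOf_eq_prime_pow (p := 2) (n := 1)
    (by rw [pow_one, sq, h]; exact neg_one_ne_one h2)
    (by rw [show (2 : ℕ) ^ (1 + 1) = 2 + 2 by norm_num, pow_add, sq, h, neg_mul_neg, one_mul])

/-- The unipotent type centralisers have order `q * gcd(2, q - 1)`. -/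
theorem card_cent_unipotent [Finite F] {g : SL(2, F)}
    (hg : NonScalar (g : Matrix (Fin 2) (Fin 2) F)) (hn : ¬ Regular g) :
    Nat.card (cent g) = Nat.card F * Nat.gcd 2 (Nat.card F - 1) := by
  set t := (g : Matrix (Fin 2) (Fin 2) F).trace with ht
  obtain ⟨s, hs, hts⟩ : ∃ s : F, s * s = 1 ∧ t = 2 * s := by
    have h : t * t = 2 * 2 := by rw [ht, not_not.mp hn]; norm_num
    rcases mul_self_eq_mul_self_iff.mp h with h | h
    · exact ⟨1, by ring, by rw [h]; ring⟩
    · exact ⟨-1, by ring, by rw [h]; ring⟩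
  have key : Nat.card {e : F // e * e = 1} = Nat.gcd 2 (Nat.card F - 1) := by
    rw [← Nat.card_units, ← IsCyclic.card_powMonoidHom_ker (G := Fˣ) 2 |>.trans (Nat.gcd_comm _ _)]
    refine (Nat.card_congr
      { toFun := fun u => ⟨(u.1 : F), by
          have := congrArg Units.val (MonoidHom.mem_ker.mp u.2)
          simpa [sq] using this⟩
        invFun := fun e => ⟨Units.mk0 e.1 (fun h => by simpa [h] using e.2),
          MonoidHom.mem_ker.mpr (Units.ext (by simpa [sq] using e.2))⟩
        left_inv := fun u => Subtype.ext (Units.ext rfl)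
        right_inv := fun e => rfl }).symm
  rw [← key, mul_comm, ← Nat.card_prod]
  have hnorm : ∀ a b : F, a * a + a * b * t + b * b = (a + b * s) * (a + b * s) := by
    intro a b; rw [hts]; linear_combination -(b * b) * hs
  refine Nat.card_eq_of_bijective (fun x : cent g =>
    ((⟨coordA hg x + coordB hg x * s, by rw [← hnorm]; exact coord_norm hg x⟩, coordB hg x) :
      {e : F // e * e = 1} × F)) ⟨fun x y h => ?_, fun p => ?_⟩
  · simp only [Prod.mk.injEq, Subtype.mk.injEq] at h
    have ha : coordA hg x = coordA hg y := by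
      linear_combination h.1 - s * h.2
    apply Subtype.ext
    apply Subtype.ext
    rw [coord_spec hg x, coord_spec hg y, ha, h.2]
  · obtain ⟨⟨e, he⟩, b⟩ := p
    have hdet : ((e - b * s) • (1 : Matrix (Fin 2) (Fin 2) F) +
        b • (g : Matrix (Fin 2) (Fin 2) F)).det = 1 := by
      rw [det_smul_add_smul_SL, ← ht, hnorm, sub_add_cancel, he]
    refine ⟨⟨⟨_, hdet⟩, mem_cent_of_eq rfl⟩, ?_⟩
    have hu := coord_unique hg (h := ⟨⟨_, hdet⟩, mem_cent_of_eq rfl⟩) (a := e - b * s) (b := b) rfl
    simp only [hu.1, hu.2, sub_add_cancel]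

theorem odd_card_two_ne_zero [Finite F] (h : Odd (Nat.card F)) : (2 : F) ≠ 0 := by
  refine Ring.two_ne_zero (fun h2 => ?_)
  have : CharP F 2 := ringChar.of_eq h2
  have := Fintype.ofFinite F
  obtain ⟨k, -, hk⟩ := FiniteField.card F 2
  rw [Nat.card_eq_fintype_card, hk, Nat.odd_pow_iff k.pos.ne'] at h
  exact absurd h (by decide)

theorem card_SL_two' [Finite F] :
    Nat.card SL(2, F) = Nat.card F * ((Nat.card F - 1) * (Nat.card F + 1)) := by
  have := Fintype.ofFinite F
  rw [CfsgLib.Classical.card_SL_two, Nat.card_eq_fintype_card, mul_comm (Fintype.card F - 1),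
    ← Nat.sq_sub_sq, one_pow]

/-- For odd `q` there is a torus of order divisible by four. -/
theorem exists_torus_four_dvd [Finite F] (h : Odd (Nat.card F)) :
    ∃ g : SL(2, F), Regular g ∧ IsCyclic (cent g) ∧ 4 ∣ Nat.card (cent g) ∧
      Nat.card SL(2, F) = Nat.card F * (Nat.card (cent g) *
        (if Nat.card F % 4 = 1 then Nat.card F + 1 else Nat.card F - 1)) := by
  have h2 := Nat.odd_iff.mp h
  have h1 : 1 < Nat.card F := Finite.one_lt_card
  by_cases h4 : Nat.card F % 4 = 1
  · obtain ⟨g, hg, hc, hn⟩ := exists_regular_split (F := F) (by omega)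
    exact ⟨g, hg, hc, by rw [hn]; omega, by rw [if_pos h4, card_SL_two', hn]⟩
  · obtain ⟨g, hg, hc, hn⟩ := exists_regular_nonsplit (F := F)
    exact ⟨g, hg, hc, by rw [hn]; omega, by
      rw [if_neg h4, card_SL_two', hn, mul_comm (Nat.card F - 1)]⟩

/-- Sylow `2`-subgroups of `SL_2(q)`, `q` odd, are generalized quaternion. -/
theorem sylow_two_quaternion [Finite F] (hodd : Odd (Nat.card F))
    (P : Sylow 2 SL(2, F)) :
    ∃ k : ℕ, 1 ≤ k ∧ Nonempty ((P : Subgroup SL(2, F)) ≃* QuaternionGroup (2 ^ k)) := by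
  classical
  have h2 := odd_card_two_ne_zero hodd
  obtain ⟨g, hg, hcyc, h4, hcard⟩ := exists_torus_four_dvd hodd
  obtain ⟨gen, hgen⟩ := hcyc.exists_ofOrder_eq_natCard
  set N := Nat.card (cent g) with hN
  have hN0 : N ≠ 0 := Nat.card_pos.ne'
  set e := N.factorization 2 with he
  have he2 : 2 ≤ e := (Nat.prime_two.pow_dvd_iff_le_factorization hN0).mp (by norm_num; exact h4)
  obtain ⟨m, hm, hmodd⟩ : ∃ m, N = 2 ^ e * m ∧ ¬ 2 ∣ m :=
    ⟨N / 2 ^ e, (Nat.ordProj_mul_ordCompl_eq_self N 2).symm, Nat.not_dvd_ordCompl Nat.prime_two hN0⟩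
  set a : SL(2, F) := ((gen ^ m : cent g) : SL(2, F)) with hadef
  have hm0 : m ≠ 0 := by rintro rfl; exact hmodd (dvd_zero 2)
  have hao : orderOf a = 2 * 2 ^ (e - 1) := by
    rw [hadef, Subgroup.orderOf_coe, orderOf_pow' _ hm0, hgen, hm,
      Nat.gcd_eq_right (dvd_mul_left _ _), Nat.mul_div_cancel _ (Nat.pos_of_ne_zero hm0),
      ← pow_succ', Nat.sub_add_cancel (by omega)]
  obtain ⟨w, hw⟩ := exists_inverting hg
  have hw2 : w * w = -1 := by
    rw [← coe_eq_neg_one_iff, Matrix.SpecialLinearGroup.coe_mul]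
    exact mul_self_of_inverting hg hw
  have hamem : a ∈ cent g := (gen ^ m : cent g).2
  have hwnot : w ∉ cent g := by
    intro h
    apply hg.ne_inv
    rw [← hw, (mem_cent_iff.mp h).symm, mul_inv_cancel_right]
  have hapow : a ^ (2 ^ (e - 1)) = -1 := by
    refine eq_neg_one_of_mul_self h2 ?_ ?_
    · rw [← pow_add, ← two_mul, ← hao, pow_orderOf_eq_one]
    · intro h
      have h' := orderOf_dvd_of_pow_eq_one h
      rw [hao] at h'
      have h'' := Nat.le_of_dvd (pow_pos two_pos _) h'
      have : 0 < 2 ^ (e - 1) := pow_pos two_pos _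
      omega
  have ha1 : a * a ≠ 1 := by
    intro h
    have h' := orderOf_dvd_of_pow_eq_one (x := a) (n := 2) (by rw [sq]; exact h)
    rw [hao] at h'
    have h3 := Nat.le_of_dvd two_pos h'
    have h5 : 2 ≤ 2 ^ (e - 1) := Nat.le_self_pow (by omega) 2
    omega
  have haN : NonScalar (a : Matrix (Fin 2) (Fin 2) F) := by
    by_contra hn
    apply ha1
    rcases eq_one_or_eq_neg_one_of_mem_center a ((mem_center_iff_not_nonScalar a).mpr hn) with h | h <;>
      rw [h] <;> simp
  have hconj : w * a * w⁻¹ = a⁻¹ := by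
    have hN2 : w ∈ Subgroup.normalizer (cent g : Set SL(2, F)) :=
      (mem_normalizer_cent_iff hg).mpr (Or.inr hw)
    have hm1 : w * a * w⁻¹ ∈ cent g := (Subgroup.mem_normalizer_iff.mp hN2 a).mp hamem
    have hce := cent_eq_of_mem hg.nonScalar haN hamem
    by_cases hareg : Regular a
    · rcases eq_or_eq_inv_of_trace hareg (hce ▸ hm1) (trace_conj w a) with h | h
      · exfalso
        apply hwnot
        rw [← hce]
        exact mem_cent_iff.mpr (mul_inv_eq_iff_eq_mul.mp h).symm
      · exact h
    · exfalso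
      have h' := card_cent_unipotent haN hareg
      rw [hce, ← hN] at h'
      have hdvd : 4 ∣ Nat.card F * Nat.gcd 2 (Nat.card F - 1) := h' ▸ h4
      have hq2 := Nat.odd_iff.mp hodd
      have hg2 : Nat.gcd 2 (Nat.card F - 1) = 2 := Nat.gcd_eq_left (by omega)
      rw [hg2] at hdvd
      omega
  have hwa : w ∉ Subgroup.zpowers a := fun h => hwnot (Subgroup.zpowers_le.mpr hamem h)
  have : NeZero (2 ^ (e - 1)) := ⟨by positivity⟩
  obtain ⟨f, hf, -⟩ := CfsgLib.Classical.exists_quaternion_hom hao (hw2.trans hapow.symm) hconj hwa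
  refine ⟨e - 1, by omega, ?_⟩
  have hfc : Nat.card f.range = 2 ^ (e + 1) := by
    rw [← Nat.card_congr (MonoidHom.ofInjective hf).toEquiv, Nat.card_eq_fintype_card,
      QuaternionGroup.card, show (4 : ℕ) = 2 ^ 2 by norm_num, ← pow_add]
    congr 1
    omega
  have hP : Nat.card (P : Subgroup SL(2, F)) = 2 ^ (e + 1) := by
    rw [P.card_eq_multiplicity, hcard]
    congr 1
    set other := (if Nat.card F % 4 = 1 then Nat.card F + 1 else Nat.card F - 1) with hother
    have hq2 := Nat.odd_iff.mp hodd
    have hq0 : Nat.card F ≠ 0 := Nat.card_pos.ne'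
    have ho : other % 4 = 2 := by
      rw [hother]
      split_ifs <;> omega
    have hoth : other.factorization 2 = 1 := by
      obtain ⟨r, hr⟩ : 2 ∣ other := by omega
      have hr2 : ¬ 2 ∣ r := by omega
      rw [hr, Nat.factorization_mul two_ne_zero (by omega), Finsupp.add_apply,
        Nat.prime_two.factorization_self, Nat.factorization_eq_zero_of_not_dvd hr2]
    rw [Nat.factorization_mul hq0 (mul_ne_zero hN0 (by omega)), Finsupp.add_apply,
      Nat.factorization_eq_zero_of_not_dvd (by omega),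
      Nat.factorization_mul hN0 (by omega), Finsupp.add_apply, hoth, zero_add, he]
  have : Fact (Nat.Prime 2) := ⟨Nat.prime_two⟩
  have hS : Nat.card f.range = 2 ^ (Nat.card SL(2, F)).factorization 2 := by
    rw [hfc, ← hP, P.card_eq_multiplicity]
  exact ⟨(P.equiv (Sylow.ofCard f.range hS)).trans (MonoidHom.ofInjective hf).symm⟩

end CfsgLib.SL2
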