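import Mathlib
import Cfsg.Agent.Lib.SL2.Facts

set_option autoImplicit false

/-!
Element orders and centralisers in `PSL_2(q)`.
-/

namespace CfsgLib.SL2

open Matrix
open scoped MatrixGroups

variable {F : Type*} [Field F]

/-- The projection `SL_2 → PSL_2`. -/
abbrev proj : SL(2, F) →* ProjectiveSpecialLinearGroup (Fin 2) F :=
  QuotientGroup.mk' (Subgroup.center SL(2, F))

theorem proj_surjective : Function.Surjective (proj : SL(2, F) → ProjectiveSpecialLinearGroup (Fin 2) F) :=
  QuotientGroup.mk'_surjective _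

theorem proj_eq_one_iff (g : SL(2, F)) : proj g = 1 ↔ g ∈ Subgroup.center SL(2, F) :=
  QuotientGroup.eq_one_iff g

theorem card_center [Finite F] :
    Nat.card (Subgroup.center SL(2, F)) = Nat.gcd 2 (Nat.card F - 1) := by
  rw [CfsgLib.Classical.card_center_SL, Fintype.card_fin]

theorem card_PSL [Finite F] :
    Nat.gcd 2 (Nat.card F - 1) * Nat.card (ProjectiveSpecialLinearGroup (Fin 2) F) =
      Nat.card F * ((Nat.card F - 1) * (Nat.card F + 1)) := by
  rw [← card_SL_two', CfsgLib.Classical.card_SL_eq_gcd_mul_card_PSL (ι := Fin 2), Fintype.card_fin]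

theorem card_map_proj [Finite F] {H : Subgroup SL(2, F)} (hH : Subgroup.center SL(2, F) ≤ H) :
    Nat.gcd 2 (Nat.card F - 1) * Nat.card (H.map proj) = Nat.card H := by
  have h := Subgroup.card_eq_card_quotient_mul_card_subgroup ((proj.comp H.subtype).ker)
  rw [Nat.card_congr (QuotientGroup.quotientKerEquivRange (proj.comp H.subtype)).toEquiv,
    MonoidHom.range_comp, Subgroup.range_subtype] at h
  have e : (proj.comp H.subtype).ker = (Subgroup.center SL(2, F)).subgroupOf H := by
    rw [← MonoidHom.comap_ker, QuotientGroup.ker_mk']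
    rfl
  rw [e, Nat.card_congr (Subgroup.subgroupOfEquivOfLe hH).toEquiv, card_center] at h
  rw [h, mul_comm]

theorem center_le_cent (g : SL(2, F)) : Subgroup.center SL(2, F) ≤ cent g :=
  Subgroup.center_le_centralizer _

/-- The image of a torus. -/
theorem proj_cent_regular [Finite F] {g : SL(2, F)} (hg : Regular g) :
    IsCyclic ((cent g).map proj) ∧
      (Nat.card ((cent g).map proj) = (Nat.card F - 1) / Nat.gcd 2 (Nat.card F - 1) ∨
       Nat.card ((cent g).map proj) = (Nat.card F + 1) / Nat.gcd 2 (Nat.card F - 1)) := by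
  have hc := (cent_regular hg).1
  refine ⟨isCyclic_of_surjective _ (proj.subgroupMap_surjective (cent g)), ?_⟩
  have h := card_map_proj (center_le_cent g)
  have hd : 0 < Nat.gcd 2 (Nat.card F - 1) := Nat.gcd_pos_of_pos_left _ two_pos
  rcases (cent_regular hg).2 with e | e <;> rw [e] at h
  · left; exact Nat.eq_div_of_mul_eq_right hd.ne' h
  · right; exact Nat.eq_div_of_mul_eq_right hd.ne' h

theorem proj_pow_char_of_not_regular {g : SL(2, F)} (hg : ¬ Regular g) (p : ℕ) [Fact p.Prime]
    [CharP F p] : proj g ^ p = 1 := by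
  rw [← map_pow, proj_eq_one_iff, mem_center_iff_not_nonScalar,
    Matrix.SpecialLinearGroup.coe_pow, nonScalar_iff]
  rcases pow_char_of_not_regular hg p with ⟨h, -⟩ | ⟨h, -⟩ <;> rw [h] <;> simp

/-- An element of `SL_2` is conjugate into `cent g` only up to the trace. -/
theorem conj_cases {g h : SL(2, F)} (hz : h * g * h⁻¹ * g⁻¹ ∈ Subgroup.center SL(2, F)) :
    h * g * h⁻¹ = g ∨ h * g * h⁻¹ = -g := by
  rcases eq_one_or_eq_neg_one_of_mem_center _ hz with e | e
  · exact Or.inl (mul_inv_eq_one.mp e)
  · right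
    calc h * g * h⁻¹ = (h * g * h⁻¹ * g⁻¹) * g := by rw [inv_mul_cancel_right]
      _ = -g := by rw [e, neg_one_mul]

theorem mem_centralizer_proj_iff {g h : SL(2, F)} :
    proj h ∈ Subgroup.centralizer ({proj g} : Set (ProjectiveSpecialLinearGroup (Fin 2) F)) ↔
      (h * g * h⁻¹ = g ∨ h * g * h⁻¹ = -g) := by
  rw [Subgroup.mem_centralizer_iff]
  simp only [Set.mem_singleton_iff, forall_eq]
  constructor
  · intro e
    refine conj_cases ((proj_eq_one_iff _).mp ?_)
    rw [map_mul, map_mul, map_mul, map_inv, map_inv, mul_inv_eq_one, mul_inv_eq_iff_eq_mul, e]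
  · intro e
    have e' : proj (h * g * h⁻¹) = proj g := by
      rcases e with e | e <;> rw [e]
      rw [← neg_one_mul g, map_mul, (proj_eq_one_iff _).mpr neg_one_mem_center, one_mul]
    rw [map_mul, map_mul, map_inv, mul_inv_eq_iff_eq_mul] at e'
    exact e'.symm

theorem centralizer_proj_eq {g : SL(2, F)} {H : Subgroup SL(2, F)}
    (hH : ∀ h : SL(2, F), h ∈ H ↔ (h * g * h⁻¹ = g ∨ h * g * h⁻¹ = -g)) :
    Subgroup.centralizer ({proj g} : Set (ProjectiveSpecialLinearGroup (Fin 2) F)) = H.map proj := by
  ext x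
  obtain ⟨h, rfl⟩ := proj_surjective x
  rw [mem_centralizer_proj_iff, ← hH]
  refine ⟨fun hh => ⟨h, hh, rfl⟩, fun ⟨k, hk, hkh⟩ => ?_⟩
  have hz : k⁻¹ * h ∈ Subgroup.center SL(2, F) := QuotientGroup.eq.mp hkh
  have hcz : ∀ z ∈ Subgroup.center SL(2, F), z ∈ H := by
    intro z hzc
    rw [hH]
    left
    rw [← (Subgroup.mem_center_iff.mp hzc g), mul_inv_cancel_right]
  have := mul_mem hk (hcz _ hz)
  rwa [mul_inv_cancel_left] at this

/-- Centralisers in `PSL_2` away from the involutions in odd characteristic. -/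
theorem centralizer_proj_of_trace_ne {g : SL(2, F)}
    (h : (g : Matrix (Fin 2) (Fin 2) F).trace ≠ 0 ∨ (2 : F) = 0) :
    Subgroup.centralizer ({proj g} : Set (ProjectiveSpecialLinearGroup (Fin 2) F)) =
      (cent g).map proj := by
  refine centralizer_proj_eq fun k => ?_
  rw [mem_cent_iff]
  constructor
  · intro e; left; rw [← e, mul_inv_cancel_right]
  · intro e
    have e' : k * g * k⁻¹ = g := by
      rcases e with e | e
      · exact e
      rcases h with ht | h2
      · have htr : (2 : F) * (g : Matrix (Fin 2) (Fin 2) F).trace = 0 := by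
          have := trace_conj k g
          rw [e, Matrix.SpecialLinearGroup.coe_neg, Matrix.trace_neg] at this
          linear_combination -this
        have h2 := (mul_eq_zero.mp htr).resolve_right ht
        rw [e]
        apply Subtype.ext
        rw [Matrix.SpecialLinearGroup.coe_neg]
        ext i j
        rw [Matrix.neg_apply]
        linear_combination -((g : Matrix (Fin 2) (Fin 2) F) i j) * h2
      · rw [e]
        apply Subtype.ext
        rw [Matrix.SpecialLinearGroup.coe_neg]
        ext i j
        rw [Matrix.neg_apply]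
        linear_combination -((g : Matrix (Fin 2) (Fin 2) F) i j) * h2
    exact (mul_inv_eq_iff_eq_mul.mp e').symm

/-- Centralisers of involutions of `PSL_2` in odd characteristic. -/
theorem centralizer_proj_of_trace_eq {g : SL(2, F)} (h2 : (2 : F) ≠ 0)
    (h : (g : Matrix (Fin 2) (Fin 2) F).trace = 0) :
    Subgroup.centralizer ({proj g} : Set (ProjectiveSpecialLinearGroup (Fin 2) F)) =
      (Subgroup.normalizer (cent g : Set SL(2, F))).map proj := by
  refine centralizer_proj_eq fun k => ?_
  have hinv : g⁻¹ = -g := by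
    apply Subtype.ext
    rw [coe_inv_eq, h, zero_smul, zero_sub, Matrix.SpecialLinearGroup.coe_neg]
  rw [mem_normalizer_cent_iff (regular_of_trace_zero h2 h), hinv]

theorem exists_orderOf_proj_eq_char [Finite F] (p : ℕ) [Fact p.Prime] [CharP F p] :
    ∃ g : SL(2, F), orderOf (proj g) = p := by
  refine ⟨companion 2, orderOf_eq_prime (proj_pow_char_of_not_regular ?_ p) ?_⟩
  · intro h
    apply h
    rw [companion_trace]
    norm_num
  · rw [Ne, proj_eq_one_iff, mem_center_iff_not_nonScalar, not_not]
    exact companion_nonScalar 2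

/-- The set of element orders of `PSL_2(q)`. -/
theorem spectrum_PSL [Finite F] (p : ℕ) [Fact p.Prime] [CharP F p] (h4 : 4 ≤ Nat.card F) :
    Set.range (orderOf : ProjectiveSpecialLinearGroup (Fin 2) F → ℕ) =
      {m : ℕ | m ∣ p ∨ m ∣ (Nat.card F - 1) / Nat.gcd 2 (Nat.card F - 1) ∨
        m ∣ (Nat.card F + 1) / Nat.gcd 2 (Nat.card F - 1)} := by
  ext m
  constructor
  · rintro ⟨x, rfl⟩
    obtain ⟨g, rfl⟩ := proj_surjective x
    by_cases hg : Regular g
    · have hdvd : orderOf (proj g) ∣ Nat.card ((cent g).map proj) :=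
        Subgroup.orderOf_dvd_natCard ((cent g).map proj) ⟨g, self_mem_cent g, rfl⟩
      rcases (proj_cent_regular hg).2 with e | e <;> rw [e] at hdvd
      · exact Or.inr (Or.inl hdvd)
      · exact Or.inr (Or.inr hdvd)
    · exact Or.inl (orderOf_dvd_of_pow_eq_one (proj_pow_char_of_not_regular hg p))
  · have key : ∀ g : SL(2, F), Regular g → m ∣ Nat.card ((cent g).map proj) →
        m ∈ Set.range (orderOf : ProjectiveSpecialLinearGroup (Fin 2) F → ℕ) := by
      intro g hg hm
      obtain ⟨y, hy⟩ := (proj_cent_regular hg).1.exists_ofOrder_eq_natCard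
      refine ⟨((y : ProjectiveSpecialLinearGroup (Fin 2) F)) ^ (orderOf y / m), ?_⟩
      rw [← hy] at hm
      rw [← Subgroup.coe_pow, Subgroup.orderOf_coe, orderOf_pow_orderOf_div (orderOf_pos _).ne' hm]
    rintro (h | h | h)
    · rcases (Nat.dvd_prime (Fact.out : p.Prime)).mp h with rfl | rfl
      · exact ⟨1, orderOf_one⟩
      · obtain ⟨g, hg⟩ := exists_orderOf_proj_eq_char (F := F) m
        exact ⟨_, hg⟩
    · obtain ⟨g, hg, -, hn⟩ := exists_regular_split (F := F) h4
      refine key g hg ?_
      have e := card_map_proj (center_le_cent g)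
      rw [hn] at e
      rwa [Nat.eq_div_of_mul_eq_right (Nat.gcd_pos_of_pos_left _ two_pos).ne' e]
    · obtain ⟨g, hg, -, hn⟩ := exists_regular_nonsplit (F := F)
      refine key g hg ?_
      have e := card_map_proj (center_le_cent g)
      rw [hn] at e
      rwa [Nat.eq_div_of_mul_eq_right (Nat.gcd_pos_of_pos_left _ two_pos).ne' e]

end CfsgLib.SL2
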