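import Mathlib

/-!
Dickson's count: groups like subgroups of `SL(2)`, in which centralizers of non-central elements
are abelian, with a non-normal Sylow `p`-subgroup (`p` odd), have `q + 1` Sylow `p`-subgroups of
order `q`, or have order `120`.
-/

set_option autoImplicit false
set_option linter.style.haveILetI false

namespace CfsgLib.SL2.CA

variable {G : Type*} [Group G]

theorem mem_normalizer_iff_forall [Finite G] {H : Subgroup G} {g : G} :
    g ∈ Subgroup.normalizer (H : Set G) ↔ ∀ y ∈ H, g * y * g⁻¹ ∈ H := by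
  refine ⟨fun h y hy => (Subgroup.mem_normalizer_iff.mp h y).mp hy, fun h => ?_⟩
  have hf : Function.Surjective (fun y : H => (⟨_, h y y.2⟩ : H)) :=
    Finite.surjective_of_injective fun a b e => Subtype.ext (by
      simpa using congrArg Subtype.val e)
  rw [Subgroup.mem_normalizer_iff]
  refine fun y => ⟨h y, fun hy => ?_⟩
  obtain ⟨w, hw⟩ := hf ⟨_, hy⟩
  have h1 : g * (w : G) * g⁻¹ = g * y * g⁻¹ := congrArg Subtype.val hw
  simp only [mul_left_inj, mul_right_inj] at h1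
  exact h1 ▸ w.2

/-- The centralizer of an element. -/
abbrev C (x : G) : Subgroup G := Subgroup.centralizer ({x} : Set G)

theorem mem_C {x y : G} : y ∈ C x ↔ y * x = x * y :=
  Subgroup.mem_centralizer_singleton_iff

/-- The union of the conjugates of a set. -/
def cover (S : Set G) : Set G := {y | ∃ g : G, g⁻¹ * y * g ∈ S}

/-- Counting the conjugates of a trivial intersection set. -/
theorem card_cover_mul (S : Set G) (N : Subgroup G)
    (hinv : ∀ n ∈ N, ∀ s ∈ S, n * s * n⁻¹ ∈ S)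
    (hTI : ∀ g : G, ∀ s ∈ S, g * s * g⁻¹ ∈ S → g ∈ N) :
    Nat.card (cover S) * Nat.card N = Nat.card G * Nat.card S := by
  rw [← Nat.card_prod, ← Nat.card_prod]
  have hsel : ∀ y : cover S, ∃ g : G, g⁻¹ * (y : G) * g ∈ S := fun y => y.2
  choose g₀ hg₀ using hsel
  have hmem : ∀ x : G × S, x.1 * (x.2 : G) * x.1⁻¹ ∈ cover S := fun x => ⟨x.1, by
    rw [show x.1⁻¹ * (x.1 * (x.2 : G) * x.1⁻¹) * x.1 = x.2 by group]
    exact x.2.2⟩
  refine (Nat.card_congr (α := G × S) (β := cover S × N)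
    { toFun := fun x => (⟨_, hmem x⟩, ⟨(g₀ ⟨_, hmem x⟩)⁻¹ * x.1, hTI _ _ x.2.2 (by
        have h := hg₀ ⟨_, hmem x⟩
        rwa [show (g₀ ⟨_, hmem x⟩)⁻¹ * x.1 * (x.2 : G) * ((g₀ ⟨_, hmem x⟩)⁻¹ * x.1)⁻¹
          = (g₀ ⟨_, hmem x⟩)⁻¹ * (x.1 * (x.2 : G) * x.1⁻¹) * g₀ ⟨_, hmem x⟩ by group])⟩)
      invFun := fun x => (g₀ x.1 * (x.2 : G), ⟨(x.2 : G)⁻¹ * ((g₀ x.1)⁻¹ * (x.1 : G) * g₀ x.1) *
        (x.2 : G), by simpa using hinv _ (inv_mem x.2.2) _ (hg₀ x.1)⟩)
      left_inv := ?_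
      right_inv := ?_ }).symm
  · rintro ⟨g, s⟩
    refine Prod.ext ?_ (Subtype.ext ?_)
    · show g₀ _ * ((g₀ _)⁻¹ * g) = g
      group
    · show _⁻¹ * (_⁻¹ * (g * (s : G) * g⁻¹) * _) * _ = (s : G)
      group
  · rintro ⟨y, n⟩
    have he : (⟨_, hmem (g₀ y * (n : G), ⟨(n : G)⁻¹ * ((g₀ y)⁻¹ * (y : G) * g₀ y) * (n : G), by
        simpa using hinv _ (inv_mem n.2) _ (hg₀ y)⟩)⟩ : cover S) = y := by
      refine Subtype.ext ?_
      show g₀ y * (n : G) * ((n : G)⁻¹ * ((g₀ y)⁻¹ * (y : G) * g₀ y) * (n : G)) *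
        (g₀ y * (n : G))⁻¹ = (y : G)
      group
    refine Prod.ext he (Subtype.ext ?_)
    show (g₀ _)⁻¹ * (g₀ y * (n : G)) = (n : G)
    rw [he]
    group

variable [Finite G]

/-- The hypotheses of the count. -/
structure Data {p : ℕ} (P : Sylow p G) : Prop where
  comm : ∀ x : G, x ∉ Subgroup.center G → ∀ y ∈ C x, ∀ w ∈ C x, y * w = w * y
  card_center : Nat.card (Subgroup.center G) ≤ 2
  cent : ∀ u ∈ (P : Subgroup G), u ≠ 1 → C u ≤ Subgroup.center G ⊔ (P : Subgroup G)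
  inverted : ∀ x : G, x ∉ Subgroup.center G →
    (∀ g : G, g * x * g⁻¹ ∉ Subgroup.center G ⊔ (P : Subgroup G)) →
    ∀ g ∈ Subgroup.normalizer (C x : Set G), g * x * g⁻¹ = x ∨ g * x * g⁻¹ = x⁻¹
  torus : ∀ x ∈ Subgroup.normalizer ((P : Subgroup G) : Set G),
    x ∉ Subgroup.center G ⊔ (P : Subgroup G) →
    C x ≤ Subgroup.normalizer ((P : Subgroup G) : Set G)
  commutator : ∀ x ∈ Subgroup.normalizer ((P : Subgroup G) : Set G),
    ∀ y ∈ Subgroup.normalizer ((P : Subgroup G) : Set G), x * y * x⁻¹ * y⁻¹ ∈ (P : Subgroup G)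

variable {p : ℕ} [hp : Fact p.Prime] {P : Sylow p G}

/-- A non-central element with no conjugate in `Z ⊔ P`. -/
def Reg (P : Sylow p G) (x : G) : Prop :=
  x ∉ Subgroup.center G ∧ ∀ g : G, g * x * g⁻¹ ∉ Subgroup.center G ⊔ (P : Subgroup G)

omit [Finite G] hp in
theorem C_eq_of_mem (hD : Data P) {x y : G} (hx : x ∉ Subgroup.center G)
    (hy : y ∉ Subgroup.center G) (hm : y ∈ C x) : C y = C x :=
  le_antisymm
    (fun w hw => mem_C.mpr (hD.comm y hy w hw x (mem_C.mpr (mem_C.mp hm).symm)))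
    (fun w hw => mem_C.mpr (hD.comm x hx w hw y hm))

omit [Finite G] hp in
theorem mem_C_conj {x y g : G} : g * y * g⁻¹ ∈ C (g * x * g⁻¹) ↔ y ∈ C x := by
  rw [mem_C, mem_C, show g * y * g⁻¹ * (g * x * g⁻¹) = g * (y * x) * g⁻¹ by group,
    show g * x * g⁻¹ * (g * y * g⁻¹) = g * (x * y) * g⁻¹ by group, mul_left_inj, mul_right_inj]

omit [Finite G] hp in
theorem conj_notMem_center {x : G} (hx : x ∉ Subgroup.center G) (g : G) :
    g * x * g⁻¹ ∉ Subgroup.center G := fun h => hx (by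
  simpa [mul_assoc] using (inferInstance : (Subgroup.center G).Normal).conj_mem _ h g⁻¹)

omit [Finite G] hp in
theorem center_le_C (x : G) : Subgroup.center G ≤ C x := Subgroup.center_le_centralizer _

section Unipotent

omit [Finite G] hp in
theorem mem_ZP {x : G} (hx : x ∈ Subgroup.center G ⊔ (P : Subgroup G)) :
    ∃ z ∈ Subgroup.center G, ∃ u ∈ (P : Subgroup G), z * u = x :=
  Subgroup.mem_sup_of_normal_left.mp hx

theorem commute_P (hD : Data P) (hP : (P : Subgroup G) ≠ ⊥)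
    (hzp : (P : Subgroup G) ⊓ Subgroup.center G = ⊥) :
    ∀ u ∈ (P : Subgroup G), ∀ v ∈ (P : Subgroup G), u * v = v * u := by
  haveI : Nontrivial P := (Subgroup.nontrivial_iff_ne_bot _).mpr hP
  haveI := P.2.center_nontrivial
  obtain ⟨w, hw⟩ := exists_ne (1 : Subgroup.center P)
  have hw1 : ((w : P) : G) ∉ Subgroup.center G := fun h =>
    hw (Subtype.ext (Subtype.ext ((Subgroup.eq_bot_iff_forall _).mp hzp _ ⟨(w : P).2, h⟩)))
  have hall : ∀ u ∈ (P : Subgroup G), u ∈ C ((w : P) : G) := fun u hu =>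
    mem_C.mpr (congrArg Subtype.val (Subgroup.mem_center_iff.mp w.2 ⟨u, hu⟩))
  exact fun u hu v hv => hD.comm _ hw1 u (hall u hu) v (hall v hv)

omit [Finite G] hp in
theorem C_eq_ZP (hD : Data P) (hP : ∀ u ∈ (P : Subgroup G), ∀ v ∈ (P : Subgroup G), u * v = v * u)
    {s : G} (hs : s ∈ Subgroup.center G ⊔ (P : Subgroup G)) (hs' : s ∉ Subgroup.center G) :
    C s = Subgroup.center G ⊔ (P : Subgroup G) := by
  obtain ⟨z, hz, u, hu, rfl⟩ := mem_ZP hs
  have hu1 : u ≠ 1 := fun h => hs' (by rwa [h, mul_one])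
  have hzc : ∀ y, y * z = z * y := Subgroup.mem_center_iff.mp hz
  have hCu : C (z * u) = C u := by
    ext y
    rw [mem_C, mem_C, ← mul_assoc, hzc y, mul_assoc, mul_assoc, mul_right_inj]
  rw [hCu]
  exact le_antisymm (hD.cent u hu hu1)
    (sup_le (center_le_C u) fun v hv => mem_C.mpr (hP v hv u hu))

omit [Finite G] hp in
theorem card_ZP (hzp : (P : Subgroup G) ⊓ Subgroup.center G = ⊥) :
    Nat.card ↥(Subgroup.center G ⊔ (P : Subgroup G)) =
      Nat.card (Subgroup.center G) * Nat.card P := by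
  rw [← Nat.card_prod]
  refine (Nat.card_congr (Equiv.ofBijective (fun x : Subgroup.center G × (P : Subgroup G) =>
    (⟨(x.1 : G) * x.2, mul_mem (Subgroup.mem_sup_left x.1.2) (Subgroup.mem_sup_right x.2.2)⟩ :
      ↥(Subgroup.center G ⊔ (P : Subgroup G)))) ⟨?_, ?_⟩)).symm
  · rintro ⟨z, u⟩ ⟨z', u'⟩ h
    have h' : (z : G) * u = z' * u' := congrArg Subtype.val h
    have h1 : (z' : G)⁻¹ * z = u' * (u : G)⁻¹ := by
      rw [eq_mul_inv_iff_mul_eq, mul_assoc, h', inv_mul_cancel_left]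
    have h2 := (Subgroup.eq_bot_iff_forall _).mp hzp ((z' : G)⁻¹ * z)
      ⟨h1.symm ▸ mul_mem u'.2 ((P : Subgroup G).inv_mem u.2),
        mul_mem ((Subgroup.center G).inv_mem z'.2) z.2⟩
    have h3 : z = z' := Subtype.ext (inv_mul_eq_one.mp h2).symm
    subst h3
    exact Prod.ext rfl (Subtype.ext (mul_left_cancel h'))
  · rintro ⟨x, hx⟩
    obtain ⟨z, hz, u, hu, rfl⟩ := mem_ZP hx
    exact ⟨⟨⟨z, hz⟩, ⟨u, hu⟩⟩, rfl⟩

omit [Finite G] hp in
theorem le_P_of_isPGroup_le_ZP (hzp : (P : Subgroup G) ⊓ Subgroup.center G = ⊥) {y : G}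
    (hy : y ∈ Subgroup.center G ⊔ (P : Subgroup G)) (hpow : ∃ k, y ^ p ^ k = 1) :
    y ∈ (P : Subgroup G) := by
  obtain ⟨z, hz, u, hu, rfl⟩ := mem_ZP hy
  obtain ⟨k, hk⟩ := hpow
  obtain ⟨j, hj⟩ := P.2 ⟨u, hu⟩
  have hju : u ^ p ^ j = 1 := congrArg Subtype.val hj
  have hcomm : Commute z u := (Subgroup.mem_center_iff.mp hz u).symm
  have hz1 : z ^ p ^ (k + j) = 1 := by
    have h := congrArg (· ^ p ^ j) hk
    simp only [one_pow] at h
    rw [← pow_mul, ← pow_add, hcomm.mul_pow, add_comm k j, pow_add, pow_mul u, hju, one_pow,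
      mul_one, ← pow_add, add_comm] at h
    exact h
  have hzP : z ∈ (P : Subgroup G) := by
    have hpz : IsPGroup p (Subgroup.zpowers z) := by
      rintro ⟨w, hw⟩
      obtain ⟨i, rfl⟩ := Subgroup.mem_zpowers_iff.mp hw
      exact ⟨k + j, Subtype.ext (show (z ^ i) ^ p ^ (k + j) = 1 by
        rw [← zpow_natCast, ← zpow_mul, mul_comm, zpow_mul, zpow_natCast, hz1, one_zpow])⟩
    haveI : (Subgroup.zpowers z).Normal := ⟨fun w hw g => by
      have hwc : w ∈ Subgroup.center G := Subgroup.zpowers_le.mpr hz hw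
      rwa [Subgroup.mem_center_iff.mp hwc g, mul_inv_cancel_right]⟩
    exact (le_sup_left.trans (P.3 (hpz.to_sup_of_normal_left P.2) le_sup_right).le)
      (Subgroup.mem_zpowers z)
  have h1 := (Subgroup.eq_bot_iff_forall _).mp hzp z ⟨hzP, hz⟩
  rwa [h1, one_mul]

end Unipotent

/-- The non-central elements of a subgroup. -/
def nc (M : Subgroup G) : Set G := (M : Set G) \ (Subgroup.center G : Set G)

omit [Finite G] hp in
theorem mem_nc {M : Subgroup G} {x : G} : x ∈ nc M ↔ x ∈ M ∧ x ∉ Subgroup.center G := Iff.rfl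

theorem card_nc {M : Subgroup G} (h : Subgroup.center G ≤ M) :
    Nat.card (nc M) + Nat.card (Subgroup.center G) = Nat.card M := by
  have h1 : ((M : Set G) \ (Subgroup.center G : Set G)).ncard
      + (Subgroup.center G : Set G).ncard = (M : Set G).ncard :=
    Set.ncard_sdiff_add_ncard_of_subset h (Set.toFinite _)
  exact h1

omit [Finite G] hp in
theorem conj_mem_cover {S : Set G} {y : G} (hy : y ∈ cover S) (g : G) : g * y * g⁻¹ ∈ cover S := by
  obtain ⟨k, hk⟩ := hy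
  exact ⟨g * k, by rwa [show (g * k)⁻¹ * (g * y * g⁻¹) * (g * k) = k⁻¹ * y * k by group]⟩

omit [Finite G] hp in
theorem subset_cover {S : Set G} {y : G} (hy : y ∈ S) : y ∈ cover S := ⟨1, by simpa using hy⟩

omit [Finite G] hp in
theorem Reg.conj {x : G} (h : Reg P x) (g : G) : Reg P (g * x * g⁻¹) :=
  ⟨conj_notMem_center h.1 g, fun k => by
    rw [show k * (g * x * g⁻¹) * k⁻¹ = k * g * x * (k * g)⁻¹ by group]
    exact h.2 _⟩

omit [Finite G] hp in
theorem reg_iff {x : G} (hx : x ∉ Subgroup.center G) :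
    Reg P x ↔ x ∉ cover (nc (Subgroup.center G ⊔ (P : Subgroup G))) := by
  refine ⟨fun h ⟨g, hg⟩ => h.2 g⁻¹ (by simpa using hg.1), fun h => ⟨hx, fun g hg => h ⟨g⁻¹, ?_⟩⟩⟩
  rw [inv_inv]
  exact ⟨hg, conj_notMem_center hx g⟩

/-- The unipotent part. -/
theorem card_cover_unipotent (hD : Data P) (hP : (P : Subgroup G) ≠ ⊥)
    (hzp : (P : Subgroup G) ⊓ Subgroup.center G = ⊥) :
    Nat.card (cover (nc (Subgroup.center G ⊔ (P : Subgroup G)))) *
        Nat.card (Subgroup.normalizer ((P : Subgroup G) : Set G)) =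
      Nat.card G * Nat.card (nc (Subgroup.center G ⊔ (P : Subgroup G))) := by
  have hc := commute_P hD hP hzp
  refine card_cover_mul _ _ (fun n hn s hs => ⟨?_, conj_notMem_center hs.2 n⟩)
    fun g s hs hgs => ?_
  · obtain ⟨z, hz, u, hu, rfl⟩ := mem_ZP hs.1
    rw [show n * (z * u) * n⁻¹ = n * z * n⁻¹ * (n * u * n⁻¹) by group,
      Subgroup.mem_center_iff.mp hz n, mul_inv_cancel_right]
    exact mul_mem (Subgroup.mem_sup_left hz)
      (Subgroup.mem_sup_right ((Subgroup.mem_normalizer_iff.mp hn u).mp hu))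
  · have hmap : ∀ u ∈ (P : Subgroup G), g * u * g⁻¹ ∈ (P : Subgroup G) := by
      intro u hu
      obtain ⟨k, hk⟩ := P.2 ⟨u, hu⟩
      refine le_P_of_isPGroup_le_ZP hzp ?_ ⟨k, ?_⟩
      · rw [← C_eq_ZP hD hc hgs.1 hgs.2, mem_C_conj, C_eq_ZP hD hc hs.1 hs.2]
        exact Subgroup.mem_sup_right hu
      · rw [conj_pow, show u ^ p ^ k = 1 from congrArg Subtype.val hk]
        group
    rw [mem_normalizer_iff_forall]
    exact hmap

/-- A maximal torus and its normalizer. -/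
theorem reg_of_mem (hD : Data P) (hP : (P : Subgroup G) ≠ ⊥)
    (hzp : (P : Subgroup G) ⊓ Subgroup.center G = ⊥) {x y : G} (hx : Reg P x) (hy : y ∈ C x)
    (hy' : y ∉ Subgroup.center G) : Reg P y := by
  refine ⟨hy', fun g hg => hx.2 g ?_⟩
  rw [← C_eq_ZP hD (commute_P hD hP hzp) hg (conj_notMem_center hy' g), mem_C_conj, mem_C,
    mem_C.mp hy]

omit hp in
theorem card_cover_torus (hD : Data P) {x : G} (hx : Reg P x) :
    (Nat.card (Subgroup.normalizer (C x : Set G)) = Nat.card (C x) ∨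
      Nat.card (Subgroup.normalizer (C x : Set G)) = 2 * Nat.card (C x)) ∧
    Nat.card (cover (nc (C x))) * Nat.card (Subgroup.normalizer (C x : Set G)) =
      Nat.card G * Nat.card (nc (C x)) := by
  set N := Subgroup.normalizer (C x : Set G) with hN
  have hinv : ∀ g ∈ N, g * x * g⁻¹ = x ∨ g * x * g⁻¹ = x⁻¹ := hD.inverted x hx.1 hx.2
  have hfix : ∀ g : G, g * x * g⁻¹ = x → g ∈ C x := fun g h =>
    mem_C.mpr (mul_inv_eq_iff_eq_mul.mp h)
  refine ⟨?_, card_cover_mul _ _ (fun n hn s hs =>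
    ⟨(Subgroup.mem_normalizer_iff.mp hn s).mp hs.1, conj_notMem_center hs.2 n⟩) fun g s hs hgs => ?_⟩
  · by_cases hsub : N ≤ C x
    · left; rw [le_antisymm hsub Subgroup.le_normalizer]
    · right
      obtain ⟨g₀, hg₀, hg₀'⟩ := SetLike.not_le_iff_exists.mp hsub
      have hg₀x : g₀ * x * g₀⁻¹ = x⁻¹ :=
        (hinv g₀ hg₀).resolve_left fun h => hg₀' (hfix g₀ h)
      have h2 : (C x).relIndex N = 2 := by
        rw [Subgroup.relIndex_eq_two_iff]
        refine ⟨g₀, hg₀, fun b hb => ?_⟩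
        by_cases hbC : b ∈ C x
        · refine Or.inr ⟨hbC, fun h => hg₀' ?_⟩
          simpa using mul_mem ((C x).inv_mem hbC) h
        · refine Or.inl ⟨hfix _ ?_, hbC⟩
          have hbx : b * x * b⁻¹ = x⁻¹ := (hinv b hb).resolve_left fun h => hbC (hfix b h)
          calc b * g₀ * x * (b * g₀)⁻¹ = b * (g₀ * x * g₀⁻¹) * b⁻¹ := by group
            _ = (b * x * b⁻¹)⁻¹ := by rw [hg₀x]; group
            _ = x := by rw [hbx, inv_inv]
      have h := Subgroup.relIndex_mul_relIndex ⊥ (C x) N bot_le Subgroup.le_normalizer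
      rw [Subgroup.relIndex_bot_left, Subgroup.relIndex_bot_left, h2] at h
      rw [← h, mul_comm]
  · have h2 := C_eq_of_mem hD hx.1 hs.2 hs.1
    have h3 := C_eq_of_mem hD hx.1 hgs.2 hgs.1
    rw [mem_normalizer_iff_forall]
    intro y hy
    rw [← h3, mem_C_conj, h2]
    exact hy

theorem disjoint_unipotent (hD : Data P) (hP : (P : Subgroup G) ≠ ⊥)
    (hzp : (P : Subgroup G) ⊓ Subgroup.center G = ⊥) {x : G} (hx : Reg P x) :
    Disjoint (cover (nc (Subgroup.center G ⊔ (P : Subgroup G)))) (cover (nc (C x))) := by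
  rw [Set.disjoint_left]
  rintro y hy ⟨g, hg⟩
  obtain ⟨k, hk⟩ := hy
  refine (reg_of_mem hD hP hzp hx hg.1 hg.2).2 (k⁻¹ * g) ?_
  rw [show k⁻¹ * g * (g⁻¹ * y * g) * (k⁻¹ * g)⁻¹ = k⁻¹ * y * k by group]
  exact hk.1

omit [Finite G] hp in
theorem disjoint_torus (hD : Data P) {x y : G} (hx : x ∉ Subgroup.center G)
    (hy : y ∉ Subgroup.center G) (h : y ∉ cover (nc (C x))) :
    Disjoint (cover (nc (C x))) (cover (nc (C y))) := by
  rw [Set.disjoint_left]
  rintro w ⟨g, hg⟩ ⟨k, hk⟩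
  have h1 : C (g⁻¹ * w * g) = C x := C_eq_of_mem hD hx hg.2 hg.1
  have h2 : C (k⁻¹ * w * k) = C y := C_eq_of_mem hD hy hk.2 hk.1
  have hk' : y ∈ C (k⁻¹ * w * k) := h2.ge (mem_C.mpr rfl)
  have h3 : k * y * k⁻¹ ∈ C w := by
    have := (mem_C_conj (g := k)).mpr hk'
    rwa [show k * (k⁻¹ * w * k) * k⁻¹ = w by group] at this
  have h4 : g⁻¹ * (k * y * k⁻¹) * g ∈ C (g⁻¹ * w * g) := by
    have := (mem_C_conj (g := g⁻¹)).mpr h3
    simpa using this
  rw [h1] at h4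
  refine h ⟨k⁻¹ * g, ?_⟩
  rw [show (k⁻¹ * g)⁻¹ * y * (k⁻¹ * g) = g⁻¹ * (k * y * k⁻¹) * g by group]
  exact ⟨h4, by simpa using conj_notMem_center (conj_notMem_center hy k) g⁻¹⟩

end CfsgLib.SL2.CA
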