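import Mathlib
import Cfsg.Agent.Lib.SL2.CACount

/-!
Solution of Dickson's counting equation.
-/

set_option autoImplicit false
set_option linter.style.haveILetI false

namespace CfsgLib.SL2.CA

variable {G : Type*} [Group G] [Finite G] {p : ℕ} [hp : Fact p.Prime] {P : Sylow p G}

omit [Finite G] hp in
theorem card_C_conj (w g : G) : Nat.card (C (g⁻¹ * w * g)) = Nat.card (C w) := by
  refine Nat.card_congr ((MulAut.conj g).toEquiv.subtypeEquiv fun y => ?_)
  show y ∈ C (g⁻¹ * w * g) ↔ g * y * g⁻¹ ∈ C w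
  have h := mem_C_conj (x := g⁻¹ * w * g) (y := y) (g := g)
  rw [show g * (g⁻¹ * w * g) * g⁻¹ = w by group] at h
  exact h.symm

omit hp in
/-- The proportion of a conjugation cover of a trivial intersection set. -/
theorem ratio {c N s z a δ : ℕ} (hz : 0 < z) (ha : 0 < a) (hδ : 0 < δ)
    (h1 : c * N = Nat.card G * s) (hN : N = δ * (z * a)) (hs : s + z = z * a) :
    (c : ℚ) / (Nat.card G : ℚ) = ((a : ℚ) - 1) / ((δ : ℚ) * a) := by
  have hG : (0 : ℚ) < (Nat.card G : ℚ) := by exact_mod_cast Nat.card_pos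
  have h1' : (c : ℚ) * N = (Nat.card G : ℚ) * s := by exact_mod_cast h1
  have hN' : (N : ℚ) = (δ : ℚ) * ((z : ℚ) * a) := by exact_mod_cast hN
  have hs' : (s : ℚ) + z = (z : ℚ) * a := by exact_mod_cast hs
  have hz' : (0 : ℚ) < z := by exact_mod_cast hz
  have ha' : (0 : ℚ) < a := by exact_mod_cast ha
  have hδ' : (0 : ℚ) < δ := by exact_mod_cast hδ
  rw [div_eq_div_iff hG.ne' (by positivity)]
  refine mul_left_cancel₀ hz'.ne' ?_
  rw [hN', show (s : ℚ) = z * a - z by linarith] at h1'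
  linear_combination h1'

omit hp in
theorem exists_torus_data (hD : Data P) {x : G} (hx : Reg P x) :
    ∃ a δ : ℕ, Nat.card (C x) = Nat.card (Subgroup.center G) * a ∧ 2 ≤ a ∧ (δ = 1 ∨ δ = 2) ∧
      Nat.card (Subgroup.normalizer (C x : Set G)) = δ * (Nat.card (Subgroup.center G) * a) ∧
      (Nat.card (cover (nc (C x))) : ℚ) / (Nat.card G : ℚ) = ((a : ℚ) - 1) / ((δ : ℚ) * a) ∧
      (δ = 1 → (1 : ℚ) / 2 ≤ ((a : ℚ) - 1) / ((δ : ℚ) * a)) ∧
      (1 : ℚ) / 4 ≤ ((a : ℚ) - 1) / ((δ : ℚ) * a) := by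
  have hle : Subgroup.center G ≤ C x := center_le_C x
  have h1 := Subgroup.relIndex_mul_relIndex ⊥ (Subgroup.center G) (C x) bot_le hle
  rw [Subgroup.relIndex_bot_left, Subgroup.relIndex_bot_left] at h1
  set a := (Subgroup.center G).relIndex (C x) with ha
  have ha0 : a ≠ 0 := fun h => by
    rw [h, mul_zero] at h1
    exact (Nat.card_pos (α := C x)).ne' h1.symm
  have ha2 : 2 ≤ a := by
    refine (Nat.two_le_iff a).mpr ⟨ha0, fun h => hx.1 ?_⟩
    exact Subgroup.relIndex_eq_one.mp h (mem_C.mpr rfl)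
  have hs := card_nc hle
  rw [← h1] at hs
  have haq : (2 : ℚ) ≤ (a : ℚ) := by exact_mod_cast ha2
  obtain ⟨hN, hc⟩ := card_cover_torus hD hx
  rw [← h1] at hN
  rcases hN with hN | hN
  · refine ⟨a, 1, h1.symm, ha2, Or.inl rfl, by rw [hN, one_mul],
      ratio Nat.card_pos (by omega) one_pos hc (by rw [hN, one_mul]) hs, fun _ => ?_, ?_⟩ <;>
    · rw [Nat.cast_one, one_mul, div_le_div_iff₀ (by norm_num) (by linarith)]
      linarith
  · refine ⟨a, 2, h1.symm, ha2, Or.inr rfl, hN,
      ratio Nat.card_pos (by omega) two_pos hc hN hs, fun h => absurd h (by norm_num), ?_⟩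
    rw [Nat.cast_ofNat, div_le_div_iff₀ (by norm_num) (by linarith)]
    linarith

omit [Finite G] hp in
theorem eq_of_normal_sylow_le {y : G} (hy : y ∈ Subgroup.normalizer ((P : Subgroup G) : Set G))
    (hpow : ∃ k, y ^ p ^ k = 1) : y ∈ (P : Subgroup G) := by
  obtain ⟨k, hk⟩ := hpow
  have hpz : IsPGroup p (Subgroup.zpowers y) := by
    rintro ⟨w, hw⟩
    obtain ⟨i, rfl⟩ := Subgroup.mem_zpowers_iff.mp hw
    exact ⟨k, Subtype.ext (show (y ^ i) ^ p ^ k = 1 by
      rw [← zpow_natCast, ← zpow_mul, mul_comm, zpow_mul, zpow_natCast, hk, one_zpow])⟩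
  have h := hpz.to_sup_of_normal_right' P.2 (Subgroup.zpowers_le.mpr hy)
  exact (le_sup_left.trans (P.3 h le_sup_right).le) (Subgroup.mem_zpowers y)

/-- The torus in the normalizer of `P`. -/
theorem borel_torus (hD : Data P) (hP : (P : Subgroup G) ≠ ⊥)
    (hzp : (P : Subgroup G) ⊓ Subgroup.center G = ⊥) {x : G}
    (hx : x ∈ Subgroup.normalizer ((P : Subgroup G) : Set G))
    (hx' : x ∉ Subgroup.center G ⊔ (P : Subgroup G)) :
    Reg P x ∧
      Nat.card (C x) * Nat.card P =
        Nat.card (Subgroup.normalizer ((P : Subgroup G) : Set G)) ∧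
      (Subgroup.center G).relIndex (C x) ≤ Nat.card P - 1 := by
  set NP := Subgroup.normalizer ((P : Subgroup G) : Set G) with hNP
  have hxz : x ∉ Subgroup.center G := fun h => hx' (Subgroup.mem_sup_left h)
  have hMN : C x ≤ NP := hD.torus x hx hx'
  have hMP : ∀ u ∈ (P : Subgroup G), u ∈ C x → u = 1 := by
    intro u hu huC
    by_contra h
    exact hx' (hD.cent u hu h (mem_C.mpr (mem_C.mp huC).symm))
  haveI : Nontrivial P := (Subgroup.nontrivial_iff_ne_bot _).mpr hP
  obtain ⟨u₀, hu₀⟩ := exists_ne (1 : P)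
  have hu₀' : (u₀ : G) ≠ 1 := fun h => hu₀ (Subtype.ext h)
  refine ⟨⟨hxz, fun g hg => ?_⟩, ?_, ?_⟩
  · have h1 : g⁻¹ * (u₀ : G) * g ∈ C x := by
      rw [← mem_C_conj (g := g), show g * (g⁻¹ * (u₀ : G) * g) * g⁻¹ = (u₀ : G) by group,
        C_eq_ZP hD (commute_P hD hP hzp) hg (conj_notMem_center hxz g)]
      exact Subgroup.mem_sup_right u₀.2
    obtain ⟨k, hk⟩ := P.2 u₀
    have h2 : g⁻¹ * (u₀ : G) * g ∈ (P : Subgroup G) := eq_of_normal_sylow_le (hMN h1) ⟨k, by
      have hk' : (u₀ : G) ^ p ^ k = 1 := congrArg Subtype.val hk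
      rw [show g⁻¹ * (u₀ : G) * g = g⁻¹ * (u₀ : G) * g⁻¹⁻¹ by group, conj_pow, hk']
      group⟩
    have h3 := hMP _ h2 h1
    exact hu₀' (by simpa [mul_assoc] using congrArg (fun t => g * t * g⁻¹) h3)
  · rw [← Nat.card_prod]
    refine Nat.card_congr (Equiv.ofBijective (fun w : C x × (P : Subgroup G) =>
      (⟨(w.1 : G) * w.2, mul_mem (hMN w.1.2) (Subgroup.le_normalizer w.2.2)⟩ : NP)) ⟨?_, ?_⟩)
    · rintro ⟨m, u⟩ ⟨m', u'⟩ h
      have h' : (m : G) * u = m' * u' := congrArg Subtype.val h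
      have h1 : (m' : G)⁻¹ * m = u' * (u : G)⁻¹ := by
        rw [eq_mul_inv_iff_mul_eq, mul_assoc, h', inv_mul_cancel_left]
      have h2 := hMP _ (mul_mem u'.2 ((P : Subgroup G).inv_mem u.2))
        (h1 ▸ mul_mem ((C x).inv_mem m'.2) m.2)
      have h3 : m = m' := Subtype.ext (inv_mul_eq_one.mp (h1.trans h2)).symm
      subst h3
      exact Prod.ext rfl (Subtype.ext (mul_left_cancel h'))
    · rintro ⟨g, hg⟩
      let φ : ↥(P : Subgroup G) → ↥(P : Subgroup G) := fun u =>
        ⟨(u : G) * x * (u : G)⁻¹ * x⁻¹,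
          hD.commutator _ (Subgroup.le_normalizer u.2) x hx⟩
      have hφ : Function.Surjective φ := Finite.surjective_of_injective fun u v e => by
        have e' : (u : G) * x * (u : G)⁻¹ * x⁻¹ = (v : G) * x * (v : G)⁻¹ * x⁻¹ :=
          congrArg Subtype.val e
        rw [mul_left_inj] at e'
        have h1 : (v : G)⁻¹ * u ∈ C x := mem_C.mpr <| by
          calc (v : G)⁻¹ * u * x = (v : G)⁻¹ * ((u : G) * x * (u : G)⁻¹) * u := by group
            _ = (v : G)⁻¹ * ((v : G) * x * (v : G)⁻¹) * u := by rw [e']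
            _ = x * ((v : G)⁻¹ * u) := by group
        exact Subtype.ext (inv_mul_eq_one.mp (hMP _ (mul_mem ((P : Subgroup G).inv_mem v.2) u.2)
          h1)).symm
      obtain ⟨u, hu⟩ := hφ ⟨g * x * g⁻¹ * x⁻¹, hD.commutator g hg x hx⟩
      have hu' : (u : G) * x * (u : G)⁻¹ * x⁻¹ = g * x * g⁻¹ * x⁻¹ := congrArg Subtype.val hu
      rw [mul_left_inj] at hu'
      set m := (u : G)⁻¹ * g with hm
      have hmC : m ∈ C x := mem_C.mpr <| by
        calc (u : G)⁻¹ * g * x = (u : G)⁻¹ * (g * x * g⁻¹) * g := by group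
          _ = (u : G)⁻¹ * ((u : G) * x * (u : G)⁻¹) * g := by rw [hu']
          _ = x * ((u : G)⁻¹ * g) := by group
      refine ⟨(⟨m, hmC⟩, ⟨m⁻¹ * (u : G) * m, ?_⟩), Subtype.ext ?_⟩
      · exact (Subgroup.mem_normalizer_iff''.mp (hMN hmC) _).mp u.2
      · show m * (m⁻¹ * (u : G) * m) = g
        rw [hm]; group
  · let f : C x ⧸ (Subgroup.center G).subgroupOf (C x) →
        {u : (P : Subgroup G) // u ≠ 1} := fun q =>
      ⟨⟨(q.out : G) * u₀ * (q.out : G)⁻¹,
        (Subgroup.mem_normalizer_iff.mp (hMN q.out.2) _).mp u₀.2⟩, fun h => hu₀' (by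
          have h' : (q.out : G) * u₀ * (q.out : G)⁻¹ = 1 := congrArg Subtype.val h
          simpa [mul_assoc] using congrArg (fun t => (q.out : G)⁻¹ * t * (q.out : G)) h')⟩
    have hf : Function.Injective f := fun q r e => by
      have e' : (q.out : G) * u₀ * (q.out : G)⁻¹ = (r.out : G) * u₀ * (r.out : G)⁻¹ :=
        congrArg (fun t => ((t : P) : G)) (congrArg Subtype.val e)
      rw [← q.out_eq, ← r.out_eq]
      refine QuotientGroup.eq.mpr ?_
      rw [Subgroup.mem_subgroupOf]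
      set m := (q.out : G)⁻¹ * (r.out : G) with hm
      have hmM : m ∈ C x := mul_mem ((C x).inv_mem q.out.2) r.out.2
      have hmu : m ∈ C (u₀ : G) := mem_C.mpr <| by
        calc m * u₀ = (q.out : G)⁻¹ * ((r.out : G) * u₀ * (r.out : G)⁻¹) * r.out := by
              rw [hm]; group
          _ = (q.out : G)⁻¹ * ((q.out : G) * u₀ * (q.out : G)⁻¹) * r.out := by rw [e']
          _ = (u₀ : G) * m := by rw [hm]; group
      obtain ⟨z, hz, u, hu, he⟩ := mem_ZP (hD.cent _ u₀.2 hu₀' hmu)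
      have huM : u ∈ C x := by
        rw [show u = z⁻¹ * m by rw [← he, inv_mul_cancel_left]]
        exact mul_mem ((C x).inv_mem (center_le_C x hz)) hmM
      show (q.out : G)⁻¹ * (r.out : G) ∈ Subgroup.center G
      rw [← hm, ← he, hMP u hu huM, mul_one]
      exact hz
    refine (Nat.card_le_card_of_injective f hf).trans (le_of_eq ?_)
    show Nat.card ({(1 : (P : Subgroup G))}ᶜ : Set (P : Subgroup G)) = _
    rw [Nat.card_coe_set_eq, Set.ncard_compl, Set.ncard_singleton]

omit [Finite G] hp in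
theorem cover_nc_notMem_center {M : Subgroup G} {y : G} (hy : y ∈ cover (nc M)) :
    y ∉ Subgroup.center G := by
  obtain ⟨g, hg⟩ := hy
  intro h
  exact hg.2 (by rwa [Subgroup.mem_center_iff.mp h g⁻¹, inv_mul_cancel_right])

omit hp in
theorem ncard_add_center_le {A : Set G} (hA : ∀ y ∈ A, y ∉ Subgroup.center G) :
    A.ncard + Nat.card (Subgroup.center G) ≤ Nat.card G := by
  rw [← SetLike.coe_sort_coe, Nat.card_coe_set_eq,
    ← Set.ncard_union_eq (Set.disjoint_left.mpr fun y hy => hA y hy) (Set.toFinite _)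
      (Set.toFinite _), ← Set.ncard_univ]
  exact Set.ncard_le_ncard (Set.subset_univ _) (Set.toFinite _)

omit hp in
theorem ncard_add_center_eq {A : Set G} (hA : ∀ y ∈ A, y ∉ Subgroup.center G)
    (hA' : ∀ y ∉ Subgroup.center G, y ∈ A) :
    A.ncard + Nat.card (Subgroup.center G) = Nat.card G := by
  rw [← SetLike.coe_sort_coe, Nat.card_coe_set_eq,
    ← Set.ncard_union_eq (Set.disjoint_left.mpr fun y hy => hA y hy) (Set.toFinite _)
      (Set.toFinite _), ← Set.ncard_univ]
  congr 1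
  exact Set.eq_univ_of_forall fun y =>
    (em (y ∈ Subgroup.center G)).elim Or.inr fun h => Or.inl (hA' y h)

omit hp in
theorem inf_center_eq_bot [Fact p.Prime] (hp2 : p ≠ 2) (hD : Data P) :
    (P : Subgroup G) ⊓ Subgroup.center G = ⊥ := by
  obtain ⟨k, hk⟩ := (P.2.to_le (inf_le_left (b := Subgroup.center G))).exists_card_eq
  rw [← Subgroup.card_eq_one, hk]
  rcases Nat.eq_zero_or_pos k with rfl | hk0
  · rfl
  · exfalso
    have h1 : p ^ k ≤ 2 := hk ▸ (Subgroup.card_le_of_le inf_le_right).trans hD.card_center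
    have h2 : p ≤ p ^ k := Nat.le_self_pow hk0.ne' p
    have h3 := (Fact.out : p.Prime).two_le
    omega

/-- The Sylow subgroups other than `P` fall into orbits of length `q` under `P`. -/
theorem sylow_sub_one_dvd (hD : Data P) (hP : (P : Subgroup G) ≠ ⊥)
    (hzp : (P : Subgroup G) ⊓ Subgroup.center G = ⊥) :
    Nat.card P ∣ Nat.card (Sylow p G) - 1 := by
  classical
  let X := {Q : Sylow p G // Q ≠ P}
  have hfix : ∀ u : P, (u : G) • P = P := fun u =>
    Sylow.smul_eq_iff_mem_normalizer.mpr (Subgroup.le_normalizer u.2)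
  letI : MulAction P X :=
    { smul := fun u Q => ⟨(u : G) • Q.1, fun h => Q.2 <|
        ((inv_smul_smul (u : G) Q.1).symm.trans (congrArg (fun R => (u : G)⁻¹ • R) h)).trans
          (hfix u⁻¹)⟩
      one_smul := fun Q => Subtype.ext (one_smul G Q.1)
      mul_smul := fun u v Q => Subtype.ext (mul_smul (u : G) (v : G) Q.1) }
  have hstab : ∀ Q : X, MulAction.stabilizer P Q = ⊥ := by
    rintro ⟨Q, hQ⟩
    refine (Subgroup.eq_bot_iff_forall _).mpr fun u hu => ?_
    by_contra hne
    have hu' : (u : G) • Q = Q := congrArg Subtype.val hu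
    have huQ : (u : G) ∈ (Q : Subgroup G) := by
      obtain ⟨k, hk⟩ := P.2 u
      exact eq_of_normal_sylow_le (Sylow.smul_eq_iff_mem_normalizer.mp hu')
        ⟨k, congrArg Subtype.val hk⟩
    have hu1 : (u : G) ≠ 1 := fun h => hne (Subtype.ext h)
    obtain ⟨g, hg⟩ := MulAction.exists_smul_eq G P Q
    have hQc : ∀ a ∈ (Q : Subgroup G), ∀ b ∈ (Q : Subgroup G), a * b = b * a := by
      rw [← hg]
      rintro _ ⟨a, ha, rfl⟩ _ ⟨b, hb, rfl⟩
      exact (Commute.map (show Commute a b from commute_P hD hP hzp a ha b hb) _).eq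
    refine hQ (Sylow.ext ((Q.3 P.2 fun v hv => ?_).symm))
    obtain ⟨k, hk⟩ := Q.2 ⟨v, hv⟩
    exact le_P_of_isPGroup_le_ZP hzp (hD.cent u u.2 hu1 (mem_C.mpr (hQc v hv u huQ)))
      ⟨k, congrArg Subtype.val hk⟩
  have h1 : Nat.card X + 1 = Nat.card (Sylow p G) := by
    show Nat.card ({P}ᶜ : Set (Sylow p G)) + 1 = _
    rw [Nat.card_coe_set_eq, add_comm, ← Set.ncard_singleton P, Set.ncard_add_ncard_compl]
  rw [← h1, Nat.add_sub_cancel]
  exact ⟨_, ((Nat.card_congr (MulAction.selfEquivOrbitsQuotientProd hstab)).trans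
    (Nat.card_prod _ _)).trans (mul_comm _ _)⟩

set_option maxHeartbeats 1000000 in
/-- **Dickson's count.** -/
theorem dickson (hp2 : p ≠ 2) (hD : Data P) (hn : ¬ (P : Subgroup G).Normal) :
    Nat.card (Sylow p G) = Nat.card P + 1 ∨
      (p = 3 ∧ Nat.card P = 3 ∧ Nat.card G = 120 ∧ Nat.card (Subgroup.center G) = 2 ∧
        (∀ y : G, y ∉ Subgroup.center G →
          Nat.card (C y) = 4 ∨ Nat.card (C y) = 6 ∨ Nat.card (C y) = 10) ∧
        ∃ x : G, Reg P x ∧ Nat.card (C x) = 4 ∧
          Nat.card (Subgroup.normalizer (C x : Set G)) = 8 ∧ (cover (nc (C x))).ncard = 30 ∧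
          ∀ y : G, y ∉ Subgroup.center G → Nat.card (C y) = 4 → y ∈ cover (nc (C x))) := by
  classical
  have hP : (P : Subgroup G) ≠ ⊥ := fun h => hn (h ▸ inferInstance)
  have hzp := inf_center_eq_bot hp2 hD
  set NP := Subgroup.normalizer ((P : Subgroup G) : Set G) with hNP
  set ZP := Subgroup.center G ⊔ (P : Subgroup G) with hZP
  have hZPN : ZP ≤ NP := sup_le (Subgroup.center_le_normalizer _) Subgroup.le_normalizer
  set z := Nat.card (Subgroup.center G) with hz
  set q := Nat.card P with hq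
  set h := Nat.card G with hh
  obtain ⟨e, he⟩ : ∃ e, e = ZP.relIndex NP := ⟨_, rfl⟩
  set n := Nat.card (Sylow p G) with hnn
  have hq3 : 3 ≤ q := by
    haveI : Nontrivial P := (Subgroup.nontrivial_iff_ne_bot _).mpr hP
    obtain ⟨k, hk0, hk⟩ := P.2.nontrivial_iff_card.mp inferInstance
    have h1 : p ≤ p ^ k := Nat.le_self_pow hk0.ne' p
    have h2 := hp.out.two_le
    show 3 ≤ Nat.card P
    omega
  have hz0 : 0 < z := Nat.card_pos
  have hZP' : Nat.card ZP = z * q := card_ZP hzp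
  have hNcard : Nat.card NP = z * q * e := by
    have h1 := Subgroup.relIndex_mul_relIndex ⊥ ZP NP bot_le hZPN
    rw [Subgroup.relIndex_bot_left, Subgroup.relIndex_bot_left, hZP', ← he] at h1
    rw [← h1]
  have he0 : 0 < e := Nat.pos_of_ne_zero fun h0 => by
    rw [h0, mul_zero] at hNcard
    exact (Nat.card_pos (α := NP)).ne' hNcard
  have hn_h : n * (z * q * e) = h := by
    rw [hnn, Sylow.card_eq_index_normalizer P, ← hNcard]
    exact Subgroup.index_mul_card NP
  have hn1 : 2 ≤ n := by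
    by_contra hlt
    push Not at hlt
    haveI : Subsingleton (Sylow p G) := by
      rw [← Finite.card_le_one_iff_subsingleton]
      show n ≤ 1
      omega
    exact hn (Sylow.normal_of_subsingleton P)
  obtain ⟨k, hk⟩ : ∃ k, n = 1 + k * q := by
    have hPn : Nat.card P ∣ n - 1 := by
      rw [hnn]
      exact sylow_sub_one_dvd hD hP hzp
    obtain ⟨k, hk⟩ := hPn
    exact ⟨k, by rw [mul_comm, hq, ← hk]; omega⟩
  -- proportions
  set AU := cover (nc ZP) with hAU
  have hhQ : (0 : ℚ) < (h : ℚ) := by rw [hh]; exact_mod_cast Nat.card_pos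
  have hμU : (AU.ncard : ℚ) / (h : ℚ) = ((q : ℚ) - 1) / ((e : ℚ) * q) := by
    refine ratio (s := Nat.card (nc ZP)) (z := z) (a := q) (δ := e) hz0 (by omega) he0
      (card_cover_unipotent hD hP hzp) ?_ ?_
    · rw [hNcard]; ring
    · rw [card_nc le_sup_left, hZP']
  have hAUc : ∀ y ∈ AU, y ∉ Subgroup.center G := fun y hy => cover_nc_notMem_center hy
  have hn_q : (z : ℚ) / (h : ℚ) = 1 / ((n : ℚ) * q * e) := by
    have hh' : (n : ℚ) * ((z : ℚ) * q * e) = h := by exact_mod_cast hn_h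
    have hz' : (0 : ℚ) < z := by exact_mod_cast hz0
    have hq' : (0 : ℚ) < q := by exact_mod_cast (by omega : 0 < q)
    have he' : (0 : ℚ) < e := by exact_mod_cast he0
    have hn' : (0 : ℚ) < n := by exact_mod_cast (by omega : 0 < n)
    rw [← hh']
    field_simp
  have htotal_le : ∀ A : Set G, (∀ y ∈ A, y ∉ Subgroup.center G) →
      (A.ncard : ℚ) / h + 1 / ((n : ℚ) * q * e) ≤ 1 := by
    intro A hA
    rw [← hn_q, ← add_div, div_le_one hhQ]
    exact_mod_cast ncard_add_center_le hA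
  have htotal_eq : ∀ A : Set G, (∀ y ∈ A, y ∉ Subgroup.center G) →
      (∀ y ∉ Subgroup.center G, y ∈ A) →
      (A.ncard : ℚ) / h + 1 / ((n : ℚ) * q * e) = 1 := by
    intro A hA hA'
    rw [← hn_q, ← add_div, div_eq_one_iff_eq hhQ.ne']
    exact_mod_cast ncard_add_center_eq hA hA'
  have hreg : ∀ y, y ∉ Subgroup.center G → y ∉ AU → Reg P y := fun y hy hy' =>
    (reg_iff hy).mpr hy'
  have hun : ∀ {A B : Set G}, Disjoint A B → ((A ∪ B).ncard : ℚ) / h = A.ncard / h + B.ncard / h := by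
    intro A B hd
    rw [Set.ncard_union_eq hd (Set.toFinite _) (Set.toFinite _), Nat.cast_add, add_div]
  have hqQ : (3 : ℚ) ≤ (q : ℚ) := by exact_mod_cast hq3
  have hnQ : (2 : ℚ) ≤ (n : ℚ) := by exact_mod_cast hn1
  have hnqe : (0 : ℚ) < (n : ℚ) * q * e := by
    have : (0 : ℚ) < (e : ℚ) := by exact_mod_cast he0
    positivity
  rcases Nat.lt_or_ge e 2 with he1 | he2
  · -- `e = 1`
    obtain rfl : e = 1 := by omega
    push_cast at hμU htotal_le htotal_eq hnqe
    left
    obtain ⟨x, hxz, hxU⟩ : ∃ x, x ∉ Subgroup.center G ∧ x ∉ AU := by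
      by_contra hc
      push Not at hc
      have h1 := htotal_eq AU hAUc hc
      rw [hμU] at h1
      field_simp at h1
      nlinarith
    have hx := hreg x hxz hxU
    obtain ⟨a, δ, -, ha2, hδ, -, hμ, hμ2, hμ4⟩ := exists_torus_data hD hx
    set A₁ := cover (nc (C x))
    have hd : Disjoint AU A₁ := disjoint_unipotent hD hP hzp hx
    have hA : ∀ y ∈ AU ∪ A₁, y ∉ Subgroup.center G := by
      rintro y (hy | hy) <;> exact cover_nc_notMem_center hy
    rw [Nat.card_coe_set_eq] at hμ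
    have hle := htotal_le _ hA
    rw [hun hd, hμU, hμ, one_mul, mul_one] at hle
    have hnq0 : (0 : ℚ) < 1 / ((n : ℚ) * q) := by positivity
    have hU1 : ((q : ℚ) - 1) / q = 1 - 1 / q := by field_simp
    rw [hU1] at hle
    have hq13 : (1 : ℚ) / q ≤ 1 / 3 := by
      apply div_le_div_of_nonneg_left <;> linarith
    have hlt : ((a : ℚ) - 1) / ((δ : ℚ) * a) < 1 / 3 := by linarith
    obtain rfl : δ = 2 := hδ.resolve_left fun h1 => by have := hμ2 h1; linarith
    obtain rfl : a = 2 := by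
      refine le_antisymm ?_ ha2
      by_contra h3
      push Not at h3
      have h3' : (3 : ℚ) ≤ (a : ℚ) := by exact_mod_cast h3
      rw [div_lt_iff₀ (by positivity)] at hlt
      push_cast at hlt
      linarith
    have hq' : q = 3 := by
      refine le_antisymm ?_ hq3
      by_contra h4
      push Not at h4
      have h4' : (4 : ℚ) ≤ (q : ℚ) := by exact_mod_cast h4
      have : (1 : ℚ) / q ≤ 1 / 4 := by apply div_le_div_of_nonneg_left <;> linarith
      norm_num at hle
      norm_num at this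
      have : (0 : ℚ) < (q : ℚ)⁻¹ * (n : ℚ)⁻¹ := by positivity
      linarith
    have hcov : ∀ y ∉ Subgroup.center G, y ∈ AU ∪ A₁ := by
      intro y hy
      by_contra hyA
      simp only [Set.mem_union, not_or] at hyA
      have hy' := hreg y hy hyA.1
      obtain ⟨a', δ', -, -, -, -, hμ', -, hμ4'⟩ := exists_torus_data hD hy'
      rw [Nat.card_coe_set_eq] at hμ'
      have hd' : Disjoint (AU ∪ A₁) (cover (nc (C y))) :=
        Set.disjoint_union_left.mpr ⟨disjoint_unipotent hD hP hzp hy',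
          disjoint_torus hD hxz hy hyA.2⟩
      have h2 := htotal_le (AU ∪ A₁ ∪ cover (nc (C y))) (by
        rintro w ((hw | hw) | hw) <;> exact cover_nc_notMem_center hw)
      rw [hun hd', hun hd, hμU, hμ, hμ', hq'] at h2
      rw [hq'] at hnq0
      norm_num at h2 hnq0 hμ4'
      have : (0 : ℚ) < 1 / 3 * (n : ℚ)⁻¹ := by positivity
      linarith
    have h1 := htotal_eq _ hA hcov
    rw [hun hd, hμU, hμ, hq'] at h1
    norm_num at h1
    have hn4 : (n : ℚ) = 4 := by
      field_simp at h1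
      linarith
    have : n = 4 := by exact_mod_cast hn4
    omega
  · -- `e ≥ 2`
    obtain ⟨x, hxN, hx'⟩ : ∃ x ∈ NP, x ∉ ZP := by
      refine SetLike.not_le_iff_exists.mp fun hle => ?_
      have : e = 1 := he ▸ Subgroup.relIndex_eq_one.mpr hle
      omega
    obtain ⟨hx, hcard, hfree⟩ := borel_torus hD hP hzp hxN hx'
    obtain ⟨a₀, δ, hCx, -, hδ, hNx, hμ, hμ2, hμ4⟩ := exists_torus_data hD hx
    obtain rfl : a₀ = e := by
      have h1 : Nat.card NP = z * q * e := hNcard
      rw [← hcard, hCx] at h1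
      have h2 : z * q * a₀ = z * q * e := by rw [← h1, hq]; ring
      exact Nat.eq_of_mul_eq_mul_left (by positivity) h2
    have heq1 : a₀ ≤ q - 1 := by
      have hr : (Subgroup.center G).relIndex (C x) = a₀ := by
        have h1 := Subgroup.relIndex_mul_relIndex ⊥ (Subgroup.center G) (C x) bot_le (center_le_C x)
        rw [Subgroup.relIndex_bot_left, Subgroup.relIndex_bot_left, hCx] at h1
        exact Nat.eq_of_mul_eq_mul_left hz0 h1
      rwa [hr] at hfree
    set A₀ := cover (nc (C x))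
    have hd : Disjoint AU A₀ := disjoint_unipotent hD hP hzp hx
    have hA : ∀ y ∈ AU ∪ A₀, y ∉ Subgroup.center G := by
      rintro y (hy | hy) <;> exact cover_nc_notMem_center hy
    rw [Nat.card_coe_set_eq] at hμ
    have haQ : (2 : ℚ) ≤ (a₀ : ℚ) := by exact_mod_cast he2
    have hδ2 : δ = 2 := by
      refine hδ.resolve_left ?_
      rintro rfl
      rw [Nat.cast_one, one_mul] at hμ
      have hsum : (AU.ncard : ℚ) / h + (A₀.ncard : ℚ) / h = 1 - 1 / ((a₀ : ℚ) * q) := by
        rw [hμU, hμ]; field_simp; ring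
      have hsmall : (1 : ℚ) / ((a₀ : ℚ) * q) ≤ 1 / 6 := by
        apply div_le_div_of_nonneg_left <;> nlinarith
      by_cases hcov : ∀ y ∉ Subgroup.center G, y ∈ AU ∪ A₀
      · have h1 := htotal_eq _ hA hcov
        rw [hun hd, hsum] at h1
        field_simp at h1
        nlinarith
      · push Not at hcov
        obtain ⟨y, hy, hyA⟩ := hcov
        simp only [Set.mem_union, not_or] at hyA
        have hy' := hreg y hy hyA.1
        obtain ⟨a', δ', -, -, -, -, hμ', -, hμ4'⟩ := exists_torus_data hD hy'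
        rw [Nat.card_coe_set_eq] at hμ'
        have hd' : Disjoint (AU ∪ A₀) (cover (nc (C y))) :=
          Set.disjoint_union_left.mpr ⟨disjoint_unipotent hD hP hzp hy',
            disjoint_torus hD hx.1 hy hyA.2⟩
        have h2 := htotal_le (AU ∪ A₀ ∪ cover (nc (C y))) (by
          rintro w ((hw | hw) | hw) <;> exact cover_nc_notMem_center hw)
        rw [hun hd', hun hd, hsum, hμ'] at h2
        have h0 : (0 : ℚ) < 1 / ((n : ℚ) * q * a₀) := by positivity
        linarith
    subst hδ2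
    push_cast at hμ hNx
    have hsum : (AU.ncard : ℚ) / h + (A₀.ncard : ℚ) / h =
        1 / 2 + ((q : ℚ) - 2) / (2 * ((a₀ : ℚ) * q)) := by
      rw [hμU, hμ]; field_simp; ring
    have hpos : (0 : ℚ) < ((q : ℚ) - 2) / (2 * ((a₀ : ℚ) * q)) := by
      apply div_pos <;> nlinarith
    obtain ⟨y, hy, hyA⟩ : ∃ y, y ∉ Subgroup.center G ∧ y ∉ AU ∪ A₀ := by
      by_contra hc
      push Not at hc
      have h1 := htotal_eq _ hA hc
      rw [hun hd, hsum] at h1
      field_simp at h1
      nlinarith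
    simp only [Set.mem_union, not_or] at hyA
    have hy' := hreg y hy hyA.1
    obtain ⟨a, δ', hCy, ha2, hδ', -, hμ', hμ2', hμ4'⟩ := exists_torus_data hD hy'
    rw [Nat.card_coe_set_eq] at hμ'
    set A₁ := cover (nc (C y))
    have hd₁ : Disjoint (AU ∪ A₀) A₁ :=
      Set.disjoint_union_left.mpr ⟨disjoint_unipotent hD hP hzp hy',
        disjoint_torus hD hx.1 hy hyA.2⟩
    have hA' : ∀ w ∈ AU ∪ A₀ ∪ A₁, w ∉ Subgroup.center G := by
      rintro w ((hw | hw) | hw) <;> exact cover_nc_notMem_center hw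
    have h0 : (0 : ℚ) < 1 / ((n : ℚ) * q * a₀) := by positivity
    obtain rfl : δ' = 2 := hδ'.resolve_left fun h1 => by
      have h2 := htotal_le _ hA'
      rw [hun hd₁, hun hd, hsum, hμ'] at h2
      have := hμ2' h1
      linarith
    have hcov : ∀ w ∉ Subgroup.center G, w ∈ AU ∪ A₀ ∪ A₁ := by
      intro w hw
      by_contra hwA
      simp only [Set.mem_union, not_or] at hwA
      have hw' := hreg w hw hwA.1.1
      obtain ⟨a', δ'', -, -, -, -, hμ'', -, hμ4''⟩ := exists_torus_data hD hw'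
      rw [Nat.card_coe_set_eq] at hμ''
      have hd₂ : Disjoint (AU ∪ A₀ ∪ A₁) (cover (nc (C w))) :=
        Set.disjoint_union_left.mpr ⟨Set.disjoint_union_left.mpr
          ⟨disjoint_unipotent hD hP hzp hw', disjoint_torus hD hx.1 hw hwA.1.2⟩,
          disjoint_torus hD hy hw hwA.2⟩
      have h2 := htotal_le (AU ∪ A₀ ∪ A₁ ∪ cover (nc (C w))) (by
        rintro u (((hu | hu) | hu) | hu) <;> exact cover_nc_notMem_center hu)
      rw [hun hd₂, hun hd₁, hun hd, hsum, hμ', hμ''] at h2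
      linarith
    have h1 := htotal_eq _ hA' hcov
    rw [hun hd₁, hun hd, hsum, hμ'] at h1
    have haQ' : (2 : ℚ) ≤ (a : ℚ) := by exact_mod_cast ha2
    have hkey : (n : ℤ) * ((q : ℤ) * a₀ + 2 * a - q * a) = 2 * a := by
      have h2 : (n : ℚ) * ((q : ℚ) * a₀ + 2 * a - q * a) = 2 * a := by
        push_cast at h1
        field_simp at h1
        linarith
      exact_mod_cast h2
    set m := (q : ℤ) * a₀ + 2 * a - q * a with hm
    have hk' : (n : ℤ) = 1 + (k : ℤ) * q := by exact_mod_cast hk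
    have hk1 : (1 : ℤ) ≤ k := by
      rcases Nat.eq_zero_or_pos k with h0' | h0'
      · rw [h0', zero_mul] at hk; omega
      · exact_mod_cast h0'
    have haZ : (2 : ℤ) ≤ (a : ℤ) := by exact_mod_cast ha2
    have hqZ : (3 : ℤ) ≤ (q : ℤ) := by exact_mod_cast hq3
    have he3 : (a₀ : ℤ) ≤ (q : ℤ) - 1 := by omega
    have hm1 : (1 : ℤ) ≤ m := by nlinarith
    have hae : (a : ℤ) - a₀ = m * k := by
      have h2 : (q : ℤ) * ((a : ℤ) - a₀) = (q : ℤ) * (m * k) := by
        rw [hk'] at hkey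
        linear_combination hm - hkey
      exact mul_left_cancel₀ (by omega) h2
    have h2e : 2 * (a₀ : ℤ) = m * (1 + (k : ℤ) * ((q : ℤ) - 2)) := by
      rw [hk'] at hkey
      linear_combination (-2 : ℤ) * hae - hkey
    rcases eq_or_lt_of_le hk1 with hk1' | hk2
    · left
      have : k = 1 := by exact_mod_cast hk1'.symm
      rw [hk, this]
      omega
    right
    have hm' : m = 1 := by
      by_contra hm2
      have hm2' : (2 : ℤ) ≤ m := by omega
      nlinarith [mul_le_mul hm2' (show 1 + 2 * ((q : ℤ) - 2) ≤ 1 + (k : ℤ) * ((q : ℤ) - 2) by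
        nlinarith) (by omega) (by omega)]
    rw [hm', one_mul] at h2e hae
    have hk3 : (3 : ℤ) ≤ k := by
      rcases eq_or_lt_of_le (show (2 : ℤ) ≤ k by omega) with hk2' | hk3
      · rw [← hk2'] at h2e; omega
      · omega
    have hq' : (q : ℤ) = 3 := by nlinarith
    rw [hq'] at h2e he3
    have hk4 : (k : ℤ) = 3 := by omega
    have hq3' : q = 3 := by exact_mod_cast hq'
    have ha₀ : a₀ = 2 := by omega
    have ha5 : a = 5 := by omega
    have hn10 : n = 10 := by
      rw [hk, hq3', show k = 3 from by exact_mod_cast hk4]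
    subst ha₀ ha5
    have hp3 : p = 3 := by
      have hdvd : p ∣ q := by
        obtain ⟨j, hj⟩ := P.2.exists_card_eq
        rcases Nat.eq_zero_or_pos j with rfl | hj0
        · rw [pow_zero] at hj; omega
        · rw [hq, hj]; exact dvd_pow_self p hj0.ne'
      rw [hq3'] at hdvd
      exact (Nat.prime_dvd_prime_iff_eq hp.out Nat.prime_three).mp hdvd
    have hz2 : z = 2 := by
      have hz2' : z ≤ 2 := hD.card_center
      by_contra hne
      have hz1 : z = 1 := by omega
      rw [← hz, hz1, one_mul] at hCx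
      rw [← hz, hz1, one_mul] at hNx
      set N := Subgroup.normalizer (C x : Set G)
      have hxC : x ∈ C x := mem_C.mpr rfl
      have hxinv : x⁻¹ = x := by
        have h2 : orderOf (⟨x, hxC⟩ : C x) ∣ 2 := hCx ▸ orderOf_dvd_natCard _
        have h3 : x * x = 1 := by
          rw [← pow_two]
          exact congrArg Subtype.val (orderOf_dvd_iff_pow_eq_one.mp h2)
        exact inv_eq_of_mul_eq_one_right h3
      have hle : N ≤ C x := fun g hg => by
        rcases hD.inverted x hx.1 hx.2 g hg with h2 | h2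
        · exact mem_C.mpr (mul_inv_eq_iff_eq_mul.mp h2)
        · rw [hxinv] at h2
          exact mem_C.mpr (mul_inv_eq_iff_eq_mul.mp h2)
      have := Subgroup.card_le_of_le hle
      omega
    have hh120 : h = 120 := by rw [← hn_h, hn10, hz2, hq3']
    have hA0card : A₀.ncard = 30 := by
      have h2 : (A₀.ncard : ℚ) / (h : ℚ) = 1 / 4 := by rw [hμ]; norm_num
      rw [hh120] at h2
      have h3 : (A₀.ncard : ℚ) = 30 := by
        push_cast at h2
        linarith
      exact_mod_cast h3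
    rw [← hz, hz2] at hCx hCy hNx
    refine ⟨hp3, hq3', hh120, hz2, fun w hw => ?_, x, hx, hCx, hNx, hA0card, fun w hw hw4 => ?_⟩
    all_goals
      obtain ⟨g, hg⟩ | ⟨g, hg⟩ | ⟨g, hg⟩ : w ∈ AU ∨ w ∈ A₀ ∨ w ∈ A₁ := by
        rcases hcov w hw with (h' | h') | h'
        exacts [Or.inl h', Or.inr (Or.inl h'), Or.inr (Or.inr h')]
    · refine Or.inr (Or.inl ?_)
      rw [← card_C_conj w g, C_eq_ZP hD (commute_P hD hP hzp) hg.1 hg.2, card_ZP hzp, ← hz, hz2,
        ← hq, hq3']
    · left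
      rw [← card_C_conj w g, C_eq_of_mem hD hx.1 hg.2 hg.1, hCx]
    · refine Or.inr (Or.inr ?_)
      rw [← card_C_conj w g, C_eq_of_mem hD hy hg.2 hg.1, hCy]
    · exfalso
      rw [← card_C_conj w g, C_eq_ZP hD (commute_P hD hP hzp) hg.1 hg.2, card_ZP hzp, ← hz, hz2,
        ← hq, hq3'] at hw4
      omega
    · exact ⟨g, hg⟩
    · exfalso
      rw [← card_C_conj w g, C_eq_of_mem hD hy hg.2 hg.1, hCy] at hw4
      omega

end CfsgLib.SL2.CA
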