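import Mathlib
import Cfsg.Agent.Lib.SL2.CAMain

/-!
The exceptional group of order `120` contains a subgroup of order `24` without a normal Sylow
`3`-subgroup.
-/

set_option autoImplicit false
set_option linter.style.haveILetI false

open scoped Pointwise

namespace CfsgLib.SL2.CA

variable {G : Type*} [Group G] [Finite G]

theorem exists_subgroup_24 {P : Sylow 3 G} (hD : Data P) (hG : Nat.card G = 120)
    (hz2 : Nat.card (Subgroup.center G) = 2)
    (hC : ∀ y : G, y ∉ Subgroup.center G →
      Nat.card (C y) = 4 ∨ Nat.card (C y) = 6 ∨ Nat.card (C y) = 10)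
    {x : G} (hx : x ∉ Subgroup.center G) (hx4 : Nat.card (C x) = 4)
    (hx8 : Nat.card (Subgroup.normalizer (C x : Set G)) = 8)
    (hx30 : (cover (nc (C x))).ncard = 30)
    (hcov : ∀ y : G, y ∉ Subgroup.center G → Nat.card (C y) = 4 → y ∈ cover (nc (C x))) :
    ∃ K : Subgroup G, Nat.card K = 24 ∧ ∀ R : Sylow 3 K, ¬ (R : Subgroup K).Normal := by
  classical
  set Z := Subgroup.center G with hZdef
  have hzdvd : Nat.card Z ∣ 4 := hx4 ▸ Subgroup.card_dvd_of_le (center_le_C x)
  have hN8 : ∀ y ∈ cover (nc (C x)), Nat.card (Subgroup.normalizer (C y : Set G)) = 8 := by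
    rintro y ⟨g, hg⟩
    have h1 : C (g⁻¹ * y * g) = C x := C_eq_of_mem hD hx hg.2 hg.1
    have h2 : C y = (C x).map (MulAut.conj g).toMonoidHom := by
      rw [← h1]
      ext w
      constructor
      · intro hw
        refine ⟨g⁻¹ * w * g, ?_, by simp [mul_assoc]⟩
        have := (mem_C_conj (g := g⁻¹)).mpr hw
        simpa using this
      · rintro ⟨w, hw, rfl⟩
        have := (mem_C_conj (g := g)).mpr hw
        rwa [show g * (g⁻¹ * y * g) * g⁻¹ = y by group] at this
    rw [h2, ← Subgroup.map_equiv_normalizer_eq, Subgroup.card_map_of_injective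
      (MulAut.conj g).injective]
    exact hx8
  haveI : Fact (Nat.Prime 2) := ⟨Nat.prime_two⟩
  have hT8 : ∀ T : Sylow 2 G, Nat.card T = 8 := by
    intro T
    have h8 : IsPGroup 2 (Subgroup.normalizer (C x : Set G)) := IsPGroup.of_card (n := 3) hx8
    obtain ⟨T₀, hT₀⟩ := h8.exists_le_sylow
    obtain ⟨g, rfl⟩ := MulAction.exists_smul_eq G T₀ T
    rw [show ((g • T₀ : Sylow 2 G) : Subgroup G)
      = (T₀ : Subgroup G).map (MulAut.conj g).toMonoidHom from rfl,
      Subgroup.card_map_of_injective (MulAut.conj g).injective]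
    obtain ⟨k, hk⟩ := T₀.2.exists_card_eq
    have h1 : 8 ≤ 2 ^ k := hk ▸ hx8 ▸ Subgroup.card_le_of_le hT₀
    have h2 : 2 ^ k ∣ 120 := hk ▸ hG ▸ Subgroup.card_subgroup_dvd_card _
    have hk3 : k = 3 := by
      refine le_antisymm ?_ ((Nat.pow_le_pow_iff_right (a := 2) (n := 3) one_lt_two).mp h1)
      by_contra hlt
      push Not at hlt
      exact absurd ((Nat.pow_dvd_pow 2 hlt).trans h2) (by norm_num)
    rw [hk, hk3]
    norm_num
  have hZT : ∀ T : Sylow 2 G, Z ≤ (T : Subgroup G) := by
    intro T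
    have hz : IsPGroup 2 Z := by
      obtain ⟨k, -, hk⟩ := (Nat.dvd_prime_pow Nat.prime_two).mp (show Nat.card Z ∣ 2 ^ 2 from hzdvd)
      exact IsPGroup.of_card hk
    exact le_sup_left.trans (T.3 (hz.to_sup_of_normal_left T.2) le_sup_right).le
  have hnc : ∀ T : Sylow 2 G, ∀ y ∈ (T : Subgroup G), y ∉ Z →
      Nat.card (C y) = 4 ∧ (T : Subgroup G) = Subgroup.normalizer (C y : Set G) := by
    intro T y hyT hyZ
    set W := C y ⊓ (T : Subgroup G) with hW
    have hZW : Z ≤ W := le_inf (center_le_C y) (hZT T)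
    have hyW : y ∈ W := ⟨mem_C.mpr rfl, hyT⟩
    have hWdvd : Nat.card W ∣ 8 := hT8 T ▸ Subgroup.card_dvd_of_le inf_le_right
    have hWdvd' : Nat.card W ∣ Nat.card (C y) := Subgroup.card_dvd_of_le inf_le_left
    have hW2 : 2 < Nat.card W := by
      rw [← hz2]
      exact Set.ncard_lt_ncard (lt_of_le_of_ne hZW fun h => hyZ (SetLike.ext_iff.mp
        (SetLike.coe_injective h) y |>.mpr hyW)) (Set.toFinite _)
    have hC4 : Nat.card (C y) = 4 := by
      rcases hC y hyZ with h | h | h
      · exact h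
      all_goals
        rw [h] at hWdvd'
        have := Nat.le_of_dvd (by norm_num) ((Nat.dvd_gcd hWdvd hWdvd').trans
          (show Nat.gcd 8 _ ∣ 2 by norm_num))
        omega
    refine ⟨hC4, ?_⟩
    have hWeq : W = C y := by
      refine Subgroup.eq_of_le_of_card_ge inf_le_left ?_
      rw [hC4] at hWdvd' ⊢
      have h4 := Nat.le_of_dvd (by norm_num) hWdvd'
      have : Nat.card W ≠ 3 := fun h => by rw [h] at hWdvd'; norm_num at hWdvd'
      omega
    have hCT : C y ≤ (T : Subgroup G) := hWeq ▸ inf_le_right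
    have hTN : (T : Subgroup G) ≤ Subgroup.normalizer (C y : Set G) := by
      haveI : ((C y).subgroupOf (T : Subgroup G)).Normal := by
        refine Subgroup.normal_of_index_eq_two ?_
        have h := Subgroup.relIndex_mul_relIndex ⊥ (C y) (T : Subgroup G) bot_le hCT
        rw [Subgroup.relIndex_bot_left, Subgroup.relIndex_bot_left, hT8, hC4] at h
        show (C y).relIndex (T : Subgroup G) = 2
        omega
      exact Subgroup.le_normalizer_of_normal_subgroupOf hCT
    exact Subgroup.eq_of_le_of_card_ge hTN (by rw [hN8 y (hcov y hyZ hC4), hT8])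
  have hsurj : ∀ y ∈ cover (nc (C x)), ∃ T : Sylow 2 G, y ∈ (T : Subgroup G) := by
    intro y hy
    obtain ⟨T, hT⟩ :=
      (IsPGroup.of_card (n := 3) (hN8 y hy) :
        IsPGroup 2 (Subgroup.normalizer (C y : Set G))).exists_le_sylow
    exact ⟨T, hT (Subgroup.le_normalizer (mem_C.mpr rfl))⟩
  have hnum : Nat.card (Sylow 2 G) * 6 = 30 := by
    haveI := Fintype.ofFinite (Sylow 2 G)
    have h6 : ∀ T : Sylow 2 G, Nat.card (nc (T : Subgroup G)) = 6 := fun T => by
      have h := card_nc (hZT T)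
      rw [hT8, ← hZdef, hz2] at h
      omega
    rw [← hx30, ← Nat.card_coe_set_eq]
    refine Eq.trans ?_ (Nat.card_congr (Equiv.ofBijective
      (fun w : (T : Sylow 2 G) × nc (T : Subgroup G) => (⟨w.2.1,
        hcov _ w.2.2.2 (hnc w.1 _ w.2.2.1 w.2.2.2).1⟩ : cover (nc (C x)))) ⟨?_, ?_⟩))
    · rw [Nat.card_sigma]
      simp only [h6, Finset.sum_const, Finset.card_univ, smul_eq_mul, Nat.card_eq_fintype_card]
    · rintro ⟨T, y, hy⟩ ⟨T', y', hy'⟩ h
      obtain rfl : y = y' := congrArg Subtype.val h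
      obtain rfl : T = T' := Sylow.ext ((hnc T y hy.1 hy.2).2.trans (hnc T' y hy'.1 hy'.2).2.symm)
      rfl
    · rintro ⟨y, hy⟩
      obtain ⟨T, hT⟩ := hsurj y hy
      obtain ⟨g, hg⟩ := hy
      exact ⟨⟨T, y, hT, fun h => hg.2 (by rwa [Subgroup.mem_center_iff.mp h g⁻¹,
        inv_mul_cancel_right])⟩, rfl⟩
  obtain ⟨T⟩ : Nonempty (Sylow 2 G) := inferInstance
  set K := Subgroup.normalizer ((T : Subgroup G) : Set G) with hK
  have hK24 : Nat.card K = 24 := by
    have h : Nat.card (Sylow 2 G) * Nat.card K = 120 := by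
      rw [Sylow.card_eq_index_normalizer T, ← hG]
      exact Subgroup.index_mul_card K
    rw [show Nat.card (Sylow 2 G) = 5 by omega] at h
    omega
  refine ⟨K, hK24, fun R hR => ?_⟩
  set R' := (R : Subgroup K).map K.subtype with hR'
  have hRcard : Nat.card R' = 3 := by
    rw [hR', Subgroup.card_map_of_injective K.subtype_injective, R.card_eq_multiplicity, hK24]
    have : (24 : ℕ).factorization 3 = 1 := by
      rw [show (24 : ℕ) = 3 * 8 by norm_num, Nat.factorization_mul (by norm_num) (by norm_num),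
        Finsupp.add_apply, Nat.Prime.factorization_self Nat.prime_three,
        Nat.factorization_eq_zero_of_not_dvd (by norm_num)]
    rw [this, pow_one]
  haveI : ((T : Subgroup G).subgroupOf K).Normal := Subgroup.normal_in_normalizer
  have hTle : (T : Subgroup G) ≤ K := Subgroup.le_normalizer
  have hdis : Disjoint (R : Subgroup K) ((T : Subgroup G).subgroupOf K) := by
    refine Subgroup.disjoint_of_coprime_natCard ?_
    rw [Nat.card_congr (Subgroup.subgroupOfEquivOfLe hTle).toEquiv, hT8,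
      ← Subgroup.card_map_of_injective K.subtype_injective, ← hR', hRcard]
    norm_num
  haveI : Nontrivial R' := Finite.one_lt_card_iff_nontrivial.mp (by omega)
  obtain ⟨⟨u, hu⟩, hu1⟩ := exists_ne (1 : R')
  have huZ : u ∉ Z := fun h => hu1 <| by
    have h3 : orderOf u ∣ 3 := hRcard ▸ Subgroup.orderOf_dvd_natCard _ hu
    have h2 : orderOf u ∣ 2 := hz2 ▸ Subgroup.orderOf_dvd_natCard _ h
    exact Subtype.ext (orderOf_eq_one_iff.mp (Nat.eq_one_of_dvd_coprimes (by norm_num) h3 h2))
  have hTC : (T : Subgroup G) ≤ C u := by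
    intro t ht
    obtain ⟨r, hr, rfl⟩ := hu
    have := Subgroup.commute_of_normal_of_disjoint (R : Subgroup K)
      ((T : Subgroup G).subgroupOf K) hR inferInstance hdis r ⟨t, hTle ht⟩ hr
      (Subgroup.mem_subgroupOf.mpr ht)
    exact mem_C.mpr (congrArg Subtype.val this.eq).symm
  have h8 : 8 ∣ Nat.card (C u) := hT8 T ▸ Subgroup.card_dvd_of_le hTC
  rcases hC u huZ with h | h | h <;> · rw [h] at h8; norm_num at h8

end CfsgLib.SL2.CA
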