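import Mathlib
import Cfsg.Agent.Lib.Classical.Card
import Cfsg.Agent.Lib.Classical.Transvection

set_option autoImplicit false

/-!
Sylow subgroups in the defining characteristic of `GL_2(q)` and `SL_2(q)`.
-/

namespace CfsgLib.SL2

open Matrix
open scoped MatrixGroups

variable {F : Type*} [Field F]

/-- `b ↦ [[1, b], [0, 1]]` in `SL_2`. -/
def upperHom : Multiplicative F →* SL(2, F) where
  toFun b := Matrix.SpecialLinearGroup.transvection (zero_ne_one : (0 : Fin 2) ≠ 1) b.toAdd
  map_one' := by simp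
  map_mul' a b := by rw [toAdd_mul, Matrix.SpecialLinearGroup.transvection_add]

theorem upperHom_coe (b : Multiplicative F) :
    (upperHom b : Matrix (Fin 2) (Fin 2) F) = !![1, b.toAdd; 0, 1] := by
  show Matrix.transvection (0 : Fin 2) 1 b.toAdd = _
  ext i j
  fin_cases i <;> fin_cases j <;> simp [Matrix.transvection]

theorem upperHom_injective : Function.Injective (upperHom (F := F)) := by
  intro a b h
  have := congrFun (congrFun (congrArg Subtype.val h) 0) 1
  rw [upperHom_coe, upperHom_coe] at this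
  simpa using this

/-- `b ↦ [[1, b], [0, 1]]` in `GL_2`. -/
def upperHomGL : Multiplicative F →* GL (Fin 2) F :=
  Matrix.SpecialLinearGroup.toGL.comp upperHom

theorem upperHomGL_coe (b : Multiplicative F) :
    (upperHomGL b : Matrix (Fin 2) (Fin 2) F) = !![1, b.toAdd; 0, 1] := upperHom_coe b

theorem upperHomGL_injective : Function.Injective (upperHomGL (F := F)) :=
  CfsgLib.Classical.toGL_injective'.comp upperHom_injective

/-- Conjugation of an upper unitriangular element. -/
theorem conj_upper (g : GL (Fin 2) F) (h10 : (g : Matrix (Fin 2) (Fin 2) F) 1 0 = 0)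
    (b : Multiplicative F) :
    g * upperHomGL b * g⁻¹ = upperHomGL (Multiplicative.ofAdd
      ((g : Matrix (Fin 2) (Fin 2) F) 0 0 * b.toAdd / (g : Matrix (Fin 2) (Fin 2) F) 1 1)) := by
  have hdet : IsUnit (g : Matrix (Fin 2) (Fin 2) F).det :=
    (Matrix.isUnit_iff_isUnit_det _).mp g.isUnit
  have h11 : (g : Matrix (Fin 2) (Fin 2) F) 1 1 ≠ 0 := by
    intro h
    rw [Matrix.det_fin_two, h10, h] at hdet
    simp at hdet
  rw [mul_inv_eq_iff_eq_mul]
  apply Units.ext
  rw [Units.val_mul, Units.val_mul, upperHomGL_coe, upperHomGL_coe, toAdd_ofAdd]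
  ext i j
  fin_cases i <;> fin_cases j <;> simp [Matrix.mul_apply, h10]
  field_simp
  ring

theorem apply_one_zero_of_conj (g : GL (Fin 2) F) {b c : Multiplicative F} (hb : b ≠ 1)
    (h : g * upperHomGL b * g⁻¹ = upperHomGL c) : (g : Matrix (Fin 2) (Fin 2) F) 1 0 = 0 := by
  rw [mul_inv_eq_iff_eq_mul] at h
  have h2 : ((g * upperHomGL b : GL (Fin 2) F) : Matrix (Fin 2) (Fin 2) F) 1 1 =
      ((upperHomGL c * g : GL (Fin 2) F) : Matrix (Fin 2) (Fin 2) F) 1 1 := by rw [h]
  rw [Units.val_mul, Units.val_mul, upperHomGL_coe, upperHomGL_coe] at h2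
  simp [Matrix.mul_apply] at h2
  exact h2.resolve_right hb

/-- The upper triangular subgroup of `GL_2`. -/
def borelGL : Subgroup (GL (Fin 2) F) where
  carrier := {g | (g : Matrix (Fin 2) (Fin 2) F) 1 0 = 0}
  one_mem' := by simp
  mul_mem' {g h} hg hh := by
    show ((g * h : GL (Fin 2) F) : Matrix (Fin 2) (Fin 2) F) 1 0 = 0
    rw [Units.val_mul, Matrix.mul_apply, Fin.sum_univ_two]
    rw [show (g : Matrix (Fin 2) (Fin 2) F) 1 0 = 0 from hg,
      show (h : Matrix (Fin 2) (Fin 2) F) 1 0 = 0 from hh]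
    simp
  inv_mem' {g} hg := by
    show ((g⁻¹ : GL (Fin 2) F) : Matrix (Fin 2) (Fin 2) F) 1 0 = 0
    rw [Matrix.coe_units_inv, Matrix.inv_def, Matrix.adjugate_fin_two]
    simp [show (g : Matrix (Fin 2) (Fin 2) F) 1 0 = 0 from hg]

theorem upper_mem_borelGL (b : Multiplicative F) : upperHomGL b ∈ borelGL := by
  show (upperHomGL b : Matrix (Fin 2) (Fin 2) F) 1 0 = 0
  rw [upperHomGL_coe]; rfl

theorem normalizer_upperGL [Finite F] :
    Subgroup.normalizer ((upperHomGL (F := F)).range : Set (GL (Fin 2) F)) = borelGL := by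
  apply le_antisymm
  · intro g hg
    obtain ⟨b, hb⟩ : ∃ b : Multiplicative F, b ≠ 1 := exists_ne 1
    obtain ⟨c, hc⟩ := (Subgroup.mem_normalizer_iff.mp hg (upperHomGL b)).mp ⟨b, rfl⟩
    exact apply_one_zero_of_conj g hb hc.symm
  · intro g hg
    rw [Subgroup.mem_normalizer_iff]
    intro x
    constructor
    · rintro ⟨b, rfl⟩
      exact ⟨_, (conj_upper g hg b).symm⟩
    · rintro ⟨c, hc⟩
      have hg' : (↑(g⁻¹) : Matrix (Fin 2) (Fin 2) F) 1 0 = 0 := borelGL.inv_mem hg
      refine ⟨_, (conj_upper g⁻¹ hg' c).symm.trans ?_⟩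
      rw [hc]
      group

theorem card_borelGL [Finite F] :
    Nat.card (borelGL (F := F)) = Nat.card F * (Nat.card F - 1) ^ 2 := by
  rw [← Nat.card_units, sq, ← Nat.card_prod, ← Nat.card_prod]
  have hdiag : ∀ g : borelGL (F := F),
      ((g : GL (Fin 2) F) : Matrix (Fin 2) (Fin 2) F) 0 0 ≠ 0 ∧
      ((g : GL (Fin 2) F) : Matrix (Fin 2) (Fin 2) F) 1 1 ≠ 0 := by
    intro g
    have hdet := ((Matrix.isUnit_iff_isUnit_det _).mp (g : GL (Fin 2) F).isUnit).ne_zero
    rw [Matrix.det_fin_two, show ((g : GL (Fin 2) F) : Matrix (Fin 2) (Fin 2) F) 1 0 = 0 from g.2,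
      mul_zero, sub_zero] at hdet
    exact mul_ne_zero_iff.mp hdet
  refine Nat.card_eq_of_bijective (fun g : borelGL (F := F) =>
    (((g : GL (Fin 2) F) : Matrix (Fin 2) (Fin 2) F) 0 1,
      Units.mk0 _ (hdiag g).1, Units.mk0 _ (hdiag g).2)) ⟨?_, ?_⟩
  · intro g h e
    simp only [Prod.mk.injEq, Units.mk0_inj] at e
    apply Subtype.ext
    apply Units.ext
    ext i j
    fin_cases i <;> fin_cases j
    · exact e.2.1
    · exact e.1
    · exact g.2.trans h.2.symm
    · exact e.2.2
  · rintro ⟨b, a, d⟩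
    have hu : IsUnit (!![(a : F), b; 0, (d : F)]).det := by
      rw [Matrix.det_fin_two_of]
      simp
    refine ⟨⟨Matrix.GeneralLinearGroup.mk'' _ hu, rfl⟩, ?_⟩
    simp only [Prod.mk.injEq]
    exact ⟨rfl, Units.ext rfl, Units.ext rfl⟩

theorem card_sylow_two_GL [Fintype F] (p : ℕ) [Fact p.Prime] [CharP F p]
    (P : Sylow p (GL (Fin 2) F)) : Nat.card P = Nat.card F := by
  rw [CfsgLib.Classical.card_sylow_GL p 2 P, Nat.card_eq_fintype_card]
  norm_num

theorem exists_conj_upperGL [Fintype F] (p : ℕ) [Fact p.Prime] [CharP F p]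
    (P : Sylow p (GL (Fin 2) F)) :
    ∃ g : GL (Fin 2) F, (P : Subgroup (GL (Fin 2) F)) =
      (upperHomGL (F := F)).range.map (MulAut.conj g).toMonoidHom := by
  have hc : Nat.card (upperHomGL (F := F)).range = p ^ (Nat.card (GL (Fin 2) F)).factorization p := by
    rw [← P.card_eq_multiplicity, card_sylow_two_GL p P,
      ← Nat.card_congr (MonoidHom.ofInjective upperHomGL_injective).toEquiv]
    exact Nat.card_congr Multiplicative.toAdd
  obtain ⟨g, hg⟩ := MulAction.exists_smul_eq (GL (Fin 2) F) (Sylow.ofCard _ hc) P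
  exact ⟨g, (congrArg Sylow.toSubgroup hg).symm⟩

theorem card_normalizer_sylow_GL [Fintype F] (p : ℕ) [Fact p.Prime] [CharP F p]
    (P : Sylow p (GL (Fin 2) F)) :
    Nat.card (Subgroup.normalizer ((P : Subgroup (GL (Fin 2) F)) : Set (GL (Fin 2) F))) =
      Nat.card F * (Nat.card F - 1) ^ 2 := by
  obtain ⟨g, hg⟩ := exists_conj_upperGL p P
  rw [hg, ← Subgroup.map_equiv_normalizer_eq, normalizer_upperGL, ← card_borelGL]
  exact (Nat.card_congr (borelGL.equivMapOfInjective _ (MulAut.conj g).injective).toEquiv).symm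

/-- The upper triangular subgroup of `SL_2`. -/
def borelSL : Subgroup SL(2, F) := (borelGL (F := F)).comap Matrix.SpecialLinearGroup.toGL

/-- A subgroup containing the upper root group and a conjugate of it by an element outside the
Borel subgroup is everything. -/
theorem eq_top_of_upper_and_conj (H : Subgroup SL(2, F)) (k : SL(2, F))
    (hk : (k : Matrix (Fin 2) (Fin 2) F) 1 0 ≠ 0) (hU : ∀ b, upperHom b ∈ H)
    (hkU : ∀ b, k * upperHom b * k⁻¹ ∈ H) : H = ⊤ := by
  set c := (k : Matrix (Fin 2) (Fin 2) F) 1 0 with hc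
  set a := (k : Matrix (Fin 2) (Fin 2) F) 0 0 with ha
  have hup : ∀ b : F, Matrix.SpecialLinearGroup.transvection (zero_ne_one : (0 : Fin 2) ≠ 1) b ∈ H :=
    fun b => hU (Multiplicative.ofAdd b)
  have hlow : ∀ d : F, Matrix.SpecialLinearGroup.transvection (one_ne_zero : (1 : Fin 2) ≠ 0) d ∈ H := by
    intro d
    set t := upperHom (Multiplicative.ofAdd (-(a / c))) with ht
    have hm := mul_mem (mul_mem (hU (Multiplicative.ofAdd (-(a / c))))
      (hkU (Multiplicative.ofAdd (-d / (c * c))))) (inv_mem (hU (Multiplicative.ofAdd (-(a / c)))))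
    have e : t * (k * upperHom (Multiplicative.ofAdd (-d / (c * c))) * k⁻¹) * t⁻¹ =
        Matrix.SpecialLinearGroup.transvection (one_ne_zero : (1 : Fin 2) ≠ 0) d := by
      rw [show t * (k * upperHom (Multiplicative.ofAdd (-d / (c * c))) * k⁻¹) * t⁻¹ =
        (t * k) * upperHom (Multiplicative.ofAdd (-d / (c * c))) * (t * k)⁻¹ by group,
        mul_inv_eq_iff_eq_mul]
      apply Subtype.ext
      simp only [Matrix.SpecialLinearGroup.coe_mul, ht, upperHom_coe, toAdd_ofAdd,
        Matrix.SpecialLinearGroup.transvection_coe]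
      have hdet := k.det_coe
      rw [Matrix.det_fin_two, ← ha, ← hc] at hdet
      rw [Matrix.eta_fin_two (k : Matrix (Fin 2) (Fin 2) F), ← ha, ← hc,
        show (1 : Matrix (Fin 2) (Fin 2) F) + Matrix.single 1 0 d = !![1, 0; d, 1] by
          ext i j; fin_cases i <;> fin_cases j <;> simp]
      simp only [Matrix.mul_fin_two]
      ext i j
      fin_cases i <;> fin_cases j <;> simp <;> field_simp <;>
        first
          | exact Or.inl trivial
          | exact Or.inl (by ring1)
          | exact Or.inr (by ring1)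
          | exact Or.inr trivial
          | ring1
          | linear_combination d * hdet
          | linear_combination -d * hdet
    rw [← e]
    exact hm
  rw [eq_top_iff]
  intro A _
  refine Matrix.SL2.transvection_induction (fun A => A ∈ H) (fun i j hij x => ?_)
    (fun _ _ => mul_mem) A
  fin_cases i <;> fin_cases j
  · exact absurd rfl hij
  · exact hup x
  · exact hlow x
  · exact absurd rfl hij

theorem exists_conj_upperSL [Fintype F] (p : ℕ) [Fact p.Prime] [CharP F p]
    (P : Sylow p SL(2, F)) :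
    ∃ g : SL(2, F), (P : Subgroup SL(2, F)) =
      (upperHom (F := F)).range.map (MulAut.conj g).toMonoidHom := by
  obtain ⟨f, -, hf⟩ := FiniteField.card F p
  have hq1 : 1 < Fintype.card F := Fintype.one_lt_card
  have hnd : ¬ p ∣ Fintype.card F ^ 2 - 1 := by
    intro h
    have h2 : p ∣ Fintype.card F ^ 2 :=
      dvd_pow (by rw [hf]; exact dvd_pow_self p f.pos.ne') two_ne_zero
    have h3 := Nat.dvd_sub h2 h
    rw [Nat.sub_sub_self (Nat.one_le_pow _ _ (by omega))] at h3
    exact (Fact.out : p.Prime).not_dvd_one h3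
  have hne : Fintype.card F ^ 2 - 1 ≠ 0 := by
    have := Nat.one_lt_pow two_ne_zero hq1
    omega
  have hc : Nat.card (upperHom (F := F)).range = p ^ (Nat.card SL(2, F)).factorization p := by
    rw [CfsgLib.Classical.card_SL_two, Nat.factorization_mul (by omega) hne, Finsupp.add_apply,
      Nat.factorization_eq_zero_of_not_dvd hnd, add_zero,
      ← Nat.card_congr (MonoidHom.ofInjective upperHom_injective).toEquiv,
      Nat.card_congr Multiplicative.toAdd, Nat.card_eq_fintype_card, hf, Nat.factorization_pow]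
    simp [(Fact.out : p.Prime).factorization_self]
  obtain ⟨g, hg⟩ := MulAction.exists_smul_eq SL(2, F) (Sylow.ofCard _ hc) P
  exact ⟨g, (congrArg Sylow.toSubgroup hg).symm⟩

end CfsgLib.SL2
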