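import Mathlib
import Cfsg.Agent.Lib.SL2.CAExceptional
import Cfsg.Agent.Lib.SL2.Torus
import Cfsg.Agent.Lib.SL2.Facts
import Cfsg.Agent.Lib.SL2.Unipotent

/-!
Dickson: a subgroup of `SL(2, F)` (odd characteristic `p`) with more than one Sylow `p`-subgroup
contains a conjugate of `SL(2, ZMod p)`.
-/

set_option autoImplicit false
set_option linter.style.haveILetI false

namespace CfsgLib.SL2

open Matrix
open scoped MatrixGroups Pointwise

variable {F : Type*} [Field F]

/-- `[[1, t], [0, 1]]`. -/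
def up (t : F) : SL(2, F) := upperHom (Multiplicative.ofAdd t)

/-- `[[1, 0], [t, 1]]`. -/
def lo (t : F) : SL(2, F) :=
  Matrix.SpecialLinearGroup.transvection (one_ne_zero : (1 : Fin 2) ≠ 0) t

theorem up_coe (t : F) : (up t : Matrix (Fin 2) (Fin 2) F) = !![1, t; 0, 1] := upperHom_coe _

theorem lo_coe (t : F) : (lo t : Matrix (Fin 2) (Fin 2) F) = !![1, 0; t, 1] := by
  show Matrix.transvection (1 : Fin 2) 0 t = _
  ext i j
  fin_cases i <;> fin_cases j <;> simp [Matrix.transvection]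

theorem up_add (a b : F) : up (a + b) = up a * up b := map_mul upperHom _ _

theorem up_zero : up (0 : F) = 1 := map_one upperHom

theorem up_neg (a : F) : up (-a) = (up a)⁻¹ := map_inv upperHom _

theorem ext2 {x y : SL(2, F)} (h00 : x.1 0 0 = y.1 0 0) (h01 : x.1 0 1 = y.1 0 1)
    (h10 : x.1 1 0 = y.1 1 0) (h11 : x.1 1 1 = y.1 1 1) : x = y := by
  apply Subtype.ext
  ext i j
  fin_cases i <;> fin_cases j <;> assumption

theorem inv_entries (x : SL(2, F)) :
    (x⁻¹).1 0 0 = x.1 1 1 ∧ (x⁻¹).1 0 1 = -x.1 0 1 ∧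
      (x⁻¹).1 1 0 = -x.1 1 0 ∧ (x⁻¹).1 1 1 = x.1 0 0 := by
  rw [Matrix.SpecialLinearGroup.coe_inv, Matrix.adjugate_fin_two]
  simp

theorem mul_entry (x y : SL(2, F)) (i j : Fin 2) :
    (x * y).1 i j = x.1 i 0 * y.1 0 j + x.1 i 1 * y.1 1 j := by
  rw [Matrix.SpecialLinearGroup.coe_mul, Matrix.mul_apply, Fin.sum_univ_two]

theorem det_eq (x : SL(2, F)) : x.1 0 0 * x.1 1 1 - x.1 0 1 * x.1 1 0 = 1 := by
  rw [← Matrix.det_fin_two, x.det_coe]

theorem eq_up_of_entries {x : SL(2, F)} (h10 : x.1 1 0 = 0) (h00 : x.1 0 0 = 1) :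
    x = up (x.1 0 1) := by
  have hd := det_eq x
  rw [h10, h00] at hd
  refine ext2 ?_ ?_ ?_ ?_ <;> rw [up_coe] <;> simp [h00, h10]
  linear_combination hd

theorem conj_up_entries (x : SL(2, F)) (t : F) :
    (x * up t * x⁻¹).1 1 0 = -(t * (x.1 1 0 * x.1 1 0)) ∧
      (x.1 1 0 = 0 → (x * up t * x⁻¹).1 0 0 = 1) := by
  obtain ⟨i00, i01, i10, i11⟩ := inv_entries x
  have hd := det_eq x
  refine ⟨?_, fun h => ?_⟩ <;>
    simp only [mul_entry, up_coe, i00, i10] <;> simp
  · ring
  · rw [h] at hd ⊢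
    linear_combination hd

/-- The upper unipotent part of a subgroup. -/
def upperPart (H : Subgroup SL(2, F)) : AddSubgroup F where
  carrier := {t | up t ∈ H}
  zero_mem' := by show up (0 : F) ∈ H; rw [up_zero]; exact one_mem H
  add_mem' := fun {a b} ha hb => by show up (a + b) ∈ H; rw [up_add]; exact mul_mem ha hb
  neg_mem' := fun {a} ha => by show up (-a) ∈ H; rw [up_neg]; exact inv_mem ha

theorem mem_upperPart {H : Subgroup SL(2, F)} {t : F} : t ∈ upperPart H ↔ up t ∈ H := Iff.rfl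

variable [Finite F] {p : ℕ} [hp : Fact p.Prime] [CharP F p]
variable {H : Subgroup SL(2, F)} {P : Sylow p H}

omit [Finite F] hp in
theorem up_pow (t : F) : up t ^ p = 1 := by
  rw [up, ← map_pow, ← ofAdd_nsmul, nsmul_eq_mul, CharP.cast_eq_zero, zero_mul]
  exact up_zero

omit [Finite F] in
theorem two_ne (hp2 : p ≠ 2) : (2 : F) ≠ 0 := by
  intro h
  have h' : ((2 : ℕ) : F) = 0 := by exact_mod_cast h
  exact hp2 ((Nat.prime_dvd_prime_iff_eq hp.out Nat.prime_two).mp
    ((CharP.cast_eq_zero_iff F p 2).mp h'))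

omit [Finite F] hp in
/-- An element of `H` of shape `up t` lies in the upper Sylow subgroup. -/
theorem mem_P_of_up (hP : ∀ x : H, x ∈ (P : Subgroup H) → ∃ t, (x : SL(2, F)) = up t) {x : H}
    {t : F} (hx : (x : SL(2, F)) = up t) : x ∈ (P : Subgroup H) := by
  let V : Subgroup H := ((upperHom (F := F)).range).comap H.subtype
  have hV : IsPGroup p V := by
    rintro ⟨v, w, hw⟩
    refine ⟨1, Subtype.ext (Subtype.ext ?_)⟩
    show (v : SL(2, F)) ^ p ^ 1 = 1
    rw [pow_one, show (v : SL(2, F)) = up w.toAdd from hw.symm, up_pow]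
  have hPV : (P : Subgroup H) ≤ V := fun y hy => by
    obtain ⟨s, hs⟩ := hP y hy
    exact ⟨_, hs.symm⟩
  exact (P.3 hV hPV).le ⟨_, hx.symm⟩

omit hp in
theorem mem_normalizer_P_iff (hP : ∀ x : H, x ∈ (P : Subgroup H) → ∃ t, (x : SL(2, F)) = up t)
    (hne : (P : Subgroup H) ≠ ⊥) (x : H) :
    x ∈ Subgroup.normalizer ((P : Subgroup H) : Set H) ↔ (x : SL(2, F)).1 1 0 = 0 := by
  rw [CA.mem_normalizer_iff_forall]
  constructor
  · intro h
    haveI : Nontrivial P := (Subgroup.nontrivial_iff_ne_bot _).mpr hne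
    obtain ⟨⟨u, hu⟩, hu1⟩ := exists_ne (1 : P)
    obtain ⟨t, ht⟩ := hP u hu
    obtain ⟨s, hs⟩ := hP _ (h u hu)
    have h1 := (conj_up_entries (x : SL(2, F)) t).1
    rw [← ht, show (x : SL(2, F)) * (u : SL(2, F)) * (x : SL(2, F))⁻¹ = up s from hs, up_coe] at h1
    simp at h1
    rcases h1 with h1 | h1
    · exact absurd (Subtype.ext (Subtype.ext (ht.trans (h1 ▸ up_zero)))) hu1
    · exact h1
  · intro h u hu
    obtain ⟨t, ht⟩ := hP u hu
    obtain ⟨h10, h00⟩ := conj_up_entries (x : SL(2, F)) t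
    refine mem_P_of_up hP (t := ((x : SL(2, F)) * up t * (x : SL(2, F))⁻¹).1 0 1) ?_
    show (x : SL(2, F)) * (u : SL(2, F)) * (x : SL(2, F))⁻¹ = _
    rw [ht]
    exact eq_up_of_entries (by rw [h10, h]; ring) (h00 h)

omit [Finite F] hp [CharP F p] in
theorem center_eq (hn : ¬ (P : Subgroup H).Normal) {x : H} (hx : x ∈ Subgroup.center H) :
    (x : SL(2, F)) = 1 ∨ (x : SL(2, F)) = -1 := by
  refine eq_one_or_eq_neg_one_of_mem_center _ ?_
  rw [mem_center_iff_not_nonScalar]
  intro hns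
  refine hn ⟨fun u hu g => ?_⟩
  have hmem : ∀ y : H, (y : SL(2, F)) ∈ cent (x : SL(2, F)) := fun y =>
    mem_cent_iff.mpr (congrArg Subtype.val (Subgroup.mem_center_iff.mp hx y)).symm
  have h : g * u * g⁻¹ = u := mul_inv_eq_iff_eq_mul.mpr
    (Subtype.ext (cent_comm hns (hmem g) (hmem u)))
  rwa [h]

omit [Finite F] hp [CharP F p] in
theorem notMem_center_iff (hn : ¬ (P : Subgroup H).Normal) (x : H) :
    x ∉ Subgroup.center H ↔ NonScalar (x : SL(2, F)).1 := by
  constructor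
  · intro h
    by_contra hns
    refine h (Subgroup.mem_center_iff.mpr fun y => Subtype.ext ?_)
    exact Subgroup.mem_center_iff.mp ((mem_center_iff_not_nonScalar _).mpr hns) (y : SL(2, F))
  · intro h hx
    refine (mem_center_iff_not_nonScalar _).mp ?_ h
    rcases center_eq hn hx with h1 | h1 <;> rw [h1]
    · exact one_mem _
    · exact neg_one_mem_center

omit [Finite F] in
/-- An element `± up t` of `H` lies in `Z ⊔ P`. -/
theorem mem_ZP_of_entries (hp2 : p ≠ 2)
    (hP : ∀ x : H, x ∈ (P : Subgroup H) → ∃ t, (x : SL(2, F)) = up t) {x : H}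
    (h10 : (x : SL(2, F)).1 1 0 = 0) (hd : (x : SL(2, F)).1 0 0 = (x : SL(2, F)).1 1 1) :
    x ∈ Subgroup.center H ⊔ (P : Subgroup H) := by
  have hdet := det_eq (x : SL(2, F))
  rw [h10, ← hd, mul_zero, sub_zero] at hdet
  rcases mul_self_eq_one_iff.mp hdet with h00 | h00
  · exact Subgroup.mem_sup_right (mem_P_of_up hP (eq_up_of_entries h10 h00))
  · have hneg : -(x : SL(2, F)) = up (-(x : SL(2, F)).1 0 1) := by
      refine eq_up_of_entries ?_ ?_ |>.trans ?_
      · simp [h10]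
      · simp [h00]
      · simp
    have hpow : (x : SL(2, F)) ^ p = -1 := by
      have h1 : (-(x : SL(2, F))) ^ p = 1 := by rw [hneg, up_pow]
      rw [(hp.out.odd_of_ne_two hp2).neg_pow] at h1
      exact neg_eq_iff_eq_neg.mp h1
    have hn1 : (-1 : SL(2, F)) ∈ H := hpow ▸ pow_mem x.2 p
    have hxeq : x = (⟨-1, hn1⟩ : H) * (⟨-1, hn1⟩ * x) := by
      apply Subtype.ext
      simp
    rw [hxeq]
    refine Subgroup.mul_mem_sup (Subgroup.mem_center_iff.mpr fun y => Subtype.ext ?_)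
      (mem_P_of_up hP (t := -(x : SL(2, F)).1 0 1) ?_)
    · show (y : SL(2, F)) * (-1) = (-1) * (y : SL(2, F))
      simp
    · show (-1 : SL(2, F)) * (x : SL(2, F)) = _
      rw [neg_one_mul, hneg]

/-- The hypotheses of the count hold. -/
theorem data (hp2 : p ≠ 2) (hn : ¬ (P : Subgroup H).Normal)
    (hP : ∀ x : H, x ∈ (P : Subgroup H) → ∃ t, (x : SL(2, F)) = up t) : CA.Data P where
  comm x hx y hy w hw := Subtype.ext (cent_comm ((notMem_center_iff hn x).mp hx)
    (mem_cent_iff.mpr (congrArg Subtype.val (CA.mem_C.mp hy)).symm)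
    (mem_cent_iff.mpr (congrArg Subtype.val (CA.mem_C.mp hw)).symm))
  card_center := by
    classical
    have h1 : (((↑) : H → SL(2, F)) '' (Subgroup.center H : Set H)) ⊆ {1, -1} := by
      rintro _ ⟨x, hx, rfl⟩
      exact center_eq hn hx
    have h2 := Set.ncard_le_ncard h1 (Set.toFinite _)
    rw [Set.ncard_image_of_injective _ Subtype.val_injective] at h2
    exact h2.trans ((Set.ncard_insert_le _ _).trans (by rw [Set.ncard_singleton]))
  cent u hu hu1 y hy := by
    obtain ⟨t, ht⟩ := hP u hu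
    have h := congrArg Subtype.val (CA.mem_C.mp hy)
    rw [Subgroup.coe_mul, Subgroup.coe_mul, ht] at h
    have ht0 : t ≠ 0 := fun h0 => hu1 (Subtype.ext (by rw [ht, h0, up_zero]; rfl))
    have e00 := congrFun (congrFun (congrArg Subtype.val h) 0) 0
    have e01 := congrFun (congrFun (congrArg Subtype.val h) 0) 1
    simp only [Matrix.SpecialLinearGroup.coe_mul, up_coe] at e00 e01
    simp [Matrix.mul_apply, Fin.sum_univ_two] at e00 e01
    refine mem_ZP_of_entries hp2 hP (e00.resolve_left ht0) ?_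
    have : t * ((y : SL(2, F)).1 0 0 - (y : SL(2, F)).1 1 1) = 0 := by linear_combination e01
    exact sub_eq_zero.mp ((mul_eq_zero.mp this).resolve_left ht0)
  inverted x hx hxP g hg := by
    have hns := (notMem_center_iff hn x).mp hx
    have hreg : Regular (x : SL(2, F)) := by
      by_contra hnr
      have hconj : ∀ y : H, (y : SL(2, F)) ^ p = 1 → ∃ g : H, g * y * g⁻¹ ∈ (P : Subgroup H) := by
        intro y hy
        have hpz : IsPGroup p (Subgroup.zpowers y) := by
          rintro ⟨w, hw⟩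
          obtain ⟨i, rfl⟩ := Subgroup.mem_zpowers_iff.mp hw
          refine ⟨1, Subtype.ext (?_ : (y ^ i) ^ p ^ 1 = 1)⟩
          rw [pow_one, ← zpow_natCast, ← _root_.zpow_mul, mul_comm, _root_.zpow_mul, zpow_natCast,
            show y ^ p = 1 from Subtype.ext hy, _root_.one_zpow]
        obtain ⟨Q, hQ⟩ := hpz.exists_le_sylow
        obtain ⟨g, hg⟩ := MulAction.exists_smul_eq H Q P
        exact ⟨g, hg ▸ ⟨y, hQ (Subgroup.mem_zpowers y), rfl⟩⟩
      rcases pow_char_of_not_regular hnr p with ⟨hpow, -⟩ | ⟨hpow, -⟩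
      · obtain ⟨g, hg⟩ := hconj x (Subtype.ext (by simpa using hpow))
        exact hxP g (Subgroup.mem_sup_right hg)
      · have hx' : (x : SL(2, F)) ^ p = -1 := by
          rw [← coe_eq_neg_one_iff, Matrix.SpecialLinearGroup.coe_pow]
          exact hpow
        have hn1 : (-1 : SL(2, F)) ∈ H := hx' ▸ pow_mem x.2 p
        have hzc : (⟨-1, hn1⟩ : H) ∈ Subgroup.center H := Subgroup.mem_center_iff.mpr fun y =>
          Subtype.ext (show (y : SL(2, F)) * (-1) = (-1) * (y : SL(2, F)) by simp)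
        obtain ⟨g, hg⟩ := hconj ((⟨-1, hn1⟩ : H) * x) (by
          show ((-1 : SL(2, F)) * (x : SL(2, F))) ^ p = 1
          rw [neg_one_mul, (hp.out.odd_of_ne_two hp2).neg_pow, hx', neg_neg])
        refine hxP g ?_
        have h2 : g * x * g⁻¹ = (⟨-1, hn1⟩ : H) * (g * ((⟨-1, hn1⟩ : H) * x) * g⁻¹) := by
          apply Subtype.ext
          simp
        rw [h2]
        exact Subgroup.mul_mem_sup hzc hg
    have hmem : g * x * g⁻¹ ∈ CA.C x :=
      (Subgroup.mem_normalizer_iff.mp hg x).mp (CA.mem_C.mpr rfl)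
    rcases eq_or_eq_inv_of_trace hreg
      (mem_cent_iff.mpr (congrArg Subtype.val (CA.mem_C.mp hmem)).symm)
      (show ((g : SL(2, F)) * (x : SL(2, F)) * (g : SL(2, F))⁻¹).1.trace = _ from trace_conj _ _)
      with h | h
    · exact Or.inl (Subtype.ext h)
    · exact Or.inr (Subtype.ext h)
  torus x hx hx' y hy := by
    have hne : (P : Subgroup H) ≠ ⊥ := fun h => hn (h ▸ inferInstance)
    have h10 := (mem_normalizer_P_iff hP hne x).mp hx
    have hd : (x : SL(2, F)).1 0 0 ≠ (x : SL(2, F)).1 1 1 := fun h =>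
      hx' (mem_ZP_of_entries hp2 hP h10 h)
    refine (mem_normalizer_P_iff hP hne y).mpr ?_
    have h' : (y : SL(2, F)) * (x : SL(2, F)) = (x : SL(2, F)) * (y : SL(2, F)) :=
      congrArg Subtype.val (CA.mem_C.mp hy)
    have h : ((y : SL(2, F)) * (x : SL(2, F))).1 1 0 = ((x : SL(2, F)) * (y : SL(2, F))).1 1 0 :=
      congrArg (fun z : SL(2, F) => z.1 1 0) h'
    simp only [mul_entry, h10] at h
    have h2 : (y : SL(2, F)).1 1 0 * ((x : SL(2, F)).1 0 0 - (x : SL(2, F)).1 1 1) = 0 := by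
      linear_combination h
    exact (mul_eq_zero.mp h2).resolve_right (sub_ne_zero.mpr hd)
  commutator x hx y hy := by
    have hne : (P : Subgroup H) ≠ ⊥ := fun h => hn (h ▸ inferInstance)
    have hx0 := (mem_normalizer_P_iff hP hne x).mp hx
    have hy0 := (mem_normalizer_P_iff hP hne y).mp hy
    have h10 := (mem_normalizer_P_iff hP hne (x * y * x⁻¹ * y⁻¹)).mp
      (mul_mem (mul_mem (mul_mem hx hy) (inv_mem hx)) (inv_mem hy))
    refine mem_P_of_up hP (eq_up_of_entries h10 ?_)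
    obtain ⟨a00, a01, a10, a11⟩ := inv_entries (x : SL(2, F))
    obtain ⟨b00, b01, b10, b11⟩ := inv_entries (y : SL(2, F))
    have hdx := det_eq (x : SL(2, F))
    have hdy := det_eq (y : SL(2, F))
    simp only [Subgroup.coe_mul, Subgroup.coe_inv, mul_entry, a00, a01, a10, a11, b00, b10,
      hx0, hy0]
    rw [hx0] at hdx
    rw [hy0] at hdy
    ring_nf at hdx hdy ⊢
    linear_combination (y : SL(2, F)).1 0 0 * (y : SL(2, F)).1 1 1 * hdx + hdy

/-- When there are `q + 1` Sylow subgroups the points `w₀₀ / w₁₀` form one coset of the upper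
part. -/
theorem points_sub (hp2 : p ≠ 2) (hn : ¬ (P : Subgroup H).Normal)
    (hP : ∀ x : H, x ∈ (P : Subgroup H) → ∃ t, (x : SL(2, F)) = up t)
    (hq : Nat.card (Sylow p H) = Nat.card P + 1) {w h : SL(2, F)} (hw : w ∈ H) (hh : h ∈ H)
    (hw0 : w.1 1 0 ≠ 0) (hh0 : h.1 1 0 ≠ 0) :
    w.1 0 0 / w.1 1 0 - h.1 0 0 / h.1 1 0 ∈ upperPart H := by
  classical
  have hne : (P : Subgroup H) ≠ ⊥ := fun h => hn (h ▸ inferInstance)
  have hD := data hp2 hn hP
  set hH : H := ⟨h, hh⟩
  set wH : H := ⟨w, hw⟩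
  have hQP : ∀ g : H, (g : SL(2, F)).1 1 0 ≠ 0 → g • P ≠ P := fun g hg he =>
    hg ((mem_normalizer_P_iff hP hne g).mp (Sylow.smul_eq_iff_mem_normalizer.mp he))
  set Q := hH • P with hQ
  have hQne : Q ≠ P := hQP hH hh0
  have hinj : Function.Injective fun u : (P : Subgroup H) => (u : H) • Q := by
    intro u v e
    have e' : ((v : H)⁻¹ * u) • Q = Q := by
      rw [mul_smul, show (u : H) • Q = (v : H) • Q from e, inv_smul_smul]
    have e'' : ((v : H)⁻¹ * u * hH) • P = hH • P := (mul_smul _ _ _).trans e'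
    have hm := Sylow.smul_eq_iff_mem_normalizer.mp
      ((mul_smul hH⁻¹ ((v : H)⁻¹ * u * hH) P).trans
        ((congrArg (hH⁻¹ • ·) e'').trans (inv_smul_smul hH P)))
    obtain ⟨t, ht⟩ := hP _ (mul_mem ((P : Subgroup H).inv_mem v.2) u.2)
    have h0 := (mem_normalizer_P_iff hP hne _).mp hm
    obtain ⟨i00, i01, i10, i11⟩ := inv_entries h
    simp only [Subgroup.coe_mul, Subgroup.coe_inv] at h0 ht
    rw [ht] at h0
    change (h⁻¹ * (up t * h)).1 1 0 = 0 at h0
    simp only [mul_entry, up_coe, i10, i11] at h0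
    simp at h0
    have h1 : t * (h.1 1 0 * h.1 1 0) = 0 := by linear_combination -h0
    rw [(mul_eq_zero.mp h1).resolve_right (mul_ne_zero hh0 hh0), up_zero] at ht
    exact Subtype.ext (inv_mul_eq_one.mp (Subtype.ext ht)).symm
  obtain ⟨u, hu⟩ : ∃ u : (P : Subgroup H), (u : H) • Q = wH • P := by
    have h1 : Set.range (fun u : (P : Subgroup H) => (u : H) • Q) ⊆ {P}ᶜ := by
      rintro _ ⟨u, rfl⟩ h2
      refine hQne ?_
      have h3 : (u : H)⁻¹ • P = P :=
        Sylow.smul_eq_iff_mem_normalizer.mpr (Subgroup.le_normalizer (inv_mem u.2))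
      rw [← inv_smul_smul (u : H) Q]
      exact (congrArg _ h2).trans h3
    have h2 : ({P}ᶜ : Set (Sylow p H)).ncard ≤
        (Set.range fun u : (P : Subgroup H) => (u : H) • Q).ncard := by
      rw [Set.ncard_compl, Set.ncard_singleton, hq, Set.ncard_range_of_injective hinj]
      simp
    exact (Set.eq_of_subset_of_ncard_le h1 h2 (Set.toFinite _)).ge (hQP wH hw0)
  obtain ⟨s, hs⟩ := hP u u.2
  rw [hQ, ← mul_smul] at hu
  have hm := Sylow.smul_eq_iff_mem_normalizer.mp (show (((u : H) * hH)⁻¹ * wH) • P = P by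
    rw [mul_smul, ← hu, inv_smul_smul])
  have h0 := (mem_normalizer_P_iff hP hne _).mp hm
  simp only [Subgroup.coe_mul, Subgroup.coe_inv, hs] at h0
  obtain ⟨i00, i01, i10, i11⟩ := inv_entries (up s * h)
  change ((up s * h)⁻¹ * w).1 1 0 = 0 at h0
  rw [mul_entry, i10, i11, mul_entry, mul_entry] at h0
  simp [up_coe] at h0
  have hsU : s ∈ upperPart H := mem_upperPart.mpr (hs ▸ (u : H).2)
  convert hsU using 1
  field_simp
  linear_combination -h0

end CfsgLib.SL2
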