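import Mathlib
import Cfsg.Agent.Lib.SL2.Dickson

/-!
A subgroup of `SL(2, F)` with more than one Sylow `p`-subgroup, `p` odd the characteristic,
contains a copy of `SL(2, ZMod p)`.
-/

set_option autoImplicit false
set_option linter.style.haveILetI false

namespace CfsgLib.SL2

open Matrix
open scoped MatrixGroups Pointwise

variable {F : Type*} [Field F] {p : ℕ} [hp : Fact p.Prime] [CharP F p]

/-- `[[a, b], [c, d]] ↦ [[a, t b], [c / t, d]]` from the prime field. -/
noncomputable def twistFun (t : F) (ht : t ≠ 0) (x : SL(2, ZMod p)) : SL(2, F) :=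
  ⟨!![ZMod.castHom (dvd_refl p) F (x.1 0 0), t * ZMod.castHom (dvd_refl p) F (x.1 0 1);
      ZMod.castHom (dvd_refl p) F (x.1 1 0) / t, ZMod.castHom (dvd_refl p) F (x.1 1 1)], by
    have h := congrArg (ZMod.castHom (dvd_refl p) F) (det_eq x)
    simp only [map_sub, map_mul, map_one] at h
    rw [Matrix.det_fin_two_of]
    field_simp
    linear_combination h⟩

theorem twistFun_coe (t : F) (ht : t ≠ 0) (x : SL(2, ZMod p)) :
    (twistFun t ht x).1 =
      !![ZMod.castHom (dvd_refl p) F (x.1 0 0), t * ZMod.castHom (dvd_refl p) F (x.1 0 1);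
        ZMod.castHom (dvd_refl p) F (x.1 1 0) / t, ZMod.castHom (dvd_refl p) F (x.1 1 1)] := rfl

theorem twistFun_mul (t : F) (ht : t ≠ 0) (x y : SL(2, ZMod p)) :
    twistFun t ht (x * y) = twistFun t ht x * twistFun t ht y := by
  apply ext2 <;> simp only [mul_entry, twistFun_coe] <;> simp <;> field_simp

/-- `twistFun` as a homomorphism. -/
noncomputable def twist (t : F) (ht : t ≠ 0) : SL(2, ZMod p) →* SL(2, F) where
  toFun := twistFun t ht
  map_one' := by apply ext2 <;> simp [twistFun_coe]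
  map_mul' := twistFun_mul t ht

theorem twist_coe (t : F) (ht : t ≠ 0) (x : SL(2, ZMod p)) :
    (twist t ht x).1 =
      !![ZMod.castHom (dvd_refl p) F (x.1 0 0), t * ZMod.castHom (dvd_refl p) F (x.1 0 1);
        ZMod.castHom (dvd_refl p) F (x.1 1 0) / t, ZMod.castHom (dvd_refl p) F (x.1 1 1)] := rfl

theorem twist_injective (t : F) (ht : t ≠ 0) :
    Function.Injective (twist (p := p) t ht) := by
  intro x y h
  have hi := (ZMod.castHom (dvd_refl p) F).injective
  have e : ∀ i j, (twist t ht x).1 i j = (twist t ht y).1 i j := fun i j => by rw [h]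
  refine ext2 (hi ?_) (hi ?_) (hi ?_) (hi ?_)
  · simpa [twist_coe] using e 0 0
  · have := e 0 1; simp [twist_coe] at this; exact this.resolve_right ht
  · have := e 1 0
    simpa [twist_coe, div_left_inj' ht] using this
  · simpa [twist_coe] using e 1 1

theorem twist_range_le {H : Subgroup SL(2, F)} {t : F} (ht : t ≠ 0) (hu : up t ∈ H)
    (hl : lo t⁻¹ ∈ H) : (twist (p := p) t ht).range ≤ H := by
  rintro _ ⟨x, rfl⟩
  refine Matrix.SL2.transvection_induction (fun x => twist t ht x ∈ H) (fun i j hij k => ?_)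
    (fun a b ha hb => by show twist t ht (a * b) ∈ H; rw [map_mul]; exact mul_mem ha hb) x
  obtain ⟨n, rfl⟩ := ZMod.natCast_zmod_surjective k
  induction n with
  | zero => simp
  | succ n ih =>
    show twist t ht _ ∈ H
    rw [Nat.cast_succ, Matrix.SpecialLinearGroup.transvection_add, map_mul]
    refine mul_mem ih ?_
    fin_cases i <;> fin_cases j
    · exact absurd rfl hij
    · show twist t ht (up (1 : ZMod p)) ∈ H
      convert hu using 1
      apply ext2 <;> simp [twist_coe, up_coe]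
    · show twist t ht (lo (1 : ZMod p)) ∈ H
      convert hl using 1
      apply ext2 <;> simp [twist_coe, lo_coe]
    · exact absurd rfl hij

variable [Finite F]

omit hp [CharP F p] in
theorem card_sylow_le_of_equiv {A B : Type*} [Group A] [Group B] [Finite A] [Finite B]
    [Fact p.Prime] (e : A ≃* B) : Nat.card (Sylow p A) ≤ Nat.card (Sylow p B) := by
  refine Nat.card_le_card_of_injective (fun Q => Q.mapSurjective (f := e.toMonoidHom) e.surjective)
    fun Q R h => Sylow.ext ?_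
  have h' := congrArg (fun S : Sylow p B => (S : Subgroup B)) h
  dsimp only at h'
  exact Subgroup.map_injective e.injective h'

/-- A subgroup with several Sylow subgroups is conjugate to one with an upper unitriangular
Sylow subgroup. -/
theorem exists_upper_conj (H : Subgroup SL(2, F)) (hn : 1 < Nat.card (Sylow p H)) :
    ∃ (g : SL(2, F)) (P : Sylow p ↥(H.map (MulAut.conj g).toMonoidHom)),
      ¬ (P : Subgroup ↥(H.map (MulAut.conj g).toMonoidHom)).Normal ∧
      ∀ x : ↥(H.map (MulAut.conj g).toMonoidHom),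
        x ∈ (P : Subgroup ↥(H.map (MulAut.conj g).toMonoidHom)) →
        ∃ t, (x : SL(2, F)) = up t := by
  classical
  haveI := Fintype.ofFinite F
  obtain ⟨P₀⟩ : Nonempty (Sylow p H) := inferInstance
  obtain ⟨Q, hQ⟩ := (P₀.2.map H.subtype).exists_le_sylow
  obtain ⟨k, hk⟩ := exists_conj_upperSL p Q
  let e := H.equivMapOfInjective (MulAut.conj k⁻¹).toMonoidHom (MulAut.conj k⁻¹).injective
  refine ⟨k⁻¹, P₀.mapSurjective (f := e.toMonoidHom) e.surjective, fun hN => ?_, ?_⟩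
  · haveI := Sylow.unique_of_normal (P₀.mapSurjective (f := e.toMonoidHom) e.surjective) hN
    have h1 := hn.trans_le (card_sylow_le_of_equiv (p := p) e)
    rw [Finite.one_lt_card_iff_nontrivial] at h1
    exact not_subsingleton _ (inferInstance :
      Subsingleton (Sylow p ↥(H.map (MulAut.conj k⁻¹).toMonoidHom)))
  · rintro _ ⟨u, hu, rfl⟩
    have h := hQ ⟨u, hu, rfl⟩
    rw [hk] at h
    obtain ⟨_, ⟨b, rfl⟩, hw⟩ := h
    refine ⟨b.toAdd, ?_⟩
    show k⁻¹ * (u : SL(2, F)) * k⁻¹⁻¹ = up b.toAdd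
    rw [show (u : SL(2, F)) = k * upperHom b * k⁻¹ from hw.symm, up, ofAdd_toAdd]
    group

/-- The core: `q + 1` Sylow subgroups. -/
theorem exists_twist {H : Subgroup SL(2, F)} {P : Sylow p H} (hp2 : p ≠ 2)
    (hn : ¬ (P : Subgroup H).Normal)
    (hP : ∀ x : H, x ∈ (P : Subgroup H) → ∃ t, (x : SL(2, F)) = up t)
    (hq : Nat.card (Sylow p H) = Nat.card P + 1) :
    ∃ (k : SL(2, F)) (t : F) (ht : t ≠ 0), ∀ x : SL(2, ZMod p), k * twist t ht x * k⁻¹ ∈ H := by
  have hne : (P : Subgroup H) ≠ ⊥ := fun h => hn (h ▸ inferInstance)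
  obtain ⟨h₀, hh₀, hh0⟩ : ∃ h ∈ H, h.1 1 0 ≠ 0 := by
    by_contra hc
    push Not at hc
    exact hn (Subgroup.normalizer_eq_top_iff.mp (eq_top_iff.mpr fun x _ =>
      (mem_normalizer_P_iff hP hne x).mpr (hc _ x.2)))
  set c := h₀.1 0 0 / h₀.1 1 0 with hc
  set H₂ := H.map (MulAut.conj (up (-c))).toMonoidHom with hH₂
  have hup : ∀ t, up t ∈ H → up t ∈ H₂ := fun t ht => ⟨up t, ht, by
    show up (-c) * up t * (up (-c))⁻¹ = up t
    rw [← up_neg, ← up_add, ← up_add, neg_neg, neg_add_cancel_comm]⟩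
  have hpt : ∀ w ∈ H₂, w.1 1 0 ≠ 0 → w.1 0 0 / w.1 1 0 ∈ upperPart H := by
    rintro _ ⟨w, hw, rfl⟩ hw0
    have e : (MulAut.conj (up (-c))).toMonoidHom w = up (-c) * w * up c := by
      show up (-c) * w * (up (-c))⁻¹ = _
      rw [← up_neg, neg_neg]
    have e10 : (up (-c) * w * up c).1 1 0 = w.1 1 0 := by
      simp only [mul_entry, up_coe]; simp
    have e00 : (up (-c) * w * up c).1 0 0 = w.1 0 0 - c * w.1 1 0 := by
      simp only [mul_entry, up_coe]; simp; ring
    rw [e, e10] at hw0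
    rw [e, e00, e10, sub_div, mul_div_assoc, div_self hw0, mul_one]
    exact points_sub hp2 hn hP hq hw hh₀ hw0 hh0
  set h₂ := (MulAut.conj (up (-c))).toMonoidHom h₀ with hh₂
  have hh₂m : h₂ ∈ H₂ := ⟨h₀, hh₀, rfl⟩
  have h200 : h₂.1 0 0 = 0 := by
    show (up (-c) * h₀ * (up (-c))⁻¹).1 0 0 = 0
    rw [← up_neg, neg_neg]
    simp only [mul_entry, up_coe]
    simp [hc]
    field_simp
    ring
  have h210 : h₂.1 1 0 ≠ 0 := by
    show (up (-c) * h₀ * (up (-c))⁻¹).1 1 0 ≠ 0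
    rw [← up_neg, neg_neg]
    simp only [mul_entry, up_coe]
    simpa using hh0
  obtain ⟨i00, i01, i10, i11⟩ := inv_entries h₂
  have hs₂ : -(h₂.1 1 1) / h₂.1 1 0 ∈ upperPart H := by
    have := hpt h₂⁻¹ (inv_mem hh₂m) (by rw [i10]; exact neg_ne_zero.mpr h210)
    rwa [i00, i10, div_neg, ← neg_div] at this
  set h₃ := h₂ * up (-(h₂.1 1 1) / h₂.1 1 0) with hh₃
  have hh₃m : h₃ ∈ H₂ := mul_mem hh₂m (hup _ hs₂)
  have h300 : h₃.1 0 0 = 0 := by simp [hh₃, mul_entry, up_coe, h200]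
  have h310 : h₃.1 1 0 = h₂.1 1 0 := by simp [hh₃, mul_entry, up_coe]
  have h311 : h₃.1 1 1 = 0 := by
    simp [hh₃, mul_entry, up_coe]
    field_simp
    ring
  have hdet := det_eq h₃
  rw [h300, h311, h310] at hdet
  set v := h₂.1 1 0 with hv
  haveI : Nontrivial P := (Subgroup.nontrivial_iff_ne_bot _).mpr hne
  obtain ⟨⟨u, hu⟩, hu1⟩ := exists_ne (1 : P)
  obtain ⟨t, ht⟩ := hP u hu
  have ht0 : t ≠ 0 := fun h0 => hu1 (Subtype.ext (Subtype.ext (ht.trans (h0 ▸ up_zero))))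
  have htH : up t ∈ H := ht ▸ u.2
  have h01 : h₃.1 0 1 = -v⁻¹ := by
    field_simp
    linear_combination -hdet
  set w := h₃ * up t * h₃ with hw
  have hw10 : w.1 1 0 = t * (v * v) := by
    simp [hw, mul_entry, up_coe, h300, h310, h311]; ring
  have hw00 : w.1 0 0 = -1 := by
    simp [hw, mul_entry, up_coe, h300, h310, h01, h210]
  have hsU : w.1 0 0 / w.1 1 0 ∈ upperPart H :=
    hpt w (mul_mem (mul_mem hh₃m (hup t htH)) hh₃m)
      (by rw [hw10]; exact mul_ne_zero ht0 (mul_ne_zero h210 h210))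
  have hlo : lo t⁻¹ ∈ H₂ := by
    have hm := mul_mem (mul_mem hh₃m (hup _ hsU)) (inv_mem hh₃m)
    obtain ⟨j00, j01, j10, j11⟩ := inv_entries h₃
    refine (?_ : h₃ * up (w.1 0 0 / w.1 1 0) * h₃⁻¹ = lo t⁻¹) ▸ hm
    rw [hw00, hw10]
    apply ext2 <;> simp only [mul_entry, up_coe, lo_coe, j00, j01, j10, j11, h300, h310, h311, h01]
      <;> simp [h210]
    field_simp
  refine ⟨up c, t, ht0, fun x => ?_⟩
  obtain ⟨y, hy, he⟩ := twist_range_le ht0 (hup t htH) hlo ⟨x, rfl⟩
  show up c * twist t ht0 x * (up c)⁻¹ ∈ H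
  rw [← he]
  show up c * (up (-c) * y * (up (-c))⁻¹) * (up c)⁻¹ ∈ H
  rwa [← up_neg, neg_neg, up_neg, show up c * ((up c)⁻¹ * y * up c) * (up c)⁻¹ = y by group]

/-- `SL(2, p)` inside, as a conjugate of a twisted copy. -/
theorem exists_conj_twist (hp2 : p ≠ 2) (H : Subgroup SL(2, F))
    (hn : 1 < Nat.card (Sylow p H)) :
    ∃ (k : SL(2, F)) (t : F) (ht : t ≠ 0), ∀ x : SL(2, ZMod p), k * twist t ht x * k⁻¹ ∈ H := by
  obtain ⟨g, P, hPn, hP⟩ := exists_upper_conj H hn
  have back : ∀ H' : Subgroup SL(2, F), H' ≤ H.map (MulAut.conj g).toMonoidHom →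
      (∃ (k : SL(2, F)) (t : F) (ht : t ≠ 0), ∀ x : SL(2, ZMod p), k * twist t ht x * k⁻¹ ∈ H') →
      ∃ (k : SL(2, F)) (t : F) (ht : t ≠ 0), ∀ x : SL(2, ZMod p), k * twist t ht x * k⁻¹ ∈ H := by
    rintro H' hle ⟨k, t, ht, hr⟩
    refine ⟨g⁻¹ * k, t, ht, fun x => ?_⟩
    obtain ⟨y, hy, he⟩ := hle (hr x)
    rw [show g⁻¹ * k * twist t ht x * (g⁻¹ * k)⁻¹ = g⁻¹ * (k * twist t ht x * k⁻¹) * g by group,
      ← he]
    simpa [mul_assoc] using hy
  rcases CA.dickson hp2 (data hp2 hPn hP) hPn with hq |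
    ⟨rfl, hq3, hG, hz, hC, x, hx, hx4, hx8, hx30, hcov⟩
  · exact back _ le_rfl (exists_twist hp2 hPn hP hq)
  · obtain ⟨K, hK, hKn⟩ :=
      CA.exists_subgroup_24 (data hp2 hPn hP) hG hz hC hx.1 hx4 hx8 hx30 hcov
    set K' := K.map (H.map (MulAut.conj g).toMonoidHom).subtype with hK'
    let e := K.equivMapOfInjective (H.map (MulAut.conj g).toMonoidHom).subtype
      (Subgroup.subtype_injective _)
    have hK'n : 1 < Nat.card (Sylow 3 K') := by
      refine lt_of_lt_of_le ?_ (card_sylow_le_of_equiv (p := 3) e)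
      rw [Finite.one_lt_card_iff_nontrivial, ← not_subsingleton_iff_nontrivial]
      intro hs
      obtain ⟨R⟩ : Nonempty (Sylow 3 K) := inferInstance
      exact hKn R (Sylow.normal_of_subsingleton R)
    obtain ⟨g', P', hP'n, hP'⟩ := exists_upper_conj K' hK'n
    rcases CA.dickson hp2 (data hp2 hP'n hP') hP'n with hq | ⟨-, -, hG', -⟩
    · obtain ⟨k, t, ht, hr⟩ := exists_twist hp2 hP'n hP' hq
      refine back K' (Subgroup.map_subtype_le K) ⟨g'⁻¹ * k, t, ht, fun y => ?_⟩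
      obtain ⟨w, hw, he⟩ := hr y
      rw [show g'⁻¹ * k * twist t ht y * (g'⁻¹ * k)⁻¹ = g'⁻¹ * (k * twist t ht y * k⁻¹) * g' by group,
        ← he]
      simpa [mul_assoc] using hw
    · rw [Subgroup.card_map_of_injective (MulAut.conj g').injective, hK',
        Subgroup.card_map_of_injective (Subgroup.subtype_injective _), hK] at hG'
      omega

/-- **Dickson**: `SL(2, p)` inside. -/
theorem exists_sl2_zmod (hp2 : p ≠ 2) (H : Subgroup SL(2, F))
    (hn : 1 < Nat.card (Sylow p H)) :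
    ∃ ψ : SL(2, ZMod p) →* SL(2, F), Function.Injective ψ ∧ ψ.range ≤ H := by
  obtain ⟨k, t, ht, h⟩ := exists_conj_twist hp2 H hn
  refine ⟨(MulAut.conj k).toMonoidHom.comp (twist t ht),
    (MulAut.conj k).injective.comp (twist_injective t ht), ?_⟩
  rintro _ ⟨x, rfl⟩
  exact h x

end CfsgLib.SL2
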