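import Mathlib
import Cfsg.Agent.Lib.SL2.CACount
import Cfsg.Agent.S0494

/-!
Census of a finite group that looks like a subgroup of `PSL(2, q)`: every non-trivial element is
either of order `p` with a `p`-group as centraliser, or lies in a unique maximal cyclic subgroup of
order prime to `p` and of index at most two in its normaliser.
-/

set_option autoImplicit false
set_option linter.unusedVariables false
set_option linter.unusedSectionVars false
set_option maxHeartbeats 1000000

namespace CfsgLib.SL2.Census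

open scoped Pointwise
open CfsgLib.SL2.CA (cover card_cover_mul conj_mem_cover subset_cover)

variable {G : Type*} [Group G]

/-- A non-trivial element of order prime to `p`. -/
def Semi (p : ℕ) (x : G) : Prop := x ≠ 1 ∧ ¬ p ∣ orderOf x

/-- The census hypotheses. -/
structure Data (p : ℕ) (M : G → Subgroup G) : Prop where
  cases : ∀ x : G, x ≠ 1 → orderOf x = p ∨ Semi p x
  mem : ∀ x, Semi p x → x ∈ M x
  cyclic : ∀ x, Semi p x → IsCyclic (M x)
  coprime : ∀ x, Semi p x → ¬ p ∣ Nat.card (M x)
  eq_of_mem : ∀ x y, Semi p x → y ∈ M x → y ≠ 1 → M y = M x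
  conj : ∀ x g, Semi p x → ∀ y, y ∈ M x → g * y * g⁻¹ ∈ M (g * x * g⁻¹)
  norm : ∀ x, Semi p x → (M x).relIndex (Subgroup.normalizer (M x : Set G)) ≤ 2
  unip : ∀ u y : G, orderOf u = p → Commute u y → y ^ p = 1
  borel : ∀ P : Sylow p G, (P : Subgroup G) ≠ ⊥ → ∀ x,
    x ∈ Subgroup.normalizer ((P : Subgroup G) : Set G) → Semi p x →
      M x ≤ Subgroup.normalizer ((P : Subgroup G) : Set G)
  borel_cyclic : ∀ P : Sylow p G, (P : Subgroup G) ≠ ⊥ → ∀ C : Subgroup G,
    C ≤ Subgroup.normalizer ((P : Subgroup G) : Set G) → ¬ p ∣ Nat.card C → IsCyclic C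

/-! ### Recognition -/

theorem nonempty_dihedral [Finite G] {C : Subgroup G} (hc : IsCyclic C) (hi : C.index = 2)
    (hout : ∀ h : G, h ∉ C → h * h = 1) : Nonempty (G ≃* DihedralGroup (Nat.card C)) := by
  obtain ⟨⟨c, hcC⟩, hgen⟩ := hc.exists_generator
  have hord : orderOf c = Nat.card C := by
    rw [← Subgroup.orderOf_mk c hcC]; exact orderOf_eq_card_of_forall_mem_zpowers hgen
  have hne : C ≠ ⊤ := fun h => by simp [h] at hi
  obtain ⟨h, hh⟩ := SetLike.exists_not_mem_of_ne_top C hne rfl
  have hinv : h⁻¹ = h := inv_eq_of_mul_eq_one_right (hout h hh)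
  have hflip : h * c * h = c⁻¹ := by
    refine (inv_eq_of_mul_eq_one_right ?_).symm
    calc c * (h * c * h) = (c * h) * (c * h) := by group
      _ = 1 := hout _ fun hm => hh (by simpa using C.mul_mem (C.inv_mem hcC) hm)
  set n := Nat.card C with hn
  have : NeZero n := ⟨Nat.card_pos.ne'⟩
  let z : ZMod n → G := fun i => c ^ i.val
  have z_add : ∀ i j, z (i + j) = z i * z j := fun i j => by
    simp only [z, ← pow_add]
    rw [pow_eq_pow_iff_modEq, hord, ZMod.val_add]
    exact Nat.mod_modEq _ _
  have z_zero : z 0 = 1 := by simp [z]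
  have z_neg : ∀ i, z (-i) = (z i)⁻¹ := fun i =>
    eq_inv_of_mul_eq_one_left (by rw [← z_add, neg_add_cancel, z_zero])
  have z_flip : ∀ i, h * z i * h = (z i)⁻¹ := fun i => by
    simp only [z, ← inv_pow, ← hflip]
    conv_rhs => rw [show h * c * h = h * c * h⁻¹ by rw [hinv]]
    rw [conj_pow, hinv]
  have hmove : ∀ i, z i * h = h * (z i)⁻¹ := fun i => by
    rw [← z_flip i]; simp [← mul_assoc, hout h hh]
  let f : DihedralGroup n → G := fun d => match d with
    | .r i => z i
    | .sr i => h * z i
  have f_mul : ∀ a b, f (a * b) = f a * f b := by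
    rintro (i | i) (j | j)
    · show z (i + j) = _
      exact z_add i j
    · show h * z (j - i) = z i * (h * z j)
      rw [← mul_assoc, hmove, sub_eq_add_neg, add_comm, z_add, z_neg, mul_assoc]
    · show h * z (i + j) = h * z i * z j
      rw [z_add, mul_assoc]
    · show z (j - i) = h * z i * (h * z j)
      rw [show h * z i * (h * z j) = h * (z i * h) * z j by group, hmove, ← mul_assoc, hout h hh,
        one_mul, sub_eq_add_neg, add_comm, z_add, z_neg]
  let φ : DihedralGroup n →* G := MonoidHom.mk' f f_mul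
  have hzC : ∀ i, z i ∈ C := fun i => C.pow_mem hcC _
  have hsurj : Function.Surjective φ := fun x => by
    have key : ∀ y ∈ C, ∃ i, z i = y := fun y hy => by
      obtain ⟨k, hk⟩ := Subgroup.mem_zpowers_iff.1 (hgen ⟨y, hy⟩)
      refine ⟨(k : ZMod n), ?_⟩
      have hk' : c ^ k = y := congrArg Subtype.val hk
      rw [← hk']
      show c ^ ((k : ZMod n)).val = c ^ k
      rw [← zpow_natCast, zpow_eq_zpow_iff_modEq, hord, ZMod.val_intCast]
      exact Int.mod_modEq _ _
    by_cases hx : x ∈ C
    · obtain ⟨i, hi⟩ := key x hx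
      exact ⟨.r i, hi⟩
    · obtain ⟨i, hi'⟩ := key (h * x) ((Subgroup.mul_mem_iff_of_index_two hi).2 (iff_of_false hh hx))
      exact ⟨.sr i, show h * z i = x by rw [hi', ← mul_assoc, hout h hh, one_mul]⟩
  refine ⟨(MulEquiv.ofBijective φ (hsurj.bijective_of_nat_card_le ?_)).symm⟩
  rw [DihedralGroup.nat_card, ← C.card_mul_index, hi, mul_comm]

theorem exists_perm_four [Finite G] {N : Subgroup G} (hi : N.index = 4) (hcore : N.normalCore = ⊥) :
    ∃ f : G →* Equiv.Perm (Fin 4), Function.Injective f := by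
  have e : G ⧸ N ≃ Fin 4 := Nat.equivFinOfCardPos (by rw [← Subgroup.index_eq_card, hi]; norm_num)
    |>.trans (finCongr (by rw [← Subgroup.index_eq_card, hi]))
  refine ⟨e.permCongrHom.toMonoidHom.comp (MulAction.toPermHom G (G ⧸ N)),
    e.permCongrHom.injective.comp ?_⟩
  rw [← MonoidHom.ker_eq_bot_iff, ← Subgroup.normalCore_eq_ker, hcore]

theorem nonempty_alternating_four [Finite G] (hG : Nat.card G = 12) {T : Subgroup G} (hT : Nat.card T = 3)
    (hN : Subgroup.normalizer (T : Set G) = T) : Nonempty (G ≃* alternatingGroup (Fin 4)) := by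
  have hi : T.index = 4 := by
    have := T.card_mul_index
    rw [hT, hG] at this
    omega
  have hcore : T.normalCore = ⊥ := by
    have hd := Subgroup.card_dvd_of_le T.normalCore_le
    rw [hT, Nat.dvd_prime Nat.prime_three] at hd
    rcases hd with h | h
    · exact Subgroup.eq_bot_of_card_eq _ h
    · have he : T.normalCore = T :=
        Subgroup.eq_of_le_of_card_ge T.normalCore_le (by rw [h, hT])
      have hn : T.Normal := he ▸ T.normalCore_normal
      rw [Subgroup.normalizer_eq_top] at hN
      rw [← hN, Subgroup.card_top, hG] at hT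
      omega
  obtain ⟨f, hf⟩ := exists_perm_four hi hcore
  have hr : f.range.index = 2 := by
    have h1 := f.range.card_mul_index
    rw [← Nat.card_congr (MonoidHom.ofInjective hf).toEquiv, hG, Nat.card_perm, Nat.card_fin] at h1
    have h2 : Nat.factorial 4 = 24 := by decide
    omega
  exact ⟨(MonoidHom.ofInjective hf).trans
    (MulEquiv.subgroupCongr (Equiv.Perm.eq_alternatingGroup_of_index_eq_two hr))⟩

theorem nonempty_perm_four [Finite G] (hG : Nat.card G = 24) {T : Subgroup G} (hT : Nat.card T = 3)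
    (hN : Nat.card (Subgroup.normalizer (T : Set G)) = 6)
    (hz : ∀ t ∈ Subgroup.center G, t = 1) : Nonempty (G ≃* Equiv.Perm (Fin 4)) := by
  set N := Subgroup.normalizer (T : Set G) with hNdef
  have hi : N.index = 4 := by
    have := N.card_mul_index
    rw [hN, hG] at this
    omega
  have hcore : N.normalCore = ⊥ := by
    set K := N.normalCore
    have hle : K ≤ N := N.normalCore_le
    have hd : Nat.card K ∣ 6 := hN ▸ Subgroup.card_dvd_of_le hle
    have : Fact (Nat.Prime 3) := ⟨Nat.prime_three⟩
    have h3 : ¬ 3 ∣ Nat.card K := by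
      intro h3
      obtain ⟨⟨x, hxK⟩, hx⟩ := exists_prime_orderOf_dvd_card' 3 h3
      rw [Subgroup.orderOf_mk] at hx
      -- `T` is the only subgroup of order three of `N`
      have key : ∀ y : G, y ∈ N → orderOf y = 3 → y ∈ T := by
        intro y hy hy3
        by_contra hyT
        have hTN : T ≤ N := Subgroup.le_normalizer
        let U := Subgroup.closure ((T : Set G) ∪ {y})
        have hU : U ≤ N := (Subgroup.closure_le _).2 (Set.union_subset hTN (Set.singleton_subset_iff.2 hy))
        have hTnorm : (T.subgroupOf N).Normal := Subgroup.normal_in_normalizer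
        have h' : orderOf (QuotientGroup.mk' (T.subgroupOf N) ⟨y, hy⟩) ∣ 3 := by
          rw [← hy3, ← Subgroup.orderOf_mk y hy]
          exact orderOf_map_dvd _ _
        have h2 : orderOf (QuotientGroup.mk' (T.subgroupOf N) ⟨y, hy⟩) ∣ 2 := by
          have hc : Nat.card (N ⧸ T.subgroupOf N) = 2 := by
            have := (T.subgroupOf N).card_eq_card_quotient_mul_card_subgroup
            rw [hN, Nat.card_congr (Subgroup.subgroupOfEquivOfLe hTN).toEquiv, hT] at this
            omega
          exact hc ▸ orderOf_dvd_natCard _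
        have h1 := Nat.dvd_gcd h' h2
        rw [show Nat.gcd 3 2 = 1 from rfl, Nat.dvd_one, orderOf_eq_one_iff, QuotientGroup.mk'_apply,
          QuotientGroup.eq_one_iff] at h1
        exact hyT h1
      have hxT := key x (hle hxK) hx
      have hTK : T ≤ K := by
        have hzx : Subgroup.zpowers x = T := Subgroup.eq_of_le_of_card_ge
          ((Subgroup.zpowers_le).2 hxT) (by rw [Nat.card_zpowers, hx, hT])
        rw [← hzx]
        exact (Subgroup.zpowers_le).2 hxK
      have hTn : T.Normal := ⟨fun t ht g => by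
        by_cases h1 : t = 1
        · simp [h1]
        refine key _ (hle (N.normalCore_normal.conj_mem t (hTK ht) g)) ?_
        rw [show g * t * g⁻¹ = MulAut.conj g t from rfl, MulEquiv.orderOf_eq]
        have h3' := Subgroup.orderOf_dvd_natCard T ht
        rw [hT, Nat.dvd_prime Nat.prime_three, orderOf_eq_one_iff] at h3'
        exact h3'.resolve_left h1⟩
      rw [hNdef, Subgroup.normalizer_eq_top, Subgroup.card_top, hG] at hN
      omega
    have hK2 : Nat.card K = 1 ∨ Nat.card K = 2 := by
      have := Nat.le_of_dvd (by norm_num) hd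
      interval_cases (Nat.card K) <;> simp_all
    rcases hK2 with h | h
    · exact Subgroup.eq_bot_of_card_eq _ h
    · rw [Subgroup.eq_bot_iff_forall]
      intro t ht
      refine hz t (Subgroup.mem_center_iff.2 fun g => ?_)
      by_cases h1 : t = 1
      · simp [h1]
      have hgt : g * t * g⁻¹ ∈ K := N.normalCore_normal.conj_mem t ht g
      have hcard : (K : Set G).ncard = 2 := h
      obtain ⟨a, b, hab, hK⟩ := Set.ncard_eq_two.1 hcard
      have h1K : (1 : G) ∈ (K : Set G) := K.one_mem
      have htK : t ∈ (K : Set G) := ht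
      have hgK : g * t * g⁻¹ ∈ (K : Set G) := hgt
      rw [hK] at h1K htK hgK
      have hne : g * t * g⁻¹ ≠ 1 := fun h => h1 (conj_eq_one_iff.1 h)
      have : g * t * g⁻¹ = t := by
        simp only [Set.mem_insert_iff, Set.mem_singleton_iff] at h1K htK hgK
        rcases h1K with e1 | e1 <;> rcases htK with e2 | e2 <;> rcases hgK with e3 | e3 <;> grind
      exact mul_inv_eq_iff_eq_mul.1 this
  obtain ⟨f, hf⟩ := exists_perm_four hi hcore
  refine ⟨MulEquiv.ofBijective f (hf.bijective_of_nat_card_le (le_of_eq ?_))⟩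
  rw [hG, Nat.card_perm, Nat.card_fin]
  decide

theorem nonempty_alternating_five [Finite G] (hG : Nat.card G = 60) {A B C : Set G}
    (hA : A.ncard = 15) (hB : B.ncard = 20) (hC : C.ncard = 24)
    (hAB : Disjoint A B) (hAC : Disjoint A C) (hBC : Disjoint B C)
    (hu : A ∪ B ∪ C = {x | x ≠ 1})
    (hcl : ∀ N : Subgroup G, N.Normal → ∀ S ∈ ({A, B, C} : Set (Set G)), ∀ x ∈ S, x ∈ N → S ⊆ N) :
    Nonempty (G ≃* alternatingGroup (Fin 5)) := by
  have : Nontrivial G := Finite.one_lt_card_iff_nontrivial.1 (by rw [hG]; norm_num)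
  have : IsSimpleGroup G := by
    refine ⟨fun N hN => ?_⟩
    have hd : Nat.card N ∣ 60 := hG ▸ N.card_subgroup_dvd_card
    have key : ∀ S ∈ ({A, B, C} : Set (Set G)),
        ((N : Set G) ∩ S).ncard = 0 ∨ ((N : Set G) ∩ S).ncard = S.ncard := by
      intro S hS
      by_cases h : ∃ x ∈ S, x ∈ N
      · obtain ⟨x, hx, hxN⟩ := h
        right
        rw [Set.inter_eq_right.2 (hcl N hN S hS x hx hxN)]
      · left
        rw [Set.ncard_eq_zero, Set.eq_empty_iff_forall_notMem]
        exact fun x hx => h ⟨x, hx.2, hx.1⟩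
    have hsum : Nat.card N = 1 + ((N : Set G) ∩ A).ncard + ((N : Set G) ∩ B).ncard
        + ((N : Set G) ∩ C).ncard := by
      have e : (N : Set G) = {1} ∪ (((N : Set G) ∩ A) ∪ ((N : Set G) ∩ B) ∪ ((N : Set G) ∩ C)) := by
        rw [← Set.inter_union_distrib_left, ← Set.inter_union_distrib_left, hu]
        ext x
        by_cases hx : x = 1 <;> simp [hx, N.one_mem]
      rw [← SetLike.coe_sort_coe, Nat.card_coe_set_eq]
      conv_lhs => rw [e]
      have h1 : ∀ S ∈ ({A, B, C} : Set (Set G)), (1 : G) ∉ S := by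
        intro S hS h
        have : (1 : G) ∈ A ∪ B ∪ C := by
          rcases hS with rfl | rfl | rfl
          · exact Or.inl (Or.inl h)
          · exact Or.inl (Or.inr h)
          · exact Or.inr h
        rw [hu] at this
        exact this rfl
      rw [Set.ncard_union_eq ?_, Set.ncard_singleton, Set.ncard_union_eq ?_, Set.ncard_union_eq ?_]
      · ring
      · exact hAB.mono Set.inter_subset_right Set.inter_subset_right
      · exact (Disjoint.union_left (hAC.mono Set.inter_subset_right Set.inter_subset_right)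
          (hBC.mono Set.inter_subset_right Set.inter_subset_right))
      · simp only [Set.disjoint_singleton_left, Set.mem_union, not_or]
        exact ⟨⟨fun h => h1 A (by simp) h.2, fun h => h1 B (by simp) h.2⟩, fun h => h1 C (by simp) h.2⟩
    rcases key A (by simp) with ha | ha <;> rcases key B (by simp) with hb | hb <;>
      rcases key C (by simp) with hc | hc <;> rw [ha, hb, hc] at hsum <;>
      (try simp only [hA, hB, hC] at hsum) <;> norm_num at hsum <;>
      first
        | exact Or.inl hsum
        | exact Or.inr hsum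
        | exact Or.inl (Subgroup.eq_bot_of_card_eq _ hsum)
        | exact Or.inr (Subgroup.eq_top_of_card_eq _ (hsum.trans hG.symm))
        | (rw [hsum] at hd; norm_num at hd)
  exact Cfsg.Agent.S0494.result hG

/-! ### Covers -/

variable [Finite G] {p : ℕ} [hp : Fact p.Prime] {M : G → Subgroup G}

/-- The order of the maximal cyclic subgroup of `x`. -/
noncomputable def ord (M : G → Subgroup G) (x : G) : ℕ := Nat.card (M x)

/-- Its index in the normaliser. -/
noncomputable def idx (M : G → Subgroup G) (x : G) : ℕ :=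
  (M x).relIndex (Subgroup.normalizer (M x : Set G))

/-- The elements with a conjugate in `M x`. -/
def orb (M : G → Subgroup G) (x : G) : Set G := cover ((M x : Set G) \ {1})

theorem semi_of_mem (hD : Data p M) {x y : G} (hx : Semi p x) (hy : y ∈ M x) (hy1 : y ≠ 1) :
    Semi p y :=
  ⟨hy1, fun h => hD.coprime x hx (h.trans (Subgroup.orderOf_dvd_natCard _ hy))⟩

theorem semi_conj {x : G} (hx : Semi p x) (g : G) : Semi p (g * x * g⁻¹) :=
  ⟨fun h => hx.1 (conj_eq_one_iff.1 h), by
    rw [show g * x * g⁻¹ = MulAut.conj g x from rfl, MulEquiv.orderOf_eq]; exact hx.2⟩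

theorem two_le_ord (hD : Data p M) {x : G} (hx : Semi p x) : 2 ≤ ord M x := by
  have : Nontrivial (M x) := ⟨⟨x, hD.mem x hx⟩, 1, fun h => hx.1 (congrArg Subtype.val h)⟩
  exact Finite.one_lt_card

theorem idx_cases (hD : Data p M) {x : G} (hx : Semi p x) : idx M x = 1 ∨ idx M x = 2 := by
  have h := hD.norm x hx
  have h0 : idx M x ≠ 0 := by
    unfold idx
    exact Subgroup.index_ne_zero_of_finite
  unfold idx at h0 ⊢
  omega

theorem card_normalizer_M (x : G) :
    Nat.card (Subgroup.normalizer (M x : Set G)) = idx M x * ord M x := by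
  have := ((M x).subgroupOf (Subgroup.normalizer (M x : Set G))).card_mul_index
  rw [Nat.card_congr (Subgroup.subgroupOfEquivOfLe Subgroup.le_normalizer).toEquiv] at this
  rw [← this, mul_comm]
  rfl

theorem mem_normalizer_M (hD : Data p M) {x g s : G} (hx : Semi p x)
    (hs : s ∈ M x) (hs1 : s ≠ 1) (hgs : g * s * g⁻¹ ∈ M x) :
    g ∈ Subgroup.normalizer (M x : Set G) := by
  rw [CA.mem_normalizer_iff_forall]
  intro y hy
  have h1 := hD.eq_of_mem x s hx hs hs1
  have h2 := hD.eq_of_mem x _ hx hgs (fun h => hs1 (conj_eq_one_iff.1 h))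
  rw [← h2]
  exact hD.conj s g (semi_of_mem hD hx hs hs1) y (h1 ▸ hy)

theorem ncard_orb (hD : Data p M) {x : G} (hx : Semi p x) :
    ((orb M x).ncard : ℚ) = Nat.card G * (((ord M x : ℚ) - 1) / (idx M x * ord M x)) := by
  have h := card_cover_mul ((M x : Set G) \ {1}) (Subgroup.normalizer (M x : Set G))
    (fun n hn s hs => ⟨(Subgroup.mem_normalizer_iff.1 hn s).1 hs.1,
      fun h => hs.2 (conj_eq_one_iff.1 h)⟩)
    (fun g s hs hgs => mem_normalizer_M hD hx hs.1 hs.2 hgs.1)
  rw [Nat.card_coe_set_eq, Nat.card_coe_set_eq, card_normalizer_M] at h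
  have h1 : ((M x : Set G) \ {1}).ncard + 1 = ord M x := by
    rw [← Set.ncard_singleton (1 : G), Set.ncard_sdiff_add_ncard_of_subset
      (Set.singleton_subset_iff.2 (M x).one_mem) (Set.toFinite _)]
    rfl
  have h' : ((orb M x).ncard : ℚ) * ((idx M x : ℚ) * ord M x) =
      Nat.card G * (((M x : Set G) \ {1}).ncard : ℚ) := by exact_mod_cast h
  have h1' : (((M x : Set G) \ {1}).ncard : ℚ) = (ord M x : ℚ) - 1 := by
    rw [eq_sub_iff_add_eq]; exact_mod_cast h1
  have hpos : (0 : ℚ) < (idx M x : ℚ) * ord M x := by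
    have h2 := two_le_ord hD hx
    rcases idx_cases hD hx with e | e <;> rw [e] <;> positivity
  rw [mul_div_assoc', eq_div_iff hpos.ne', h', h1']

theorem mem_orb_self (hD : Data p M) {x : G} (hx : Semi p x) : x ∈ orb M x :=
  subset_cover ⟨hD.mem x hx, hx.1⟩

theorem semi_of_mem_orb (hD : Data p M) {x w : G} (hx : Semi p x) (hw : w ∈ orb M x) : Semi p w := by
  obtain ⟨g, hg⟩ := hw
  have := semi_conj (semi_of_mem hD hx hg.1 hg.2) g
  rwa [show g * (g⁻¹ * w * g) * g⁻¹ = w by group] at this

theorem orb_subset (hD : Data p M) {x : G} (hx : Semi p x) : orb M x ⊆ {w | w ≠ 1} :=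
  fun _ hw => (semi_of_mem_orb hD hx hw).1

theorem disjoint_orb (hD : Data p M) {x y : G} (hx : Semi p x) (hy : Semi p y) (h : y ∉ orb M x) :
    Disjoint (orb M x) (orb M y) := by
  rw [Set.disjoint_left]
  rintro w ⟨g, hg⟩ ⟨k, hk⟩
  refine h ⟨k⁻¹ * g, ?_, fun h1 => hy.1 ?_⟩
  · have h1 : M (g⁻¹ * w * g) = M x := hD.eq_of_mem x _ hx hg.1 hg.2
    have h2 : M (k⁻¹ * w * k) = M y := hD.eq_of_mem y _ hy hk.1 hk.2
    have hs := semi_of_mem hD hy hk.1 hk.2
    have h3 := hD.conj _ (g⁻¹ * k) hs y (h2.symm ▸ hD.mem y hy)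
    rw [show g⁻¹ * k * (k⁻¹ * w * k) * (g⁻¹ * k)⁻¹ = g⁻¹ * w * g by group, h1] at h3
    rwa [show (k⁻¹ * g)⁻¹ * y * (k⁻¹ * g) = g⁻¹ * k * y * (g⁻¹ * k)⁻¹ by group]
  · rw [show (k⁻¹ * g)⁻¹ * y * (k⁻¹ * g) = (g⁻¹ * k) * y * (g⁻¹ * k)⁻¹ by group,
      Set.mem_singleton_iff] at h1
    exact conj_eq_one_iff.1 h1

/-- A normal `M x` has index at most two. -/
theorem index_le_two_of_normal (hD : Data p M) {x : G} (hx : Semi p x) (h : (M x).Normal) :
    (M x).index ≤ 2 := by
  have := hD.norm x hx
  rwa [Subgroup.normalizer_eq_top, Subgroup.relIndex_top_right] at this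

theorem card_le_of_central (hD : Data p M) {x : G} (hx : Semi p x) (hc : x ∈ Subgroup.center G) :
    Nat.card G ≤ 2 * ord M x := by
  have hn : (M x).Normal := ⟨fun y hy g => by
    have := hD.conj x g hx y hy
    rwa [Subgroup.mem_center_iff.1 hc g, mul_inv_cancel_right] at this⟩
  have h1 := index_le_two_of_normal hD hx hn
  rw [← (M x).card_mul_index, mul_comm]
  exact Nat.mul_le_mul_right _ h1

theorem orb_subset_normal (hD : Data p M) {x : G} (hx : Semi p x) (hpr : (ord M x).Prime)
    (N : Subgroup G) (hN : N.Normal) {w : G} (hw : w ∈ orb M x) (hwN : w ∈ N) :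
    orb M x ⊆ N := by
  obtain ⟨g, hg⟩ := hw
  have hs : g⁻¹ * w * g ∈ N := by simpa using hN.conj_mem w hwN g⁻¹
  have hle : M x ≤ N := by
    have hz : Subgroup.zpowers (g⁻¹ * w * g) = M x := Subgroup.eq_of_le_of_card_ge
      (Subgroup.zpowers_le.2 hg.1) (by
        rw [Nat.card_zpowers]
        rcases (Nat.dvd_prime hpr).1 (Subgroup.orderOf_dvd_natCard (M x) hg.1) with h | h
        · exact absurd (orderOf_eq_one_iff.1 h) hg.2
        · exact le_of_eq h.symm)
    rw [← hz]
    exact Subgroup.zpowers_le.2 hs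
  rintro v ⟨k, hk⟩
  have := hN.conj_mem _ (hle hk.1) k
  rwa [show k * (k⁻¹ * v * k) * k⁻¹ = v by group] at this

/-- The conclusion of the dihedral case. -/
theorem dihedral_of_index (hD : Data p M) {x : G} (hx : Semi p x)
    (hidx : idx M x = 2) (hG : Nat.card G = 2 * ord M x)
    (hout : ∀ w : G, w ≠ 1 → w ∉ orb M x → w * w = 1) :
    ∃ c : G, Semi p c ∧ Nonempty (G ≃* DihedralGroup (orderOf c)) := by
  have hi : (M x).index = 2 := by
    have h1 := (M x).card_mul_index
    have h2 := two_le_ord hD hx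
    rw [hG, mul_comm 2] at h1
    exact Nat.eq_of_mul_eq_mul_left (by omega : 0 < ord M x) h1
  have hn : (M x).Normal := Subgroup.normal_of_index_eq_two hi
  obtain ⟨⟨c, hc⟩, hgen⟩ := (hD.cyclic x hx).exists_generator
  have hord : orderOf c = Nat.card (M x) := by
    rw [← Subgroup.orderOf_mk c hc]; exact orderOf_eq_card_of_forall_mem_zpowers hgen
  refine ⟨c, semi_of_mem hD hx hc ?_, hord ▸ nonempty_dihedral (hD.cyclic x hx) hi fun h hh => ?_⟩
  · intro h1
    rw [h1, orderOf_one] at hord
    have := two_le_ord hD hx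
    unfold ord at this
    omega
  · refine hout h (fun h1 => hh (h1 ▸ (M x).one_mem)) fun ⟨g, hg⟩ => hh ?_
    have := hn.conj_mem _ hg.1 g
    rwa [show g * (g⁻¹ * h * g) * g⁻¹ = h by group] at this

theorem mul_self_of_mem_orb (hD : Data p M) {x w : G} (h2 : ord M x = 2)
    (hw : w ∈ orb M x) : w * w = 1 := by
  obtain ⟨g, hg⟩ := hw
  have h := orderOf_dvd_iff_pow_eq_one.1 (h2 ▸ Subgroup.orderOf_dvd_natCard (M x) hg.1 :
    orderOf (g⁻¹ * w * g) ∣ 2)
  have e : g⁻¹ * (w * w) * g = 1 := by rw [← h, pow_two]; group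
  calc w * w = g * (g⁻¹ * (w * w) * g) * g⁻¹ := by group
    _ = 1 := by rw [e]; group

/-! ### The tame case -/

/-- The possible shapes in the tame case. -/
def TameShape (G : Type*) [Group G] (p : ℕ) : Prop :=
  IsCyclic G ∨ (∃ c : G, Semi p c ∧ Nonempty (G ≃* DihedralGroup (orderOf c))) ∨
    Nonempty (G ≃* alternatingGroup (Fin 4)) ∨ Nonempty (G ≃* Equiv.Perm (Fin 4)) ∨
    Nonempty (G ≃* alternatingGroup (Fin 5))

theorem tame_three (hD : Data p M) {x y z : G} (hx : Semi p x) (hy : Semi p y) (hz : Semi p z)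
    (fx : idx M x = 2) (fy : idx M y = 2) (fz : idx M z = 2)
    (hxy : Disjoint (orb M x) (orb M y)) (hxz : Disjoint (orb M x) (orb M z))
    (hyz : Disjoint (orb M y) (orb M z))
    (hu : orb M x ∪ orb M y ∪ orb M z = {w | w ≠ 1}) (a2 : ord M x = 2) :
    TameShape G p := by
  have hgpos : (0 : ℚ) < Nat.card G := by exact_mod_cast Nat.card_pos
  have htot : ((orb M x ∪ orb M y ∪ orb M z).ncard : ℚ) = (Nat.card G : ℚ) - 1 := by
    rw [hu, eq_sub_iff_add_eq, show {w : G | w ≠ 1} = ({1} : Set G)ᶜ from rfl]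
    have := Set.ncard_add_ncard_compl ({1} : Set G)
    rw [Set.ncard_singleton, add_comm] at this
    exact_mod_cast this
  rw [Set.ncard_union_eq (Disjoint.union_left hxz hyz), Set.ncard_union_eq hxy, Nat.cast_add,
    Nat.cast_add, ncard_orb hD hx, ncard_orb hD hy, ncard_orb hD hz, fx, fy, fz, a2] at htot
  have hb := two_le_ord hD hy
  have hc := two_le_ord hD hz
  have hb0 : (ord M y : ℚ) ≠ 0 := by exact_mod_cast (by omega : ord M y ≠ 0)
  have hc0 : (ord M z : ℚ) ≠ 0 := by exact_mod_cast (by omega : ord M z ≠ 0)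
  have key : Nat.card G * (2 * (ord M y + ord M z)) =
      Nat.card G * (ord M y * ord M z) + 4 * (ord M y * ord M z) := by
    have : (Nat.card G : ℚ) * (2 * (ord M y + ord M z)) =
        Nat.card G * (ord M y * ord M z) + 4 * (ord M y * ord M z) := by
      field_simp at htot
      push_cast at htot
      linear_combination -htot
    exact_mod_cast this
  have hsmall : (ord M y = 2 ∨ ord M y = 3) ∨ (ord M z = 2 ∨ ord M z = 3) := by
    by_contra hh
    have h4 : 4 ≤ ord M y ∧ 4 ≤ ord M z := by omega
    have h5 : 2 * (ord M y + ord M z) ≤ ord M y * ord M z := by nlinarith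
    have h6 := Nat.mul_le_mul_left (Nat.card G) h5
    have h7 : 0 < ord M y * ord M z := by positivity
    omega
  have two : ∀ y z : G, Semi p z → idx M z = 2 → ord M y = 2 →
      Nat.card G * (2 * (ord M y + ord M z)) = Nat.card G * (ord M y * ord M z) + 4 * (ord M y * ord M z) →
      orb M x ∪ orb M y ∪ orb M z = {w | w ≠ 1} → TameShape G p := by
    intro y z hz fz b2 key hu
    rw [b2] at key
    refine Or.inr (Or.inl (dihedral_of_index hD hz fz (by nlinarith) fun w hw hwz => ?_))
    have hw' : w ∈ orb M x ∪ orb M y ∪ orb M z := hu.symm ▸ hw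
    rcases hw' with (h | h) | h
    · exact mul_self_of_mem_orb hD a2 h
    · exact mul_self_of_mem_orb hD b2 h
    · exact absurd h hwz
  have three : ∀ y z : G, Semi p y → Semi p z → idx M y = 2 → idx M z = 2 → ord M y = 3 →
      Disjoint (orb M x) (orb M y) → Disjoint (orb M x) (orb M z) → Disjoint (orb M y) (orb M z) →
      Nat.card G * (2 * (ord M y + ord M z)) = Nat.card G * (ord M y * ord M z) + 4 * (ord M y * ord M z) →
      orb M x ∪ orb M y ∪ orb M z = {w | w ≠ 1} → TameShape G p := by
    intro y z hy hz fy fz b3 hxy hxz hyz key hu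
    have hc := two_le_ord hD hz
    rw [b3] at key
    have hc6 : ord M z < 6 := by
      by_contra h6
      have h5 : Nat.card G * (2 * (3 + ord M z)) ≤ Nat.card G * (3 * ord M z) :=
        Nat.mul_le_mul_left _ (by omega)
      linarith
    have hcase : ord M z = 2 ∨ ord M z = 3 ∨ ord M z = 4 ∨ ord M z = 5 := by omega
    rcases hcase with h | h | h | h
    · refine two z y hy fy h ?_ ?_
      · rw [h] at key ⊢; rw [b3]; omega
      · rw [Set.union_right_comm]; exact hu
    · rw [h] at key
      have hG : Nat.card G = 12 := by omega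
      have : Fact (Nat.Prime 3) := ⟨Nat.prime_three⟩
      have syl : ∀ w, ord M w = 3 → ∃ P : Sylow 3 G, (P : Subgroup G) = M w := fun w hw => by
        refine ⟨Sylow.ofCard (M w) ?_, rfl⟩
        show ord M w = _
        rw [hw, hG, show (12 : ℕ) = 3 * 4 by norm_num, Nat.factorization_mul (by norm_num) (by norm_num),
          Finsupp.add_apply, Nat.prime_three.factorization_self,
          Nat.factorization_eq_zero_of_not_dvd (by norm_num : ¬ 3 ∣ 4), add_zero, pow_one]
      obtain ⟨P, hP⟩ := syl y b3
      obtain ⟨Q, hQ⟩ := syl z h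
      obtain ⟨g, hg⟩ := MulAction.exists_smul_eq G P Q
      have hm : g * y * g⁻¹ ∈ M z := by
        rw [← hQ, ← hg]
        show g * y * g⁻¹ ∈ (MulAut.conj g • (P : Subgroup G))
        exact Subgroup.smul_mem_pointwise_smul _ _ _ (hP.symm ▸ hD.mem y hy)
      have hy' : y ∈ orb M z := ⟨g⁻¹, by
        refine ⟨by simpa using hm, fun h1 => hy.1 ?_⟩
        rw [Set.mem_singleton_iff, inv_inv] at h1
        exact conj_eq_one_iff.1 h1⟩
      exact absurd hy' (Set.disjoint_left.1 hyz (mem_orb_self hD hy))
    · rw [h] at key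
      have hG : Nat.card G = 24 := by omega
      refine Or.inr (Or.inr (Or.inr (Or.inl (nonempty_perm_four hG b3 ?_ fun t ht => ?_))))
      · rw [card_normalizer_M, fy, b3]
      · by_contra ht1
        have hts : Semi p t := by
          have ht' : t ∈ orb M x ∪ orb M y ∪ orb M z := hu.symm ▸ ht1
          rcases ht' with (h' | h') | h'
          exacts [semi_of_mem_orb hD hx h', semi_of_mem_orb hD hy h', semi_of_mem_orb hD hz h']
        have h1 := card_le_of_central hD hts ht
        have ht' : t ∈ orb M x ∪ orb M y ∪ orb M z := hu.symm ▸ ht1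
        have hsame : ∀ w, Semi p w → t ∈ orb M w → ord M t = ord M w := fun w hw ⟨g, hg⟩ => by
          rw [Subgroup.mem_center_iff.1 ht g⁻¹, mul_assoc, inv_mul_cancel, mul_one] at hg
          unfold ord
          rw [hD.eq_of_mem w t hw hg.1 hg.2]
        rcases ht' with (h' | h') | h'
        · rw [hsame x hx h', a2] at h1; omega
        · rw [hsame y hy h', b3] at h1; omega
        · rw [hsame z hz h', h] at h1; omega
    · rw [h] at key
      have hG : Nat.card G = 60 := by omega
      have card_orb : ∀ w n, Semi p w → idx M w = 2 → ord M w = n → 2 * n * (orb M w).ncard = 60 * (n - 1) := by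
        intro w n hw fw hn
        have h' := ncard_orb hD hw
        have := two_le_ord hD hw
        rw [fw, hn, hG] at h'
        rw [hn] at this
        have hn0 : (n : ℚ) ≠ 0 := by exact_mod_cast (by omega : n ≠ 0)
        have : ((2 * n * (orb M w).ncard : ℕ) : ℚ) = ((60 * (n - 1) : ℕ) : ℚ) := by
          push_cast [Nat.cast_sub (by omega : 1 ≤ n)]
          rw [h']
          field_simp
          push_cast
          ring
        exact_mod_cast this
      refine Or.inr (Or.inr (Or.inr (Or.inr (nonempty_alternating_five hG (A := orb M x) (B := orb M y)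
        (C := orb M z) ?_ ?_ ?_ hxy hxz hyz hu fun N hN S hS w hw hwN => ?_))))
      · have := card_orb x 2 hx fx a2; omega
      · have := card_orb y 3 hy fy b3; omega
      · have := card_orb z 5 hz fz h; omega
      · rcases hS with rfl | rfl | rfl
        · exact orb_subset_normal hD hx (a2 ▸ Nat.prime_two) N hN hw hwN
        · exact orb_subset_normal hD hy (b3 ▸ Nat.prime_three) N hN hw hwN
        · exact orb_subset_normal hD hz (h ▸ (by norm_num : Nat.Prime 5)) N hN hw hwN
  have hu' : orb M x ∪ orb M z ∪ orb M y = {w | w ≠ 1} := by rw [Set.union_right_comm]; exact hu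
  have key' : Nat.card G * (2 * (ord M z + ord M y)) =
      Nat.card G * (ord M z * ord M y) + 4 * (ord M z * ord M y) := by
    rw [add_comm (ord M z), mul_comm (ord M z)]; exact key
  rcases hsmall with (h | h) | (h | h)
  · exact two y z hz fz h key hu
  · exact three y z hy hz fy fz h hxy hxz hyz key hu
  · exact two z y hy fy h key' hu'
  · exact three z y hz hy fz fy h hxz hxy hyz.symm key' hu'

theorem term_bounds (hD : Data p M) {x : G} (hx : Semi p x) :
    (Nat.card G : ℚ) / 4 ≤ ((orb M x).ncard : ℚ) ∧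
      (idx M x = 1 → (Nat.card G : ℚ) / 2 ≤ ((orb M x).ncard : ℚ)) := by
  have hgpos : (0 : ℚ) < Nat.card G := by exact_mod_cast Nat.card_pos
  have h2 : (2 : ℚ) ≤ ord M x := by exact_mod_cast two_le_ord hD hx
  rw [ncard_orb hD hx]
  constructor
  · rw [div_eq_mul_inv]
    refine mul_le_mul_of_nonneg_left ?_ hgpos.le
    rcases idx_cases hD hx with e | e <;> rw [e, le_div_iff₀ (by positivity)] <;> push_cast <;> linarith
  · intro e
    rw [div_eq_mul_inv, e]
    refine mul_le_mul_of_nonneg_left ?_ hgpos.le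
    rw [le_div_iff₀ (by positivity)]
    push_cast
    linarith

theorem tame (hD : Data p M) (hp' : ¬ p ∣ Nat.card G) : TameShape G p := by
  have hsemi : ∀ x : G, x ≠ 1 → Semi p x := fun x hx =>
    ⟨hx, fun h => hp' (h.trans (orderOf_dvd_natCard x))⟩
  rcases subsingleton_or_nontrivial G with hG | hG
  · exact Or.inl inferInstance
  obtain ⟨x, hx1⟩ := exists_ne (1 : G)
  have hx := hsemi x hx1
  have hgpos : (0 : ℚ) < Nat.card G := by exact_mod_cast Nat.card_pos
  have htot : ({w : G | w ≠ 1}.ncard : ℚ) = (Nat.card G : ℚ) - 1 := by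
    rw [eq_sub_iff_add_eq, show {w : G | w ≠ 1} = ({1} : Set G)ᶜ from rfl]
    have := Set.ncard_add_ncard_compl ({1} : Set G)
    rw [Set.ncard_singleton, add_comm] at this
    exact_mod_cast this
  by_cases h1 : orb M x = {w | w ≠ 1}
  · -- cyclic
    left
    have h := ncard_orb hD hx
    rw [h1, htot] at h
    have he2 := two_le_ord hD hx
    have he0 : (ord M x : ℚ) ≠ 0 := by exact_mod_cast (by omega : ord M x ≠ 0)
    rcases idx_cases hD hx with e | e <;> rw [e] at h
    · have hGe : Nat.card G = ord M x := by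
        have : (Nat.card G : ℚ) = ord M x := by
          field_simp at h
          push_cast at h
          linear_combination h
        exact_mod_cast this
      have htop : M x = ⊤ := Subgroup.eq_top_of_card_eq _ hGe.symm
      have := hD.cyclic x hx
      rw [htop] at this
      exact Subgroup.topEquiv.isCyclic.1 this
    · exfalso
      have h' : (Nat.card G : ℚ) * ord M x + Nat.card G = 2 * ord M x := by
        field_simp at h
        push_cast at h
        linear_combination h
      have h'' : Nat.card G * ord M x + Nat.card G = 2 * ord M x := by exact_mod_cast h'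
      have := Finite.one_lt_card (α := G)
      nlinarith
  obtain ⟨y, hy1, hy'⟩ := Set.exists_of_ssubset ((orb_subset hD hx).ssubset_of_ne h1)
  have hy := hsemi y hy1
  have dxy := disjoint_orb hD hx hy hy'
  have hsub2 : orb M x ∪ orb M y ⊆ {w | w ≠ 1} := Set.union_subset (orb_subset hD hx) (orb_subset hD hy)
  by_cases h2 : orb M x ∪ orb M y = {w | w ≠ 1}
  · have two : ∀ x y : G, Semi p x → Semi p y → idx M x = 1 → idx M y = 2 →
        Disjoint (orb M x) (orb M y) → orb M x ∪ orb M y = {w | w ≠ 1} → TameShape G p := by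
      intro x y hx hy fx fy dxy h2
      have h : ((orb M x ∪ orb M y).ncard : ℚ) = (Nat.card G : ℚ) - 1 := by rw [h2, htot]
      rw [Set.ncard_union_eq dxy, Nat.cast_add, ncard_orb hD hx, ncard_orb hD hy, fx, fy] at h
      have ha := two_le_ord hD hx
      have hb := two_le_ord hD hy
      have ha0 : (ord M x : ℚ) ≠ 0 := by exact_mod_cast (by omega : ord M x ≠ 0)
      have hb0 : (ord M y : ℚ) ≠ 0 := by exact_mod_cast (by omega : ord M y ≠ 0)
      have key : Nat.card G * (2 * ord M y + ord M x) =
          Nat.card G * (ord M x * ord M y) + 2 * (ord M x * ord M y) := by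
        have : (Nat.card G : ℚ) * (2 * ord M y + ord M x) =
            Nat.card G * (ord M x * ord M y) + 2 * (ord M x * ord M y) := by
          field_simp at h
          push_cast at h
          linear_combination -h
        exact_mod_cast this
      have ha4 : ord M x < 4 := by
        by_contra h4
        have h5 : Nat.card G * (2 * ord M y + ord M x) ≤ Nat.card G * (ord M x * ord M y) :=
          Nat.mul_le_mul_left _ (by nlinarith)
        have : 0 < ord M x * ord M y := by positivity
        omega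
      have hcase : ord M x = 2 ∨ ord M x = 3 := by omega
      rcases hcase with h' | h'
      · rw [h'] at key
        refine Or.inr (Or.inl (dihedral_of_index hD hy fy (by nlinarith) fun w hw hwy => ?_))
        have hw' : w ∈ orb M x ∪ orb M y := h2.symm ▸ hw
        exact mul_self_of_mem_orb hD h' (hw'.resolve_right hwy)
      · rw [h'] at key
        have hb3 : ord M y = 2 := by
          by_contra hne
          have h5 : Nat.card G * (2 * ord M y + 3) ≤ Nat.card G * (3 * ord M y) :=
            Nat.mul_le_mul_left _ (by omega)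
          omega
        rw [hb3] at key
        have hG12 : Nat.card G = 12 := by omega
        refine Or.inr (Or.inr (Or.inl (nonempty_alternating_four hG12 h' ?_)))
        refine (Subgroup.eq_of_le_of_card_ge Subgroup.le_normalizer ?_).symm
        rw [card_normalizer_M, fx, one_mul]
        rfl
    rcases idx_cases hD hx with fx | fx <;> rcases idx_cases hD hy with fy | fy
    · exfalso
      have h : ((orb M x ∪ orb M y).ncard : ℚ) = (Nat.card G : ℚ) - 1 := by rw [h2, htot]
      rw [Set.ncard_union_eq dxy, Nat.cast_add] at h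
      linarith [(term_bounds hD hx).2 fx, (term_bounds hD hy).2 fy]
    · exact two x y hx hy fx fy dxy h2
    · exact two y x hy hx fy fx dxy.symm (Set.union_comm _ _ ▸ h2)
    · exfalso
      have h : ((orb M x ∪ orb M y).ncard : ℚ) = (Nat.card G : ℚ) - 1 := by rw [h2, htot]
      rw [Set.ncard_union_eq dxy, Nat.cast_add, ncard_orb hD hx, ncard_orb hD hy, fx, fy] at h
      have ha := two_le_ord hD hx
      have hb := two_le_ord hD hy
      have ha0 : (ord M x : ℚ) ≠ 0 := by exact_mod_cast (by omega : ord M x ≠ 0)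
      have hb0 : (ord M y : ℚ) ≠ 0 := by exact_mod_cast (by omega : ord M y ≠ 0)
      have key : Nat.card G * (ord M x + ord M y) = 2 * (ord M x * ord M y) := by
        have : (Nat.card G : ℚ) * (ord M x + ord M y) = 2 * (ord M x * ord M y) := by
          field_simp at h
          push_cast at h
          linear_combination -h
        exact_mod_cast this
      have hdvd : 2 * ord M x ∣ Nat.card G := by
        rw [← fx, ← card_normalizer_M]
        exact Subgroup.card_subgroup_dvd_card _
      have := Nat.le_of_dvd Nat.card_pos hdvd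
      nlinarith
  obtain ⟨z, hz1, hz'⟩ := Set.exists_of_ssubset (hsub2.ssubset_of_ne h2)
  rw [Set.mem_union, not_or] at hz'
  have hz := hsemi z hz1
  have dxz := disjoint_orb hD hx hz hz'.1
  have dyz := disjoint_orb hD hy hz hz'.2
  have hsub3 : orb M x ∪ orb M y ∪ orb M z ⊆ {w | w ≠ 1} := Set.union_subset hsub2 (orb_subset hD hz)
  have hle : ∀ S : Set G, S ⊆ {w | w ≠ 1} → (S.ncard : ℚ) ≤ (Nat.card G : ℚ) - 1 := fun S hS =>
    htot ▸ Nat.cast_le.2 (Set.ncard_le_ncard hS (Set.toFinite _))
  have h3 : orb M x ∪ orb M y ∪ orb M z = {w | w ≠ 1} := by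
    by_contra h3
    obtain ⟨t, ht1, ht'⟩ := Set.exists_of_ssubset (hsub3.ssubset_of_ne h3)
    simp only [Set.mem_union, not_or] at ht'
    have ht := hsemi t ht1
    have := hle (orb M x ∪ orb M y ∪ orb M z ∪ orb M t) (Set.union_subset hsub3 (orb_subset hD ht))
    rw [Set.ncard_union_eq (Disjoint.union_left (Disjoint.union_left (disjoint_orb hD hx ht ht'.1.1)
      (disjoint_orb hD hy ht ht'.1.2)) (disjoint_orb hD hz ht ht'.2)),
      Set.ncard_union_eq (Disjoint.union_left dxz dyz), Set.ncard_union_eq dxy] at this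
    push_cast at this
    linarith [(term_bounds hD hx).1, (term_bounds hD hy).1, (term_bounds hD hz).1, (term_bounds hD ht).1]
  have hsum : ((orb M x).ncard : ℚ) + (orb M y).ncard + (orb M z).ncard = (Nat.card G : ℚ) - 1 := by
    rw [← htot, ← h3, Set.ncard_union_eq (Disjoint.union_left dxz dyz), Set.ncard_union_eq dxy]
    push_cast; rfl
  have fx : idx M x = 2 := (idx_cases hD hx).resolve_left fun e => by
    linarith [(term_bounds hD hx).2 e, (term_bounds hD hy).1, (term_bounds hD hz).1]
  have fy : idx M y = 2 := (idx_cases hD hy).resolve_left fun e => by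
    linarith [(term_bounds hD hy).2 e, (term_bounds hD hx).1, (term_bounds hD hz).1]
  have fz : idx M z = 2 := (idx_cases hD hz).resolve_left fun e => by
    linarith [(term_bounds hD hz).2 e, (term_bounds hD hy).1, (term_bounds hD hx).1]
  by_cases ax : ord M x = 2
  · exact tame_three hD hx hy hz fx fy fz dxy dxz dyz h3 ax
  by_cases ay : ord M y = 2
  · exact tame_three hD hy hx hz fy fx fz dxy.symm dyz dxz (by rw [Set.union_comm (orb M y)]; exact h3) ay
  by_cases az : ord M z = 2
  · exact tame_three hD hz hx hy fz fx fy dxz.symm dyz.symm dxy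
      (by rw [← h3, Set.union_assoc, Set.union_comm]) az
  exfalso
  have big : ∀ w, Semi p w → idx M w = 2 → ord M w ≠ 2 → (Nat.card G : ℚ) / 3 ≤ (orb M w).ncard := by
    intro w hw fw aw
    have h3' : (3 : ℚ) ≤ ord M w := by
      have := two_le_ord hD hw
      exact_mod_cast (by omega : 3 ≤ ord M w)
    rw [ncard_orb hD hw, fw, div_eq_mul_inv]
    refine mul_le_mul_of_nonneg_left ?_ hgpos.le
    rw [le_div_iff₀ (by positivity)]
    push_cast
    linarith
  linarith [big x hx fx ax, big y hy fy ay, big z hz fz az]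

/-! ### The wild case -/

theorem orderOf_of_mem_sylow (hD : Data p M) (P : Sylow p G) {u : G} (hu : u ∈ (P : Subgroup G))
    (hu1 : u ≠ 1) : orderOf u = p := by
  refine (hD.cases u hu1).resolve_right fun h => h.2 ?_
  obtain ⟨k, hk⟩ := P.2.exists_orderOf_dvd_pow ⟨u, hu⟩
  obtain ⟨i, -, hi⟩ := (Nat.dvd_prime_pow hp.out).1 hk
  rw [Subgroup.orderOf_mk] at hi
  rcases Nat.eq_zero_or_pos i with rfl | hi0
  · exact absurd (orderOf_eq_one_iff.1 (by simpa using hi)) hu1
  · rw [hi]; exact dvd_pow_self p hi0.ne'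

theorem isMulCommutative_sylow_aux (hD : Data p M) (P Q : Sylow p G) {u : G} (hu : u ∈ (P : Subgroup G))
    (hu' : u ∈ (Q : Subgroup G)) (hu1 : u ≠ 1)
    (hPc : ∀ S : Sylow p G, ∀ a ∈ (S : Subgroup G), ∀ b ∈ (S : Subgroup G), Commute a b) : P = Q := by
  have hu0 := orderOf_of_mem_sylow hD P hu hu1
  have hC : IsPGroup p (Subgroup.centralizer ({u} : Set G)) := fun y => ⟨1, Subtype.ext (by
    rw [pow_one, Subgroup.coe_pow]
    exact hD.unip u y hu0 (Subgroup.mem_centralizer_singleton_iff.1 y.2).symm)⟩
  obtain ⟨R, hR⟩ := hC.exists_le_sylow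
  have hP : (P : Subgroup G) ≤ R := le_trans (fun a ha =>
    Subgroup.mem_centralizer_singleton_iff.2 (hPc P a ha u hu).eq) hR
  have hQ : (Q : Subgroup G) ≤ R := le_trans (fun a ha =>
    Subgroup.mem_centralizer_singleton_iff.2 (hPc Q a ha u hu').eq) hR
  exact Sylow.ext ((P.3 R.2 hP).symm.trans (Q.3 R.2 hQ))

theorem card_dvd_of_free {C α : Type*} [Group C] [Finite C] [MulAction C α] [Finite α]
    (hfree : ∀ a : α, ∀ c : C, c • a = a → c = 1) : Nat.card C ∣ Nat.card α := by
  refine ⟨Nat.card (Quotient (MulAction.orbitRel C α)), ?_⟩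
  have e := MulAction.selfEquivSigmaOrbitsQuotientStabilizer C α
  have hst : ∀ a : α, MulAction.stabilizer C a = ⊥ := fun a =>
    (Subgroup.eq_bot_iff_forall _).2 fun c hc => hfree a c hc
  have : Fintype (Quotient (MulAction.orbitRel C α)) := Fintype.ofFinite _
  rw [Nat.card_congr e, Nat.card_sigma]
  rw [Finset.sum_congr rfl fun ω _ => ?_, Finset.sum_const, smul_eq_mul, Finset.card_univ,
    ← Nat.card_eq_fintype_card, mul_comm]
  · rw [hst, Nat.card_congr (QuotientGroup.quotientBot (G := C)).toEquiv]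

/-- The possible shapes in the wild case. -/
def WildShape (G : Type*) [Group G] (p : ℕ) : Prop :=
  Nonempty (G ≃* alternatingGroup (Fin 4)) ∨
    (∃ c : G, Semi p c ∧ Nonempty (G ≃* DihedralGroup (orderOf c))) ∨
    Nonempty (G ≃* alternatingGroup (Fin 5)) ∨
    ∃ (P : Sylow p G) (e : ℕ), 3 ≤ Nat.card (P : Subgroup G) ∧ 2 ≤ e ∧
      (e + 1 = Nat.card (P : Subgroup G) ∨ 2 * e + 1 = Nat.card (P : Subgroup G)) ∧
      Nat.card (Subgroup.normalizer ((P : Subgroup G) : Set G)) = Nat.card (P : Subgroup G) * e ∧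
      Nat.card (Sylow p G) = Nat.card (P : Subgroup G) + 1

theorem wild (hD : Data p M) (P : Sylow p G) (hPn : ¬ (P : Subgroup G).Normal)
    (hPc : ∀ S : Sylow p G, ∀ a ∈ (S : Subgroup G), ∀ b ∈ (S : Subgroup G), Commute a b) :
    WildShape G p := by
  classical
  have TI : ∀ Q R : Sylow p G, ∀ u : G, u ∈ (Q : Subgroup G) → u ∈ (R : Subgroup G) → u ≠ 1 → Q = R :=
    fun Q R u h1 h2 h3 => isMulCommutative_sylow_aux hD Q R h1 h2 h3 hPc
  have hPb : (P : Subgroup G) ≠ ⊥ := fun h => hPn (h ▸ inferInstance)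
  set N := Subgroup.normalizer ((P : Subgroup G) : Set G) with hN
  have hNtop : N ≠ ⊤ := fun h => hPn (Subgroup.normalizer_eq_top_iff.1 h)
  set π := Nat.card (P : Subgroup G) with hπ
  have hπ2 : 2 ≤ π := by
    have : Nontrivial (P : Subgroup G) := (Subgroup.nontrivial_iff_ne_bot _).2 hPb
    exact Finite.one_lt_card
  -- complement
  have hPN : (P : Subgroup G) ≤ N := Subgroup.le_normalizer
  have hcop : Nat.Coprime π ((P : Subgroup G).relIndex N) := by
    obtain ⟨k, hk⟩ := IsPGroup.iff_card.1 P.2
    rw [hπ, hk]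
    refine Nat.Coprime.pow_left _ (hp.out.coprime_iff_not_dvd.2 fun h => P.not_dvd_index ?_)
    exact h.trans (Subgroup.relIndex_dvd_index_of_le hPN)
  set e := (P : Subgroup G).relIndex N with he
  have hcardN : Nat.card N = π * e := by
    have := ((P : Subgroup G).subgroupOf N).card_mul_index
    rw [Nat.card_congr (Subgroup.subgroupOfEquivOfLe hPN).toEquiv] at this
    exact this.symm
  obtain ⟨C', hC'⟩ := Subgroup.exists_right_complement'_of_coprime (N := (P : Subgroup G).subgroupOf N) (by
    rw [Nat.card_congr (Subgroup.subgroupOfEquivOfLe hPN).toEquiv]; exact hcop)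
  set C := C'.map N.subtype with hC
  have hCN : C ≤ N := Subgroup.map_subtype_le _
  have hCcard : Nat.card C = e := by
    rw [hC, Subgroup.card_map_of_injective N.subtype_injective]
    have := hC'.card_mul
    rw [Nat.card_congr (Subgroup.subgroupOfEquivOfLe hPN).toEquiv, hcardN] at this
    exact Nat.eq_of_mul_eq_mul_left (by omega) this
  have he0 : 0 < e := hCcard ▸ Nat.card_pos
  have hpe : ¬ p ∣ e := fun h => by
    obtain ⟨k, hk⟩ := IsPGroup.iff_card.1 P.2
    have hk0 : k ≠ 0 := fun h0 => by rw [h0, pow_zero] at hk; omega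
    have : p ∣ Nat.gcd π e := Nat.dvd_gcd (hπ ▸ hk ▸ dvd_pow_self p hk0) h
    rw [Nat.Coprime.gcd_eq_one hcop] at this
    exact hp.out.one_lt.ne' (Nat.dvd_one.1 this)
  have hCsemi : ∀ c ∈ C, c ≠ 1 → Semi p c := fun c hc h1 =>
    ⟨h1, fun h => hpe (hCcard ▸ h.trans (Subgroup.orderOf_dvd_natCard C hc))⟩
  -- fixed point freeness
  have hfree : e ∣ π - 1 := by
    let α := {u : (P : Subgroup G) // u ≠ 1}
    let _ : MulAction C α :=
      { smul := fun c u => ⟨⟨(c : G) * (u.1 : G) * (c : G)⁻¹,
            (Subgroup.mem_normalizer_iff.1 (hCN c.2) _).1 u.1.2⟩, fun h => u.2 (Subtype.ext (by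
            exact conj_eq_one_iff.1 (congrArg Subtype.val h)))⟩
        one_smul := fun u => Subtype.ext (Subtype.ext (by show (1 : G) * _ * (1 : G)⁻¹ = _; group))
        mul_smul := fun a b u => Subtype.ext (Subtype.ext (by
          show ((a * b : C) : G) * _ * ((a * b : C) : G)⁻¹ = _
          rw [Subgroup.coe_mul]
          show _ = (a : G) * ((b : G) * (u.1 : G) * (b : G)⁻¹) * (a : G)⁻¹
          group)) }
    have hα : Nat.card α = π - 1 := by
      have : Fintype (P : Subgroup G) := Fintype.ofFinite _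
      rw [hπ, Nat.card_eq_fintype_card, Nat.card_eq_fintype_card, Fintype.card_subtype_compl,
        Fintype.card_subtype_eq]
    have hd := card_dvd_of_free (C := C) (α := α) (fun u c hcu => by
      by_contra hc1
      have h1 : (c : G) * (u.1 : G) * (c : G)⁻¹ = u.1 := congrArg (fun a : α => (a.1 : G)) hcu
      have hcomm : Commute (u.1 : G) (c : G) := (mul_inv_eq_iff_eq_mul.1 h1).symm
      have hpow := hD.unip _ _ (orderOf_of_mem_sylow hD P u.1.2 fun h => u.2 (Subtype.ext h)) hcomm
      have hs := hCsemi c c.2 fun h => hc1 (Subtype.ext h)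
      have ho := orderOf_dvd_of_pow_eq_one hpow
      rcases (Nat.dvd_prime hp.out).1 ho with h | h
      · exact hs.1 (orderOf_eq_one_iff.1 h)
      · exact hs.2 (h ▸ dvd_rfl))
    rwa [hCcard, hα] at hd
  -- number of Sylow subgroups
  set n := Nat.card (Sylow p G) with hn
  have hg : Nat.card G = n * (π * e) := by
    rw [hn, P.card_eq_index_normalizer, ← hcardN]
    exact (Subgroup.index_mul_card N).symm
  have hn2 : 2 ≤ n := by
    rw [hn, P.card_eq_index_normalizer]
    show 2 ≤ N.index
    have h0 : N.index ≠ 0 := Subgroup.index_ne_zero_of_finite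
    have h1 : N.index ≠ 1 := fun h => hNtop (Subgroup.index_eq_one.1 h)
    omega
  obtain ⟨j, hj⟩ : π ∣ n - 1 := by
    let β := {R : Sylow p G // R ≠ P}
    let _ : MulAction (P : Subgroup G) β :=
      { smul := fun u R => ⟨(u : G) • R.1, fun h => R.2 (by
          have h' := congrArg ((u : G)⁻¹ • ·) h
          simp only [inv_smul_smul] at h'
          rw [h']
          exact Sylow.smul_eq_iff_mem_normalizer.2 (hPN ((P : Subgroup G).inv_mem u.2)))⟩
        one_smul := fun R => Subtype.ext (one_smul G R.1)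
        mul_smul := fun a b R => Subtype.ext (mul_smul (a : G) (b : G) R.1) }
    have hβ : Nat.card β = n - 1 := by
      have : Fintype (Sylow p G) := Fintype.ofFinite _
      rw [hn, Nat.card_eq_fintype_card, Nat.card_eq_fintype_card, Fintype.card_subtype_compl,
        Fintype.card_subtype_eq]
    rw [← hβ]
    refine card_dvd_of_free (C := (P : Subgroup G)) (α := β) fun R u hu => ?_
    by_contra h1
    have h' : (u : G) • R.1 = R.1 := congrArg Subtype.val hu
    have hmem : (u : G) ∈ (R.1 : Subgroup G) := by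
      have hN' : (u : G) ∈ Subgroup.normalizer ((R.1 : Subgroup G) : Set G) :=
        Sylow.smul_eq_iff_mem_normalizer.1 h'
      have hpz : IsPGroup p (Subgroup.zpowers (u : G)) := P.2.to_le (Subgroup.zpowers_le.2 u.2)
      have := IsPGroup.inf_normalizer_sylow hpz R.1
      exact ((this.le ⟨Subgroup.mem_zpowers _, hN'⟩)).2
    exact R.2 (TI R.1 P u hmem u.2 fun h => h1 (Subtype.ext h))
  have hj' : n = 1 + π * j := by omega
  -- the unipotent part
  set U := cover (((P : Subgroup G) : Set G) \ {1}) with hU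
  have hUc : (U.ncard : ℚ) = Nat.card G * (((π : ℚ) - 1) / (π * e)) := by
    have h := card_cover_mul (((P : Subgroup G) : Set G) \ {1}) N
      (fun a ha s hs => ⟨(Subgroup.mem_normalizer_iff.1 ha s).1 hs.1,
        fun h => hs.2 (conj_eq_one_iff.1 h)⟩)
      (fun g s hs hgs => by
        refine Sylow.smul_eq_iff_mem_normalizer.1 (TI (g • P) P (g * s * g⁻¹) ?_ hgs.1
          fun h => hs.2 (conj_eq_one_iff.1 h))
        rw [Sylow.coe_subgroup_smul]
        exact Subgroup.smul_mem_pointwise_smul _ (MulAut.conj g) _ hs.1)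
    rw [Nat.card_coe_set_eq, Nat.card_coe_set_eq, hcardN] at h
    have h1 : (((P : Subgroup G) : Set G) \ {1}).ncard + 1 = π := by
      rw [← Set.ncard_singleton (1 : G), Set.ncard_sdiff_add_ncard_of_subset
        (Set.singleton_subset_iff.2 (P : Subgroup G).one_mem) (Set.toFinite _)]
      rfl
    have h' : (U.ncard : ℚ) * ((π : ℚ) * e) =
        Nat.card G * ((((P : Subgroup G) : Set G) \ {1}).ncard : ℚ) := by exact_mod_cast h
    have h1' : ((((P : Subgroup G) : Set G) \ {1}).ncard : ℚ) = (π : ℚ) - 1 := by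
      rw [eq_sub_iff_add_eq]; exact_mod_cast h1
    have hpos : (0 : ℚ) < (π : ℚ) * e := by positivity
    rw [mul_div_assoc', eq_div_iff hpos.ne', h', h1']
  have hUp : ∀ w ∈ U, orderOf w = p := by
    rintro w ⟨g, hg'⟩
    have h := orderOf_of_mem_sylow hD P hg'.1 hg'.2
    rwa [show g⁻¹ * w * g = MulAut.conj g⁻¹ w by simp [MulAut.conj_apply], MulEquiv.orderOf_eq] at h
  have hUsub : U ⊆ {w | w ≠ 1} := fun w hw h => by
    have := hUp w hw
    rw [h, orderOf_one] at this
    exact hp.out.one_lt.ne this
  have hUall : ∀ w : G, orderOf w = p → w ∈ U := fun w hw => by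
    have hpg : IsPGroup p (Subgroup.zpowers w) := IsPGroup.of_card (n := 1) (by
      rw [Nat.card_zpowers, hw, pow_one])
    obtain ⟨R, hR⟩ := hpg.exists_le_sylow
    obtain ⟨g, hgR⟩ := MulAction.exists_smul_eq G P R
    refine ⟨g, ?_, fun h => ?_⟩
    · have := hR (Subgroup.mem_zpowers w)
      rw [← hgR, Sylow.coe_subgroup_smul, Subgroup.mem_pointwise_smul_iff_inv_smul_mem] at this
      simpa [MulAut.smul_def, MulAut.conj_symm_apply, ← SetLike.mem_coe] using this
    · have hw1 : w = 1 := by
        calc w = g * (g⁻¹ * w * g) * g⁻¹ := by group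
          _ = 1 := by rw [Set.mem_singleton_iff.1 h]; group
      rw [hw1, orderOf_one] at hw
      exact hp.out.one_lt.ne hw
  have hsemi' : ∀ w : G, w ≠ 1 → w ∉ U → Semi p w := fun w h1 h2 =>
    (hD.cases w h1).resolve_left fun h => h2 (hUall w h)
  have dU : ∀ x, Semi p x → Disjoint U (orb M x) := fun x hx =>
    Set.disjoint_left.2 fun w hw hw' => (semi_of_mem_orb hD hx hw').2 (hUp w hw ▸ dvd_rfl)
  have hgpos : (0 : ℚ) < Nat.card G := by exact_mod_cast Nat.card_pos
  have htot : ({w : G | w ≠ 1}.ncard : ℚ) = (Nat.card G : ℚ) - 1 := by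
    rw [eq_sub_iff_add_eq, show {w : G | w ≠ 1} = ({1} : Set G)ᶜ from rfl]
    have := Set.ncard_add_ncard_compl ({1} : Set G)
    rw [Set.ncard_singleton, add_comm] at this
    exact_mod_cast this
  have hle : ∀ S : Set G, S ⊆ {w | w ≠ 1} → (S.ncard : ℚ) ≤ (Nat.card G : ℚ) - 1 := fun S hS =>
    htot ▸ Nat.cast_le.2 (Set.ncard_le_ncard hS (Set.toFinite _))
  have hπQ : (2 : ℚ) ≤ π := by exact_mod_cast hπ2
  have hgQ : (Nat.card G : ℚ) = n * (π * e) := by exact_mod_cast hg
  have hnQ : (2 : ℚ) ≤ n := by exact_mod_cast hn2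
  rcases (show e = 1 ∨ 2 ≤ e by omega) with he1 | he2
  · -- `N = P`
    have hUc' : (U.ncard : ℚ) = Nat.card G * (1 - 1 / π) := by
      rw [hUc, he1]; push_cast; field_simp
    by_cases hall : U = {w | w ≠ 1}
    · exfalso
      rw [hall, htot] at hUc'
      have : (Nat.card G : ℚ) = π := by
        field_simp at hUc'
        linarith
      rw [hgQ, he1] at this
      push_cast at this
      nlinarith
    obtain ⟨y, hy1, hy'⟩ := Set.exists_of_ssubset (hUsub.ssubset_of_ne hall)
    have hy := hsemi' y hy1 hy'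
    have hπ3 : π ≤ 3 := by
      by_contra h4
      have h4' : (4 : ℚ) ≤ π := by exact_mod_cast (by omega : 4 ≤ π)
      have h34 : (Nat.card G : ℚ) * (3 / 4) ≤ U.ncard := by
        rw [hUc']
        refine mul_le_mul_of_nonneg_left ?_ hgpos.le
        have : 1 / (π : ℚ) ≤ 1 / 4 := one_div_le_one_div_of_le (by norm_num) h4'
        linarith
      have := hle (U ∪ orb M y) (Set.union_subset hUsub (orb_subset hD hy))
      rw [Set.ncard_union_eq (dU y hy)] at this
      push_cast at this
      linarith [(term_bounds hD hy).1]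
    have hhalf : (Nat.card G : ℚ) / 2 ≤ U.ncard := by
      rw [hUc', div_eq_mul_inv]
      refine mul_le_mul_of_nonneg_left ?_ hgpos.le
      have : 1 / (π : ℚ) ≤ 1 / 2 := one_div_le_one_div_of_le (by norm_num) hπQ
      linarith
    have fy : idx M y = 2 := (idx_cases hD hy).resolve_left fun h => by
      have := hle (U ∪ orb M y) (Set.union_subset hUsub (orb_subset hD hy))
      rw [Set.ncard_union_eq (dU y hy)] at this
      push_cast at this
      linarith [(term_bounds hD hy).2 h]
    have hfull : U ∪ orb M y = {w | w ≠ 1} := by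
      by_contra h
      obtain ⟨z, hz1, hz'⟩ := Set.exists_of_ssubset
        ((Set.union_subset hUsub (orb_subset hD hy)).ssubset_of_ne h)
      rw [Set.mem_union, not_or] at hz'
      have hz := hsemi' z hz1 hz'.1
      have := hle (U ∪ orb M y ∪ orb M z)
        (Set.union_subset (Set.union_subset hUsub (orb_subset hD hy)) (orb_subset hD hz))
      rw [Set.ncard_union_eq (Disjoint.union_left (dU z hz) (disjoint_orb hD hy hz hz'.2)),
        Set.ncard_union_eq (dU y hy)] at this
      push_cast at this
      linarith [(term_bounds hD hy).1, (term_bounds hD hz).1]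
    have hsum : ((U ∪ orb M y).ncard : ℚ) = (Nat.card G : ℚ) - 1 := by rw [hfull, htot]
    rw [Set.ncard_union_eq (dU y hy), Nat.cast_add, hUc', ncard_orb hD hy, fy] at hsum
    have hb := two_le_ord hD hy
    have hb0 : (ord M y : ℚ) ≠ 0 := by exact_mod_cast (by omega : ord M y ≠ 0)
    have hcase : π = 2 ∨ π = 3 := by omega
    rcases hcase with h2 | h3
    · rw [h2] at hsum
      have hG2 : Nat.card G = 2 * ord M y := by
        have : (Nat.card G : ℚ) = 2 * ord M y := by
          field_simp at hsum
          push_cast at hsum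
          linarith
        exact_mod_cast this
      refine Or.inr (Or.inl (dihedral_of_index hD hy fy hG2 fun w hw hwy => ?_))
      have hw' : w ∈ U ∪ orb M y := hfull.symm ▸ hw
      have hwp := hUp w (hw'.resolve_right hwy)
      have hp2 : p = 2 := by
        obtain ⟨k, hk⟩ := IsPGroup.iff_card.1 P.2
        rw [← hπ, h2] at hk
        have hk0 : k ≠ 0 := fun h0 => by rw [h0, pow_zero] at hk; omega
        exact (Nat.prime_dvd_prime_iff_eq hp.out Nat.prime_two).1 (hk ▸ dvd_pow_self p hk0)
      rw [hp2] at hwp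
      rw [← pow_two, ← hwp, pow_orderOf_eq_one]
    · rw [h3] at hsum
      have key : Nat.card G * ord M y + 6 * ord M y = 3 * Nat.card G := by
        have : (Nat.card G : ℚ) * ord M y + 6 * ord M y = 3 * Nat.card G := by
          field_simp at hsum
          push_cast at hsum
          linarith
        exact_mod_cast this
      have hb2 : ord M y = 2 := by
        by_contra hne
        have : Nat.card G * 3 ≤ Nat.card G * ord M y := Nat.mul_le_mul_left _ (by omega)
        omega
      rw [hb2] at key
      have h12 : Nat.card G = 12 := by omega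
      refine Or.inl (nonempty_alternating_four h12 h3 ?_)
      refine (Subgroup.eq_of_le_of_card_ge hPN ?_).symm
      rw [hcardN, he1, mul_one]
  -- `e ≥ 2`
  have : Nontrivial C := Finite.one_lt_card_iff_nontrivial.1 (by rw [hCcard]; omega)
  obtain ⟨⟨x, hxC⟩, hgen⟩ := (hD.borel_cyclic P hPb C hCN (hCcard.symm ▸ hpe)).exists_generator
  have hxord : orderOf x = e := by
    rw [← hCcard, ← Subgroup.orderOf_mk x hxC]; exact orderOf_eq_card_of_forall_mem_zpowers hgen
  have hx : Semi p x := hCsemi x hxC fun h => by rw [h, orderOf_one] at hxord; omega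
  have hMx : ord M x = e := by
    refine Nat.dvd_antisymm ?_ (hxord ▸ Subgroup.orderOf_dvd_natCard (M x) (hD.mem x hx))
    have h1 : ord M x ∣ Nat.card N := Subgroup.card_dvd_of_le (hD.borel P hPb x (hCN hxC) hx)
    rw [hcardN] at h1
    refine Nat.Coprime.dvd_of_dvd_mul_left ?_ h1
    obtain ⟨k, hk⟩ := IsPGroup.iff_card.1 P.2
    rw [hπ, hk]
    exact Nat.Coprime.pow_right _ (Nat.Coprime.symm (hp.out.coprime_iff_not_dvd.2 (hD.coprime x hx)))
  have hπ3 : 3 ≤ π := by
    have := Nat.le_of_dvd (by omega) hfree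
    omega
  have hπ3Q : (3 : ℚ) ≤ π := by exact_mod_cast hπ3
  have he2Q : (2 : ℚ) ≤ e := by exact_mod_cast he2
  have hsubx : U ∪ orb M x ⊆ {w | w ≠ 1} := Set.union_subset hUsub (orb_subset hD hx)
  have hxc : ((orb M x).ncard : ℚ) = Nat.card G * (((e : ℚ) - 1) / (idx M x * e)) := by
    rw [ncard_orb hD hx, hMx]
  have hUQ : (U.ncard : ℚ) = n * ((π : ℚ) - 1) := by
    rw [hUc, hgQ]; field_simp
  have fx : idx M x = 2 := (idx_cases hD hx).resolve_left fun h1 => by
    rw [h1] at hxc
    have hxQ : ((orb M x).ncard : ℚ) = n * π * ((e : ℚ) - 1) := by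
      rw [hxc, hgQ]; push_cast; field_simp
    by_cases hall : U ∪ orb M x = {w | w ≠ 1}
    · have := htot
      rw [← hall, Set.ncard_union_eq (dU x hx), Nat.cast_add, hUQ, hxQ, hgQ] at this
      nlinarith
    · obtain ⟨y, hy1, hy'⟩ := Set.exists_of_ssubset (hsubx.ssubset_of_ne hall)
      rw [Set.mem_union, not_or] at hy'
      have hy := hsemi' y hy1 hy'.1
      have := hle (U ∪ orb M x ∪ orb M y) (Set.union_subset hsubx (orb_subset hD hy))
      rw [Set.ncard_union_eq (Disjoint.union_left (dU y hy) (disjoint_orb hD hx hy hy'.2)),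
        Set.ncard_union_eq (dU x hx)] at this
      push_cast at this
      rw [hUQ, hxQ] at this
      have h4 := (term_bounds hD hy).1
      rw [hgQ] at this h4
      have h6 : (4 : ℚ) < π * e := by nlinarith
      nlinarith
  rw [fx] at hxc
  have hxQ : ((orb M x).ncard : ℚ) * 2 = n * π * ((e : ℚ) - 1) := by
    rw [hxc, hgQ]; push_cast; field_simp
  have hnall : U ∪ orb M x ≠ {w | w ≠ 1} := fun hall => by
    have := htot
    rw [← hall, Set.ncard_union_eq (dU x hx), Nat.cast_add, hUQ, hgQ] at this
    nlinarith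
  obtain ⟨y, hy1, hy'⟩ := Set.exists_of_ssubset (hsubx.ssubset_of_ne hnall)
  rw [Set.mem_union, not_or] at hy'
  have hy := hsemi' y hy1 hy'.1
  have dxy := disjoint_orb hD hx hy hy'.2
  have hsub3 : U ∪ orb M x ∪ orb M y ⊆ {w | w ≠ 1} := Set.union_subset hsubx (orb_subset hD hy)
  have hmore : ∀ S : ℚ, (Nat.card G : ℚ) / 2 ≤ S →
      S + U.ncard + (orb M x).ncard ≤ (Nat.card G : ℚ) - 1 → False := fun S h1 h2 => by
    rw [hgQ, hUQ] at h2
    rw [hgQ] at h1
    nlinarith
  have fy : idx M y = 2 := (idx_cases hD hy).resolve_left fun h1 => by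
    have := hle _ hsub3
    rw [Set.ncard_union_eq (Disjoint.union_left (dU y hy) dxy), Set.ncard_union_eq (dU x hx)] at this
    push_cast at this
    exact hmore _ ((term_bounds hD hy).2 h1) (by linarith)
  have hfull : U ∪ orb M x ∪ orb M y = {w | w ≠ 1} := by
    by_contra h
    obtain ⟨z, hz1, hz'⟩ := Set.exists_of_ssubset (hsub3.ssubset_of_ne h)
    simp only [Set.mem_union, not_or] at hz'
    have hz := hsemi' z hz1 hz'.1.1
    have := hle (U ∪ orb M x ∪ orb M y ∪ orb M z) (Set.union_subset hsub3 (orb_subset hD hz))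
    rw [Set.ncard_union_eq (Disjoint.union_left (Disjoint.union_left (dU z hz)
        (disjoint_orb hD hx hz hz'.1.2)) (disjoint_orb hD hy hz hz'.2)),
      Set.ncard_union_eq (Disjoint.union_left (dU y hy) dxy), Set.ncard_union_eq (dU x hx)] at this
    push_cast at this
    exact hmore ((orb M y).ncard + (orb M z).ncard : ℚ)
      (by linarith [(term_bounds hD hy).1, (term_bounds hD hz).1]) (by linarith)
  have hb := two_le_ord hD hy
  set b := ord M y with hbdef
  have hb0 : (b : ℚ) ≠ 0 := by exact_mod_cast (by omega : b ≠ 0)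
  have key : b * ((π - 2) * n + 2) = π * e * n := by
    have hsum : ((U ∪ orb M x ∪ orb M y).ncard : ℚ) = (Nat.card G : ℚ) - 1 := by rw [hfull, htot]
    rw [Set.ncard_union_eq (Disjoint.union_left (dU y hy) dxy), Set.ncard_union_eq (dU x hx),
      Nat.cast_add, Nat.cast_add, hUQ, ncard_orb hD hy, fy, ← hbdef, hgQ] at hsum
    have : ((b * ((π - 2) * n + 2) : ℕ) : ℚ) = ((π * e * n : ℕ) : ℚ) := by
      push_cast [Nat.cast_sub hπ2]
      field_simp at hsum
      push_cast at hsum
      linear_combination hsum - b * hxQ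
    exact_mod_cast this
  have hj0 : 1 ≤ j := by
    by_contra h
    have : j = 0 := by omega
    rw [this, mul_zero, add_zero] at hj'
    omega
  set D := j * (π - 2) + 1 with hDdef
  have keyD : b * D = e * n := by
    have h1 : (π - 2) * n + 2 = π * D := by
      obtain ⟨t, ht⟩ : ∃ t, π = t + 2 := ⟨π - 2, by omega⟩
      rw [hDdef, hj', ht, Nat.add_sub_cancel]
      ring
    rw [h1] at key
    refine Nat.eq_of_mul_eq_mul_left (by omega : 0 < π) ?_
    rw [← mul_assoc π e, ← key]
    ring
  have hD2e : D ∣ 2 * e := by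
    have h1 : n = D + 2 * j := by
      obtain ⟨t, ht⟩ : ∃ t, π = t + 2 := ⟨π - 2, by omega⟩
      rw [hDdef, hj', ht, Nat.add_sub_cancel]
      ring
    have h2 : D ∣ e * n := ⟨b, by rw [← keyD, mul_comm]⟩
    rw [h1, mul_add, Nat.dvd_add_right (Dvd.intro_left e rfl), ← mul_assoc, mul_comm e 2] at h2
    refine Nat.Coprime.dvd_of_dvd_mul_right ?_ h2
    rw [hDdef]
    simp
  have heπ : e ≤ π - 1 := Nat.le_of_dvd (by omega) hfree
  rcases (show j = 1 ∨ 2 ≤ j by omega) with h1 | h2
  · refine Or.inr (Or.inr (Or.inr ⟨P, e, hπ3, he2, ?_, hcardN, ?_⟩))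
    · have hDπ : D = π - 1 := by rw [hDdef, h1]; omega
      rw [hDπ] at hD2e
      obtain ⟨a, ha⟩ := hfree
      have hπe : π = e * a + 1 := by omega
      rw [ha] at hD2e
      have ha2 : a ∣ 2 := (Nat.mul_dvd_mul_iff_left he0).1 (by rwa [mul_comm 2 e] at hD2e)
      rcases (Nat.dvd_prime Nat.prime_two).1 ha2 with rfl | rfl
      · left; omega
      · right; omega
    · show n = π + 1
      rw [hj', h1]; omega
  · have hDge : 2 * π - 3 ≤ D := by
      have : 2 * (π - 2) ≤ j * (π - 2) := Nat.mul_le_mul_right _ h2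
      omega
    obtain ⟨a, ha⟩ := hD2e
    have ha1 : a = 1 := by
      rcases Nat.lt_or_ge a 2 with h | h
      · rcases Nat.eq_zero_or_pos a with h0 | h0
        · rw [h0, mul_zero] at ha; omega
        · omega
      · exfalso
        have := Nat.mul_le_mul_left D h
        omega
    rw [ha1, mul_one] at ha
    have he' : e = π - 1 := by
      obtain ⟨t, ht⟩ := hfree
      rcases Nat.lt_or_ge t 2 with h | h
      · rcases Nat.eq_zero_or_pos t with h0 | h0
        · rw [h0, mul_zero] at ht; omega
        · rw [show t = 1 by omega, mul_one] at ht; omega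
      · exfalso
        have := Nat.mul_le_mul_left e h
        omega
    have hjt : j * (π - 2) = 2 * (π - 2) + 1 := by omega
    have hπ' : π - 2 = 1 := Nat.dvd_one.1 ((Nat.dvd_add_right ⟨2, mul_comm _ _⟩).1
      (hjt ▸ Dvd.intro_left j rfl))
    rw [hπ'] at hjt
    have hπ3' : π = 3 := by omega
    have he2' : e = 2 := by omega
    have hj3 : j = 3 := by omega
    have hn10 : n = 10 := by rw [hj', hπ3', hj3]
    have hb5 : b = 5 := by
      rw [hn10, he2', show D = 4 by rw [hDdef, hj3, hπ']] at keyD
      omega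
    have hG : Nat.card G = 60 := by rw [hg, hn10, hπ3', he2']
    have cU : U.ncard = 20 := by
      have : (U.ncard : ℚ) = (20 : ℕ) := by rw [hUQ, hn10, hπ3']; norm_num
      exact_mod_cast this
    have cx : (orb M x).ncard = 15 := by
      have : ((orb M x).ncard : ℚ) = (15 : ℕ) := by
        rw [hxc, hG, he2']; norm_num
      exact_mod_cast this
    have cy : (orb M y).ncard = 24 := by
      have : ((orb M y).ncard : ℚ) = (24 : ℕ) := by
        rw [ncard_orb hD hy, fy, ← hbdef, hb5, hG]; norm_num
      exact_mod_cast this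
    refine Or.inr (Or.inr (Or.inl (nonempty_alternating_five hG cx cU cy (dU x hx).symm dxy (dU y hy)
      (by rw [Set.union_comm (orb M x) U]; exact hfull) fun N' hN' S hS w hw hwN => ?_)))
    rcases hS with rfl | rfl | rfl
    · exact orb_subset_normal hD hx (hMx.trans he2' ▸ Nat.prime_two) N' hN' hw hwN
    · obtain ⟨g, hg'⟩ := hw
      have hs : g⁻¹ * w * g ∈ N' := by simpa using hN'.conj_mem w hwN g⁻¹
      have hle' : (P : Subgroup G) ≤ N' := by
        have hz : Subgroup.zpowers (g⁻¹ * w * g) = (P : Subgroup G) := Subgroup.eq_of_le_of_card_ge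
          (Subgroup.zpowers_le.2 hg'.1) (by
            rw [Nat.card_zpowers, orderOf_of_mem_sylow hD P hg'.1 hg'.2, ← hπ, hπ3']
            obtain ⟨k, hk⟩ := IsPGroup.iff_card.1 P.2
            rw [← hπ, hπ3'] at hk
            have hk0 : k ≠ 0 := fun h0 => by rw [h0, pow_zero] at hk; omega
            exact le_of_eq ((Nat.prime_dvd_prime_iff_eq hp.out Nat.prime_three).1
              (hk ▸ dvd_pow_self p hk0)).symm)
        rw [← hz]
        exact Subgroup.zpowers_le.2 hs
      rintro v ⟨k, hk⟩
      have := hN'.conj_mem _ (hle' hk.1) k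
      rwa [show k * (k⁻¹ * v * k) * k⁻¹ = v by group] at this
    · exact orb_subset_normal hD hy (by rw [← hbdef, hb5]; norm_num) N' hN' hw hwN

end CfsgLib.SL2.Census
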