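import Mathlib
import Cfsg.Agent.Lib.SL2.PSL
import Cfsg.Agent.Lib.SL2.Unipotent
import Cfsg.Agent.Lib.SL2.Census

/-!
Subgroups of `PSL(2, q)` satisfy the census hypotheses.
-/

set_option autoImplicit false
set_option linter.unusedSectionVars false

namespace CfsgLib.SL2

open Matrix
open scoped MatrixGroups Pointwise

variable {F : Type*} [Field F] [Finite F] (p : ℕ) [hp : Fact p.Prime] [CharP F p]

local notation "PSL" => ProjectiveSpecialLinearGroup (Fin 2) F

/-- A lift to `SL(2, F)`. -/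
noncomputable def liftSL (x : PSL) : SL(2, F) := Function.surjInv proj_surjective x

theorem proj_liftSL (x : PSL) : proj (liftSL x) = x := Function.surjInv_eq proj_surjective x

/-- The maximal torus through a semisimple element. -/
noncomputable def torus (x : PSL) : Subgroup PSL := (cent (liftSL x)).map proj

theorem cent_neg (g : SL(2, F)) : cent (-g) = cent g := by
  ext h
  rw [mem_cent_iff, mem_cent_iff, neg_mul, mul_neg, neg_inj]

theorem eq_or_eq_neg_of_proj_eq {g h : SL(2, F)} (e : proj g = proj h) : h = g ∨ h = -g := by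
  have hz : g⁻¹ * h ∈ Subgroup.center SL(2, F) := QuotientGroup.eq.mp e
  rcases eq_one_or_eq_neg_one_of_mem_center _ hz with h' | h' <;>
    rw [inv_mul_eq_iff_eq_mul] at h'
  · exact Or.inl (by rw [h', mul_one])
  · exact Or.inr (by rw [h', mul_neg_one])

theorem torus_eq {x : PSL} {g : SL(2, F)} (h : proj g = x) : torus x = (cent g).map proj := by
  rcases eq_or_eq_neg_of_proj_eq (h.trans (proj_liftSL x).symm) with e | e <;> rw [torus, e]
  rw [cent_neg]

theorem card_dvd_pred_or_succ {g : SL(2, F)} (hg : Regular g) :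
    ¬ p ∣ Nat.card ((cent g).map proj) := by
  intro h
  have h1 : p ∣ Nat.card (cent g) := h.trans (Subgroup.card_map_dvd _ _)
  let _ := Fintype.ofFinite F
  obtain ⟨f, -, hf⟩ := FiniteField.card F p
  have hq : p ∣ Nat.card F := by
    rw [Nat.card_eq_fintype_card, hf]; exact dvd_pow_self p f.pos.ne'
  have hq1 : 1 < Nat.card F := Finite.one_lt_card
  rcases (cent_regular hg).2 with e | e <;> rw [e] at h1
  · exact hp.out.not_dvd_one (show p ∣ 1 by
      have := Nat.dvd_sub hq h1
      rwa [Nat.sub_sub_self hq1.le] at this)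
  · exact hp.out.not_dvd_one ((Nat.dvd_add_right hq).1 h1)

theorem regular_of_semi {x : PSL} {g : SL(2, F)} (h : proj g = x) (hx : Census.Semi p x) :
    Regular g := by
  by_contra hg
  have h1 := proj_pow_char_of_not_regular hg p
  rw [h] at h1
  rcases (Nat.dvd_prime hp.out).1 (orderOf_dvd_of_pow_eq_one h1) with h2 | h2
  · exact hx.1 (orderOf_eq_one_iff.1 h2)
  · exact hx.2 (h2 ▸ dvd_rfl)

theorem semi_or_orderOf (x : PSL) (hx : x ≠ 1) : orderOf x = p ∨ Census.Semi p x := by
  obtain ⟨g, rfl⟩ := proj_surjective x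
  by_cases hg : Regular g
  · exact Or.inr ⟨hx, fun h => card_dvd_pred_or_succ p hg (h.trans
      (Subgroup.orderOf_dvd_natCard _ ⟨g, self_mem_cent g, rfl⟩))⟩
  · exact Or.inl (orderOf_eq_prime (proj_pow_char_of_not_regular hg p) hx)

theorem mem_torus (x : PSL) : x ∈ torus x := ⟨liftSL x, self_mem_cent _, proj_liftSL x⟩

theorem isCyclic_torus {x : PSL} (hx : Census.Semi p x) : IsCyclic (torus x) :=
  (proj_cent_regular (regular_of_semi p (proj_liftSL x) hx)).1

theorem not_dvd_card_torus {x : PSL} (hx : Census.Semi p x) : ¬ p ∣ Nat.card (torus x) :=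
  card_dvd_pred_or_succ p (regular_of_semi p (proj_liftSL x) hx)

theorem torus_eq_of_mem {x y : PSL} (hx : Census.Semi p x) (hy : y ∈ torus x) (hy1 : y ≠ 1) :
    torus y = torus x := by
  obtain ⟨h, hh, rfl⟩ := hy
  have hg := regular_of_semi p (proj_liftSL x) hx
  have hn : NonScalar (h : Matrix (Fin 2) (Fin 2) F) := not_not.1 fun hn =>
    hy1 ((proj_eq_one_iff h).2 ((mem_center_iff_not_nonScalar h).2 hn))
  rw [torus_eq (g := h) rfl, cent_eq_of_mem hg.nonScalar hn hh]
  rfl

theorem mem_torus_conj {x y : PSL} (k : PSL) (hy : y ∈ torus x) :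
    k * y * k⁻¹ ∈ torus (k * x * k⁻¹) := by
  obtain ⟨k', rfl⟩ := proj_surjective k
  obtain ⟨h, hh, rfl⟩ := hy
  rw [torus_eq (g := k' * liftSL x * k'⁻¹) (by rw [map_mul, map_mul, map_inv, proj_liftSL])]
  refine ⟨k' * h * k'⁻¹, mem_cent_iff.2 ?_, by rw [map_mul, map_mul, map_inv]⟩
  have := mem_cent_iff.1 hh
  calc k' * liftSL x * k'⁻¹ * (k' * h * k'⁻¹) = k' * (liftSL x * h) * k'⁻¹ := by group
    _ = k' * (h * liftSL x) * k'⁻¹ := by rw [this]
    _ = _ := by group

theorem relIndex_torus {x : PSL} (hx : Census.Semi p x) :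
    (torus x).relIndex (Subgroup.normalizer (torus x : Set PSL)) ≤ 2 := by
  set g := liftSL x with hg'
  have hg := regular_of_semi p (proj_liftSL x) hx
  have hcomap : (torus x).comap proj = cent g := by
    rw [torus, Subgroup.comap_map_eq, QuotientGroup.ker_mk', sup_eq_left.2 (center_le_cent g)]
  have hN : Subgroup.normalizer (torus x : Set PSL) ≤
      (Subgroup.normalizer (cent g : Set SL(2, F))).map proj := by
    intro n hn
    obtain ⟨k, rfl⟩ := proj_surjective n
    refine ⟨k, Subgroup.mem_normalizer_iff.2 fun h => ?_, rfl⟩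
    rw [← hcomap, Subgroup.mem_comap, Subgroup.mem_comap, map_mul, map_mul, map_inv]
    exact Subgroup.mem_normalizer_iff.1 hn _
  refine le_trans (Subgroup.relIndex_le_of_le_right hN Subgroup.index_ne_zero_of_finite) ?_
  rw [← Subgroup.relIndex_comap, hcomap, relIndex_cent_normalizer hg]

theorem pow_eq_one_of_commute {u y : PSL} (hu : orderOf u = p) (hc : Commute u y) : y ^ p = 1 := by
  by_cases hy1 : y = 1
  · rw [hy1, one_pow]
  rcases semi_or_orderOf p y hy1 with h | h
  · rw [← h, pow_orderOf_eq_one]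
  exfalso
  obtain ⟨g, rfl⟩ := proj_surjective y
  have hg := regular_of_semi p rfl h
  obtain ⟨k, rfl⟩ := proj_surjective u
  have hk := mem_centralizer_proj_iff.1
    (Subgroup.mem_centralizer_singleton_iff.2 hc.eq : proj k ∈ Subgroup.centralizer ({proj g} : Set PSL))
  have hkk : k * k ∈ cent g := by
    rw [mem_cent_iff, eq_comm, ← mul_inv_eq_iff_eq_mul]
    calc k * k * g * (k * k)⁻¹ = k * (k * g * k⁻¹) * k⁻¹ := by group
      _ = g := by
        rcases hk with e | e <;> rw [e]
        · exact e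
        · rw [mul_neg, neg_mul, e, neg_neg]
  have hmem : proj k * proj k ∈ (cent g).map proj := ⟨k * k, hkk, map_mul _ _ _⟩
  have h2 : proj k ∈ (cent g).map proj := by
    rcases hp.out.eq_two_or_odd' with rfl | hodd
    · refine ⟨k, ?_, rfl⟩
      rw [SetLike.mem_coe, mem_cent_iff, eq_comm, ← mul_inv_eq_iff_eq_mul]
      rcases hk with e | e
      · exact e
      · rw [e]
        apply Subtype.ext
        rw [Matrix.SpecialLinearGroup.coe_neg]
        ext i j
        rw [Matrix.neg_apply, CharTwo.neg_eq]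
    · obtain ⟨m, hm⟩ := hodd
      have : proj k = ((proj k * proj k) ^ (m + 1)) := by
        rw [← pow_two, ← pow_mul, show 2 * (m + 1) = orderOf (proj k) + 1 by omega, pow_succ,
          pow_orderOf_eq_one, one_mul]
      rw [this]
      exact pow_mem hmem _
  exact card_dvd_pred_or_succ p hg (hu ▸ Subgroup.orderOf_dvd_natCard _ h2)

/-! ### The upper triangular subgroup -/

variable (F) in
/-- The upper unitriangular subgroup of `PSL(2, F)`. -/
noncomputable def upperPSL : Subgroup PSL := (upperHom (F := F)).range.map proj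

variable (F) in
/-- The image of the upper triangular subgroup. -/
noncomputable def borelPSL : Subgroup PSL := (borelSL (F := F)).map proj

theorem mem_borelSL {g : SL(2, F)} : g ∈ borelSL ↔ (g : Matrix (Fin 2) (Fin 2) F) 1 0 = 0 := Iff.rfl

theorem proj_mem_borelPSL {g : SL(2, F)} :
    proj g ∈ borelPSL F ↔ (g : Matrix (Fin 2) (Fin 2) F) 1 0 = 0 := by
  refine ⟨?_, fun h => ⟨g, h, rfl⟩⟩
  rintro ⟨h, hh, e⟩
  rcases eq_or_eq_neg_of_proj_eq e with rfl | rfl
  · exact hh
  · rw [Matrix.SpecialLinearGroup.coe_neg, Matrix.neg_apply]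
    rw [SetLike.mem_coe, mem_borelSL] at hh
    rw [hh, neg_zero]

theorem mem_upperPSL {y : PSL} :
    y ∈ upperPSL F ↔ ∃ a : Multiplicative F, proj (upperHom a) = y :=
  ⟨fun ⟨_, ⟨a, ha⟩, h⟩ => ⟨a, ha ▸ h⟩, fun ⟨a, h⟩ => ⟨_, ⟨a, rfl⟩, h⟩⟩

theorem upperPSL_comm {a b : PSL} (ha : a ∈ upperPSL F) (hb : b ∈ upperPSL F) : Commute a b := by
  obtain ⟨a, rfl⟩ := mem_upperPSL.1 ha
  obtain ⟨b, rfl⟩ := mem_upperPSL.1 hb
  exact ((Commute.all a b).map upperHom).map proj

theorem exists_sylow_eq_upperPSL : ∃ P : Sylow p PSL, (P : Subgroup PSL) = upperPSL F := by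
  have : Fintype F := Fintype.ofFinite F
  obtain ⟨g, hg⟩ := exists_conj_upperSL p (default : Sylow p SL(2, F))
  refine ⟨((g⁻¹ : SL(2, F)) • (default : Sylow p SL(2, F))).mapSurjective proj_surjective, ?_⟩
  rw [Sylow.coe_mapSurjective, upperPSL, Sylow.coe_subgroup_smul, hg]
  congr 1
  ext x
  simp [Subgroup.mem_pointwise_smul_iff_inv_smul_mem, MulAut.smul_def, Subgroup.mem_map,
    MulAut.conj_apply, mul_assoc]

theorem exists_conj_mem_upperPSL {S : Subgroup PSL} (hS : IsPGroup p S) :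
    ∃ k : PSL, ∀ s ∈ S, k * s * k⁻¹ ∈ upperPSL F := by
  obtain ⟨P, hP⟩ := exists_sylow_eq_upperPSL (F := F) p
  obtain ⟨Q, hQ⟩ := hS.exists_le_sylow
  obtain ⟨k, hk⟩ := MulAction.exists_smul_eq PSL Q P
  refine ⟨k, fun s hs => ?_⟩
  rw [← hP, ← hk, Sylow.coe_subgroup_smul]
  exact Subgroup.smul_mem_pointwise_smul _ (MulAut.conj k) _ (hQ hs)

/-- An element conjugating a non-trivial upper unipotent into the upper unipotents is upper
triangular. -/
theorem mem_borelPSL_of_conj {y u : PSL} (hu : u ∈ upperPSL F) (hu1 : u ≠ 1)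
    (h : y * u * y⁻¹ ∈ upperPSL F) : y ∈ borelPSL F := by
  obtain ⟨g, rfl⟩ := proj_surjective y
  obtain ⟨b, rfl⟩ := mem_upperPSL.1 hu
  obtain ⟨c, hc⟩ := mem_upperPSL.1 h
  rw [proj_mem_borelPSL]
  rw [← map_inv, ← map_mul, ← map_mul] at hc
  have hb : (b.toAdd : F) ≠ 0 := fun h0 => hu1 (by
    rw [show b = 1 from Multiplicative.toAdd.injective (by rw [h0]; rfl), map_one, map_one])
  have key : ∀ z : F, ((g * upperHom b : SL(2, F)) : Matrix (Fin 2) (Fin 2) F) =
      z • ((upperHom c * g : SL(2, F)) : Matrix (Fin 2) (Fin 2) F) →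
      (g : Matrix (Fin 2) (Fin 2) F) 1 0 = 0 := by
    intro z hz
    rw [Matrix.SpecialLinearGroup.coe_mul, Matrix.SpecialLinearGroup.coe_mul, upperHom_coe,
      upperHom_coe] at hz
    have e10 := congrFun (congrFun hz 1) 0
    have e11 := congrFun (congrFun hz 1) 1
    simp [Matrix.mul_apply, Matrix.vecMul, dotProduct, Fin.sum_univ_two] at e10 e11
    by_contra h10
    have hz1 : z = 1 := mul_right_cancel₀ h10 (by linear_combination -e10)
    rw [hz1] at e11
    exact h10 ((mul_eq_zero.1 (by linear_combination e11 :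
      (g : Matrix (Fin 2) (Fin 2) F) 1 0 * b.toAdd = 0)).resolve_right hb)
  rcases eq_or_eq_neg_of_proj_eq hc.symm with e | e
  · refine key 1 ?_
    rw [one_smul, e]
    simp only [Matrix.SpecialLinearGroup.coe_mul, mul_assoc]
    rw [show ((g⁻¹ : SL(2, F)) : Matrix (Fin 2) (Fin 2) F) * (g : Matrix (Fin 2) (Fin 2) F) = 1 by
      rw [← Matrix.SpecialLinearGroup.coe_mul, inv_mul_cancel]; rfl, mul_one]
  · refine key (-1) ?_
    rw [e]
    simp only [Matrix.SpecialLinearGroup.coe_mul, Matrix.SpecialLinearGroup.coe_neg, neg_mul,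
      mul_assoc, neg_smul, one_smul, neg_neg]
    rw [show ((g⁻¹ : SL(2, F)) : Matrix (Fin 2) (Fin 2) F) * (g : Matrix (Fin 2) (Fin 2) F) = 1 by
      rw [← Matrix.SpecialLinearGroup.coe_mul, inv_mul_cancel]; rfl, mul_one]

theorem borelPSL_conj {y u : PSL} (hy : y ∈ borelPSL F) (hu : u ∈ upperPSL F) :
    y * u * y⁻¹ ∈ upperPSL F := by
  obtain ⟨g, hg, rfl⟩ := hy
  obtain ⟨b, rfl⟩ := mem_upperPSL.1 hu
  refine mem_upperPSL.2 ⟨Multiplicative.ofAdd ((g : Matrix (Fin 2) (Fin 2) F) 0 0 * b.toAdd /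
    (g : Matrix (Fin 2) (Fin 2) F) 1 1), ?_⟩
  rw [← map_inv, ← map_mul, ← map_mul]
  congr 1
  have h := conj_upper (Matrix.SpecialLinearGroup.toGL g) hg b
  apply Matrix.SpecialLinearGroup.toGL_injective
  rw [map_mul, map_mul, map_inv]
  exact h.symm

theorem mem_upperPSL_of_pow {y : PSL} (hy : y ∈ borelPSL F) (h : y ^ p = 1) : y ∈ upperPSL F := by
  obtain ⟨g, hg, rfl⟩ := hy
  have hg' : (g : Matrix (Fin 2) (Fin 2) F) 1 0 = 0 := hg
  have hpow : ∀ k : ℕ, ((g ^ k : SL(2, F)) : Matrix (Fin 2) (Fin 2) F) 1 0 = 0 ∧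
      ((g ^ k : SL(2, F)) : Matrix (Fin 2) (Fin 2) F) 0 0 = (g : Matrix (Fin 2) (Fin 2) F) 0 0 ^ k := by
    intro k
    induction k with
    | zero => simp
    | succ k ih =>
      rw [pow_succ g k, Matrix.SpecialLinearGroup.coe_mul]
      simp only [Matrix.mul_apply, Fin.sum_univ_two, ih.1, ih.2, hg', pow_succ]
      simp
  have hd := det_eq_one' g
  rw [← map_pow, proj_eq_one_iff] at h
  have ha : (g : Matrix (Fin 2) (Fin 2) F) 0 0 * (g : Matrix (Fin 2) (Fin 2) F) 0 0 = 1 := by
    have h2 : ((g : Matrix (Fin 2) (Fin 2) F) 0 0 * (g : Matrix (Fin 2) (Fin 2) F) 0 0) ^ p = 1 ^ p := by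
      rw [mul_pow, ← (hpow p).2, one_pow]
      rcases eq_one_or_eq_neg_one_of_mem_center _ h with e | e <;> rw [e] <;> simp
    exact frobenius_inj F p h2
  have h11 : (g : Matrix (Fin 2) (Fin 2) F) 1 1 = (g : Matrix (Fin 2) (Fin 2) F) 0 0 := by
    rw [hg', mul_zero, sub_zero] at hd
    linear_combination (g : Matrix (Fin 2) (Fin 2) F) 0 0 * hd -
      (g : Matrix (Fin 2) (Fin 2) F) 1 1 * ha
  rcases mul_self_eq_one_iff.1 ha with e | e
  · refine mem_upperPSL.2 ⟨Multiplicative.ofAdd ((g : Matrix (Fin 2) (Fin 2) F) 0 1), ?_⟩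
    congr 1
    apply Subtype.ext
    rw [upperHom_coe]
    ext i j
    fin_cases i <;> fin_cases j <;> simp [hg', e, h11]
  · refine mem_upperPSL.2 ⟨Multiplicative.ofAdd (-(g : Matrix (Fin 2) (Fin 2) F) 0 1), ?_⟩
    have hgeq : g = (-1) * upperHom (Multiplicative.ofAdd (-(g : Matrix (Fin 2) (Fin 2) F) 0 1)) := ?_
    · conv_rhs => rw [hgeq, map_mul, (proj_eq_one_iff _).2 neg_one_mem_center, one_mul]
    apply Subtype.ext
    rw [neg_one_mul, Matrix.SpecialLinearGroup.coe_neg, upperHom_coe]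
    ext i j
    fin_cases i <;> fin_cases j <;> simp [hg', e, h11]
where
  det_eq_one' (g : SL(2, F)) : (g : Matrix (Fin 2) (Fin 2) F) 0 0 * (g : Matrix (Fin 2) (Fin 2) F) 1 1
      - (g : Matrix (Fin 2) (Fin 2) F) 0 1 * (g : Matrix (Fin 2) (Fin 2) F) 1 0 = 1 := by
    rw [← Matrix.det_fin_two]; exact g.det_coe

theorem torus_le_borelPSL {x : PSL} (hx : Census.Semi p x) (h : x ∈ borelPSL F) :
    torus x ≤ borelPSL F := by
  obtain ⟨g, hg, rfl⟩ := h
  rw [torus_eq (g := g) rfl]
  refine Subgroup.map_mono fun t ht => ?_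
  obtain ⟨a, b, hab, -⟩ := exists_coords (regular_of_semi p rfl hx).nonScalar ht
  rw [mem_borelSL] at *
  rw [hab]
  simp [show (g : Matrix (Fin 2) (Fin 2) F) 1 0 = 0 from hg]

theorem isCyclic_of_le_borelPSL {C : Subgroup PSL} (hC : C ≤ borelPSL F)
    (hc : ¬ p ∣ Nat.card C) : IsCyclic C := by
  let sq : borelSL (F := F) →* F :=
    { toFun := fun g => (g : SL(2, F)).1 0 0 * (g : SL(2, F)).1 0 0
      map_one' := by simp
      map_mul' := fun g h => by
        simp [Matrix.mul_apply, show (h : SL(2, F)).1 1 0 = 0 from h.2]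
        ring }
  let q : borelSL (F := F) →* PSL := proj.comp (borelSL (F := F)).subtype
  have hlift : ∀ c : C, ∃ g : borelSL (F := F), q g = c := fun c => by
    obtain ⟨g, hg, e⟩ := hC c.2
    exact ⟨⟨g, hg⟩, e⟩
  choose l hl using hlift
  have hwd : ∀ g h : borelSL (F := F), q g = q h → sq g = sq h := fun g h e => by
    rcases eq_or_eq_neg_of_proj_eq (g := (g : SL(2, F))) (h := (h : SL(2, F))) e with e' | e' <;>
      simp [sq, e']
  let f : C →* F :=
    { toFun := fun c => sq (l c)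
      map_one' := (hwd _ 1 (by rw [hl, map_one]; rfl)).trans (map_one sq)
      map_mul' := fun a b => (hwd _ (l a * l b) (by rw [hl, map_mul, hl, hl]; rfl)).trans (map_mul sq _ _) }
  refine isCyclic_of_injective_ringHom f fun a b hab => ?_
  by_contra hne
  have h1 : f (a⁻¹ * b) = 1 := by
    have h2 : f (a⁻¹ * b) = f a⁻¹ * f a := by rw [map_mul, hab]
    rw [h2, ← map_mul, inv_mul_cancel, map_one]
  have hc1 : ((a⁻¹ * b : C) : PSL) ≠ 1 := fun h => hne (inv_mul_eq_one.1 (Subtype.ext h))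
  set g := (l (a⁻¹ * b) : SL(2, F)) with hg
  have hge : proj g = ((a⁻¹ * b : C) : PSL) := hl _
  have hs : Census.Semi p ((a⁻¹ * b : C) : PSL) :=
    ⟨hc1, fun h => hc (h.trans (Subgroup.orderOf_dvd_natCard C (a⁻¹ * b : C).2))⟩
  apply regular_of_semi p hge hs
  have h10 : g.1 1 0 = 0 := (l (a⁻¹ * b)).2
  have h00 : g.1 0 0 * g.1 0 0 = 1 := h1
  have hd : g.1 0 0 * g.1 1 1 = 1 := by
    have := g.det_coe
    rw [Matrix.det_fin_two, h10] at this
    linear_combination this
  have h11 : g.1 1 1 = g.1 0 0 := by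
    linear_combination g.1 0 0 * hd - g.1 1 1 * h00
  rw [Matrix.trace_fin_two, h11]
  linear_combination 4 * h00

/-! ### The census -/

theorem sylow_comm (H : Subgroup PSL) (P : Sylow p H) :
    ∀ a ∈ (P : Subgroup H), ∀ b ∈ (P : Subgroup H), Commute a b := by
  intro a ha b hb
  obtain ⟨k, hk⟩ := exists_conj_mem_upperPSL p (P.2.map H.subtype)
  have h := upperPSL_comm (hk _ ⟨a, ha, rfl⟩) (hk _ ⟨b, hb, rfl⟩)
  refine Subtype.ext (?_ : (a : PSL) * b = b * a)
  have h' : k * ((a : PSL) * b) * k⁻¹ = k * ((b : PSL) * a) * k⁻¹ := by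
    have := h.eq
    calc k * ((a : PSL) * b) * k⁻¹ = k * (a : PSL) * k⁻¹ * (k * (b : PSL) * k⁻¹) := by group
      _ = k * (b : PSL) * k⁻¹ * (k * (a : PSL) * k⁻¹) := this
      _ = _ := by group
  simpa using h'

/-- The normaliser of a Sylow `p`-subgroup of a subgroup sits in a Borel subgroup. -/
theorem exists_borel_frame (H : Subgroup PSL) (P : Sylow p H) (hP : (P : Subgroup H) ≠ ⊥) :
    ∃ k : PSL, ∀ y : H, y ∈ Subgroup.normalizer ((P : Subgroup H) : Set H) ↔
      k * (y : PSL) * k⁻¹ ∈ borelPSL F := by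
  obtain ⟨k, hk⟩ := exists_conj_mem_upperPSL p (P.2.map H.subtype)
  refine ⟨k, fun y => ?_⟩
  obtain ⟨u, hu, hu1⟩ := Subgroup.bot_or_exists_ne_one _ |>.resolve_left hP
  have hku : k * (u : PSL) * k⁻¹ ∈ upperPSL F := hk _ ⟨u, hu, rfl⟩
  constructor
  · intro hy
    refine mem_borelPSL_of_conj hku (fun h => hu1 (Subtype.ext (conj_eq_one_iff.1 h))) ?_
    have := hk _ ⟨_, (Subgroup.mem_normalizer_iff.1 hy u).1 hu, rfl⟩
    rw [show k * (y : PSL) * k⁻¹ * (k * (u : PSL) * k⁻¹) * (k * (y : PSL) * k⁻¹)⁻¹ =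
      k * ((y : PSL) * (u : PSL) * (y : PSL)⁻¹) * k⁻¹ by group]
    exact this
  · intro hy
    rw [CA.mem_normalizer_iff_forall]
    intro v hv
    have hUp : IsPGroup p (upperPSL F) := by
      obtain ⟨Q, hQ⟩ := exists_sylow_eq_upperPSL (F := F) p
      exact hQ ▸ Q.2
    let S : Subgroup H := (upperPSL F).comap ((MulAut.conj k).toMonoidHom.comp H.subtype)
    have hS : IsPGroup p S := hUp.comap_of_injective _ ((MulAut.conj k).injective.comp H.subtype_injective)
    have hPS : (P : Subgroup H) ≤ S := fun w hw => hk _ ⟨w, hw, rfl⟩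
    rw [← P.3 hS hPS]
    show k * ((y * v * y⁻¹ : H) : PSL) * k⁻¹ ∈ upperPSL F
    have := borelPSL_conj hy (hk _ ⟨v, hv, rfl⟩)
    rw [Subgroup.coe_mul, Subgroup.coe_mul, Subgroup.coe_inv]
    rwa [show k * ((y : PSL) * v * (y : PSL)⁻¹) * k⁻¹ =
      k * (y : PSL) * k⁻¹ * (k * (v : PSL) * k⁻¹) * (k * (y : PSL) * k⁻¹)⁻¹ by group]

theorem semi_coe {H : Subgroup PSL} {x : H} (hx : Census.Semi p x) : Census.Semi p (x : PSL) :=
  ⟨fun h => hx.1 (Subtype.ext h), by rw [Subgroup.orderOf_coe]; exact hx.2⟩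

theorem census (H : Subgroup PSL) :
    Census.Data p (fun x : H => (torus (x : PSL)).subgroupOf H) where
  cases x hx := by
    rcases semi_or_orderOf p (x : PSL) (fun h => hx (Subtype.ext h)) with h | h
    · left; rwa [Subgroup.orderOf_coe] at h
    · exact Or.inr ⟨hx, by rw [← Subgroup.orderOf_coe]; exact h.2⟩
  mem x _ := mem_torus _
  cyclic x hx := by
    have := isCyclic_torus p (semi_coe p hx)
    let f : (torus (x : PSL)).subgroupOf H →* torus (x : PSL) :=
      { toFun := fun y => ⟨((y : H) : PSL), y.2⟩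
        map_one' := rfl
        map_mul' := fun _ _ => rfl }
    exact isCyclic_of_injective f fun a b e => Subtype.ext (Subtype.ext (congrArg (fun z : torus (x : PSL) => (z : PSL)) e))
  coprime x hx h := by
    refine not_dvd_card_torus p (semi_coe p hx) (h.trans ?_)
    rw [← Subgroup.card_map_of_injective H.subtype_injective, Subgroup.subgroupOf_map_subtype]
    exact Subgroup.card_dvd_of_le inf_le_left
  eq_of_mem x y hx hy hy1 := by
    show (torus (y : PSL)).subgroupOf H = (torus (x : PSL)).subgroupOf H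
    rw [torus_eq_of_mem p (y := (y : PSL)) (semi_coe p hx) hy fun h => hy1 (Subtype.ext h)]
  conj x g _ y hy := by
    show ((g * y * g⁻¹ : H) : PSL) ∈ torus ((g * x * g⁻¹ : H) : PSL)
    exact mem_torus_conj (g : PSL) hy
  norm x hx := by
    set T := torus (x : PSL)
    refine le_trans ?_ (relIndex_torus p (semi_coe p hx))
    have hN : (Subgroup.normalizer ((T.subgroupOf H : Subgroup H) : Set H)).map H.subtype ≤
        Subgroup.normalizer (T : Set PSL) := by
      rintro _ ⟨n, hn, rfl⟩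
      rw [CA.mem_normalizer_iff_forall]
      intro t ht
      have h1 : n * x * n⁻¹ ∈ T.subgroupOf H := (Subgroup.mem_normalizer_iff.1 hn x).1 (mem_torus _)
      have h2 : torus ((n * x * n⁻¹ : H) : PSL) = T := torus_eq_of_mem p (semi_coe p hx) h1
        (fun h => hx.1 (conj_eq_one_iff.1 (Subtype.ext h)))
      rw [← h2]
      exact mem_torus_conj (n : PSL) ht
    show (T.comap H.subtype).relIndex _ ≤ _
    rw [Subgroup.relIndex_comap]
    exact Subgroup.relIndex_le_of_le_right hN Subgroup.index_ne_zero_of_finite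
  unip u y hu hc := Subtype.ext (by
    rw [Subgroup.coe_pow]
    exact pow_eq_one_of_commute p (u := (u : PSL)) (by rwa [Subgroup.orderOf_coe]) (hc.map H.subtype))
  borel P hP x hx hxs := by
    obtain ⟨k, hk⟩ := exists_borel_frame p H P hP
    intro y hy
    rw [hk]
    have h1 := mem_torus_conj (x := (x : PSL)) k hy
    refine torus_le_borelPSL p ?_ ((hk x).1 hx) h1
    exact Census.semi_conj (semi_coe p hxs) k
  borel_cyclic P hP C hC hc := by
    obtain ⟨k, hk⟩ := exists_borel_frame p H P hP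
    let f : C →* PSL := ((MulAut.conj k).toMonoidHom.comp H.subtype).comp C.subtype
    have hf : Function.Injective f :=
      ((MulAut.conj k).injective.comp H.subtype_injective).comp C.subtype_injective
    have hcard : Nat.card f.range = Nat.card C := (Nat.card_congr (MonoidHom.ofInjective hf).toEquiv).symm
    have := isCyclic_of_le_borelPSL p (C := f.range) (by
      rintro _ ⟨c, rfl⟩
      exact (hk c).1 (hC c.2)) (hcard.symm ▸ hc)
    exact (MonoidHom.ofInjective hf).isCyclic.2 this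

end CfsgLib.SL2
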