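import Mathlib
import Cfsg.Agent.Lib.SL2.PSLCensus
import Cfsg.Agent.Lib.SL2.Dickson

/-!
Dickson's classification of the subgroups of `PSL(2, q)`.
-/

set_option autoImplicit false
set_option linter.unusedSectionVars false
set_option maxHeartbeats 1000000

namespace CfsgLib.SL2

open Matrix
open scoped MatrixGroups Pointwise

variable {F : Type*} [Field F] [Finite F] (p : ℕ) [hp : Fact p.Prime] [CharP F p]

local notation "PSL" => ProjectiveSpecialLinearGroup (Fin 2) F

/-- The last alternative of Dickson's theorem. -/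
def SubfieldShape (F : Type*) [Field F] (G : Type*) [Group G] : Prop :=
  ∃ (K : Type) (_ : Field K) (_ : Fintype K) (m : ℕ), Fintype.card K ^ m = Nat.card F ∧
    (Nonempty (G ≃* ProjectiveSpecialLinearGroup (Fin 2) K) ∨
      Nonempty (G ≃* ProjGenLinGroup (Fin 2) K))

/-- `SubfieldShape`, together with a field embedding that places the subgroup inside a conjugate of
`PGL(2, K)`. -/
def SubfieldShapeIn {F : Type*} [Field F] {G : Type*} [Group G]
    (φ : G →* ProjectiveSpecialLinearGroup (Fin 2) F) : Prop :=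
  ∃ (K : Type) (_ : Field K) (_ : Fintype K) (m : ℕ), Fintype.card K ^ m = Nat.card F ∧
    (Nonempty (G ≃* ProjectiveSpecialLinearGroup (Fin 2) K) ∨
      Nonempty (G ≃* ProjGenLinGroup (Fin 2) K)) ∧
    ∃ (f : K →+* F) (D : GL (Fin 2) F), ∀ y : G, ∃ z : GL (Fin 2) K,
      ProjectiveSpecialLinearGroup.toPGL (φ y) =
        ProjGenLinGroup.mk (D * GeneralLinearGroup.map f z * D⁻¹)

theorem up_eq_upperHom (t : F) : up t = upperHom (Multiplicative.ofAdd t) := rfl

theorem proj_up_injective : Function.Injective (fun t : F => proj (up t)) := by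
  intro a b h
  rcases eq_or_eq_neg_of_proj_eq h with e | e
  · have := congrFun (congrFun (congrArg Subtype.val e) 0) 1
    simpa [up_coe] using this.symm
  · have e00 := congrFun (congrFun (congrArg Subtype.val e) 0) 0
    have e01 := congrFun (congrFun (congrArg Subtype.val e) 0) 1
    rw [Matrix.SpecialLinearGroup.coe_neg] at e00 e01
    simp [up_coe] at e00 e01
    rw [e01]
    linear_combination a * e00

theorem proj_up_mem_upperPSL (t : F) : proj (up t) ∈ upperPSL F :=
  mem_upperPSL.2 ⟨Multiplicative.ofAdd t, rfl⟩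

theorem mem_upperPSL_up {y : PSL} (h : y ∈ upperPSL F) : ∃ t : F, proj (up t) = y := by
  obtain ⟨a, ha⟩ := mem_upperPSL.1 h
  exact ⟨a.toAdd, ha⟩

theorem upperPSL_le_borelPSL : upperPSL F ≤ borelPSL F := fun y hy => by
  obtain ⟨t, rfl⟩ := mem_upperPSL_up hy
  rw [proj_mem_borelPSL, up_coe]
  rfl

/-- A field with the same elements as a finite subfield, in universe zero. -/
theorem exists_small_field (K₀ : Subfield F) :
    ∃ (K : Type) (_ : Field K) (_ : Fintype K) (f : K →+* F), Set.range f = K₀ := by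
  obtain ⟨n, ⟨e⟩⟩ := Finite.exists_equiv_fin K₀
  let _ : Field (Fin n) := e.symm.field
  let f : Fin n →+* F :=
    { toFun := fun a => ((e.symm a : K₀) : F)
      map_one' := by
        show ((e.symm (e 1) : K₀) : F) = 1
        rw [e.symm_apply_apply]; rfl
      map_mul' := fun a b => by
        show ((e.symm (e (e.symm a * e.symm b)) : K₀) : F) = _
        rw [e.symm_apply_apply]; rfl
      map_zero' := by
        show ((e.symm (e 0) : K₀) : F) = 0
        rw [e.symm_apply_apply]; rfl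
      map_add' := fun a b => by
        show ((e.symm (e (e.symm a + e.symm b)) : K₀) : F) = _
        rw [e.symm_apply_apply]; rfl }
  refine ⟨Fin n, inferInstance, inferInstance, f, ?_⟩
  ext x
  constructor
  · rintro ⟨a, rfl⟩
    exact (e.symm a).2
  · intro hx
    exact ⟨e ⟨x, hx⟩, by show ((e.symm (e ⟨x, hx⟩) : K₀) : F) = x; rw [e.symm_apply_apply]⟩

theorem subfield_case_aux {G : Type*} [Group G] [Finite G] (φ : G →* PSL)
    (hφ : Function.Injective φ) (P : Sylow p G)
    (hP : ∀ y, y ∈ (P : Subgroup G) ↔ φ y ∈ upperPSL F)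
    (hN : ∀ y, y ∈ Subgroup.normalizer ((P : Subgroup G) : Set G) ↔ φ y ∈ borelPSL F)
    {e : ℕ} (he : 2 ≤ e) (hπ : 3 ≤ Nat.card (P : Subgroup G))
    (hor : e + 1 = Nat.card (P : Subgroup G) ∨ 2 * e + 1 = Nat.card (P : Subgroup G))
    (hcN : Nat.card (Subgroup.normalizer ((P : Subgroup G) : Set G)) = Nat.card (P : Subgroup G) * e)
    (hn : Nat.card (Sylow p G) = Nat.card (P : Subgroup G) + 1)
    {W : SL(2, F)} {w : G} (hw : φ w = proj W) (hW : (W : Matrix (Fin 2) (Fin 2) F) 0 0 = 0) :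
    SubfieldShapeIn φ := by
  classical
  set N := Subgroup.normalizer ((P : Subgroup G) : Set G) with hNdef
  set π := Nat.card (P : Subgroup G) with hπdef
  have hcG : Nat.card G = (π + 1) * (π * e) := by
    rw [← hn, ← hcN, P.card_eq_index_normalizer]
    exact (Subgroup.index_mul_card N).symm
  set γ := (W : Matrix (Fin 2) (Fin 2) F) 1 0 with hγdef
  have hdW : -((W : Matrix (Fin 2) (Fin 2) F) 0 1 * γ) = 1 := by
    have := det_eq W
    rw [hW, zero_mul, zero_sub] at this
    exact this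
  have hγ : γ ≠ 0 := fun h => by rw [h, mul_zero, neg_zero] at hdW; exact zero_ne_one hdW
  -- the criterion
  have crit : ∀ x : G, ∀ X : SL(2, F), φ x = proj X → x • P = w • P →
      (X : Matrix (Fin 2) (Fin 2) F) 0 0 = 0 := by
    intro x X hX hxP
    have hmem : w⁻¹ * x ∈ N := by
      rw [hNdef]
      refine Sylow.smul_eq_iff_mem_normalizer.1 ?_
      rw [mul_smul, hxP, inv_smul_smul]
    rw [hN, map_mul, map_inv, hw, hX, ← map_inv, ← map_mul, proj_mem_borelPSL] at hmem
    have hXW : X = W * (W⁻¹ * X) := by rw [mul_inv_cancel_left]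
    rw [hXW, mul_entry, hW, hmem]
    ring
  -- the additive group
  let A : AddSubgroup F :=
    { carrier := {t | proj (up t) ∈ φ.range}
      zero_mem' := by
        show proj (up (0 : F)) ∈ φ.range
        rw [up_zero, map_one]; exact one_mem _
      add_mem' := fun {a b} ha hb => by
        show proj (up (a + b)) ∈ φ.range
        rw [up_add, map_mul]; exact mul_mem ha hb
      neg_mem' := fun {a} ha => by
        show proj (up (-a)) ∈ φ.range
        rw [up_neg, map_inv]; exact inv_mem ha }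
  have hAP : ∀ t, t ∈ A → ∃ u ∈ (P : Subgroup G), φ u = proj (up t) := fun t ⟨u, hu⟩ =>
    ⟨u, (hP u).2 (hu ▸ proj_up_mem_upperPSL t), hu⟩
  choose gen hgenP hgen using hAP
  have cardA : Nat.card A = π := by
    refine Nat.card_eq_of_bijective (fun t : A => (⟨gen t.1 t.2, hgenP t.1 t.2⟩ : (P : Subgroup G)))
      ⟨fun a b h => Subtype.ext (proj_up_injective ?_), fun u => ?_⟩
    · show proj (up (a : F)) = proj (up (b : F))
      rw [← hgen _ a.2, ← hgen _ b.2]
      exact congrArg φ (congrArg Subtype.val h)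
    · obtain ⟨t, ht⟩ := mem_upperPSL_up ((hP u).1 u.2)
      refine ⟨⟨t, ⟨u, ht.symm⟩⟩, Subtype.ext (hφ ?_)⟩
      show φ (gen t _) = φ u
      rw [hgen, ht]
  -- the other Sylow subgroups
  have hwN : w ∉ N := fun h => by
    rw [hN, hw, proj_mem_borelPSL] at h
    exact hγ h
  have hwP : w • P ≠ P := fun h => hwN (Sylow.smul_eq_iff_mem_normalizer.1 h)
  let g (t : A) : G := gen t.1 t.2
  have hgfix : ∀ t : A, g t • P = P := fun t =>
    Sylow.smul_eq_iff_mem_normalizer.2 (Subgroup.le_normalizer (hgenP t.1 t.2))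
  let orbit (t : A) : {R : Sylow p G // R ≠ P} := ⟨(g t * w) • P, fun h => hwP (by
    rw [mul_smul] at h
    conv_rhs at h => rw [← hgfix t]
    exact smul_left_cancel _ h)⟩
  have horb : Function.Surjective orbit := by
    have hinj : Function.Injective orbit := by
      intro a b h
      have h' : ((g b)⁻¹ * (g a * w)) • P = w • P := by
        rw [mul_smul, show (g a * w) • P = (g b * w) • P from congrArg Subtype.val h, mul_smul,
          inv_smul_smul]
      have h0 := crit _ ((up (b : F))⁻¹ * (up (a : F) * W)) (by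
        rw [map_mul, map_mul, map_inv, hgen, hgen, hw, map_mul, map_mul, map_inv]) h'
      rw [← up_neg, ← mul_assoc, ← up_add, mul_entry, hW, ← hγdef] at h0
      simp [up_coe] at h0
      refine Subtype.ext ?_
      have := h0.resolve_right hγ
      linear_combination this
    have hc : Nat.card {R : Sylow p G // R ≠ P} = π := by
      have : Fintype (Sylow p G) := Fintype.ofFinite _
      rw [Nat.card_eq_fintype_card, Fintype.card_subtype_compl, Fintype.card_subtype_eq,
        ← Nat.card_eq_fintype_card, hn, Nat.add_sub_cancel]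
    exact (hinj.bijective_of_nat_card_le (by rw [cardA, hc])).2
  -- every `x ∉ N` is governed by a translation
  have move : ∀ x : G, ∀ X : SL(2, F), φ x = proj X → x • P ≠ P →
      ∃ t ∈ A, ((up (-t) * X : SL(2, F)) : Matrix (Fin 2) (Fin 2) F) 0 0 = 0 := by
    intro x X hX hxP
    obtain ⟨t, ht⟩ := horb ⟨x • P, hxP⟩
    refine ⟨t, t.2, crit ((g t)⁻¹ * x) _ (by rw [map_mul, map_inv, hgen, hX, map_mul, up_neg, map_inv]) ?_⟩
    have ht' : (g t * w) • P = x • P := congrArg Subtype.val ht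
    rw [mul_smul, ← ht', mul_smul, inv_smul_smul]
  -- lower unitriangular elements
  have hlo : ∀ a ∈ A, a ≠ 0 → proj (lo a⁻¹) ∈ φ.range := by
    have hmem : ∀ t : A, proj (lo (-(γ * γ * t))) ∈ φ.range := by
      intro t
      have e1 : W * up (t : F) * W⁻¹ = lo (-(γ * γ * t)) := by
        rw [mul_inv_eq_iff_eq_mul]
        apply ext2 <;> simp [mul_entry, up_coe, lo_coe, hW, ← hγdef]
        linear_combination (-(γ * t)) * hdW
      rw [← e1, map_mul, map_mul, map_inv, ← hw, ← hgen _ t.2, ← map_inv, ← map_mul, ← map_mul]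
      exact ⟨_, rfl⟩
    have hinv : ∀ v : F, v ≠ 0 → proj (lo v) ∈ φ.range → v⁻¹ ∈ A := by
      intro v hv ⟨x, hx⟩
      have hxN : x • P ≠ P := fun h => by
        have h' : x ∈ N := Sylow.smul_eq_iff_mem_normalizer.1 h
        rw [hN, hx, proj_mem_borelPSL, lo_coe] at h'
        exact hv h'
      obtain ⟨t, ht, h0⟩ := move x _ hx hxN
      simp [mul_entry, up_coe, lo_coe] at h0
      have : t * v = 1 := by linear_combination -h0
      rwa [← eq_inv_of_mul_eq_one_left this]
    let Anz := {t : A // t ≠ 0}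
    let r : Anz → Anz := fun t => ⟨⟨(-(γ * γ * ((t.1 : A) : F)))⁻¹, hinv _ (by
        simpa [hγ] using fun h => t.2 (Subtype.ext h)) (hmem t.1)⟩, fun h => t.2 (Subtype.ext (by
        simpa [hγ] using congrArg Subtype.val h))⟩
    have hr : Function.Injective r := fun a b h => Subtype.ext (Subtype.ext (by
      have h' : (-(γ * γ * ((a.1 : A) : F)))⁻¹ = (-(γ * γ * ((b.1 : A) : F)))⁻¹ :=
        congrArg (fun z : Anz => ((z.1 : A) : F)) h
      simpa [hγ] using h'))
    intro a ha ha0
    obtain ⟨t, ht⟩ := (Finite.injective_iff_surjective.1 hr) ⟨⟨a, ha⟩, fun h => ha0 (congrArg Subtype.val h)⟩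
    have ht' : (-(γ * γ * ((t.1 : A) : F)))⁻¹ = a := congrArg (fun z : Anz => ((z.1 : A) : F)) ht
    rw [← ht', inv_inv]
    exact hmem t.1
  -- the multiplicative group
  have hlift : ∀ y : N, ∃ Y : SL(2, F), φ y = proj Y ∧ (Y : Matrix (Fin 2) (Fin 2) F) 1 0 = 0 := fun y => by
    obtain ⟨Y, hY, hYy⟩ := (hN y).1 y.2
    exact ⟨Y, hYy.symm, hY⟩
  choose Y hY hY10 using hlift
  have hd : ∀ y, (Y y : Matrix (Fin 2) (Fin 2) F) 0 0 * (Y y : Matrix (Fin 2) (Fin 2) F) 1 1 = 1 := by
    intro y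
    have := det_eq (Y y)
    rw [hY10, mul_zero, sub_zero] at this
    exact this
  let sq : N → F := fun y => (Y y : Matrix (Fin 2) (Fin 2) F) 0 0 * (Y y : Matrix (Fin 2) (Fin 2) F) 0 0
  have sq_eq : ∀ (y : N) (Z : SL(2, F)), φ (y : G) = proj Z →
      sq y = (Z : Matrix (Fin 2) (Fin 2) F) 0 0 * (Z : Matrix (Fin 2) (Fin 2) F) 0 0 := by
    intro y Z hZ
    rcases eq_or_eq_neg_of_proj_eq (hZ.symm.trans (hY y)) with h | h <;> simp [sq, h]
  let sqH : N →* F :=
    { toFun := sq
      map_one' := by rw [sq_eq 1 1 (by simp)]; simp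
      map_mul' := fun a b => by
        rw [sq_eq (a * b) (Y a * Y b) (by rw [map_mul proj, ← hY a, ← hY b, Subgroup.coe_mul, map_mul])]
        rw [mul_entry, hY10, mul_zero, add_zero]
        show _ = sq a * sq b
        simp only [sq]
        ring }
  have hker : ∀ y : N, sqH y = 1 → (y : G) ∈ (P : Subgroup G) := by
    intro y hy
    rw [hP]
    refine mem_upperPSL_of_pow p ((hN y).1 y.2) ?_
    by_contra hpow
    have hy1 : φ (y : G) ≠ 1 := fun h => hpow (by rw [h, one_pow])
    have hs := (semi_or_orderOf p _ hy1).resolve_left fun h => hpow (by rw [← h, pow_orderOf_eq_one])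
    apply regular_of_semi p (hY y).symm hs
    have hy' : (Y y : Matrix (Fin 2) (Fin 2) F) 0 0 * (Y y : Matrix (Fin 2) (Fin 2) F) 0 0 = 1 := hy
    have h11 : (Y y : Matrix (Fin 2) (Fin 2) F) 1 1 = (Y y : Matrix (Fin 2) (Fin 2) F) 0 0 := by
      linear_combination (Y y : Matrix (Fin 2) (Fin 2) F) 0 0 * hd y -
        (Y y : Matrix (Fin 2) (Fin 2) F) 1 1 * hy'
    rw [Matrix.trace_fin_two, h11]
    linear_combination 4 * hy'
  let M : Set F := Set.range sqH
  have hMe : e ≤ M.ncard := by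
    let sqU : N →* Fˣ := sqH.toHomUnits
    have h1 : Nat.card sqU.range ≤ M.ncard := by
      rw [← Nat.card_coe_set_eq]
      refine Nat.card_le_card_of_injective (fun u => ⟨((u : Fˣ) : F), ?_⟩) fun a b h =>
        Subtype.ext (Units.ext (congrArg Subtype.val h))
      obtain ⟨y, hy⟩ := u.2
      exact ⟨y, by rw [← hy]; rfl⟩
    refine le_trans ?_ h1
    have h2 := sqU.ker.card_mul_index
    rw [Subgroup.index_ker, hcN] at h2
    have h3 : Nat.card sqU.ker ≤ π := by
      refine Nat.card_le_card_of_injective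
        (fun y => (⟨(y.1 : G), hker y.1 (congrArg Units.val (MonoidHom.mem_ker.1 y.2))⟩ : (P : Subgroup G)))
        fun a b h => Subtype.ext (Subtype.ext (congrArg (fun z : (P : Subgroup G) => (z : G)) h))
    have h4 : π * e ≤ π * Nat.card sqU.range := h2 ▸ Nat.mul_le_mul_right _ h3
    exact Nat.le_of_mul_le_mul_left h4 (by omega)
  have hMA : ∀ l ∈ M, ∀ t ∈ A, l * t ∈ A := by
    rintro _ ⟨y, rfl⟩ t ht
    show proj (up (sq y * t)) ∈ φ.range
    refine ⟨(y : G) * gen t ht * (y : G)⁻¹, ?_⟩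
    rw [map_mul, map_mul, map_inv, hgen, hY, ← map_inv, ← map_mul, ← map_mul]
    congr 1
    rw [mul_inv_eq_iff_eq_mul]
    apply ext2 <;> simp [mul_entry, up_coe, hY10, sq]
    linear_combination -(Y y : Matrix (Fin 2) (Fin 2) F) 0 0 * t * hd y
  -- the field
  let K₀ : Subfield F :=
    { carrier := {l | ∀ t ∈ A, l * t ∈ A}
      one_mem' := fun t ht => by simpa using ht
      mul_mem' := fun {a b} ha hb t ht => by rw [mul_assoc]; exact ha _ (hb t ht)
      zero_mem' := fun t ht => by simpa using A.zero_mem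
      add_mem' := fun {a b} ha hb t ht => by rw [add_mul]; exact A.add_mem (ha t ht) (hb t ht)
      neg_mem' := fun {a} ha t ht => by rw [neg_mul]; exact A.neg_mem (ha t ht)
      inv_mem' := fun a ha t ht => by
        by_cases ha0 : a = 0
        · simp [ha0, A.zero_mem]
        obtain ⟨s, hs⟩ := (Finite.injective_iff_surjective.1
          (show Function.Injective (fun s : A => (⟨a * s, ha _ s.2⟩ : A)) from fun x y h =>
            Subtype.ext (mul_left_cancel₀ ha0 (congrArg Subtype.val h)))) ⟨t, ht⟩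
        have hs' : a * (s : F) = t := congrArg Subtype.val hs
        rw [← hs', inv_mul_cancel_left₀ ha0]
        exact s.2 }
  obtain ⟨K, fK, fT, f, hf⟩ := exists_small_field K₀
  have hfA : ∀ k, ∀ t ∈ A, f k * t ∈ A := fun k => by
    have : f k ∈ (K₀ : Set F) := hf ▸ Set.mem_range_self k
    exact this
  let _ : Algebra K F := f.toAlgebra
  let _ := Fintype.ofFinite F
  have hm : Nat.card F = Fintype.card K ^ Module.finrank K F := by
    rw [Nat.card_eq_fintype_card]; exact Module.card_eq_pow_finrank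
  let Asub : Submodule K F :=
    { A.toAddSubmonoid with smul_mem' := fun k t ht => hfA k t ht }
  obtain ⟨s, hs⟩ : ∃ s, π = Fintype.card K ^ s := by
    have : Fintype Asub := Fintype.ofFinite _
    exact ⟨_, by rw [← cardA, ← Module.card_eq_pow_finrank (K := K) (V := Asub), ← Nat.card_eq_fintype_card]; rfl⟩
  have hMK : M.ncard + 1 ≤ Fintype.card K := by
    have h0 : (0 : F) ∉ M := by
      rintro ⟨y, hy⟩
      have h' : (sqH.toHomUnits y : F) = 0 := hy
      exact (sqH.toHomUnits y).ne_zero h'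
    rw [← Set.ncard_insert_of_notMem h0, ← Nat.card_eq_fintype_card, ← Set.ncard_range_of_injective f.injective]
    refine Set.ncard_le_ncard (Set.insert_subset ⟨0, map_zero f⟩ ?_) (Set.toFinite _)
    intro l hl
    rw [hf]
    exact hMA l hl
  have hKπ : Fintype.card K = π := by
    have hK2 : 3 ≤ Fintype.card K := by omega
    rcases Nat.lt_or_ge s 2 with h | h
    · interval_cases s
      · rw [pow_zero] at hs; omega
      · rw [hs, pow_one]
    · exfalso
      have h2 : Fintype.card K ^ 2 ≤ π := hs ▸ Nat.pow_le_pow_right (by omega) h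
      rw [pow_two] at h2
      have h3 : 3 * Fintype.card K ≤ Fintype.card K * Fintype.card K := Nat.mul_le_mul_right _ hK2
      omega
  obtain ⟨u0, hu0A, hu0⟩ : ∃ u ∈ A, u ≠ 0 := by
    have : Nontrivial A := Finite.one_lt_card_iff_nontrivial.1 (by rw [cardA]; omega)
    obtain ⟨u, hu⟩ := exists_ne (0 : A)
    exact ⟨u, u.2, fun h => hu (Subtype.ext h)⟩
  have hAspan : ∀ t ∈ A, ∃ k, f k * u0 = t := by
    intro t ht
    have hinj : Function.Injective (fun k : K => (⟨f k * u0, hfA k u0 hu0A⟩ : A)) := fun a b h =>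
      f.injective (mul_right_cancel₀ hu0 (congrArg Subtype.val h))
    obtain ⟨k, hk⟩ := (hinj.bijective_of_nat_card_le (by rw [cardA, Nat.card_eq_fintype_card, hKπ])).2 ⟨t, ht⟩
    exact ⟨k, congrArg Subtype.val hk⟩
  -- the map
  let D : GL (Fin 2) F := GeneralLinearGroup.mkOfDetNeZero !![u0, 0; 0, 1] (by simp [Matrix.det_fin_two, hu0])
  let Φ : GL (Fin 2) K →* ProjGenLinGroup (Fin 2) F :=
    ProjGenLinGroup.mk.comp ((MulAut.conj D).toMonoidHom.comp (GeneralLinearGroup.map f))
  have hΦker : Φ.ker = Subgroup.center (GL (Fin 2) K) := by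
    ext z
    rw [MonoidHom.mem_ker]
    show ProjGenLinGroup.mk (D * GeneralLinearGroup.map f z * D⁻¹) = 1 ↔ _
    rw [map_mul, map_mul, map_inv, conj_eq_one_iff, ProjGenLinGroup.mk_eq_one,
      GeneralLinearGroup.center_eq_range_scalar, GeneralLinearGroup.center_eq_range_scalar]
    constructor
    · rintro ⟨c, hc⟩
      have hc' := congrArg Units.val hc
      have e01 := congrFun (congrFun hc' 0) 1
      have e10 := congrFun (congrFun hc' 1) 0
      have e00 := congrFun (congrFun hc' 0) 0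
      have e11 := congrFun (congrFun hc' 1) 1
      simp [GeneralLinearGroup.map, GeneralLinearGroup.coe_scalar] at e01 e10 e00 e11
      have h01 : (z : Matrix (Fin 2) (Fin 2) K) 0 1 = 0 := f.injective (by rw [map_zero]; exact e01.symm)
      have h10 : (z : Matrix (Fin 2) (Fin 2) K) 1 0 = 0 := f.injective (by rw [map_zero]; exact e10.symm)
      have h11 : (z : Matrix (Fin 2) (Fin 2) K) 1 1 = (z : Matrix (Fin 2) (Fin 2) K) 0 0 :=
        f.injective (by rw [← e11, ← e00])
      have hz0 : (z : Matrix (Fin 2) (Fin 2) K) 0 0 ≠ 0 := fun h => by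
        have := (GeneralLinearGroup.det z).ne_zero
        rw [GeneralLinearGroup.val_det_apply, Matrix.det_fin_two, h01, h10, h] at this
        simp at this
      refine ⟨Units.mk0 _ hz0, Units.ext ?_⟩
      ext i j
      fin_cases i <;> fin_cases j <;> simp [GeneralLinearGroup.coe_scalar, h01, h10, h11]
    · rintro ⟨c, rfl⟩
      refine ⟨Units.map f.toMonoidHom c, Units.ext ?_⟩
      ext i j
      fin_cases i <;> fin_cases j <;> simp [GeneralLinearGroup.map, GeneralLinearGroup.coe_scalar]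
  set R : Subgroup (ProjGenLinGroup (Fin 2) F) :=
    (ProjectiveSpecialLinearGroup.toPGL.comp φ).range with hR
  have : Finite R := Finite.of_surjective _ (ProjectiveSpecialLinearGroup.toPGL.comp φ).rangeRestrict_surjective
  have hinjR : Function.Injective (ProjectiveSpecialLinearGroup.toPGL.comp φ) :=
    ProjectiveSpecialLinearGroup.toPGL_injective.comp hφ
  have hmemR : ∀ (X : SL(2, F)), proj X ∈ φ.range → ∀ Z : GL (Fin 2) F, ∀ c : F, c ≠ 0 →
      (Z : Matrix (Fin 2) (Fin 2) F) = c • (X : Matrix (Fin 2) (Fin 2) F) →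
      ProjGenLinGroup.mk Z ∈ R := by
    rintro X ⟨x, hx⟩ Z c hc hZ
    refine ⟨x, ?_⟩
    show ProjectiveSpecialLinearGroup.toPGL (φ x) = _
    rw [hx]
    show ProjGenLinGroup.mk (Matrix.SpecialLinearGroup.toGL X) = _
    rw [ProjGenLinGroup.mk_eq_mk_iff]
    refine ⟨Units.mk0 c hc, Units.ext ?_⟩
    rw [Units.val_mul, hZ, GeneralLinearGroup.coe_scalar, Units.val_mk0]
    ext i j
    fin_cases i <;> fin_cases j <;> simp [Matrix.mul_apply, Fin.sum_univ_two, Matrix.scalar_apply, mul_comm]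
  have hDv : (D : Matrix (Fin 2) (Fin 2) F) = !![u0, 0; 0, 1] := rfl
  have hconj : ∀ (z : GL (Fin 2) K) (X : Matrix (Fin 2) (Fin 2) F),
      X * !![u0, 0; 0, 1] = !![u0, 0; 0, 1] * (z : Matrix (Fin 2) (Fin 2) K).map f →
      ((D * GeneralLinearGroup.map f z * D⁻¹ : GL (Fin 2) F) : Matrix (Fin 2) (Fin 2) F) = X := by
    intro z X h
    rw [Units.val_mul, Units.val_mul, hDv,
      show ((GeneralLinearGroup.map f z : GL (Fin 2) F) : Matrix (Fin 2) (Fin 2) F) =
        (z : Matrix (Fin 2) (Fin 2) K).map f from rfl, ← h, ← hDv, mul_assoc, Units.mul_inv, mul_one]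
  have hSL : ∀ z : SL(2, K), Φ (Matrix.SpecialLinearGroup.toGL z) ∈ R := by
    intro z
    refine Matrix.SL2.transvection_induction (fun z => Φ (Matrix.SpecialLinearGroup.toGL z) ∈ R)
      (fun i j hij k => ?_) (fun a b ha hb => by
        show Φ (Matrix.SpecialLinearGroup.toGL (a * b)) ∈ R
        rw [map_mul, map_mul]; exact mul_mem ha hb) z
    fin_cases i <;> fin_cases j
    · exact absurd rfl hij
    · refine hmemR (up (f k * u0)) (hfA k u0 hu0A) _ 1 one_ne_zero (hconj _ _ ?_)
      rw [one_smul]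
      ext a b
      fin_cases a <;> fin_cases b <;>
        simp [up_coe, Matrix.mul_apply, Fin.sum_univ_two, Matrix.SpecialLinearGroup.transvection_coe] <;> ring
    · by_cases hk : k = 0
      · subst hk
        rw [show Matrix.SpecialLinearGroup.transvection hij (0 : K) = 1 from Subtype.ext (by
          simp [Matrix.SpecialLinearGroup.transvection_coe]), map_one, map_one]
        exact one_mem _
      · refine hmemR (lo (f k⁻¹ * u0)⁻¹) (hlo _ (hfA _ _ hu0A)
          (mul_ne_zero (by simpa using hk) hu0)) _ 1 one_ne_zero (hconj _ _ ?_)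
        rw [one_smul]
        ext a b
        fin_cases a <;> fin_cases b <;>
          simp [lo_coe, Matrix.mul_apply, Fin.sum_univ_two, Matrix.SpecialLinearGroup.transvection_coe, hk]
        field_simp
    · exact absurd rfl hij
  have hcardR : Nat.card R = Nat.card G := (Nat.card_congr (MonoidHom.ofInjective hinjR).toEquiv).symm
  refine ⟨K, fK, fT, _, hm.symm, ?_⟩
  suffices hsuff : (∃ g : GL (Fin 2) K →* ProjGenLinGroup (Fin 2) F, g = Φ ∧ R ≤ g.range) ∧
      (Nonempty (G ≃* ProjectiveSpecialLinearGroup (Fin 2) K) ∨ Nonempty (G ≃* ProjGenLinGroup (Fin 2) K)) by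
    obtain ⟨⟨g, rfl, hg⟩, hiso⟩ := hsuff
    refine ⟨hiso, f, D, fun y => ?_⟩
    obtain ⟨z, hz⟩ := hg ⟨y, rfl⟩
    exact ⟨z, hz.symm⟩
  have hcSL : Nat.card (SpecialLinearGroup (Fin 2) K) = π * ((π - 1) * (π + 1)) := by
    rw [card_SL_two', Nat.card_eq_fintype_card, hKπ]
  obtain ⟨t', ht'⟩ : ∃ t, π = t + 1 := ⟨π - 1, by omega⟩
  rcases hor with h | h
  · let ψ : ProjGenLinGroup (Fin 2) K →* ProjGenLinGroup (Fin 2) F :=
      QuotientGroup.lift (Subgroup.center (GL (Fin 2) K)) Φ hΦker.ge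
    have hψ : Function.Injective ψ := (QuotientGroup.injective_lift_iff _ _ _).2 hΦker.symm
    have hMK' : ∀ k : K, k ≠ 0 → ∃ y : N, sq y = f k := by
      intro k hk
      have hsub : M ⊆ Set.range f \ {0} := fun l hl => ⟨hf ▸ hMA l hl, fun h0 => by
        obtain ⟨y, hy⟩ := hl
        have h' : (sqH.toHomUnits y : F) = 0 := hy.trans h0
        exact (sqH.toHomUnits y).ne_zero h'⟩
      have heq : M = Set.range f \ {0} := Set.eq_of_subset_of_ncard_le hsub (by
        have h1 := Set.ncard_sdiff_singleton_of_mem (show (0 : F) ∈ Set.range f from ⟨0, map_zero f⟩)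
        rw [h1, Set.ncard_range_of_injective f.injective, Nat.card_eq_fintype_card, hKπ]
        omega) (Set.toFinite _)
      have hmem : f k ∈ M := heq.symm ▸ ⟨⟨k, rfl⟩, fun h0 => hk ((map_eq_zero f).1 h0)⟩
      obtain ⟨y, hy⟩ := hmem
      exact ⟨y, hy⟩
    have hdiag : ∀ l : K, ∀ hl : l ≠ 0,
        Φ (GeneralLinearGroup.mkOfDetNeZero !![l, 0; 0, 1] (by simp [Matrix.det_fin_two, hl])) ∈ R := by
      intro l hl
      obtain ⟨y, hy⟩ := hMK' l hl
      set a := (Y y : Matrix (Fin 2) (Fin 2) F) 0 0 with ha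
      have hne : ((y : G) * w) • P ≠ P := fun h => hwN (by
        have h' := mul_mem (inv_mem y.2) (Sylow.smul_eq_iff_mem_normalizer.1 h)
        rwa [inv_mul_cancel_left] at h')
      obtain ⟨t, ⟨x, hx⟩, h0⟩ := move _ (Y y * W) (by rw [map_mul, map_mul, hY, hw]) hne
      have hX : proj (up (-t) * Y y) ∈ φ.range :=
        ⟨x⁻¹ * y, by rw [map_mul, map_inv, hx, hY, map_mul, up_neg, map_inv]⟩
      refine hmemR _ hX _ a (fun h0' => ?_) (hconj _ _ ?_)
      · have := hd y
        rw [← ha, h0', zero_mul] at this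
        exact zero_ne_one this
      · have h01 : ((up (-t) * Y y : SL(2, F)) : Matrix (Fin 2) (Fin 2) F) 0 1 = 0 := by
          rw [← mul_assoc, mul_entry, hW, mul_zero, zero_add, ← hγdef] at h0
          exact (mul_eq_zero.1 h0).resolve_right hγ
        have h10 : ((up (-t) * Y y : SL(2, F)) : Matrix (Fin 2) (Fin 2) F) 1 0 = 0 := by
          simp [mul_entry, up_coe, hY10]
        have h00 : ((up (-t) * Y y : SL(2, F)) : Matrix (Fin 2) (Fin 2) F) 0 0 = a := by
          simp [mul_entry, up_coe, hY10, ha]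
        have h11 : ((up (-t) * Y y : SL(2, F)) : Matrix (Fin 2) (Fin 2) F) 1 1 =
            (Y y : Matrix (Fin 2) (Fin 2) F) 1 1 := by
          simp [mul_entry, up_coe, hY10]
        rw [Matrix.eta_fin_two ((up (-t) * Y y : SL(2, F)) : Matrix (Fin 2) (Fin 2) F), h00, h01, h10, h11]
        have hyv : sq y = f l := hy
        simp only [sq, ← ha] at hyv
        ext i j
        fin_cases i <;> fin_cases j <;>
          simp [Matrix.mul_apply, Fin.sum_univ_two, GeneralLinearGroup.val_mkOfDetNeZero]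
        · rw [← hyv]; ring
        · exact hd y
    have hle : ψ.range ≤ R := by
      rintro _ ⟨z, rfl⟩
      obtain ⟨z, rfl⟩ := ProjGenLinGroup.mk_surjective z
      show Φ z ∈ R
      set l := ((GeneralLinearGroup.det z : Kˣ) : K) with hl
      have hl0 : l ≠ 0 := (GeneralLinearGroup.det z).ne_zero
      set d := GeneralLinearGroup.mkOfDetNeZero !![l, 0; 0, 1] (by simp [Matrix.det_fin_two, hl0]) with hd'
      have hs : ((d⁻¹ * z : GL (Fin 2) K) : Matrix (Fin 2) (Fin 2) K).det = 1 := by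
        rw [← GeneralLinearGroup.val_det_apply, map_mul, map_inv, Units.val_mul,
          Units.val_inv_eq_inv_val, ← hl]
        rw [show ((GeneralLinearGroup.det d : Kˣ) : K) = l by
          rw [GeneralLinearGroup.val_det_apply]; simp [hd', GeneralLinearGroup.val_mkOfDetNeZero, Matrix.det_fin_two]]
        exact inv_mul_cancel₀ hl0
      have := mul_mem (hdiag l hl0) (hSL ⟨_, hs⟩)
      rw [← map_mul] at this
      convert this using 2
      rw [show Matrix.SpecialLinearGroup.toGL (⟨_, hs⟩ : SL(2, K)) = d⁻¹ * z from Units.ext rfl,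
        mul_inv_cancel_left]
    have hcard : Nat.card (ProjGenLinGroup (Fin 2) K) = Nat.card G := by
      rw [CfsgLib.Classical.card_PGL_eq_card_SL, hcSL, hcG, show e = t' by omega, ht', Nat.add_sub_cancel]
      ring
    have heq : ψ.range = R := Subgroup.eq_of_le_of_card_ge hle
      (by rw [hcardR, ← hcard, Nat.card_congr (MonoidHom.ofInjective hψ).toEquiv])
    refine ⟨⟨Φ, rfl, ?_⟩, Or.inr ⟨(MonoidHom.ofInjective hinjR).trans
      ((MulEquiv.subgroupCongr heq.symm).trans (MonoidHom.ofInjective hψ).symm)⟩⟩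
    rw [← heq]
    rintro _ ⟨z, rfl⟩
    obtain ⟨z, rfl⟩ := ProjGenLinGroup.mk_surjective z
    exact ⟨z, rfl⟩
  · let χ : SL(2, K) →* ProjGenLinGroup (Fin 2) F := Φ.comp Matrix.SpecialLinearGroup.toGL
    have hχker : χ.ker = Subgroup.center SL(2, K) := by
      rw [← MonoidHom.comap_ker, hΦker]
      ext z
      rw [Subgroup.mem_comap, Matrix.SpecialLinearGroup.toGL_mem_center_iff]
    let ψ : ProjectiveSpecialLinearGroup (Fin 2) K →* ProjGenLinGroup (Fin 2) F :=
      QuotientGroup.lift (Subgroup.center SL(2, K)) χ hχker.ge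
    have hψ : Function.Injective ψ := (QuotientGroup.injective_lift_iff _ _ _).2 hχker.symm
    have hle : ψ.range ≤ R := by
      rintro _ ⟨z, rfl⟩
      obtain ⟨z, rfl⟩ := proj_surjective z
      exact hSL z
    have hgcd : Nat.gcd 2 (π - 1) = 2 := by
      rw [show π - 1 = 2 * e by omega, Nat.gcd_mul_right_right]
    have hcard : Nat.card (ProjectiveSpecialLinearGroup (Fin 2) K) = Nat.card G := by
      have h1 := card_PSL (F := K)
      rw [Nat.card_eq_fintype_card (α := K), hKπ, hgcd] at h1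
      refine Nat.eq_of_mul_eq_mul_left (show 0 < 2 by norm_num) ?_
      rw [h1, hcG, show π - 1 = 2 * e by omega]
      ring
    have heq : ψ.range = R := Subgroup.eq_of_le_of_card_ge hle
      (by rw [hcardR, ← hcard, Nat.card_congr (MonoidHom.ofInjective hψ).toEquiv])
    refine ⟨⟨Φ, rfl, ?_⟩, Or.inl ⟨(MonoidHom.ofInjective hinjR).trans
      ((MulEquiv.subgroupCongr heq.symm).trans (MonoidHom.ofInjective hψ).symm)⟩⟩
    rw [← heq]
    rintro _ ⟨z, rfl⟩
    obtain ⟨z, rfl⟩ := proj_surjective z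
    exact ⟨Matrix.SpecialLinearGroup.toGL z, rfl⟩

theorem mem_sylow_iff_upper (H : Subgroup PSL) (P : Sylow p H) (k : PSL)
    (hk : ∀ u ∈ (P : Subgroup H), k * (u : PSL) * k⁻¹ ∈ upperPSL F) (y : H) :
    y ∈ (P : Subgroup H) ↔ k * (y : PSL) * k⁻¹ ∈ upperPSL F := by
  refine ⟨hk y, fun h => ?_⟩
  let S : Subgroup H := (upperPSL F).comap ((MulAut.conj k).toMonoidHom.comp H.subtype)
  have hS : IsPGroup p S := by
    obtain ⟨Q, hQ⟩ := exists_sylow_eq_upperPSL (F := F) p
    exact (hQ ▸ Q.2).comap_of_injective _ ((MulAut.conj k).injective.comp H.subtype_injective)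
  rw [← P.3 hS fun w hw => hk w hw]
  exact h

theorem normalizer_iff_borel (H : Subgroup PSL) (P : Sylow p H) (hP : (P : Subgroup H) ≠ ⊥) (k : PSL)
    (hk : ∀ u ∈ (P : Subgroup H), k * (u : PSL) * k⁻¹ ∈ upperPSL F) (y : H) :
    y ∈ Subgroup.normalizer ((P : Subgroup H) : Set H) ↔ k * (y : PSL) * k⁻¹ ∈ borelPSL F := by
  obtain ⟨u, hu, hu1⟩ := Subgroup.bot_or_exists_ne_one _ |>.resolve_left hP
  constructor
  · intro hy
    refine mem_borelPSL_of_conj (hk u hu) (fun h => hu1 (Subtype.ext (conj_eq_one_iff.1 h))) ?_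
    rw [show k * (y : PSL) * k⁻¹ * (k * (u : PSL) * k⁻¹) * (k * (y : PSL) * k⁻¹)⁻¹ =
      k * ((y * u * y⁻¹ : H) : PSL) * k⁻¹ by push_cast; group]
    exact hk _ ((Subgroup.mem_normalizer_iff.1 hy u).1 hu)
  · intro hy
    rw [CA.mem_normalizer_iff_forall]
    intro v hv
    rw [mem_sylow_iff_upper p H P k hk]
    have := borelPSL_conj hy (hk v hv)
    rwa [show k * (y : PSL) * k⁻¹ * (k * (v : PSL) * k⁻¹) * (k * (y : PSL) * k⁻¹)⁻¹ =
      k * ((y * v * y⁻¹ : H) : PSL) * k⁻¹ by push_cast; group] at this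

theorem subfield_case (H : Subgroup PSL) (P : Sylow p H) {e : ℕ} (he : 2 ≤ e)
    (hπ : 3 ≤ Nat.card (P : Subgroup H))
    (hor : e + 1 = Nat.card (P : Subgroup H) ∨ 2 * e + 1 = Nat.card (P : Subgroup H))
    (hcN : Nat.card (Subgroup.normalizer ((P : Subgroup H) : Set H)) = Nat.card (P : Subgroup H) * e)
    (hn : Nat.card (Sylow p H) = Nat.card (P : Subgroup H) + 1) : SubfieldShapeIn H.subtype := by
  obtain ⟨k, hk⟩ := exists_conj_mem_upperPSL p (P.2.map H.subtype)
  have hk' : ∀ u ∈ (P : Subgroup H), k * (u : PSL) * k⁻¹ ∈ upperPSL F := fun u hu => hk _ ⟨u, hu, rfl⟩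
  have hPb : (P : Subgroup H) ≠ ⊥ := fun h => by rw [h, Subgroup.card_bot] at hπ; omega
  obtain ⟨w, hw⟩ : ∃ w : H, w ∉ Subgroup.normalizer ((P : Subgroup H) : Set H) := by
    by_contra hc
    push Not at hc
    have := P.card_eq_index_normalizer
    change Nat.card (Sylow p H) = (Subgroup.normalizer ((P : Subgroup H) : Set H)).index at this
    rw [hn, show (Subgroup.normalizer ((P : Subgroup H) : Set H)).index = 1 from
      Subgroup.index_eq_one.2 ((Subgroup.eq_top_iff' _).2 hc)] at this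
    omega
  obtain ⟨W, hW⟩ := proj_surjective (k * (w : PSL) * k⁻¹)
  have hW10 : (W : Matrix (Fin 2) (Fin 2) F) 1 0 ≠ 0 := fun h => hw
    ((normalizer_iff_borel p H P hPb k hk' w).2 (hW ▸ proj_mem_borelPSL.2 h))
  set s := -((W : Matrix (Fin 2) (Fin 2) F) 0 0 / (W : Matrix (Fin 2) (Fin 2) F) 1 0) with hs
  set k2 := proj (up s) * k with hk2
  have hk2' : ∀ u ∈ (P : Subgroup H), k2 * (u : PSL) * k2⁻¹ ∈ upperPSL F := fun u hu => by
    rw [show k2 * (u : PSL) * k2⁻¹ = proj (up s) * (k * u * k⁻¹) * (proj (up s))⁻¹ by rw [hk2]; group]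
    exact borelPSL_conj (upperPSL_le_borelPSL (proj_up_mem_upperPSL s)) (hk' u hu)
  suffices hsuff : SubfieldShapeIn ((MulAut.conj k2).toMonoidHom.comp H.subtype) by
    obtain ⟨K, fK, fT, m, hm, hd, f, D, hz⟩ := hsuff
    obtain ⟨K2, hK2⟩ := proj_surjective k2
    refine ⟨K, fK, fT, m, hm, hd, f, (Matrix.SpecialLinearGroup.toGL K2)⁻¹ * D, fun y => ?_⟩
    obtain ⟨z, hz⟩ := hz y
    refine ⟨z, ?_⟩
    have e : (H.subtype y : PSL) = k2⁻¹ * (k2 * y * k2⁻¹) * k2 := by
      show (y : PSL) = _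
      group
    have e2 : ProjectiveSpecialLinearGroup.toPGL k2 = ProjGenLinGroup.mk (Matrix.SpecialLinearGroup.toGL K2) := by
      rw [← hK2]; rfl
    rw [e, map_mul, map_mul, map_inv, e2, show ProjectiveSpecialLinearGroup.toPGL (k2 * (y : PSL) * k2⁻¹) = _ from hz]
    simp only [map_mul, map_inv]
    group
  refine subfield_case_aux p ((MulAut.conj k2).toMonoidHom.comp H.subtype)
    ((MulAut.conj k2).injective.comp H.subtype_injective) P (mem_sylow_iff_upper p H P k2 hk2')
    (normalizer_iff_borel p H P hPb k2 hk2') he hπ hor hcN hn (W := up s * W * up (-s)) (w := w) ?_ ?_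
  · show k2 * (w : PSL) * k2⁻¹ = _
    rw [map_mul, map_mul, hW, show up (-s) = (up s)⁻¹ from up_neg s, map_inv, hk2]
    group
  · simp [mul_entry, up_coe, hs]
    field_simp
    ring

/-- Dickson's classification, recording where the subfield subgroups sit. -/
theorem dickson_in (H : Subgroup PSL) :
    (∃ c : PSL, c ∈ H ∧ ¬ p ∣ orderOf c ∧
      ((IsCyclic H ∧ Nat.card H = orderOf c) ∨ Nonempty (H ≃* DihedralGroup (orderOf c)))) ∨
    (∃ k : PSL, ∀ h ∈ H, k * h * k⁻¹ ∈ borelPSL F) ∨
    Nonempty (H ≃* alternatingGroup (Fin 4)) ∨ Nonempty (H ≃* Equiv.Perm (Fin 4)) ∨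
    Nonempty (H ≃* alternatingGroup (Fin 5)) ∨ SubfieldShapeIn H.subtype := by
  have hD := census p H
  by_cases hpd : p ∣ Nat.card H
  · obtain ⟨P⟩ := (inferInstance : Nonempty (Sylow p H))
    have hP : (P : Subgroup H) ≠ ⊥ := P.ne_bot_of_dvd_card hpd
    by_cases hn : (P : Subgroup H).Normal
    · obtain ⟨k, hk⟩ := exists_borel_frame p H P hP
      exact Or.inr (Or.inl ⟨k, fun h hh =>
        (hk ⟨h, hh⟩).1 (by rw [Subgroup.normalizer_eq_top]; exact Subgroup.mem_top _)⟩)
    rcases Census.wild hD P hn (sylow_comm p H) with h | ⟨c, hc, h⟩ | h | ⟨Q, e, h1, h2, h3, h4, h5⟩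
    · exact Or.inr (Or.inr (Or.inl h))
    · exact Or.inl ⟨c, c.2, by rw [Subgroup.orderOf_coe]; exact hc.2,
        Or.inr (by rw [Subgroup.orderOf_coe]; exact h)⟩
    · exact Or.inr (Or.inr (Or.inr (Or.inr (Or.inl h))))
    · exact Or.inr (Or.inr (Or.inr (Or.inr (Or.inr (subfield_case p H Q h2 h1 h3 h4 h5)))))
  · rcases Census.tame hD hpd with h | ⟨c, hc, h⟩ | h | h | h
    · obtain ⟨c, hc⟩ := h.exists_ofOrder_eq_natCard
      refine Or.inl ⟨c, c.2, ?_, Or.inl ⟨h, by rw [Subgroup.orderOf_coe, hc]⟩⟩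
      rw [Subgroup.orderOf_coe, hc]; exact hpd
    · exact Or.inl ⟨c, c.2, by rw [Subgroup.orderOf_coe]; exact hc.2,
        Or.inr (by rw [Subgroup.orderOf_coe]; exact h)⟩
    · exact Or.inr (Or.inr (Or.inl h))
    · exact Or.inr (Or.inr (Or.inr (Or.inl h)))
    · exact Or.inr (Or.inr (Or.inr (Or.inr (Or.inl h))))

omit [Finite F] in
theorem SubfieldShapeIn.shape {H : Subgroup PSL} (h : SubfieldShapeIn H.subtype) : SubfieldShape F H :=
  let ⟨K, fK, fT, m, hm, hd, _⟩ := h
  ⟨K, fK, fT, m, hm, hd⟩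

/-- Dickson's classification of the subgroups of `PSL(2, q)`. -/
theorem dickson (H : Subgroup PSL) :
    (∃ c : PSL, c ∈ H ∧ ¬ p ∣ orderOf c ∧
      ((IsCyclic H ∧ Nat.card H = orderOf c) ∨ Nonempty (H ≃* DihedralGroup (orderOf c)))) ∨
    (∃ k : PSL, ∀ h ∈ H, k * h * k⁻¹ ∈ borelPSL F) ∨
    Nonempty (H ≃* alternatingGroup (Fin 4)) ∨ Nonempty (H ≃* Equiv.Perm (Fin 4)) ∨
    Nonempty (H ≃* alternatingGroup (Fin 5)) ∨ SubfieldShape F H :=
  (dickson_in p H).imp_right (Or.imp_right (Or.imp_right (Or.imp_right (Or.imp_right SubfieldShapeIn.shape))))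

end CfsgLib.SL2

namespace CfsgLib.SL2

open Matrix
open scoped MatrixGroups Pointwise

variable {F : Type*} [Field F] [Finite F] (p : ℕ) [hp : Fact p.Prime] [CharP F p]

theorem orderOf_dvd_torus_orders (c : ProjectiveSpecialLinearGroup (Fin 2) F) (hc : ¬ p ∣ orderOf c) :
    orderOf c ∣ (Nat.card F + 1) / Nat.gcd 2 (Nat.card F - 1) ∨
      orderOf c ∣ (Nat.card F - 1) / Nat.gcd 2 (Nat.card F - 1) := by
  by_cases h1 : c = 1
  · exact Or.inl (by rw [h1, orderOf_one]; exact one_dvd _)
  have hdvd := Subgroup.orderOf_dvd_natCard (torus c) (mem_torus c)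
  rcases (proj_cent_regular (regular_of_semi p (proj_liftSL c) ⟨h1, hc⟩)).2 with e | e
  · exact Or.inr (e ▸ hdvd)
  · exact Or.inl (e ▸ hdvd)

theorem borelPSL_le_normalizer_upper :
    borelPSL F ≤ Subgroup.normalizer (upperPSL F : Set (ProjectiveSpecialLinearGroup (Fin 2) F)) :=
  fun _ hy => CA.mem_normalizer_iff_forall.2 fun _ hu => borelPSL_conj hy hu

end CfsgLib.SL2
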