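import Mathlib
import Cfsg.Agent.Lib.SL2.Subgroups

/-!
Consequences of Dickson's theorem: the large subgroups of `PSL(2, q)`.
-/

set_option autoImplicit false
set_option linter.unusedSectionVars false
set_option maxHeartbeats 400000

namespace CfsgLib.SL2

open Matrix
open scoped MatrixGroups Pointwise

variable {F : Type*} [Field F] [Finite F] (p : ℕ) [hp : Fact p.Prime] [CharP F p]

local notation "PSL" => ProjectiveSpecialLinearGroup (Fin 2) F

variable (F) in
/-- `gcd (2, q - 1)`. -/
noncomputable abbrev dd : ℕ := Nat.gcd 2 (Nat.card F - 1)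

theorem dd_pos : 0 < dd F := Nat.gcd_pos_of_pos_left _ two_pos

theorem dd_le : dd F ≤ 2 := Nat.le_of_dvd two_pos (Nat.gcd_dvd_left _ _)

theorem dd_of_odd (h : Odd (Nat.card F)) : dd F = 2 := by
  have := Nat.odd_iff.1 h
  exact Nat.gcd_eq_left (by omega)

theorem dd_of_even (h : Even (Nat.card F)) : dd F = 1 := by
  have := Nat.even_iff.1 h
  have h1 : 1 < Nat.card F := Finite.one_lt_card
  rw [dd, Nat.gcd_rec, show (Nat.card F - 1) % 2 = 1 by omega, Nat.gcd_one_left]

theorem dd_dvd_pred : dd F ∣ Nat.card F - 1 := Nat.gcd_dvd_right _ _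

theorem dd_dvd_succ : dd F ∣ Nat.card F + 1 := by
  rcases Nat.even_or_odd (Nat.card F) with h | h
  · rw [dd_of_even h]; exact one_dvd _
  · rw [dd_of_odd h]; exact (Odd.add_one h).two_dvd

theorem card_borelSL : Nat.card (borelSL (F := F)) = Nat.card F * (Nat.card F - 1) := by
  rw [← Nat.card_units, ← Nat.card_prod]
  refine Nat.card_eq_of_bijective (fun g : borelSL (F := F) =>
    ((g : SL(2, F)).1 0 1, Units.mk0 ((g : SL(2, F)).1 0 0) ?_)) ⟨?_, ?_⟩
  · intro h0
    have hd := det_eq (g : SL(2, F))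
    rw [h0, mem_borelSL.1 g.2] at hd
    simp at hd
  · intro g h e
    simp only [Prod.mk.injEq, Units.mk0_inj] at e
    have hg := det_eq (g : SL(2, F))
    have hh := det_eq (h : SL(2, F))
    rw [mem_borelSL.1 g.2, mul_zero, sub_zero] at hg
    rw [mem_borelSL.1 h.2, mul_zero, sub_zero] at hh
    refine Subtype.ext (ext2 e.2 e.1 ((mem_borelSL.1 g.2).trans (mem_borelSL.1 h.2).symm) ?_)
    rw [← e.2] at hh
    exact mul_left_cancel₀ (left_ne_zero_of_mul_eq_one hg) (hg.trans hh.symm)
  · rintro ⟨b, a⟩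
    refine ⟨⟨⟨!![(a : F), b; 0, ((a⁻¹ : Fˣ) : F)], by simp [Matrix.det_fin_two_of]⟩, rfl⟩, ?_⟩
    exact Prod.ext rfl (Units.ext rfl)

theorem card_borelPSL : dd F * Nat.card (borelPSL F) = Nat.card F * (Nat.card F - 1) := by
  rw [← card_borelSL]
  refine card_map_proj fun z hz => ?_
  rcases eq_one_or_eq_neg_one_of_mem_center z hz with rfl | rfl
  · exact one_mem _
  · rw [mem_borelSL, Matrix.SpecialLinearGroup.coe_neg]; simp

theorem card_map_conj (H : Subgroup PSL) (k : PSL) :
    Nat.card (H.map (MulAut.conj k).toMonoidHom) = Nat.card H :=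
  (Nat.card_congr (H.equivMapOfInjective _ (MulAut.conj k).injective).toEquiv).symm

/-- A generator of a torus of order `(q - 1) / d`. -/
theorem exists_semi_pred (h4 : 4 ≤ Nat.card F) :
    ∃ c : PSL, Census.Semi p c ∧ orderOf c = (Nat.card F - 1) / dd F ∧
      Nat.card (torus c) = (Nat.card F - 1) / dd F := by
  obtain ⟨g, hg, -, hn⟩ := exists_regular_split (F := F) h4
  obtain ⟨⟨c, hc⟩, hc'⟩ := (proj_cent_regular hg).1.exists_ofOrder_eq_natCard
  rw [Subgroup.orderOf_mk] at hc'
  have e : Nat.card ((cent g).map proj) = (Nat.card F - 1) / dd F := by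
    have h := card_map_proj (center_le_cent g)
    rw [hn] at h
    exact Nat.eq_div_of_mul_eq_right dd_pos.ne' h
  have hc1 : c ≠ 1 := fun h1 => by
    rw [h1, orderOf_one, e] at hc'
    have : 2 ≤ (Nat.card F - 1) / dd F := by
      rcases Nat.even_or_odd (Nat.card F) with h | h
      · rw [dd_of_even h, Nat.div_one]; omega
      · have := Nat.odd_iff.1 h
        rw [dd_of_odd h]; omega
    omega
  have hs : Census.Semi p c := ⟨hc1, fun h => card_dvd_pred_or_succ p hg (hc' ▸ h)⟩
  refine ⟨c, hs, hc'.trans e, ?_⟩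
  obtain ⟨h', hh', rfl⟩ := hc
  rw [torus_eq (g := h') rfl]
  have hn' : NonScalar (h' : Matrix (Fin 2) (Fin 2) F) := (regular_of_semi p rfl hs).nonScalar
  rw [cent_eq_of_mem hg.nonScalar hn' hh']
  exact e

/-- A generator of a torus of order `(q + 1) / d`. -/
theorem exists_semi_succ :
    ∃ c : PSL, Census.Semi p c ∧ orderOf c = (Nat.card F + 1) / dd F ∧
      Nat.card (torus c) = (Nat.card F + 1) / dd F := by
  obtain ⟨g, hg, -, hn⟩ := exists_regular_nonsplit (F := F)
  obtain ⟨⟨c, hc⟩, hc'⟩ := (proj_cent_regular hg).1.exists_ofOrder_eq_natCard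
  rw [Subgroup.orderOf_mk] at hc'
  have e : Nat.card ((cent g).map proj) = (Nat.card F + 1) / dd F := by
    have h := card_map_proj (center_le_cent g)
    rw [hn] at h
    exact Nat.eq_div_of_mul_eq_right dd_pos.ne' h
  have hc1 : c ≠ 1 := fun h1 => by
    rw [h1, orderOf_one, e] at hc'
    have h1' : 1 < Nat.card F := Finite.one_lt_card
    have : 2 ≤ (Nat.card F + 1) / dd F := by
      rcases Nat.even_or_odd (Nat.card F) with h | h
      · rw [dd_of_even h, Nat.div_one]; omega
      · have := Nat.odd_iff.1 h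
        rw [dd_of_odd h]; omega
    omega
  have hs : Census.Semi p c := ⟨hc1, fun h => card_dvd_pred_or_succ p hg (hc' ▸ h)⟩
  refine ⟨c, hs, hc'.trans e, ?_⟩
  obtain ⟨h', hh', rfl⟩ := hc
  rw [torus_eq (g := h') rfl]
  have hn' : NonScalar (h' : Matrix (Fin 2) (Fin 2) F) := (regular_of_semi p rfl hs).nonScalar
  rw [cent_eq_of_mem hg.nonScalar hn' hh']
  exact e

theorem card_torus_cases {c : PSL} (hc : Census.Semi p c) :
    Nat.card (torus c) = (Nat.card F - 1) / dd F ∨ Nat.card (torus c) = (Nat.card F + 1) / dd F :=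
  (proj_cent_regular (regular_of_semi p (proj_liftSL c) hc)).2

theorem normalizer_torus_eq {c : PSL} (hc : Census.Semi p c) :
    Subgroup.normalizer (torus c : Set PSL) =
      (Subgroup.normalizer (cent (liftSL c) : Set SL(2, F))).map proj := by
  set g := liftSL c
  have hg := regular_of_semi p (proj_liftSL c) hc
  have hcomap : (torus c).comap proj = cent g := by
    rw [torus, Subgroup.comap_map_eq, QuotientGroup.ker_mk', sup_eq_left.2 (center_le_cent g)]
  refine le_antisymm (fun n hn => ?_) ?_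
  · obtain ⟨k, rfl⟩ := proj_surjective n
    refine ⟨k, Subgroup.mem_normalizer_iff.2 fun h => ?_, rfl⟩
    rw [← hcomap, Subgroup.mem_comap, Subgroup.mem_comap, map_mul, map_mul, map_inv]
    exact Subgroup.mem_normalizer_iff.1 hn _
  · rintro _ ⟨k, hk, rfl⟩
    rw [CA.mem_normalizer_iff_forall]
    rintro _ ⟨h, hh, rfl⟩
    exact ⟨k * h * k⁻¹, (Subgroup.mem_normalizer_iff.1 hk h).1 hh, by rw [map_mul, map_mul, map_inv]⟩

theorem card_normalizer_torus {c : PSL} (hc : Census.Semi p c) :
    Nat.card (Subgroup.normalizer (torus c : Set PSL)) = 2 * Nat.card (torus c) := by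
  set g := liftSL c
  have hg := regular_of_semi p (proj_liftSL c) hc
  have h1 := card_map_proj ((center_le_cent g).trans
    (Subgroup.le_normalizer : cent g ≤ Subgroup.normalizer (cent g : Set SL(2, F))))
  have h2 := card_map_proj (center_le_cent g)
  rw [card_normalizer_cent hg, ← h2, ← mul_assoc, mul_comm 2, mul_assoc] at h1
  rw [normalizer_torus_eq p hc]
  exact Nat.eq_of_mul_eq_mul_left dd_pos h1

theorem mul_self_of_normalizer_torus {c h : PSL} (hc : Census.Semi p c)
    (hh : h ∈ Subgroup.normalizer (torus c : Set PSL)) (hh' : h ∉ torus c) : h * h = 1 := by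
  rw [normalizer_torus_eq p hc] at hh
  obtain ⟨k, hk, rfl⟩ := hh
  have hg := regular_of_semi p (proj_liftSL c) hc
  rcases (mem_normalizer_cent_iff hg).1 hk with e | e
  · exact absurd ⟨k, mem_cent_iff.2 (mul_inv_eq_iff_eq_mul.1 e).symm, rfl⟩ hh'
  · have hm := mul_self_of_inverting hg e
    rw [← map_mul, proj_eq_one_iff, show k * k = -1 from Subtype.ext (by
      rw [Matrix.SpecialLinearGroup.coe_mul, hm, Matrix.SpecialLinearGroup.coe_neg]; rfl)]
    exact neg_one_mem_center

theorem nonempty_normalizer_torus_dihedral {c : PSL} (hc : Census.Semi p c) :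
    Nonempty (Subgroup.normalizer (torus c : Set PSL) ≃* DihedralGroup (Nat.card (torus c))) := by
  set N := Subgroup.normalizer (torus c : Set PSL)
  have hle : torus c ≤ N := Subgroup.le_normalizer
  have hcard : Nat.card ((torus c).subgroupOf N) = Nat.card (torus c) :=
    Nat.card_congr (Subgroup.subgroupOfEquivOfLe hle).toEquiv
  have hi : ((torus c).subgroupOf N).index = 2 := by
    have h := ((torus c).subgroupOf N).card_mul_index
    rw [card_normalizer_torus p hc, hcard, mul_comm 2] at h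
    exact Nat.eq_of_mul_eq_mul_left Nat.card_pos h
  rw [← hcard]
  have := isCyclic_torus p hc
  exact Census.nonempty_dihedral ((Subgroup.subgroupOfEquivOfLe hle).isCyclic.2 this) hi
    fun h hh => Subtype.ext (mul_self_of_normalizer_torus p hc h.2 hh)

theorem le_normalizer_torus {H : Subgroup PSL} {c : PSL} (hc : Census.Semi p c)
    (h : ∀ y ∈ H, y * c * y⁻¹ ∈ torus c) : H ≤ Subgroup.normalizer (torus c : Set PSL) := by
  intro y hy
  rw [CA.mem_normalizer_iff_forall]
  intro t ht
  rw [← torus_eq_of_mem p hc (h y hy) fun e => hc.1 (conj_eq_one_iff.1 e)]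
  exact mem_torus_conj y ht

/-- `dickson_maximal`, recording where the subfield subgroups sit. -/
theorem dickson_maximal_in (H : Subgroup PSL) :
    (∃ c : PSL, c ∈ H ∧ Census.Semi p c ∧ H ≤ Subgroup.normalizer (torus c : Set PSL)) ∨
    (∃ k : PSL, ∀ h ∈ H, k * h * k⁻¹ ∈ borelPSL F) ∨
    Nonempty (H ≃* alternatingGroup (Fin 4)) ∨ Nonempty (H ≃* Equiv.Perm (Fin 4)) ∨
    Nonempty (H ≃* alternatingGroup (Fin 5)) ∨ SubfieldShapeIn H.subtype := by
  rcases dickson_in p H with ⟨c, hcH, hc, h⟩ | h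
  swap
  · exact Or.inr h
  by_cases hk : orderOf c = 1
  · -- `H` has at most two elements
    have hle : Nat.card H ≤ 2 := by
      rcases h with ⟨-, h⟩ | ⟨⟨e⟩⟩
      · omega
      · rw [Nat.card_congr e.toEquiv, DihedralGroup.nat_card, hk]
    by_cases hb : ∀ h ∈ H, h = 1
    · exact Or.inr (Or.inl ⟨1, fun h hh => by simpa [hb h hh] using one_mem (borelPSL F)⟩)
    push Not at hb
    obtain ⟨t, htH, ht1⟩ := hb
    have heq : Subgroup.zpowers t = H := Subgroup.eq_of_le_of_card_ge (Subgroup.zpowers_le.2 htH) (by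
      refine hle.trans ?_
      rw [Nat.card_zpowers]
      have h0 := orderOf_pos t
      have h1 : orderOf t ≠ 1 := fun e => ht1 (orderOf_eq_one_iff.1 e)
      omega)
    rcases semi_or_orderOf p t ht1 with ho | hs
    · obtain ⟨k, hk⟩ := exists_conj_mem_upperPSL p
        (IsPGroup.of_card (n := 1) (by rw [Nat.card_zpowers, ho, pow_one]) : IsPGroup p (Subgroup.zpowers t))
      exact Or.inr (Or.inl ⟨k, fun h hh => upperPSL_le_borelPSL (hk h (heq ▸ hh))⟩)
    · refine Or.inl ⟨t, htH, hs, heq ▸ ?_⟩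
      exact (Subgroup.zpowers_le.2 (mem_torus t)).trans Subgroup.le_normalizer
  have hc1 : c ≠ 1 := fun e => hk (e ▸ orderOf_one)
  obtain ⟨d, hd, hdn⟩ : ∃ d : H, orderOf d = orderOf c ∧ ∀ y : H, y * d * y⁻¹ ∈ Subgroup.zpowers d := by
    rcases h with ⟨hcyc, h⟩ | ⟨⟨e⟩⟩
    · obtain ⟨d, hd⟩ := hcyc.exists_ofOrder_eq_natCard
      refine ⟨d, hd.trans h, fun y => ?_⟩
      let _ := hcyc.commGroup
      rw [mul_comm y d, mul_inv_cancel_right]
      exact Subgroup.mem_zpowers d
    · refine ⟨e.symm (DihedralGroup.r 1), by rw [MulEquiv.orderOf_eq, DihedralGroup.orderOf_r_one],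
        fun y => ?_⟩
      obtain ⟨z, rfl⟩ : ∃ z, e.symm z = y := ⟨e y, e.symm_apply_apply y⟩
      rw [← map_inv, ← map_mul, ← map_mul]
      rcases z with i | i
      · rw [show DihedralGroup.r i * DihedralGroup.r 1 * (DihedralGroup.r i)⁻¹ = DihedralGroup.r 1 by
          simp [DihedralGroup.r_mul_r]]
        exact Subgroup.mem_zpowers _
      · rw [show DihedralGroup.sr i * DihedralGroup.r 1 * (DihedralGroup.sr i)⁻¹ =
          (DihedralGroup.r 1)⁻¹ by simp, map_inv]
        exact inv_mem (Subgroup.mem_zpowers _)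
  have hd' : Census.Semi p (d : PSL) := by
    refine ⟨fun e => hk ?_, by rw [Subgroup.orderOf_coe, hd]; exact hc⟩
    rw [← hd, ← Subgroup.orderOf_coe, e, orderOf_one]
  refine Or.inl ⟨d, d.2, hd', le_normalizer_torus p hd' fun y hy => ?_⟩
  obtain ⟨n, hn⟩ := Subgroup.mem_zpowers_iff.1 (hdn ⟨y, hy⟩)
  have := congrArg (fun z : H => (z : PSL)) hn
  simp only [Subgroup.coe_zpow, Subgroup.coe_mul, Subgroup.coe_inv] at this
  rw [← this]
  exact Subgroup.zpow_mem _ (mem_torus _) n

/-- Dickson's theorem with the cyclic and dihedral subgroups placed in torus normalisers. -/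
theorem dickson_maximal (H : Subgroup PSL) :
    (∃ c : PSL, c ∈ H ∧ Census.Semi p c ∧ H ≤ Subgroup.normalizer (torus c : Set PSL)) ∨
    (∃ k : PSL, ∀ h ∈ H, k * h * k⁻¹ ∈ borelPSL F) ∨
    Nonempty (H ≃* alternatingGroup (Fin 4)) ∨ Nonempty (H ≃* Equiv.Perm (Fin 4)) ∨
    Nonempty (H ≃* alternatingGroup (Fin 5)) ∨ SubfieldShape F H :=
  (dickson_maximal_in p H).imp_right
    (Or.imp_right (Or.imp_right (Or.imp_right (Or.imp_right SubfieldShapeIn.shape))))

theorem card_subfield_shape {H : Subgroup PSL} (hH : H ≠ ⊤) (h : SubfieldShape F H) :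
    ∃ k m : ℕ, 2 ≤ m ∧ 2 ≤ k ∧ k ^ m = Nat.card F ∧
      (Nat.gcd 2 (k - 1) * Nat.card H = k * ((k - 1) * (k + 1)) ∨
        Nat.card H = k * ((k - 1) * (k + 1))) := by
  obtain ⟨K, _, fK, m, hm, hd⟩ := h
  have hk : 2 ≤ Fintype.card K := Fintype.one_lt_card
  have hor : Nat.gcd 2 (Fintype.card K - 1) * Nat.card H =
      Fintype.card K * ((Fintype.card K - 1) * (Fintype.card K + 1)) ∨
      Nat.card H = Fintype.card K * ((Fintype.card K - 1) * (Fintype.card K + 1)) := by
    rcases hd with ⟨⟨e⟩⟩ | ⟨⟨e⟩⟩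
    · left; rw [Nat.card_congr e.toEquiv, ← Nat.card_eq_fintype_card]; exact card_PSL
    · right; rw [Nat.card_congr e.toEquiv, CfsgLib.Classical.card_PGL_eq_card_SL, card_SL_two',
        Nat.card_eq_fintype_card]
  refine ⟨Fintype.card K, m, ?_, hk, hm, hor⟩
  by_contra hm2
  have hcases : m = 0 ∨ m = 1 := by omega
  rcases hcases with rfl | rfl
  · rw [pow_zero] at hm
    have h1 : 1 < Nat.card F := Finite.one_lt_card
    omega
  · rw [pow_one] at hm
    rw [hm, ← card_PSL (F := F)] at hor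
    refine hH (Subgroup.eq_top_of_card_eq _ ?_)
    rcases hor with e | e
    · exact Nat.eq_of_mul_eq_mul_left dd_pos e
    · have h1 : Nat.card H ≤ Nat.card PSL := Nat.le_of_dvd Nat.card_pos H.card_subgroup_dvd_card
      refine le_antisymm h1 ?_
      rw [e]
      exact Nat.le_mul_of_pos_left _ dd_pos

end CfsgLib.SL2
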