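import Mathlib
import Cfsg.Agent.Lib.SL2.Overgroups

/-!
Orders and subfield subgroups of `PSL(2, q)`.
-/

set_option autoImplicit false
set_option linter.unusedSectionVars false
set_option maxHeartbeats 400000

namespace CfsgLib.SL2

open Matrix
open scoped MatrixGroups Pointwise

variable {F : Type*} [Field F] [Finite F] (p : ℕ) [hp : Fact p.Prime] [CharP F p]

local notation "PSL" => ProjectiveSpecialLinearGroup (Fin 2) F

theorem four_or_large (hq : Nat.card F ∉ ({2, 3, 5, 7, 9, 11} : Finset ℕ)) :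
    Nat.card F = 4 ∨ Nat.card F = 8 ∨ 13 ≤ Nat.card F := by
  have h1 : 1 < Nat.card F := Finite.one_lt_card
  let _ := Fintype.ofFinite F
  have hpp := FiniteField.isPrimePow_card F
  rw [Fintype.card_eq_nat_card] at hpp
  simp only [Finset.mem_insert, Finset.mem_singleton, not_or] at hq
  have hnot : ∀ r s : ℕ, r.Prime → s.Prime → r ≠ s → ¬ IsPrimePow (r * s) := by
    intro r s hr hs hne h
    rw [isPrimePow_iff_unique_prime_dvd] at h
    exact hne (h.unique ⟨hr, dvd_mul_right r s⟩ ⟨hs, dvd_mul_left s r⟩)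
  by_contra hc
  simp only [not_or, not_le] at hc
  obtain ⟨h4, h8, h13⟩ := hc
  have : Nat.card F = 6 ∨ Nat.card F = 10 ∨ Nat.card F = 12 := by omega
  rcases this with e | e | e <;> rw [e] at hpp
  · exact hnot 2 3 Nat.prime_two Nat.prime_three (by norm_num) hpp
  · exact hnot 2 5 Nat.prime_two Nat.prime_five (by norm_num) hpp
  · rw [isPrimePow_iff_unique_prime_dvd] at hpp
    have := hpp.unique (y₁ := 2) (y₂ := 3) ⟨Nat.prime_two, by norm_num⟩ ⟨Nat.prime_three, by norm_num⟩
    omega

theorem card_alternating_four : Nat.card (alternatingGroup (Fin 4)) = 12 := by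
  rw [Nat.card_eq_fintype_card]; decide

theorem card_alternating_five : Nat.card (alternatingGroup (Fin 5)) = 60 := by
  rw [nat_card_alternatingGroup, Nat.card_eq_fintype_card, Fintype.card_fin]; decide

/-- No proper subgroup is larger than a Borel subgroup, apart from five small exceptions. -/
theorem dd_mul_card_le {H : Subgroup PSL} (hH : H ≠ ⊤)
    (hq : Nat.card F ∉ ({2, 3, 5, 7, 9, 11} : Finset ℕ)) :
    dd F * Nat.card H ≤ Nat.card F * (Nat.card F - 1) := by
  obtain ⟨p, hchar⟩ := CharP.exists F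
  have : Fact p.Prime := ⟨CharP.char_is_prime F p⟩
  have hcase := four_or_large hq
  have hd := dd_le (F := F)
  have hdvd := H.card_subgroup_dvd_card
  have hlt : Nat.card H ≠ Nat.card PSL := fun e => hH (Subgroup.eq_top_of_card_eq _ e)
  have hG := card_PSL (F := F)
  rcases dickson_maximal p H with ⟨c, -, hc, h⟩ | ⟨k, hk⟩ | ⟨⟨e⟩⟩ | ⟨⟨e⟩⟩ | ⟨⟨e⟩⟩ | h
  · have h1 := Nat.le_of_dvd Nat.card_pos (Subgroup.card_dvd_of_le h)
    rw [card_normalizer_torus p hc] at h1
    have h2 : dd F * Nat.card (torus c) ≤ Nat.card F + 1 := by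
      rcases card_torus_cases p hc with e | e <;> rw [e]
      · rw [Nat.mul_div_cancel' dd_dvd_pred]; omega
      · rw [Nat.mul_div_cancel' dd_dvd_succ]
    calc dd F * Nat.card H ≤ 2 * (dd F * Nat.card (torus c)) := by
          rw [← mul_assoc, mul_comm 2, mul_assoc]; exact Nat.mul_le_mul_left _ h1
      _ ≤ 2 * (Nat.card F + 1) := Nat.mul_le_mul_left _ h2
      _ ≤ _ := by
        obtain ⟨m, hm⟩ : ∃ m, Nat.card F = m + 4 := ⟨Nat.card F - 4, by omega⟩
        rw [hm, show m + 4 - 1 = m + 3 by omega]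
        nlinarith
  · have hle : H.map (MulAut.conj k).toMonoidHom ≤ borelPSL F := by
      rintro _ ⟨h, hh, rfl⟩; exact hk h hh
    have h1 := Nat.le_of_dvd Nat.card_pos (Subgroup.card_dvd_of_le hle)
    rw [card_map_conj] at h1
    rw [← card_borelPSL]
    exact Nat.mul_le_mul_left _ h1
  · rw [Nat.card_congr e.toEquiv, card_alternating_four]
    rcases hcase with e | e | e
    · rw [e, dd_of_even ⟨2, e⟩]
    · rw [e, dd_of_even ⟨4, e⟩]; norm_num
    · have : 13 * 12 ≤ Nat.card F * (Nat.card F - 1) := Nat.mul_le_mul e (by omega)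
      nlinarith
  · have hc : Nat.card H = 24 := by
      rw [Nat.card_congr e.toEquiv, Nat.card_eq_fintype_card, Fintype.card_perm, Fintype.card_fin]
      rfl
    rw [hc]
    rcases hcase with e | e | e
    · rw [e] at hG; norm_num at hG; rw [hc, hG] at hdvd; norm_num at hdvd
    · rw [e, dd_of_even ⟨4, e⟩]; norm_num
    · have : 13 * 12 ≤ Nat.card F * (Nat.card F - 1) := Nat.mul_le_mul e (by omega)
      nlinarith
  · have hc : Nat.card H = 60 := by rw [Nat.card_congr e.toEquiv, card_alternating_five]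
    rw [hc]
    rcases hcase with e | e | e
    · rw [e] at hG; norm_num at hG; exact absurd (hc.trans hG.symm) hlt
    · rw [e] at hG; norm_num at hG; rw [hc, hG] at hdvd; norm_num at hdvd
    · have : 13 * 12 ≤ Nat.card F * (Nat.card F - 1) := Nat.mul_le_mul e (by omega)
      nlinarith
  · obtain ⟨k, m, hm, hk, hkm, hor⟩ := card_subfield_shape hH h
    have hk2 : k * k ≤ Nat.card F := by
      rw [← hkm, ← pow_two]; exact Nat.pow_le_pow_right (by omega) hm
    have hP : k * k * (k * k - 1) ≤ Nat.card F * (Nat.card F - 1) := Nat.mul_le_mul hk2 (by omega)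
    have hcard : dd F * Nat.card H ≤ 2 * (k * ((k - 1) * (k + 1))) := by
      rcases hor with e | e
      · calc dd F * Nat.card H ≤ 2 * (Nat.gcd 2 (k - 1) * Nat.card H) := by
              refine Nat.mul_le_mul hd (Nat.le_mul_of_pos_left _ (Nat.gcd_pos_of_pos_left _ two_pos))
          _ = _ := by rw [e]
      · rw [e]; exact Nat.mul_le_mul_right _ hd
    refine hcard.trans (le_trans ?_ hP)
    obtain ⟨j, rfl⟩ : ∃ j, k = j + 2 := ⟨k - 2, by omega⟩
    rw [show (j + 2) * (j + 2) - 1 = (j + 1) * (j + 3) by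
      rw [Nat.sub_eq_iff_eq_add (by nlinarith)]; ring, show j + 2 - 1 = j + 1 by omega,
      show j + 2 + 1 = j + 3 by omega]
    calc 2 * ((j + 2) * ((j + 1) * (j + 3))) ≤ (j + 2) * ((j + 2) * ((j + 1) * (j + 3))) :=
          Nat.mul_le_mul_right _ (by omega)
      _ = _ := by ring

theorem index_borelPSL : (borelPSL F).index = Nat.card F + 1 := by
  have h := card_PSL (F := F)
  rw [← (borelPSL F).card_mul_index, ← mul_assoc, card_borelPSL, mul_assoc] at h
  have h1 : 1 < Nat.card F := Finite.one_lt_card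
  have h2 := Nat.eq_of_mul_eq_mul_left (by omega) h
  exact Nat.eq_of_mul_eq_mul_left (by omega) h2

theorem succ_le_index {H : Subgroup PSL} (hH : H ≠ ⊤)
    (hq : Nat.card F ∉ ({2, 3, 5, 7, 9, 11} : Finset ℕ)) : Nat.card F + 1 ≤ H.index := by
  have h := card_PSL (F := F)
  rw [← H.card_mul_index, ← mul_assoc, ← mul_assoc] at h
  have h1 : 1 < Nat.card F := Finite.one_lt_card
  refine Nat.le_of_mul_le_mul_left ?_ (Nat.mul_pos (show 0 < Nat.card F by omega)
    (show 0 < Nat.card F - 1 by omega))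
  rw [← h]
  exact Nat.mul_le_mul_right _ (dd_mul_card_le hH hq)

section Embedding

variable {K F : Type*} [Field K] [Field F] [Finite K] [Finite F]

theorem nonempty_ringHom_of_pow_card (m : ℕ) (hK : Nat.card K ^ m = Nat.card F) : Nonempty (K →+* F) := by
  obtain ⟨p, hchar⟩ := CharP.exists K
  have hp : Fact p.Prime := ⟨CharP.char_is_prime K p⟩
  let _ := Fintype.ofFinite K
  let _ := Fintype.ofFinite F
  obtain ⟨a, -, ha⟩ := FiniteField.card K p
  obtain ⟨p', hchar'⟩ := CharP.exists F
  obtain ⟨b, hp', hb⟩ := FiniteField.card F p'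
  rw [Fintype.card_eq_nat_card] at ha hb
  obtain rfl : p' = p := by
    have h : p' ∣ Nat.card K ^ m := by rw [hK, hb]; exact dvd_pow_self _ b.pos.ne'
    exact (Nat.prime_dvd_prime_iff_eq hp' hp.out).1 (hp'.dvd_of_dvd_pow (ha ▸ hp'.dvd_of_dvd_pow h))
  let _ := ZMod.algebra K p'
  let _ := ZMod.algebra F p'
  refine ⟨(FiniteField.nonempty_algHom_of_finrank_dvd (F := ZMod p') (K := K) (L := F) ?_).some.toRingHom⟩
  have hk : p' ^ Module.finrank (ZMod p') K = p' ^ (a : ℕ) := by
    rw [← ha, Module.natCard_eq_pow_finrank (K := ZMod p') (V := K), Nat.card_zmod]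
  have hf : p' ^ Module.finrank (ZMod p') F = p' ^ (b : ℕ) := by
    rw [← hb, Module.natCard_eq_pow_finrank (K := ZMod p') (V := F), Nat.card_zmod]
  rw [Nat.pow_right_injective hp'.two_le hk, Nat.pow_right_injective hp'.two_le hf]
  refine ⟨m, Nat.pow_right_injective hp'.two_le ?_⟩
  simp only
  rw [← hb, ← hK, ha, ← pow_mul]

/-- `PSL(2, K) → PSL(2, F)` induced by a field embedding. -/
def pslMap (f : K →+* F) : ProjectiveSpecialLinearGroup (Fin 2) K →* ProjectiveSpecialLinearGroup (Fin 2) F :=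
  QuotientGroup.map _ _ (Matrix.SpecialLinearGroup.map f) (by
    intro g hg
    rcases eq_one_or_eq_neg_one_of_mem_center g hg with rfl | rfl
    · exact one_mem _
    · rw [Subgroup.mem_comap, show Matrix.SpecialLinearGroup.map f (-1 : SL(2, K)) = -1 from by
        ext i j; simp [Matrix.SpecialLinearGroup.map_apply_coe, Matrix.one_apply]]
      exact neg_one_mem_center)

theorem pslMap_proj (f : K →+* F) (g : SL(2, K)) :
    pslMap f (proj g) = proj (Matrix.SpecialLinearGroup.map f g) := rfl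

theorem pslMap_injective (f : K →+* F) : Function.Injective (pslMap f) := by
  rw [injective_iff_map_eq_one]
  intro x hx
  obtain ⟨g, rfl⟩ := proj_surjective x
  rw [pslMap_proj, proj_eq_one_iff] at hx
  rw [proj_eq_one_iff]
  rcases eq_one_or_eq_neg_one_of_mem_center _ hx with e | e
  · rw [show g = 1 from Subtype.ext (Matrix.ext fun i j => f.injective (by
      have := congrArg (fun z : SL(2, F) => z.1 i j) e
      simpa [Matrix.one_apply, apply_ite f] using this))]
    exact one_mem _
  · rw [show g = -1 from Subtype.ext (Matrix.ext fun i j => f.injective (by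
      have := congrArg (fun z : SL(2, F) => z.1 i j) e
      simpa [Matrix.one_apply, apply_ite f] using this))]
    exact neg_one_mem_center

theorem map_mem_range_toPGL (f : K →+* F) (hsq : ∀ a : K, IsSquare (f a))
    (g : GL (Fin 2) K) : ProjGenLinGroup.map f (ProjGenLinGroup.mk g) ∈
      (ProjectiveSpecialLinearGroup.toPGL (n := Fin 2) (R := F)).range := by
  rw [ProjGenLinGroup.map_mk]
  set h := Matrix.GeneralLinearGroup.map f g with hh
  obtain ⟨b, hb⟩ := hsq (g : Matrix (Fin 2) (Fin 2) K).det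
  have hdet : (h : Matrix (Fin 2) (Fin 2) F).det = b * b := by
    rw [← hb, hh]; exact (f.map_det _).symm
  have hb0 : b ≠ 0 := by
    intro e; rw [e, mul_zero] at hdet
    exact (Matrix.GeneralLinearGroup.det h).ne_zero hdet
  let s : SL(2, F) := ⟨b⁻¹ • (h : Matrix (Fin 2) (Fin 2) F), by
    rw [Matrix.det_smul, hdet, Fintype.card_fin]; field_simp⟩
  refine ⟨proj s, ?_⟩
  show ProjectiveSpecialLinearGroup.toPGL (QuotientGroup.mk s) = _
  rw [ProjectiveSpecialLinearGroup.toPGL_mk]
  refine ProjGenLinGroup.mk_eq_mk_iff.2 ?_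
  refine ⟨Units.mk0 b hb0, ?_⟩
  ext i j
  rw [Units.val_mul, Matrix.GeneralLinearGroup.coe_scalar, ← Matrix.scalar_commute _ (Commute.all _), ]
  simp [Matrix.mul_apply, Matrix.diagonal_apply]
  show b * (b⁻¹ * (h : Matrix (Fin 2) (Fin 2) F) i j) = _
  field_simp

/-- `PGL(2, K) → PSL(2, F)` when every element of `K` becomes a square in `F`. -/
noncomputable def pglMap (f : K →+* F) (hsq : ∀ a : K, IsSquare (f a)) :
    ProjGenLinGroup (Fin 2) K →* ProjectiveSpecialLinearGroup (Fin 2) F :=
  (MonoidHom.ofInjective ProjectiveSpecialLinearGroup.toPGL_injective).symm.toMonoidHom.comp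
    ((ProjGenLinGroup.map f).codRestrict _ fun x => by
      obtain ⟨g, rfl⟩ := ProjGenLinGroup.mk_surjective x
      exact map_mem_range_toPGL f hsq g)

theorem pglMap_injective (f : K →+* F) (hsq : ∀ a : K, IsSquare (f a)) :
    Function.Injective (pglMap f hsq) := by
  refine (MonoidHom.ofInjective ProjectiveSpecialLinearGroup.toPGL_injective).symm.injective.comp ?_
  rw [injective_iff_map_eq_one]
  intro x e
  have e' := congrArg Subtype.val e
  simp only [MonoidHom.codRestrict_apply, OneMemClass.coe_one] at e'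
  obtain ⟨g, rfl⟩ := ProjGenLinGroup.mk_surjective x
  rw [ProjGenLinGroup.map_mk, ProjGenLinGroup.mk_eq_one,
    Matrix.GeneralLinearGroup.mem_center_iff_val_mem_range_scalar] at e'
  obtain ⟨u, hu⟩ := e'
  rw [ProjGenLinGroup.mk_eq_one, Matrix.GeneralLinearGroup.mem_center_iff_val_mem_range_scalar]
  refine ⟨(g : Matrix (Fin 2) (Fin 2) K) 0 0, Matrix.ext fun i j => f.injective ?_⟩
  have h00 := congrFun (congrFun hu 0) 0
  have hij := congrFun (congrFun hu i) j
  simp [Matrix.diagonal_apply] at h00 hij ⊢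
  split_ifs at hij ⊢ <;> simp_all

theorem even_of_pgl_card_dvd {k q m : ℕ} (hk : 2 ≤ k) (hodd : Odd k) (hm : k ^ m = q)
    (h : k * ((k - 1) * (k + 1)) * 2 ∣ q * ((q - 1) * (q + 1))) : Even m := by
  by_contra hme
  rw [Nat.not_even_iff_odd] at hme
  obtain ⟨x, hx⟩ : ∃ x, k * k = x + 1 := ⟨k * k - 1, by
    have : 4 ≤ k * k := Nat.mul_le_mul hk hk
    omega⟩
  have e1 : (k - 1) * (k + 1) = x := by
    obtain ⟨j, rfl⟩ : ∃ j, k = j + 1 := ⟨k - 1, by omega⟩
    have : (j + 1) * (j + 1) = j * (j + 2) + 1 := by ring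
    simp only [Nat.add_sub_cancel]
    linarith [show j * (j + 1 + 1) = j * (j + 2) by ring]
  have hS := geom_sum_mul_add x m
  set S := ∑ i ∈ Finset.range m, (x + 1) ^ i
  have hq2 : (x + 1) ^ m = q * q := by rw [← hx, ← hm, mul_pow]
  have e2 : (q - 1) * (q + 1) = S * x := by
    have h1 : 1 ≤ q := hm ▸ Nat.one_le_pow _ _ (by omega)
    obtain ⟨j, rfl⟩ : ∃ j, q = j + 1 := ⟨q - 1, by omega⟩
    have : (j + 1) * (j + 1) = j * (j + 1 + 1) + 1 := by ring
    simp only [Nat.add_sub_cancel]
    omega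
  rw [e1, e2] at h
  have hq : Odd q := hm ▸ hodd.pow
  have hxpos : 0 < x := by nlinarith
  have hSo : Odd S := by
    rw [Nat.odd_iff, Finset.sum_nat_mod, Finset.sum_congr rfl (g := fun _ => 1) fun i _ => ?_]
    · simpa using Nat.odd_iff.1 hme
    · exact Nat.odd_iff.1 ((hx ▸ hodd.mul hodd).pow)
  have h2 : x * 2 ∣ (q * S) * x := by
    rw [mul_assoc q S x]; exact (Dvd.intro_left _ (mul_assoc k x 2).symm).trans h
  rw [mul_comm (q * S) x] at h2
  exact Nat.not_even_iff_odd.2 (hq.mul hSo) (even_iff_two_dvd.2 (Nat.dvd_of_mul_dvd_mul_left hxpos h2))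

end Embedding

end CfsgLib.SL2
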