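import Mathlib
import Cfsg.Agent.Lib.SL2.Large
import Cfsg.Agent.Lib.Classical.Transvection
import Cfsg.Agent.S0494

/-!
The subgroups `A₄`, `S₄`, `A₅` of `PSL(2, q)` as triangle groups.
-/

set_option autoImplicit false
set_option linter.unusedSectionVars false
set_option maxHeartbeats 400000

namespace CfsgLib.SL2

open Matrix
open scoped MatrixGroups Pointwise

/-! ### Abstract triangle groups -/

section Abstract

variable {G : Type*} [Group G] [Finite G] {a b : G}

theorem eq_top_of_gen (hgen : Subgroup.closure ({a, b} : Set G) = ⊤) {N : Subgroup G} (hb : b ∈ N)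
    (hab : a * b ∈ N) : N = ⊤ := by
  rw [eq_top_iff, ← hgen, Subgroup.closure_le]
  rintro x (rfl | rfl)
  · simpa using mul_mem hab (inv_mem hb)
  · exact hb

theorem card_le_six_of_normal (hgen : Subgroup.closure ({a, b} : Set G) = ⊤) (ha : a * a = 1)
    (hb : orderOf b = 3) (hn : (Subgroup.zpowers b).Normal) : Nat.card G ≤ 6 := by
  set π := QuotientGroup.mk' (Subgroup.zpowers b) with hπ
  have hq : Subgroup.zpowers (π a) = ⊤ := by
    rw [eq_top_iff, ← Subgroup.map_top_of_surjective π (QuotientGroup.mk'_surjective _), ← hgen,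
      MonoidHom.map_closure, Subgroup.closure_le]
    rintro _ ⟨x, rfl | rfl, rfl⟩
    · exact Subgroup.mem_zpowers _
    · rw [show π x = 1 from (QuotientGroup.eq_one_iff x).2 (Subgroup.mem_zpowers x)]
      exact one_mem _
  have h2 : Nat.card (G ⧸ Subgroup.zpowers b) ≤ 2 := by
    rw [← Subgroup.card_top, ← hq, Nat.card_zpowers]
    exact orderOf_le_of_pow_eq_one two_pos (by rw [← map_pow, pow_two, ha, map_one])
  rw [Subgroup.card_eq_card_quotient_mul_card_subgroup (Subgroup.zpowers b), Nat.card_zpowers, hb]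
  omega

theorem mem_of_index_two {N : Subgroup G} (hi : N.index = 2) {x : G} (hx : Odd (orderOf x)) : x ∈ N := by
  obtain ⟨j, hj⟩ := hx
  rw [show x = (x ^ (j + 1)) ^ 2 by
    rw [← pow_mul, show (j + 1) * 2 = orderOf x + 1 by omega, pow_succ, pow_orderOf_eq_one, one_mul]]
  exact Subgroup.sq_mem_of_index_two hi _

theorem index_normalizer_of_card_three {T : Subgroup G} (hT : Nat.card T = 3) (h9 : ¬ 9 ∣ Nat.card G) :
    (Subgroup.normalizer (T : Set G)).index % 3 = 1 := by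
  have : Fact (Nat.Prime 3) := ⟨Nat.prime_three⟩
  have h := T.card_mul_index
  rw [hT] at h
  let P : Sylow 3 G := (IsPGroup.of_card (n := 1) (by rw [hT, pow_one]) : IsPGroup 3 T).toSylow
    fun h3 => h9 (by rw [← h]; exact Nat.mul_dvd_mul_left 3 h3)
  have hP := card_sylow_modEq_one 3 G
  rw [Sylow.card_eq_index_normalizer P] at hP
  exact hP

theorem tri_four (hgen : Subgroup.closure ({a, b} : Set G) = ⊤) (ha : orderOf a = 2) (hb : orderOf b = 3)
    (hab : orderOf (a * b) = 3) (hcard : Nat.card G ≤ 12) (hnc : ¬ Commute a b) :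
    Nonempty (G ≃* alternatingGroup (Fin 4)) := by
  have ha2 : a * a = 1 := by rw [← pow_two, ← ha, pow_orderOf_eq_one]
  have hT : Nat.card (Subgroup.zpowers b) = 3 := by rw [Nat.card_zpowers, hb]
  have h6 : 6 ∣ Nat.card G := Nat.Coprime.mul_dvd_of_dvd_of_dvd (by norm_num : Nat.Coprime 2 3)
    (ha ▸ orderOf_dvd_natCard a) (hb ▸ orderOf_dvd_natCard b)
  have hpos : 0 < Nat.card G := Nat.card_pos
  have hne : Nat.card G ≠ 6 := by
    intro h
    have hi : (Subgroup.zpowers b).index = 2 := by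
      have := (Subgroup.zpowers b).card_mul_index
      rw [hT, h] at this; omega
    have htop := eq_top_of_gen hgen (Subgroup.mem_zpowers b)
      (mem_of_index_two hi (by rw [hab]; decide))
    rw [htop, Subgroup.index_top] at hi
    omega
  obtain ⟨k, hk⟩ := h6
  have h12 : Nat.card G = 12 := by omega
  refine Census.nonempty_alternating_four h12 hT (le_antisymm ?_ Subgroup.le_normalizer)
  set N := Subgroup.normalizer (Subgroup.zpowers b : Set G)
  have hi := index_normalizer_of_card_three hT (by rw [h12]; norm_num)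
  have hle : Subgroup.zpowers b ≤ N := Subgroup.le_normalizer
  have hdvd : N.index ∣ 4 := by
    have h1 := Subgroup.index_dvd_of_le hle
    have h2 := (Subgroup.zpowers b).card_mul_index
    rw [hT, h12] at h2
    rwa [show (Subgroup.zpowers b).index = 4 by omega] at h1
  have hne1 : N.index ≠ 1 := by
    intro h1
    have hn : (Subgroup.zpowers b).Normal :=
      Subgroup.normalizer_eq_top_iff.1 (Subgroup.index_eq_one.1 h1)
    have := card_le_six_of_normal hgen ha2 hb hn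
    omega
  have h4 : N.index = 4 := by
    have := Nat.le_of_dvd (by norm_num) hdvd
    change N.index % 3 = 1 at hi
    omega
  refine le_of_eq (Subgroup.eq_of_le_of_card_ge hle ?_).symm
  have := N.card_mul_index
  rw [h4, h12] at this
  rw [hT]; omega

theorem tri_perm (hgen : Subgroup.closure ({a, b} : Set G) = ⊤) (ha : orderOf a = 2) (hb : orderOf b = 3)
    (hab : orderOf (a * b) = 4) (hcard : Nat.card G ≤ 24) (hz : ∀ t ∈ Subgroup.center G, t = 1) :
    Nonempty (G ≃* Equiv.Perm (Fin 4)) := by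
  have ha2 : a * a = 1 := by rw [← pow_two, ← ha, pow_orderOf_eq_one]
  have hT : Nat.card (Subgroup.zpowers b) = 3 := by rw [Nat.card_zpowers, hb]
  have h12 : 12 ∣ Nat.card G := Nat.Coprime.mul_dvd_of_dvd_of_dvd (by norm_num : Nat.Coprime 4 3)
    (hab ▸ orderOf_dvd_natCard (a * b)) (hb ▸ orderOf_dvd_natCard b)
  have hpos : 0 < Nat.card G := Nat.card_pos
  obtain ⟨k, hk⟩ := h12
  have hk' : Nat.card G = 12 ∨ Nat.card G = 24 := by omega
  set N := Subgroup.normalizer (Subgroup.zpowers b : Set G) with hN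
  have hi : N.index % 3 = 1 := index_normalizer_of_card_three hT
    (by rcases hk' with h | h <;> rw [h] <;> norm_num)
  have hle : Subgroup.zpowers b ≤ N := Subgroup.le_normalizer
  have hne1 : N.index ≠ 1 := by
    intro h1
    have hn : (Subgroup.zpowers b).Normal :=
      Subgroup.normalizer_eq_top_iff.1 (Subgroup.index_eq_one.1 h1)
    have := card_le_six_of_normal hgen ha2 hb hn
    omega
  have hdvd := Subgroup.index_dvd_of_le hle
  have h2 := (Subgroup.zpowers b).card_mul_index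
  rw [hT] at h2
  have h4 : N.index = 4 := by
    have := Nat.le_of_dvd (by omega) hdvd
    obtain ⟨j, hj⟩ := hdvd
    rcases hk' with h | h
    · have h4 : (Subgroup.zpowers b).index = 4 := by omega
      rw [h4] at hj this
      interval_cases hx : N.index <;> omega
    · have h4 : (Subgroup.zpowers b).index = 8 := by omega
      rw [h4] at hj this
      interval_cases hx : N.index <;> omega
  have hNc := N.card_mul_index
  rw [h4] at hNc
  rcases hk' with h | h
  · exfalso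
    have hNT : N = Subgroup.zpowers b :=
      (Subgroup.eq_of_le_of_card_ge hle (by rw [hT]; omega)).symm
    obtain ⟨e⟩ := Census.nonempty_alternating_four h hT hNT
    have h4' : orderOf (e (a * b)) = 4 := by rw [MulEquiv.orderOf_eq, hab]
    have hall : ∀ x : alternatingGroup (Fin 4), x ^ 2 = 1 ∨ x ^ 3 = 1 := by decide +kernel
    rcases hall (e (a * b)) with h' | h' <;> have h'' := orderOf_dvd_of_pow_eq_one h' <;>
      rw [h4'] at h'' <;> norm_num at h''
  · exact Census.nonempty_perm_four h hT (by rw [← hN]; omega) hz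

theorem not_card_thirty (ha : orderOf a = 2) (hb : orderOf b = 3) (hab : orderOf (a * b) = 5) :
    Nat.card G ≠ 30 := by
  intro h
  classical
  let _ := Fintype.ofFinite G
  let χ : G →* ℤˣ := Equiv.Perm.sign.comp (MulAction.toPermHom G G)
  have hodd : ∀ x : G, Odd (orderOf x) → χ x = 1 := by
    intro x hx
    obtain ⟨j, hj⟩ := hx
    have h1 : χ x ^ orderOf x = 1 := by rw [← map_pow, pow_orderOf_eq_one, map_one]
    rwa [hj, pow_succ, pow_mul, Int.units_sq, one_pow, one_mul] at h1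
  have ha1 : χ a = -1 := by
    have hσ : MulAction.toPermHom G G a ^ 2 = 1 := by
      rw [← map_pow, ← ha, pow_orderOf_eq_one, map_one]
    show Equiv.Perm.sign (MulAction.toPermHom G G a) = -1
    rw [Equiv.Perm.sign_of_pow_two_eq_one hσ]
    have h0 : Fintype.card (Function.fixedPoints (MulAction.toPermHom G G a)) = 0 := by
      rw [Fintype.card_eq_zero_iff]
      refine ⟨fun ⟨x, hx⟩ => ?_⟩
      have hx' : a * x = x := hx
      rw [mul_eq_right] at hx'
      rw [hx', orderOf_one] at ha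
      omega
    rw [h0, Fintype.card_eq_nat_card, h]
    decide
  have hb1 := hodd b (by rw [hb]; decide)
  have hab1 := hodd (a * b) (by rw [hab]; decide)
  rw [map_mul, ha1, hb1, mul_one] at hab1
  exact absurd hab1 (by decide)

theorem tri_five (hgen : Subgroup.closure ({a, b} : Set G) = ⊤) (ha : orderOf a = 2) (hb : orderOf b = 3)
    (hab : orderOf (a * b) = 5) (hcard : Nat.card G ≤ 60) :
    Nonempty (G ≃* alternatingGroup (Fin 5)) := by
  have key : ∀ {Q : Type _} [Group Q] [Finite Q] (π : G →* Q), Function.Surjective π →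
      Nontrivial Q → 30 ∣ Nat.card Q ∧ Nat.card Q ≠ 30 := by
    intro Q _ _ π hπ hQ
    have htop : Subgroup.closure ({π a, π b} : Set Q) = ⊤ := by
      rw [← Set.image_pair, ← MonoidHom.map_closure, hgen, Subgroup.map_top_of_surjective π hπ]
    have oa : orderOf (π a) ∣ 2 := ha ▸ orderOf_map_dvd π a
    have ob : orderOf (π b) ∣ 3 := hb ▸ orderOf_map_dvd π b
    have oc : orderOf (π a * π b) ∣ 5 := by rw [← map_mul, ← hab]; exact orderOf_map_dvd π _
    have hnot : ¬ (π a = 1 ∧ π b = 1) := by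
      rintro ⟨ea, eb⟩
      rw [ea, eb, Set.pair_eq_singleton, Subgroup.closure_singleton_one] at htop
      exact bot_ne_top htop
    have ga : π a ≠ 1 := fun e => by
      rw [e, one_mul] at oc
      have := Nat.dvd_gcd ob oc
      rw [show Nat.gcd 3 5 = 1 from rfl, Nat.dvd_one, orderOf_eq_one_iff] at this
      exact hnot ⟨e, this⟩
    have gb : π b ≠ 1 := fun e => by
      rw [e, mul_one] at oc
      have := Nat.dvd_gcd oa oc
      rw [show Nat.gcd 2 5 = 1 from rfl, Nat.dvd_one, orderOf_eq_one_iff] at this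
      exact hnot ⟨this, e⟩
    have gc : π a * π b ≠ 1 := fun e => by
      rw [eq_inv_of_mul_eq_one_left e, orderOf_inv] at oa
      have := Nat.dvd_gcd oa ob
      rw [show Nat.gcd 2 3 = 1 from rfl, Nat.dvd_one, orderOf_eq_one_iff] at this
      exact gb this
    have ea := ((Nat.dvd_prime Nat.prime_two).1 oa).resolve_left (by simpa using ga)
    have eb := ((Nat.dvd_prime Nat.prime_three).1 ob).resolve_left (by simpa using gb)
    have ec := ((Nat.dvd_prime Nat.prime_five).1 oc).resolve_left (by simpa using gc)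
    refine ⟨?_, not_card_thirty ea eb ec⟩
    exact Nat.Coprime.mul_dvd_of_dvd_of_dvd (by norm_num : Nat.Coprime 6 5)
      (Nat.Coprime.mul_dvd_of_dvd_of_dvd (by norm_num : Nat.Coprime 2 3)
        (ea ▸ orderOf_dvd_natCard _) (eb ▸ orderOf_dvd_natCard _)) (ec ▸ orderOf_dvd_natCard _)
  have : Nontrivial G := ⟨a, 1, fun e => by rw [e, orderOf_one] at ha; omega⟩
  obtain ⟨⟨k, hk⟩, h30⟩ := key (MonoidHom.id G) Function.surjective_id this
  have h60 : Nat.card G = 60 := by have := Nat.card_pos (α := G); omega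
  have : IsSimpleGroup G := by
    refine ⟨fun N hN => ?_⟩
    by_cases hT : N = ⊤
    · exact Or.inr hT
    left
    have hnt : Nontrivial (G ⧸ N) := QuotientGroup.nontrivial_iff.2 hT
    obtain ⟨⟨j, hj⟩, hne⟩ := key (QuotientGroup.mk' N) (QuotientGroup.mk'_surjective _) hnt
    have h := Subgroup.card_eq_card_quotient_mul_card_subgroup N
    rw [h60, hj, mul_assoc] at h
    apply Subgroup.eq_bot_of_card_eq
    have h2 : j * Nat.card N = 2 := by omega
    have hjd : j ∣ 2 := ⟨_, h2.symm⟩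
    rcases (Nat.dvd_prime Nat.prime_two).1 hjd with rfl | rfl
    · omega
    · omega
  exact Cfsg.Agent.S0494.result h60

end Abstract

/-! ### The generators -/

abbrev Coord := (ℤ × ℤ) × (ℤ × ℤ) × (ℤ × ℤ) × (ℤ × ℤ)

def negC (z : ℤ × ℤ) : ℤ × ℤ := (-z.1, -z.2)
def addC (z z' : ℤ × ℤ) : ℤ × ℤ := (z.1 + z'.1, z.2 + z'.2)

def stepA (m : ℤ × ℤ → ℤ × ℤ) (r : Coord) : Coord :=
  (addC (addC (negC r.2.1) (m r.2.2.1)) (negC r.2.2.2), addC (addC r.1 r.2.2.1) (m r.2.2.2), r.2.2.2,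
    negC r.2.2.1)

def stepB (r : Coord) : Coord :=
  (negC r.2.2.1, negC r.2.2.2, addC r.1 r.2.2.1, addC r.2.1 r.2.2.2)

def oneC : Coord := ((1, 0), (0, 0), (0, 0), (0, 0))

def Closed (m : ℤ × ℤ → ℤ × ℤ) (L : List Coord) : Prop :=
  oneC ∈ L ∧ ∀ r ∈ L, stepA m r ∈ L ∧ stepB r ∈ L

instance (m : ℤ × ℤ → ℤ × ℤ) (L : List Coord) : Decidable (Closed m L) := by
  unfold Closed; infer_instance

def mulFive (z : ℤ × ℤ) : ℤ × ℤ := (z.2, z.1 + z.2)
def mulFour (z : ℤ × ℤ) : ℤ × ℤ := (2 * z.2, z.1)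

def listFive : List Coord :=
   [((1, 0), (0, 0), (0, 0), (0, 0)), ((0, 0), (1, 0), (0, 0), (0, 0)), ((0, 0), (0, 0), (1, 0), (0, 0)), ((-1, 0), (0, 0), (0, 0), (0, 0)),
    ((0, 0), (0, 0), (0, 0), (1, 0)), ((0, 1), (1, 0), (0, 0), (-1, 0)), ((-1, 0), (0, 0), (1, 0), (0, 0)), ((0, 0), (-1, 0), (0, 0), (0, 0)),
    ((0, 0), (0, 0), (-1, 0), (0, 0)), ((-1, 0), (0, 1), (1, 0), (0, 0)), ((0, 0), (-1, 0), (0, 0), (1, 0)), ((0, 0), (1, 0), (0, 1), (0, 0)),
    ((0, 1), (0, 0), (0, 0), (-1, 0)), ((0, 0), (0, 0), (0, 0), (-1, 0)), ((0, -1), (-1, 0), (0, 0), (1, 0)), ((1, 0), (0, 0), (-1, 0), (0, 0)),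
    ((-1, 0), (0, 0), (0, 0), (0, 1)), ((0, 0), (0, 1), (1, 0), (0, 0)), ((0, 1), (0, 1), (0, 0), (0, -1)), ((0, -1), (0, 0), (0, 1), (1, 0)),
    ((0, 0), (1, 0), (0, 1), (-1, 0)), ((1, 0), (0, -1), (-1, 0), (0, 0)), ((0, 0), (1, 0), (0, 0), (-1, 0)), ((0, 0), (-1, 0), (0, -1), (0, 0)),
    ((0, -1), (0, 0), (0, 0), (1, 0)), ((0, -1), (0, 1), (0, 1), (0, 0)), ((0, 0), (0, -1), (-1, 0), (0, 1)), ((-1, 0), (0, 0), (1, 0), (0, 1)),
    ((0, 0), (0, 1), (0, 1), (0, 0)), ((0, 1), (0, 1), (1, 0), (0, -1)), ((1, 1), (0, 0), (-1, 0), (0, -1)), ((0, -1), (1, 0), (0, 1), (0, 0)),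
    ((1, 0), (0, 0), (0, 0), (0, -1)), ((0, 0), (0, -1), (-1, 0), (0, 0)), ((0, -1), (0, -1), (0, 0), (0, 1)), ((0, 1), (0, 0), (0, -1), (-1, 0)),
    ((0, 0), (-1, 0), (0, -1), (1, 0)), ((0, -1), (0, 0), (0, 0), (0, 1)), ((0, -1), (0, 1), (0, 1), (1, 0)), ((0, 0), (1, 1), (0, 1), (-1, 0)),
    ((-1, 0), (0, -1), (0, 0), (0, 1)), ((1, 0), (0, 1), (0, 0), (0, -1)), ((0, -1), (0, 0), (0, 1), (0, 1)), ((-1, 0), (0, 1), (1, 1), (0, 0)),
    ((1, 0), (0, 1), (0, 1), (0, -1)), ((0, 1), (0, 0), (0, 0), (0, -1)), ((0, 1), (0, -1), (0, -1), (0, 0)), ((0, 0), (0, 1), (1, 0), (0, -1)),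
    ((1, 0), (0, 0), (-1, 0), (0, -1)), ((0, 0), (0, -1), (0, -1), (0, 0)), ((0, -1), (0, -1), (-1, 0), (0, 1)), ((-1, -1), (0, 0), (1, 0), (0, 1)),
    ((0, 1), (-1, 0), (0, -1), (0, 0)), ((0, 0), (0, -1), (0, -1), (0, 1)), ((0, -1), (-1, 0), (0, 0), (1, 1)), ((0, -1), (1, 0), (0, 1), (0, 1)),
    ((1, 0), (1, 1), (0, 1), (0, -1)), ((1, 1), (0, 1), (0, 0), (-1, -1)), ((-1, -1), (0, 0), (0, 1), (0, 1)), ((1, 1), (0, 0), (0, -1), (0, -1)),
    ((0, -1), (0, 1), (1, 1), (0, 0)), ((0, 0), (0, 1), (0, 1), (0, -1)), ((0, 1), (0, -1), (0, -1), (-1, 0)), ((0, 0), (-1, -1), (0, -1), (1, 0)),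
    ((0, 1), (0, 0), (0, -1), (0, -1)), ((1, 0), (0, -1), (-1, -1), (0, 0)), ((-1, 0), (0, -1), (0, -1), (0, 1)), ((-1, -1), (1, 0), (0, 1), (0, 1)),
    ((0, -1), (1, 1), (1, 1), (0, 0)), ((0, 0), (-1, -1), (0, -1), (0, 1)), ((0, 0), (1, 1), (0, 1), (0, -1)), ((0, -1), (0, -1), (0, 0), (1, 1)),
    ((0, -1), (0, 1), (1, 1), (1, 0)), ((0, 0), (1, 1), (1, 1), (-1, 0)), ((1, 1), (1, 0), (0, 0), (-1, -1)), ((1, 1), (-1, 0), (0, -1), (0, -1)),
    ((0, 1), (1, 0), (0, 0), (-1, -1)), ((0, 1), (-1, 0), (0, -1), (0, -1)), ((-1, 0), (-1, -1), (0, -1), (0, 1)), ((-1, -1), (0, -1), (0, 0), (1, 1)),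
    ((0, 1), (0, -1), (-1, -1), (0, 0)), ((0, -1), (0, -1), (-1, 0), (1, 1)), ((-1, -1), (0, 0), (1, 0), (1, 1)), ((-1, 0), (1, 1), (1, 1), (0, 0)),
    ((0, 1), (1, 1), (1, 0), (-1, -1)), ((-1, -1), (-1, 0), (1, 0), (1, 1)), ((1, 1), (1, 0), (-1, 0), (-1, -1)), ((-1, -1), (1, 0), (1, 1), (0, 1)),
    ((0, 0), (1, 1), (1, 1), (0, -1)), ((0, 1), (0, 1), (1, 0), (-1, -1)), ((0, 1), (-1, -1), (-1, -1), (0, 0)), ((0, 1), (0, 1), (0, 0), (-1, -1)),
    ((0, 1), (0, -1), (-1, -1), (-1, 0)), ((0, 0), (-1, -1), (-1, -1), (1, 0)), ((-1, -1), (-1, 0), (0, 0), (1, 1)), ((-1, -1), (0, 1), (1, 1), (1, 0)),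
    ((1, 0), (-1, -1), (-1, -1), (1, 0)), ((-1, 0), (1, 1), (1, 1), (-1, 0)), ((-1, 0), (-1, -1), (0, -1), (1, 1)), ((-1, -1), (0, 0), (0, 1), (1, 1)),
    ((0, 1), (1, 1), (0, 1), (-1, -1)), ((0, 2), (0, 0), (0, -1), (-1, -1)), ((1, 1), (0, -1), (-1, -1), (-1, 0)), ((1, 1), (0, 0), (-1, 0), (-1, -1)),
    ((1, 0), (-1, -1), (-1, -1), (0, 0)), ((0, -1), (-1, -1), (-1, 0), (1, 1)), ((1, 1), (-1, 0), (-1, -1), (0, -1)), ((0, 0), (-1, -1), (-1, -1), (0, 1)),
    ((-1, -1), (0, 1), (1, 1), (0, 1)), ((0, 0), (0, 2), (1, 1), (0, -1)), ((0, -1), (1, 1), (0, 2), (0, 0)), ((1, 0), (1, 1), (0, 1), (-1, -1)),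
    ((1, 1), (0, 0), (0, -1), (-1, -1)), ((0, -1), (-1, -1), (0, -1), (1, 1)), ((0, -2), (0, 0), (0, 1), (1, 1)), ((-1, -1), (0, -1), (0, 0), (0, 2)),
    ((1, 1), (0, 1), (0, 0), (0, -2)), ((1, 1), (0, -1), (-1, -1), (0, -1)), ((0, 0), (0, -2), (-1, -1), (0, 1)), ((0, 1), (-1, -1), (0, -2), (0, 0))]

def listFour : List Coord :=
   [((1, 0), (0, 0), (0, 0), (0, 0)), ((0, 0), (1, 0), (0, 0), (0, 0)), ((0, 0), (0, 0), (1, 0), (0, 0)), ((-1, 0), (0, 0), (0, 0), (0, 0)),
    ((0, 0), (0, 0), (0, 0), (1, 0)), ((0, 1), (1, 0), (0, 0), (-1, 0)), ((-1, 0), (0, 0), (1, 0), (0, 0)), ((0, 0), (-1, 0), (0, 0), (0, 0)),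
    ((0, 0), (0, 0), (-1, 0), (0, 0)), ((-1, 0), (0, 1), (1, 0), (0, 0)), ((0, 0), (-1, 0), (0, 0), (1, 0)), ((0, 0), (1, 0), (0, 1), (0, 0)),
    ((0, 1), (0, 0), (0, 0), (-1, 0)), ((0, 0), (0, 0), (0, 0), (-1, 0)), ((0, -1), (-1, 0), (0, 0), (1, 0)), ((1, 0), (0, 0), (-1, 0), (0, 0)),
    ((-1, 0), (0, 0), (0, 0), (0, 1)), ((0, 0), (0, 1), (1, 0), (0, 0)), ((1, 0), (0, 1), (0, 0), (0, -1)), ((0, -1), (0, 0), (0, 1), (1, 0)),
    ((0, 0), (1, 0), (0, 1), (-1, 0)), ((1, 0), (0, -1), (-1, 0), (0, 0)), ((0, 0), (1, 0), (0, 0), (-1, 0)), ((0, 0), (-1, 0), (0, -1), (0, 0)),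
    ((0, -1), (0, 0), (0, 0), (1, 0)), ((0, -1), (1, 0), (0, 1), (0, 0)), ((0, 0), (0, -1), (-1, 0), (0, 1)), ((-1, 0), (0, 0), (1, 0), (0, 1)),
    ((1, 0), (0, 1), (1, 0), (0, -1)), ((2, 0), (0, 0), (-1, 0), (0, -1)), ((1, 0), (0, 0), (0, 0), (0, -1)), ((0, 0), (0, -1), (-1, 0), (0, 0)),
    ((-1, 0), (0, -1), (0, 0), (0, 1)), ((0, 1), (0, 0), (0, -1), (-1, 0)), ((0, 0), (-1, 0), (0, -1), (1, 0)), ((0, -1), (1, 0), (0, 1), (1, 0)),
    ((0, 0), (2, 0), (0, 1), (-1, 0)), ((-1, 0), (0, 1), (2, 0), (0, 0)), ((0, 1), (-1, 0), (0, -1), (0, 0)), ((0, 0), (0, 1), (1, 0), (0, -1)),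
    ((1, 0), (0, 0), (-1, 0), (0, -1)), ((-1, 0), (0, -1), (-1, 0), (0, 1)), ((-2, 0), (0, 0), (1, 0), (0, 1)), ((0, -1), (-1, 0), (0, 0), (2, 0)),
    ((0, 1), (1, 0), (0, 0), (-2, 0)), ((0, 1), (-1, 0), (0, -1), (-1, 0)), ((0, 0), (-2, 0), (0, -1), (1, 0)), ((1, 0), (0, -1), (-2, 0), (0, 0))]

def listThree : List Coord :=
   [((1, 0), (0, 0), (0, 0), (0, 0)), ((0, 0), (1, 0), (0, 0), (0, 0)), ((0, 0), (0, 0), (1, 0), (0, 0)), ((-1, 0), (0, 0), (0, 0), (0, 0)),
    ((0, 0), (0, 0), (0, 0), (1, 0)), ((1, 0), (1, 0), (0, 0), (-1, 0)), ((-1, 0), (0, 0), (1, 0), (0, 0)), ((0, 0), (-1, 0), (0, 0), (0, 0)),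
    ((0, 0), (0, 0), (-1, 0), (0, 0)), ((-1, 0), (1, 0), (1, 0), (0, 0)), ((0, 0), (-1, 0), (0, 0), (1, 0)), ((0, 0), (1, 0), (1, 0), (0, 0)),
    ((1, 0), (0, 0), (0, 0), (-1, 0)), ((0, 0), (0, 0), (0, 0), (-1, 0)), ((-1, 0), (-1, 0), (0, 0), (1, 0)), ((1, 0), (0, 0), (-1, 0), (0, 0)),
    ((-1, 0), (0, 0), (0, 0), (1, 0)), ((0, 0), (1, 0), (0, 0), (-1, 0)), ((-1, 0), (0, 0), (1, 0), (1, 0)), ((0, 0), (1, 0), (1, 0), (-1, 0)),
    ((1, 0), (-1, 0), (-1, 0), (0, 0)), ((0, 0), (-1, 0), (-1, 0), (0, 0)), ((0, 0), (-1, 0), (-1, 0), (1, 0)), ((1, 0), (0, 0), (-1, 0), (-1, 0))]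

theorem closed_five : Closed mulFive listFive := by decide +kernel
theorem closed_four : Closed mulFour listFour := by decide +kernel
theorem closed_three : Closed id listThree := by decide +kernel

variable {F : Type*} [Field F] [Finite F]

local notation "PSL" => ProjectiveSpecialLinearGroup (Fin 2) F

theorem two_ne_zero_of_odd_card (hodd : Odd (Nat.card F)) : (2 : F) ≠ 0 := by
  let _ := Fintype.ofFinite F
  intro h
  have : CharP F 2 := (CharP.charP_iff_prime_eq_zero Nat.prime_two).2 (by simpa using h)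
  obtain ⟨n, -, hn⟩ := FiniteField.card F 2
  rw [Nat.card_eq_fintype_card, hn] at hodd
  exact Nat.not_even_iff_odd.2 hodd ((Nat.even_pow).2 ⟨even_two, n.pos.ne'⟩)

theorem exists_xy (hodd : Odd (Nat.card F)) (s : F) : ∃ x y : F, x ^ 2 - x + y ^ 2 - s * y + 1 = 0 := by
  let _ := Fintype.ofFinite F
  open Polynomial in
  obtain ⟨x, y, h⟩ := FiniteField.exists_root_sum_quadratic (R := F) (f := C 1 * X ^ 2 + C (-1) * X + C 0)
    (g := C 1 * X ^ 2 + C (-s) * X + C 1) (degree_quadratic one_ne_zero) (degree_quadratic one_ne_zero)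
    (by rw [Fintype.card_eq_nat_card]; exact Nat.odd_iff.1 hodd)
  refine ⟨x, y, ?_⟩
  simp only [Polynomial.eval_add, Polynomial.eval_mul, Polynomial.eval_C, Polynomial.eval_pow,
    Polynomial.eval_X] at h
  linear_combination h

/-- Two elements of `SL(2, q)` generating a finite triangle group. -/
theorem exists_pair (hodd : Odd (Nat.card F)) (s : F) (m : ℤ × ℤ → ℤ × ℤ) (L : List Coord)
    (hm : ∀ z, ((m z).1 : F) + ((m z).2 : F) * s = s * ((z.1 : F) + (z.2 : F) * s))
    (hL : Closed m L) :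
    ∃ a b : SL(2, F), a * a = -1 ∧ b * (b * b) = -1 ∧ NonScalar (a : Matrix (Fin 2) (Fin 2) F) ∧
      (s ≠ 0 → NonScalar (b : Matrix (Fin 2) (Fin 2) F)) ∧
      NonScalar ((a * b : SL(2, F)) : Matrix (Fin 2) (Fin 2) F) ∧
      ((a * b : SL(2, F)) : Matrix (Fin 2) (Fin 2) F).trace = s ∧
      (s ^ 2 ≠ 3 → b * a ≠ a * b) ∧ b * a ≠ -(a * b) ∧
      Nat.card (Subgroup.closure ({a, b} : Set SL(2, F))) ≤ L.length := by
  obtain ⟨x, y, hxy⟩ := exists_xy hodd s
  have h2 : (2 : F) ≠ 0 := two_ne_zero_of_odd_card hodd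
  obtain ⟨a, ha⟩ : ∃ a : SL(2, F), (a : Matrix (Fin 2) (Fin 2) F) = !![0, -1; 1, 0] :=
    ⟨⟨_, by simp [Matrix.det_fin_two_of]⟩, rfl⟩
  obtain ⟨b, hb⟩ : ∃ b : SL(2, F), (b : Matrix (Fin 2) (Fin 2) F) = !![x, y; y - s, 1 - x] :=
    ⟨⟨_, by rw [Matrix.det_fin_two_of]; linear_combination -hxy⟩, rfl⟩
  let ev : ℤ × ℤ → F := fun z => (z.1 : F) + (z.2 : F) * s
  let M : Coord → Matrix (Fin 2) (Fin 2) F := fun r =>
    ev r.1 • (1 : Matrix (Fin 2) (Fin 2) F) + ev r.2.1 • (a : Matrix (Fin 2) (Fin 2) F) +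
      ev r.2.2.1 • (b : Matrix (Fin 2) (Fin 2) F) +
      ev r.2.2.2 • ((a : Matrix (Fin 2) (Fin 2) F) * (b : Matrix (Fin 2) (Fin 2) F))
  have evA : ∀ z z', ev (addC z z') = ev z + ev z' := fun z z' => by
    simp only [ev, addC]; push_cast; ring
  have evN : ∀ z, ev (negC z) = -ev z := fun z => by simp only [ev, negC]; push_cast; ring
  have evM : ∀ z, ev (m z) = s * ev z := hm
  have hA : ∀ r, M r * (a : Matrix (Fin 2) (Fin 2) F) = M (stepA m r) := by
    intro r
    ext i j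
    fin_cases i <;> fin_cases j <;>
      simp [M, ha, hb, stepA, evA, evN, evM, Matrix.mul_apply, Fin.sum_univ_two] <;> ring
  have hB : ∀ r, M r * (b : Matrix (Fin 2) (Fin 2) F) = M (stepB r) := by
    intro r
    ext i j
    fin_cases i <;> fin_cases j <;>
      simp [M, ha, hb, stepB, evA, evN, Matrix.mul_apply, Fin.sum_univ_two] <;>
      first
        | ring1
        | linear_combination ev r.2.2.1 * hxy
        | linear_combination ev r.2.2.2 * hxy
        | linear_combination -(ev r.2.2.1) * hxy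
        | linear_combination -(ev r.2.2.2) * hxy
  refine ⟨a, b, ext2 ?_ ?_ ?_ ?_, ext2 ?_ ?_ ?_ ?_, ?_, fun hs => ?_, ?_, ?_, fun hs => ?_, ?_, ?_⟩
  iterate 4 simp [ha, mul_entry]
  iterate 4
    simp [hb, mul_entry]
    first
      | linear_combination (0 : F) * hxy
      | linear_combination hxy
      | linear_combination (x + 1) * hxy
      | linear_combination y * hxy
      | linear_combination (y - s) * hxy
      | linear_combination (2 - x) * hxy
  · rw [nonScalar_iff]; simp [ha]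
  · rw [nonScalar_iff]
    by_contra hc
    simp only [hb, not_or, not_not] at hc
    simp at hc
    exact hs (by linear_combination hc.1 - hc.2.1)
  · rw [nonScalar_iff]
    by_contra hc
    simp [ha, hb, mul_entry] at hc
    exact one_ne_zero (by linear_combination hc.2.1 - hc.1 : (1 : F) = 0)
  · simp [ha, hb, Matrix.trace_fin_two, mul_entry]
  · intro e
    have e00 := congrArg (fun g : SL(2, F) => g.1 0 0) e
    have e01 := congrArg (fun g : SL(2, F) => g.1 0 1) e
    simp [ha, hb, mul_entry] at e00 e01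
    exact hs (by linear_combination (-4 : F) * hxy + (y * 2 - s) * e00 - (2 * x - 1) * e01)
  · intro e
    have e00 := congrArg (fun g : SL(2, F) => g.1 0 0) e
    have e01 := congrArg (fun g : SL(2, F) => g.1 0 1) e
    simp [ha, hb, mul_entry] at e00 e01
    exact one_ne_zero (by linear_combination -e01 : (1 : F) = 0)
  · have hsub : ∀ g ∈ Subgroup.closure ({a, b} : Set SL(2, F)), ∃ r ∈ L, (g : Matrix (Fin 2) (Fin 2) F) = M r := by
      intro g hg
      rw [← Subgroup.mem_toSubmonoid, Subgroup.closure_toSubmonoid_of_finite] at hg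
      induction hg using Submonoid.closure_induction_right with
      | one => exact ⟨oneC, hL.1, by simp [M, ev, oneC]⟩
      | mul_right g hg u hu ih =>
        obtain ⟨r, hr, e⟩ := ih
        rcases hu with hu | hu
        · exact ⟨_, (hL.2 r hr).1, by rw [hu, Matrix.SpecialLinearGroup.coe_mul, e, hA]⟩
        · exact ⟨_, (hL.2 r hr).2, by rw [Set.mem_singleton_iff.1 hu, Matrix.SpecialLinearGroup.coe_mul, e, hB]⟩
    choose f hf hf' using hsub
    refine le_trans (Nat.card_le_card_of_injective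
      (fun g : Subgroup.closure ({a, b} : Set SL(2, F)) =>
        (⟨f g.1 g.2, List.mem_toFinset.2 (hf g.1 g.2)⟩ : L.toFinset)) ?_) ?_
    · intro g g' e
      have e' : f g.1 g.2 = f g'.1 g'.2 := congrArg Subtype.val e
      exact Subtype.ext (Subtype.ext ((hf' g.1 g.2).trans (e' ▸ (hf' g'.1 g'.2).symm)))
    · rw [Nat.card_eq_fintype_card, Fintype.card_coe]
      exact List.toFinset_card_le L

/-! ### In `PSL(2, q)` -/

theorem proj_ne_one {g : SL(2, F)} (hg : NonScalar (g : Matrix (Fin 2) (Fin 2) F)) : proj g ≠ 1 := fun h => by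
  rw [proj_eq_one_iff, mem_center_iff_not_nonScalar] at h
  exact h hg

theorem coe_mul_self (g : SL(2, F)) : ((g * g : SL(2, F)) : Matrix (Fin 2) (Fin 2) F) =
    (g : Matrix (Fin 2) (Fin 2) F).trace • (g : Matrix (Fin 2) (Fin 2) F) - 1 := by
  rw [Matrix.SpecialLinearGroup.coe_mul, cayley, g.det_coe, one_smul]

theorem proj_neg_one : proj (-1 : SL(2, F)) = 1 := (proj_eq_one_iff _).2 neg_one_mem_center

theorem exists_orders (hodd : Odd (Nat.card F)) (s : F) (m : ℤ × ℤ → ℤ × ℤ) (L : List Coord)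
    (hm : ∀ z, ((m z).1 : F) + ((m z).2 : F) * s = s * ((z.1 : F) + (z.2 : F) * s))
    (hL : Closed m L) (hs0 : s ≠ 0) (hs3 : s ^ 2 ≠ 3) (n : ℕ)
    (hn : ∀ g : SL(2, F), NonScalar (g : Matrix (Fin 2) (Fin 2) F) →
      (g : Matrix (Fin 2) (Fin 2) F).trace = s → orderOf (proj g) = n) :
    ∃ α β : PSL, orderOf α = 2 ∧ orderOf β = 3 ∧ orderOf (α * β) = n ∧ ¬ Commute α β ∧
      2 * Nat.card (Subgroup.closure ({α, β} : Set PSL)) ≤ L.length := by
  obtain ⟨a, b, ha, hb, hna, hnb, hnab, htr, hc, hc', hcard⟩ := exists_pair hodd s m L hm hL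
  have hα : orderOf (proj a) = 2 := orderOf_eq_prime
    (by rw [← map_pow, pow_two, ha, proj_neg_one]) (proj_ne_one hna)
  have hβ : orderOf (proj b) = 3 := orderOf_eq_prime (hp := ⟨Nat.prime_three⟩)
    (by rw [← map_pow, pow_succ', pow_two, hb, proj_neg_one]) (proj_ne_one (hnb hs0))
  refine ⟨proj a, proj b, hα, hβ, by rw [← map_mul]; exact hn _ hnab htr, fun h => ?_, ?_⟩
  · have e : proj (a * b) = proj (b * a) := by rw [map_mul, map_mul]; exact h.eq
    rcases eq_or_eq_neg_of_proj_eq e with e' | e'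
    · exact hc hs3 e'
    · exact hc' e'
  · have hle : Subgroup.center SL(2, F) ≤ Subgroup.closure ({a, b} : Set SL(2, F)) := by
      intro z hz
      rcases eq_one_or_eq_neg_one_of_mem_center z hz with rfl | rfl
      · exact one_mem _
      · rw [← ha]
        exact mul_mem (Subgroup.subset_closure (by simp)) (Subgroup.subset_closure (by simp))
    have h := card_map_proj hle
    rw [MonoidHom.map_closure, Set.image_pair, show Nat.gcd 2 (Nat.card F - 1) = 2 from dd_of_odd hodd] at h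
    omega

theorem isCommutative_of_le_normalizer_torus (p : ℕ) [Fact p.Prime] [CharP F p] {α β z : PSL}
    (hz : Census.Semi p z) (h : ∀ y ∈ ({α, β} : Set PSL), y ∈ Subgroup.normalizer (torus z : Set PSL))
    (hβ : orderOf β = 3) : Commute α β ∨ (α * β) * (α * β) = 1 := by
  have hN := h α (by simp)
  have hN' := h β (by simp)
  have hβT : β ∈ torus z := by
    by_contra hn
    have h2 : orderOf β ∣ 2 := orderOf_dvd_of_pow_eq_one
      (by rw [pow_two]; exact mul_self_of_normalizer_torus p hz hN' hn)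
    rw [hβ] at h2
    norm_num at h2
  by_cases hαT : α ∈ torus z
  · left
    have := isCyclic_torus p hz
    let _ := IsCyclic.commGroup (α := torus z)
    exact congrArg Subtype.val (mul_comm (⟨α, hαT⟩ : torus z) ⟨β, hβT⟩)
  · right
    refine mul_self_of_normalizer_torus p hz (mul_mem hN hN') fun hm => hαT ?_
    simpa using mul_mem hm (inv_mem hβT)

theorem center_trivial_of_tri (hodd : Odd (Nat.card F)) {α β : PSL} (hα : orderOf α = 2)
    (hβ : orderOf β = 3) (hnc : ¬ Commute α β) (h : (α * β) * (α * β) ≠ 1) {z : PSL}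
    (h1 : Commute z α) (h2 : Commute z β) : z = 1 := by
  obtain ⟨p, hchar⟩ := CharP.exists F
  have : Fact p.Prime := ⟨CharP.char_is_prime F p⟩
  by_contra hz1
  rcases semi_or_orderOf p z hz1 with ho | hs
  · have hp2 : α ^ p = 1 := pow_eq_one_of_commute p ho h1
    have hd := orderOf_dvd_of_pow_eq_one hp2
    rw [hα, Nat.prime_dvd_prime_iff_eq Nat.prime_two this.out] at hd
    have := CharP.cast_eq_zero F p
    rw [← hd] at this
    exact two_ne_zero_of_odd_card hodd (by simpa using this)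
  · refine (isCommutative_of_le_normalizer_torus p hs ?_ hβ).elim hnc h
    intro y hy
    have hle : Subgroup.zpowers y ≤ Subgroup.normalizer (torus z : Set PSL) := by
      refine le_normalizer_torus p hs fun w hw => ?_
      obtain ⟨k, rfl⟩ := Subgroup.mem_zpowers_iff.1 hw
      have hzy : Commute z y := by
        rcases hy with rfl | rfl
        · exact h1
        · exact h2
      rw [(hzy.symm.zpow_left k).eq, mul_inv_cancel_right]
      exact mem_torus z
    exact hle (Subgroup.mem_zpowers y)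

theorem gen_closure {α β : PSL} (H : Subgroup PSL) (hH : H = Subgroup.closure ({α, β} : Set PSL))
    (hα : α ∈ H) (hβ : β ∈ H) : Subgroup.closure ({⟨α, hα⟩, ⟨β, hβ⟩} : Set H) = ⊤ := by
  apply Subgroup.map_injective H.subtype_injective
  rw [MonoidHom.map_closure, Set.image_pair, ← MonoidHom.range_eq_map, Subgroup.range_subtype]
  exact hH.symm

theorem exists_alternating_four (hodd : Odd (Nat.card F)) :
    ∃ H : Subgroup PSL, Nonempty (H ≃* alternatingGroup (Fin 4)) := by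
  have h2 := two_ne_zero_of_odd_card hodd
  obtain ⟨α, β, hα, hβ, hγ, hnc, hcard⟩ := exists_orders hodd (1 : F) id listThree
    (fun z => by simp only [id_eq, mul_one, one_mul]) closed_three one_ne_zero
    (fun h => h2 (by linear_combination -h)) 3 (fun g hg ht => orderOf_eq_prime (hp := ⟨Nat.prime_three⟩)
      (by
        rw [← map_pow, pow_succ', pow_two, show g * (g * g) = -1 from ?_, proj_neg_one]
        refine (coe_eq_neg_one_iff _).1 ?_
        rw [Matrix.SpecialLinearGroup.coe_mul, coe_mul_self, ht, one_smul, mul_sub, mul_one,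
          ← Matrix.SpecialLinearGroup.coe_mul, coe_mul_self, ht, one_smul]
        abel) (proj_ne_one hg))
  refine ⟨_, tri_four (gen_closure (α := α) (β := β) _ rfl (Subgroup.subset_closure (by simp)) (Subgroup.subset_closure (by simp)))
    ?_ ?_ ?_ ?_ ?_⟩
  · rw [Subgroup.orderOf_mk, hα]
  · rw [Subgroup.orderOf_mk, hβ]
  · rw [MulMemClass.mk_mul_mk, Subgroup.orderOf_mk, hγ]
  · change 2 * _ ≤ 24 at hcard; omega
  · exact fun h => hnc (congrArg Subtype.val h.eq)

theorem exists_perm_four_of_sq (hodd : Odd (Nat.card F)) {s : F} (hs : s * s = 2) :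
    ∃ H : Subgroup PSL, Nonempty (H ≃* Equiv.Perm (Fin 4)) := by
  have h2 := two_ne_zero_of_odd_card hodd
  have hs0 : s ≠ 0 := fun h => h2 (by rw [← hs, h, mul_zero])
  obtain ⟨α, β, hα, hβ, hγ, hnc, hcard⟩ := exists_orders hodd s mulFour listFour
    (fun z => by simp only [mulFour]; push_cast; linear_combination -(z.2 : F) * hs) closed_four hs0
    (fun h => one_ne_zero (by linear_combination -h + hs : (1 : F) = 0)) 4 (fun g hg ht => by
      refine orderOf_eq_prime_pow (p := 2) (n := 1) ?_ ?_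
      · rw [pow_one, ← map_pow, proj_eq_one_iff, mem_center_iff_not_nonScalar, not_not, pow_two,
          nonScalar_iff, coe_mul_self, ht]
        rw [nonScalar_iff] at hg
        rcases hg with e | e | e
        · left; simp [hs0, e]
        · right; left; simp [hs0, e]
        · right; right; simp [hs0, e]
      · rw [← map_pow, show g ^ 2 ^ (1 + 1) = (g * g) * (g * g) by
          rw [show (2 : ℕ) ^ (1 + 1) = 2 + 2 from rfl, pow_add, pow_two],
          mul_self_eq_neg_one_of_trace, proj_neg_one]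
        rw [coe_mul_self, ht, Matrix.trace_sub, Matrix.trace_smul, ht, Matrix.trace_one, Fintype.card_fin,
          smul_eq_mul, hs]
        norm_num)
  refine ⟨_, tri_perm (gen_closure (α := α) (β := β) _ rfl (Subgroup.subset_closure (by simp)) (Subgroup.subset_closure (by simp)))
    ?_ ?_ ?_ ?_ ?_⟩
  · rw [Subgroup.orderOf_mk, hα]
  · rw [Subgroup.orderOf_mk, hβ]
  · rw [MulMemClass.mk_mul_mk, Subgroup.orderOf_mk, hγ]
  · change 2 * _ ≤ 48 at hcard; omega
  · rintro ⟨t, ht⟩ hc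
    rw [Subgroup.mem_center_iff] at hc
    have hsq : (α * β) * (α * β) ≠ 1 := fun e => by
      have := orderOf_dvd_of_pow_eq_one (show (α * β) ^ 2 = 1 by rw [pow_two, e])
      rw [hγ] at this
      norm_num at this
    exact Subtype.ext (center_trivial_of_tri hodd hα hβ hnc hsq
      (congrArg Subtype.val (hc ⟨α, Subgroup.subset_closure (by simp)⟩)).symm
      (congrArg Subtype.val (hc ⟨β, Subgroup.subset_closure (by simp)⟩)).symm)

theorem exists_alternating_five_of_sq (hodd : Odd (Nat.card F)) {s : F} (hs : s * s = s + 1) :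
    ∃ H : Subgroup PSL, Nonempty (H ≃* alternatingGroup (Fin 5)) := by
  have h2 := two_ne_zero_of_odd_card hodd
  have hs0 : s ≠ 0 := fun h => by simp [h] at hs
  have hs3 : s ^ 2 ≠ 3 := by
    intro h
    have e : s = 2 := by linear_combination h - hs
    rw [e] at hs
    exact one_ne_zero (by linear_combination hs : (1 : F) = 0)
  obtain ⟨α, β, hα, hβ, hγ, hnc, hcard⟩ := exists_orders hodd s mulFive listFive
    (fun z => by simp only [mulFive]; push_cast; linear_combination -(z.2 : F) * hs) closed_five hs0 hs3 5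
    (fun g hg ht => orderOf_eq_prime (hp := ⟨Nat.prime_five⟩)
      (by
        rw [← map_pow, show g ^ 5 = g * ((g * g) * (g * g)) by simp [pow_succ, mul_assoc],
          show g * ((g * g) * (g * g)) = -1 from ?_, proj_neg_one]
        refine (coe_eq_neg_one_iff _).1 ?_
        have hm := coe_mul_self g
        rw [Matrix.SpecialLinearGroup.coe_mul, ht] at hm
        rw [Matrix.SpecialLinearGroup.coe_mul, Matrix.SpecialLinearGroup.coe_mul, Matrix.SpecialLinearGroup.coe_mul]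
        generalize (g : Matrix (Fin 2) (Fin 2) F) = X at hm ⊢
        simp only [hm, mul_sub, sub_mul, mul_add, add_mul, smul_mul_assoc, mul_smul_comm, smul_sub,
          smul_add, mul_one, one_mul, smul_smul]
        ext i j
        simp only [Matrix.sub_apply, Matrix.add_apply, Matrix.smul_apply, Matrix.neg_apply, smul_eq_mul]
        linear_combination (X i j * (s ^ 2 + s - 1) - (1 : Matrix (Fin 2) (Fin 2) F) i j * (s + 1)) * hs)
      (proj_ne_one hg))
  refine ⟨_, tri_five (gen_closure (α := α) (β := β) _ rfl (Subgroup.subset_closure (by simp)) (Subgroup.subset_closure (by simp)))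
    ?_ ?_ ?_ ?_⟩
  · rw [Subgroup.orderOf_mk, hα]
  · rw [Subgroup.orderOf_mk, hβ]
  · rw [MulMemClass.mk_mul_mk, Subgroup.orderOf_mk, hγ]
  · change 2 * _ ≤ 120 at hcard; omega

end CfsgLib.SL2
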