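import Mathlib
import Cfsg.Agent.Lib.SL2.Tri

/-!
Existence criteria for `A₄`, `S₄`, `A₅` in `PSL(2, q)`.
-/

set_option autoImplicit false
set_option linter.unusedSectionVars false
set_option maxHeartbeats 400000

namespace CfsgLib.SL2

open Matrix
open scoped MatrixGroups Pointwise

variable {F : Type*} [Field F] [Finite F]

local notation "PSL" => ProjectiveSpecialLinearGroup (Fin 2) F

theorem card_perm_four : Nat.card (Equiv.Perm (Fin 4)) = 24 := by
  rw [Nat.card_eq_fintype_card, Fintype.card_perm, Fintype.card_fin]; rfl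

/-- An element of order four gives a square root of `2`. -/
theorem exists_sq_two (hodd : Odd (Nat.card F)) {c : PSL} (hc : orderOf c = 4) :
    ∃ s : F, s * s = 2 := by
  obtain ⟨g, rfl⟩ := proj_surjective c
  set t := (g : Matrix (Fin 2) (Fin 2) F).trace with ht
  refine ⟨t, ?_⟩
  have hgg : NonScalar ((g * g : SL(2, F)) : Matrix (Fin 2) (Fin 2) F) := by
    by_contra h
    have h' : proj (g * g) = 1 := (proj_eq_one_iff _).2 ((mem_center_iff_not_nonScalar _).2 h)
    have := orderOf_dvd_of_pow_eq_one (show (proj g) ^ 2 = 1 by rw [← map_pow, pow_two, h'])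
    rw [hc] at this
    norm_num at this
  have h4 : proj ((g * g) * (g * g)) = 1 := by
    rw [← pow_orderOf_eq_one (proj g), hc, ← map_pow]
    simp [pow_succ, mul_assoc]
  have htr : ((g * g : SL(2, F)) : Matrix (Fin 2) (Fin 2) F).trace = t * t - 2 := by
    rw [coe_mul_self, Matrix.trace_sub, Matrix.trace_smul, Matrix.trace_one, Fintype.card_fin, smul_eq_mul]
    norm_num [ht]
  rw [proj_eq_one_iff] at h4
  have h0 : ((g * g : SL(2, F)) : Matrix (Fin 2) (Fin 2) F).trace = 0 := by
    by_contra h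
    refine (mem_center_iff_not_nonScalar _).1 h4 ?_
    rw [nonScalar_iff] at hgg
    rw [nonScalar_iff, coe_mul_self]
    rcases hgg with e | e | e
    · left
      simp only [Matrix.sub_apply, Matrix.smul_apply, smul_eq_mul, Matrix.one_apply_ne (show (0 : Fin 2) ≠ 1 by decide), sub_zero]
      exact mul_ne_zero h e
    · right; left
      simp only [Matrix.sub_apply, Matrix.smul_apply, smul_eq_mul, Matrix.one_apply_ne (show (1 : Fin 2) ≠ 0 by decide), sub_zero]
      exact mul_ne_zero h e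
    · right; right
      simp only [Matrix.sub_apply, Matrix.smul_apply, smul_eq_mul, Matrix.one_apply_eq]
      exact fun e' => e (mul_left_cancel₀ h (sub_left_injective e'))
  rw [htr] at h0
  linear_combination h0

/-- An element of order five gives a root of `X² - X - 1`. -/
theorem exists_sq_five {c : PSL} (hc : orderOf c = 5) : ∃ s : F, s * s = s + 1 := by
  obtain ⟨g, rfl⟩ := proj_surjective c
  set t := (g : Matrix (Fin 2) (Fin 2) F).trace with ht
  have hg : NonScalar (g : Matrix (Fin 2) (Fin 2) F) := by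
    by_contra h
    rw [(proj_eq_one_iff _).2 ((mem_center_iff_not_nonScalar _).2 h), orderOf_one] at hc
    norm_num at hc
  have h5 : g * ((g * g) * (g * g)) ∈ Subgroup.center SL(2, F) := by
    rw [← proj_eq_one_iff, ← pow_orderOf_eq_one (proj g), hc, ← map_pow]
    simp [pow_succ, mul_assoc]
  have hM : ((g * ((g * g) * (g * g)) : SL(2, F)) : Matrix (Fin 2) (Fin 2) F) =
      (t ^ 4 - 3 * t ^ 2 + 1) • (g : Matrix (Fin 2) (Fin 2) F) - (t ^ 3 - 2 * t) • 1 := by
    have hm := coe_mul_self g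
    rw [Matrix.SpecialLinearGroup.coe_mul, ← ht] at hm
    rw [Matrix.SpecialLinearGroup.coe_mul, Matrix.SpecialLinearGroup.coe_mul,
      Matrix.SpecialLinearGroup.coe_mul]
    generalize (g : Matrix (Fin 2) (Fin 2) F) = X at hm ⊢
    simp only [hm, mul_sub, sub_mul, mul_add, add_mul, smul_mul_assoc, mul_smul_comm, smul_sub,
      smul_add, mul_one, one_mul, smul_smul]
    ext i j
    simp only [Matrix.sub_apply, Matrix.add_apply, Matrix.smul_apply, smul_eq_mul]
    ring
  have h0 : (t * t - t - 1) * (t * t + t - 1) = 0 := by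
    by_contra h
    have h' : t ^ 4 - 3 * t ^ 2 + 1 ≠ 0 := fun e => h (by linear_combination e)
    refine (mem_center_iff_not_nonScalar _).1 h5 ?_
    rw [nonScalar_iff, hM]
    rw [nonScalar_iff] at hg
    simp only [Matrix.sub_apply, Matrix.smul_apply, smul_eq_mul, Matrix.one_apply_ne (show (0 : Fin 2) ≠ 1 by decide),
      Matrix.one_apply_ne (show (1 : Fin 2) ≠ 0 by decide), Matrix.one_apply_eq, mul_zero, sub_zero]
    rcases hg with e | e | e
    · exact Or.inl (mul_ne_zero h' e)
    · exact Or.inr (Or.inl (mul_ne_zero h' e))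
    · exact Or.inr (Or.inr fun e' => e (mul_left_cancel₀ h' (sub_left_injective e')))
  rcases mul_eq_zero.1 h0 with h | h
  · exact ⟨t, by linear_combination h⟩
  · exact ⟨-t, by linear_combination h⟩

theorem exists_orderOf_of_dvd (h4 : 4 ≤ Nat.card F) {n : ℕ}
    (hn : n ∣ (Nat.card F - 1) / dd F ∨ n ∣ (Nat.card F + 1) / dd F) : ∃ c : PSL, orderOf c = n := by
  obtain ⟨p, hchar⟩ := CharP.exists F
  have : Fact p.Prime := ⟨CharP.char_is_prime F p⟩
  rcases hn with hn | hn
  · obtain ⟨c, -, hc, -⟩ := exists_semi_pred p h4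
    exact ⟨c ^ (orderOf c / n), orderOf_pow_orderOf_div (orderOf_pos c).ne' (hc ▸ hn)⟩
  · obtain ⟨c, -, hc, -⟩ := exists_semi_succ p (F := F)
    exact ⟨c ^ (orderOf c / n), orderOf_pow_orderOf_div (orderOf_pos c).ne' (hc ▸ hn)⟩

theorem orderOf_ne_four_of_even (h : Even (Nat.card F)) (c : PSL) : orderOf c ≠ 4 := by
  intro hc
  let _ := Fintype.ofFinite F
  obtain ⟨p, hchar⟩ := CharP.exists F
  obtain ⟨n, hp, hn⟩ := FiniteField.card F p
  rw [Fintype.card_eq_nat_card] at hn
  have : Fact p.Prime := ⟨hp⟩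
  have hp2 : p = 2 := ((Nat.prime_dvd_prime_iff_eq Nat.prime_two hp).1
    (Nat.prime_two.dvd_of_dvd_pow (hn ▸ even_iff_two_dvd.1 h))).symm
  subst hp2
  rcases semi_or_orderOf 2 c (fun e => by simp [e] at hc) with ho | hs
  · omega
  · exact hs.2 (by rw [hc]; norm_num)

theorem exists_alternating_five_of_pow_four (m : ℕ) (hm : Nat.card F = 4 ^ m) :
    ∃ H : Subgroup PSL, Nonempty (H ≃* alternatingGroup (Fin 5)) := by
  obtain ⟨K, _, _, hK⟩ : ∃ (K : Type) (_ : Field K) (_ : Finite K), Nat.card K = 4 :=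
    ⟨GaloisField 2 2, inferInstance, inferInstance, GaloisField.card 2 2 (by norm_num)⟩
  obtain ⟨f⟩ := nonempty_ringHom_of_pow_card (K := K) (F := F) m (by rw [hK, hm])
  have hcard : Nat.card (ProjectiveSpecialLinearGroup (Fin 2) K) = 60 := by
    have h := card_PSL (F := K)
    rw [hK] at h
    norm_num at h
    exact h
  have hsimple : IsSimpleGroup (ProjectiveSpecialLinearGroup (Fin 2) K) := by
    refine CfsgLib.Classical.isSimpleGroup_PSL (Or.inr ?_)
    have := Fintype.ofFinite K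
    by_contra hc
    push Not at hc
    classical
    have hle : (Finset.univ : Finset K) ⊆ {0, 1, -1} := fun x _ => by
      by_cases hx : x = 0
      · simp [hx]
      rcases sq_eq_one_iff.1 (hc x hx) with e | e <;> simp [e]
    have := (Finset.card_le_card hle).trans Finset.card_le_three
    rw [Finset.card_univ, Fintype.card_eq_nat_card, hK] at this
    omega
  obtain ⟨e⟩ := Cfsg.Agent.S0494.result hcard
  exact ⟨_, ⟨(MonoidHom.ofInjective (pslMap_injective f)).symm.trans e⟩⟩

theorem exists_alternating_four_of_five {G : Type*} [Group G]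
    (h : ∃ H : Subgroup G, Nonempty (H ≃* alternatingGroup (Fin 5))) :
    ∃ H : Subgroup G, Nonempty (H ≃* alternatingGroup (Fin 4)) := by
  obtain ⟨H, ⟨e⟩⟩ := h
  let f : Fin 4 ≃ {x : Fin 5 // (x : ℕ) < 4} :=
    ⟨fun i => ⟨i.castSucc, i.2⟩, fun x => ⟨x.1, x.2⟩, fun i => rfl, fun x => rfl⟩
  let φ : alternatingGroup (Fin 4) →* alternatingGroup (Fin 5) :=
    ((Equiv.Perm.extendDomainHom f).comp (alternatingGroup (Fin 4)).subtype).codRestrict _ fun x => by
      rw [Equiv.Perm.mem_alternatingGroup]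
      show Equiv.Perm.sign ((x : Equiv.Perm (Fin 4)).extendDomain f) = 1
      rw [Equiv.Perm.sign_extendDomain]
      exact Equiv.Perm.mem_alternatingGroup.1 x.2
  let ψ := (H.subtype.comp e.symm.toMonoidHom).comp φ
  have hψ : Function.Injective ψ := by
    refine (H.subtype_injective.comp e.symm.injective).comp fun x y h => ?_
    exact Subtype.ext (Equiv.Perm.extendDomainHom_injective f (congrArg Subtype.val h))
  exact ⟨_, ⟨(MonoidHom.ofInjective hψ).symm⟩⟩

theorem exists_subgroup_of_equiv {G A B : Type*} [Group G] [Group A] [Group B] (e : A ≃* B)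
    (h : ∃ H : Subgroup G, Nonempty (H ≃* A)) : ∃ H : Subgroup G, Nonempty (H ≃* B) := by
  obtain ⟨H, ⟨f⟩⟩ := h
  exact ⟨H, ⟨f.trans e⟩⟩

theorem three_dvd_pred_of_alternating_four {H : Subgroup PSL} (e : H ≃* alternatingGroup (Fin 4))
    (heven : Even (Nat.card F)) : 3 ∣ Nat.card F - 1 := by
  let _ := Fintype.ofFinite F
  obtain ⟨p, hchar⟩ := CharP.exists F
  obtain ⟨n, hp, hn⟩ := FiniteField.card F p
  rw [Fintype.card_eq_nat_card] at hn
  have : Fact p.Prime := ⟨hp⟩
  have hp2 : p = 2 := ((Nat.prime_dvd_prime_iff_eq Nat.prime_two hp).1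
    (Nat.prime_two.dvd_of_dvd_pow (hn ▸ even_iff_two_dvd.1 heven))).symm
  subst hp2
  obtain ⟨u, v, hu1, huu, hv1, hvv, hcomm⟩ : ∃ u v : alternatingGroup (Fin 4),
      u ≠ 1 ∧ u * u = 1 ∧ v ≠ 1 ∧ v ^ 3 = 1 ∧ u * (v * u * v⁻¹) = (v * u * v⁻¹) * u := by
    decide +kernel
  set φ : alternatingGroup (Fin 4) →* PSL := H.subtype.comp e.symm.toMonoidHom
  have hφ : Function.Injective φ := H.subtype_injective.comp e.symm.injective
  have hU : orderOf (φ u) = 2 := by
    rw [orderOf_injective φ hφ]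
    exact orderOf_eq_prime (by rw [pow_two, huu]) hu1
  have hV : orderOf (φ v) = 3 := by
    rw [orderOf_injective φ hφ]
    exact orderOf_eq_prime (hp := ⟨Nat.prime_three⟩) hvv hv1
  obtain ⟨k, hk⟩ := exists_conj_mem_upperPSL 2
    (IsPGroup.of_card (n := 1) (by rw [Nat.card_zpowers, hU, pow_one]) : IsPGroup 2 (Subgroup.zpowers (φ u)))
  have hku := hk _ (Subgroup.mem_zpowers _)
  have hku1 : k * φ u * k⁻¹ ≠ 1 := fun h => by
    rw [conj_eq_one_iff.1 h, orderOf_one] at hU; omega
  have hw : k * φ (v * u * v⁻¹) * k⁻¹ ∈ upperPSL F := by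
    refine mem_upperPSL_of_pow 2 (mem_borelPSL_of_conj hku hku1 ?_) ?_
    · rw [show k * φ (v * u * v⁻¹) * k⁻¹ * (k * φ u * k⁻¹) * (k * φ (v * u * v⁻¹) * k⁻¹)⁻¹ =
        k * (φ (v * u * v⁻¹) * φ u * (φ (v * u * v⁻¹))⁻¹) * k⁻¹ by group,
        ← map_mul, ← hcomm, map_mul, mul_inv_cancel_right]
      exact hku
    · rw [conj_pow, ← map_pow, pow_two, show v * u * v⁻¹ * (v * u * v⁻¹) = v * (u * u) * v⁻¹ by group,
        huu, mul_one, mul_inv_cancel, map_one, mul_one, mul_inv_cancel]
  have hkv : k * φ v * k⁻¹ ∈ borelPSL F := by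
    refine mem_borelPSL_of_conj hku hku1 ?_
    rwa [show k * φ v * k⁻¹ * (k * φ u * k⁻¹) * (k * φ v * k⁻¹)⁻¹ = k * φ (v * u * v⁻¹) * k⁻¹ by
      rw [map_mul, map_mul, map_inv]; group]
  have h3 : 3 ∣ Nat.card (borelPSL F) := by
    rw [← hV, ← MulEquiv.orderOf_eq (MulAut.conj k) (φ v)]
    exact Subgroup.orderOf_dvd_natCard _ hkv
  have hb := card_borelPSL (F := F)
  rw [dd_of_even heven, one_mul] at hb
  rw [hb] at h3
  rcases (Nat.Prime.dvd_mul Nat.prime_three).1 h3 with h | h
  · exfalso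
    rw [hn] at h
    exact absurd ((Nat.prime_dvd_prime_iff_eq Nat.prime_three Nat.prime_two).1
      (Nat.prime_three.dvd_of_dvd_pow h)) (by norm_num)
  · exact h

end CfsgLib.SL2
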