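import Mathlib
import Cfsg.Agent.Lib.SL2.Exist

/-!
Involutions and Klein four subgroups of `PSL(2, q)`, `q` odd.
-/

set_option autoImplicit false
set_option linter.unusedSectionVars false
set_option maxHeartbeats 400000

namespace CfsgLib.SL2

open Matrix
open scoped MatrixGroups Pointwise

theorem card_conj_image {G : Type*} [Group G] [Finite G] (L : Subgroup G) (c : G) :
    ((fun g => g * c * g⁻¹) '' (L : Set G)).ncard * Nat.card (L ⊓ Subgroup.centralizer ({c} : Set G) : Subgroup G) =
      Nat.card L := by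
  classical
  let Z : Subgroup L := (Subgroup.centralizer ({c} : Set G)).subgroupOf L
  have hZ : Nat.card Z = Nat.card (L ⊓ Subgroup.centralizer ({c} : Set G) : Subgroup G) := by
    have h1 := Subgroup.card_map_of_injective (f := L.subtype) (K := Z) L.subtype_injective
    rw [Subgroup.subgroupOf_map_subtype, inf_comm] at h1
    exact h1.symm
  rw [← Z.index_mul_card, ← hZ, Subgroup.index_eq_card, ← Nat.card_coe_set_eq]
  congr 1
  refine (Nat.card_eq_of_bijective
    (fun x : L ⧸ Z => Quotient.liftOn' x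
      (fun g : L => (⟨(g : G) * c * (g : G)⁻¹, ⟨g, g.2, rfl⟩⟩ : (fun g => g * c * g⁻¹) '' (L : Set G)))
      (fun g h hgh => Subtype.ext ?_)) ⟨?_, ?_⟩).symm
  · rw [QuotientGroup.leftRel_apply, Subgroup.mem_subgroupOf, Subgroup.mem_centralizer_singleton_iff] at hgh
    simp only [Subgroup.coe_mul, Subgroup.coe_inv] at hgh
    calc (g : G) * c * (g : G)⁻¹ = (g : G) * (c * ((g : G)⁻¹ * h)) * (h : G)⁻¹ := by group
      _ = _ := by rw [← hgh]; group
  · intro x y
    induction x using Quotient.inductionOn' with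
    | h g =>
      induction y using Quotient.inductionOn' with
      | h h =>
        intro e
        have e' : (g : G) * c * (g : G)⁻¹ = (h : G) * c * (h : G)⁻¹ := congrArg Subtype.val e
        refine Quotient.sound' ?_
        rw [QuotientGroup.leftRel_apply, Subgroup.mem_subgroupOf, Subgroup.mem_centralizer_singleton_iff]
        simp only [Subgroup.coe_mul, Subgroup.coe_inv]
        calc (g : G)⁻¹ * h * c = (g : G)⁻¹ * ((h : G) * c * (h : G)⁻¹) * h := by group
          _ = _ := by rw [← e']; group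
  · rintro ⟨_, g, hg, rfl⟩
    exact ⟨Quotient.mk'' ⟨g, hg⟩, rfl⟩

variable {F : Type*} [Field F] [Finite F]

local notation "PSL" => ProjectiveSpecialLinearGroup (Fin 2) F

/-- Involutions. -/
def Invol (c : PSL) : Prop := c * c = 1 ∧ c ≠ 1

theorem Invol.orderOf {c : PSL} (hc : Invol c) : orderOf c = 2 :=
  orderOf_eq_prime (by rw [pow_two, hc.1]) hc.2

theorem Invol.conj {c : PSL} (hc : Invol c) (g : PSL) : Invol (g * c * g⁻¹) :=
  ⟨by rw [show g * c * g⁻¹ * (g * c * g⁻¹) = g * (c * c) * g⁻¹ by group, hc.1, mul_one, mul_inv_cancel],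
    fun h => hc.2 (conj_eq_one_iff.1 h)⟩

theorem Invol.semi (p : ℕ) [hp : Fact p.Prime] [CharP F p] (hodd : Odd (Nat.card F)) {c : PSL} (hc : Invol c) : Census.Semi p c := by
  refine ⟨hc.2, fun h => ?_⟩
  rw [hc.orderOf, Nat.prime_dvd_prime_iff_eq hp.out Nat.prime_two] at h
  subst h
  exact two_ne_zero_of_odd_card hodd (CharP.cast_eq_zero F 2)

theorem eq_of_invol_mem_torus (hodd : Odd (Nat.card F)) {c d : PSL} (hc : Invol c) (hd : Invol d)
    (hdT : d ∈ torus c) : d = c := by
  obtain ⟨p, hchar⟩ := CharP.exists F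
  have : Fact p.Prime := ⟨CharP.char_is_prime F p⟩
  classical
  have hs := hc.semi p hodd
  have := isCyclic_torus p hs
  let _ := Fintype.ofFinite (torus c)
  have h2 := IsCyclic.card_pow_eq_one_le (α := torus c) two_pos
  by_contra hne
  have hsub : ({1, ⟨c, mem_torus c⟩, ⟨d, hdT⟩} : Finset (torus c)) ⊆
      Finset.univ.filter fun a => a ^ 2 = 1 := by
    intro x hx
    simp only [Finset.mem_insert, Finset.mem_singleton] at hx
    rw [Finset.mem_filter]
    refine ⟨Finset.mem_univ _, ?_⟩
    rcases hx with rfl | rfl | rfl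
    · exact one_pow _
    · exact Subtype.ext (by rw [pow_two]; exact hc.1)
    · exact Subtype.ext (by rw [pow_two]; exact hd.1)
  have h3 : ({1, ⟨c, mem_torus c⟩, ⟨d, hdT⟩} : Finset (torus c)).card = 3 := by
    rw [Finset.card_eq_three]
    exact ⟨1, ⟨c, mem_torus c⟩, ⟨d, hdT⟩, fun e => hc.2 (congrArg Subtype.val e).symm,
      fun e => hd.2 (congrArg Subtype.val e).symm, fun e => hne (congrArg Subtype.val e).symm, rfl⟩
  have h4 := Finset.card_le_card hsub
  rw [h3] at h4
  omega

theorem centralizer_invol (hodd : Odd (Nat.card F)) {c : PSL} (hc : Invol c) :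
    Subgroup.centralizer ({c} : Set PSL) = Subgroup.normalizer (torus c : Set PSL) := by
  obtain ⟨p, hchar⟩ := CharP.exists F
  have : Fact p.Prime := ⟨CharP.char_is_prime F p⟩
  have hs := hc.semi p hodd
  refine le_antisymm (le_normalizer_torus p hs fun y hy => ?_) fun y hy => ?_
  · rw [Subgroup.mem_centralizer_singleton_iff] at hy
    rw [hy, mul_inv_cancel_right]
    exact mem_torus c
  · rw [Subgroup.mem_centralizer_singleton_iff, ← mul_inv_eq_iff_eq_mul]
    exact eq_of_invol_mem_torus hodd hc (hc.conj y) ((Subgroup.mem_normalizer_iff.1 hy c).1 (mem_torus c))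

theorem invol_conj (hodd : Odd (Nat.card F)) {c d : PSL} (hc : Invol c) (hd : Invol d) :
    ∃ g : PSL, g * c * g⁻¹ = d := by
  obtain ⟨g, rfl⟩ := proj_surjective c
  obtain ⟨h, rfl⟩ := proj_surjective d
  have h2 := two_ne_zero_of_odd_card hodd
  have lift0 : ∀ x : SL(2, F), Invol (proj x) → (x : Matrix (Fin 2) (Fin 2) F).trace = 0 := by
    intro x hx
    have hns : NonScalar (x : Matrix (Fin 2) (Fin 2) F) := by
      by_contra hn
      exact hx.2 ((proj_eq_one_iff _).2 ((mem_center_iff_not_nonScalar _).2 hn))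
    by_contra ht
    refine (mem_center_iff_not_nonScalar _).1 ((proj_eq_one_iff (x * x)).1 (by rw [map_mul]; exact hx.1)) ?_
    rw [nonScalar_iff] at hns
    rw [nonScalar_iff, coe_mul_self]
    simp only [Matrix.sub_apply, Matrix.smul_apply, smul_eq_mul, Matrix.one_apply_ne (show (0 : Fin 2) ≠ 1 by decide),
      Matrix.one_apply_ne (show (1 : Fin 2) ≠ 0 by decide), Matrix.one_apply_eq, sub_zero]
    rcases hns with e | e | e
    · exact Or.inl (mul_ne_zero ht e)
    · exact Or.inr (Or.inl (mul_ne_zero ht e))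
    · exact Or.inr (Or.inr fun e' => e (mul_left_cancel₀ ht (sub_left_injective e')))
  have hg := regular_of_trace_zero h2 (lift0 g hc)
  have hh := regular_of_trace_zero h2 (lift0 h hd)
  obtain ⟨k, hk⟩ := isConj_of_trace hg.nonScalar hh.nonScalar ((lift0 g hc).trans (lift0 h hd).symm) (Or.inl hg)
  exact ⟨proj k, by rw [← map_inv, ← map_mul, ← map_mul, hk]⟩

theorem card_invol (hodd : Odd (Nat.card F)) {c : PSL} (hc : Invol c) :
    Nat.card {x : PSL // Invol x} * (2 * Nat.card (torus c)) = Nat.card PSL := by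
  obtain ⟨p, hchar⟩ := CharP.exists F
  have : Fact p.Prime := ⟨CharP.char_is_prime F p⟩
  have h := card_conj_image (⊤ : Subgroup PSL) c
  rw [top_inf_eq, Subgroup.card_top, centralizer_invol hodd hc, card_normalizer_torus p (hc.semi p hodd)] at h
  rw [← h]
  congr 1
  rw [← Nat.card_coe_set_eq]
  refine Nat.card_congr (Equiv.subtypeEquivRight fun x => ⟨fun hx => ?_, ?_⟩)
  · obtain ⟨g, hg⟩ := invol_conj hodd hc hx
    exact ⟨g, Subgroup.mem_top _, hg⟩
  · rintro ⟨g, -, rfl⟩
    exact hc.conj g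

theorem card_torus_invol (hodd : Odd (Nat.card F)) {c d : PSL} (hc : Invol c) (hd : Invol d) :
    Nat.card (torus d) = Nat.card (torus c) := by
  obtain ⟨p, hchar⟩ := CharP.exists F
  have : Fact p.Prime := ⟨CharP.char_is_prime F p⟩
  have h1 := card_invol hodd hc
  have h2 := card_invol hodd hd
  rw [← h1] at h2
  have : Nonempty {x : PSL // Invol x} := ⟨⟨c, hc⟩⟩
  have := Nat.eq_of_mul_eq_mul_left Nat.card_pos h2
  omega

theorem even_card_torus_invol {c : PSL} (hc : Invol c) : 2 ∣ Nat.card (torus c) :=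
  (dvd_of_eq hc.orderOf.symm).trans (Subgroup.orderOf_dvd_natCard _ (mem_torus c))

theorem card_torus_invol_mod (hodd : Odd (Nat.card F)) {c : PSL} (hc : Invol c) :
    (4 ∣ Nat.card (torus c) ↔ (Nat.card F % 8 = 1 ∨ Nat.card F % 8 = 7)) := by
  obtain ⟨p, hchar⟩ := CharP.exists F
  have : Fact p.Prime := ⟨CharP.char_is_prime F p⟩
  have h := card_torus_cases p (hc.semi p hodd)
  rw [dd_of_odd hodd] at h
  have h2 := even_card_torus_invol hc
  have := Nat.odd_iff.1 hodd
  rcases h with e | e <;> rw [e] at h2 ⊢ <;> omega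

/-- The commuting partners of an involution. -/
def Partner (c d : PSL) : Prop := Invol d ∧ d ≠ c ∧ Commute d c

theorem partner_iff (hodd : Odd (Nat.card F)) {c : PSL} (hc : Invol c) (d : PSL) :
    Partner c d ↔ d ∈ Subgroup.normalizer (torus c : Set PSL) ∧ d ∉ torus c := by
  obtain ⟨p, hchar⟩ := CharP.exists F
  have : Fact p.Prime := ⟨CharP.char_is_prime F p⟩
  rw [← centralizer_invol hodd hc, Subgroup.mem_centralizer_singleton_iff]
  refine ⟨fun ⟨hd, hne, hcom⟩ => ⟨hcom.eq, fun h => hne (eq_of_invol_mem_torus hodd hc hd h)⟩,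
    fun ⟨hcom, hnT⟩ => ?_⟩
  have hN : d ∈ Subgroup.normalizer (torus c : Set PSL) := by
    rw [← centralizer_invol hodd hc, Subgroup.mem_centralizer_singleton_iff]; exact hcom
  exact ⟨⟨mul_self_of_normalizer_torus p (hc.semi p hodd) hN hnT, fun e => hnT (e ▸ one_mem _)⟩,
    fun e => hnT (e ▸ mem_torus c), hcom⟩

theorem card_partner (hodd : Odd (Nat.card F)) {c : PSL} (hc : Invol c) :
    Nat.card {d : PSL // Partner c d} = Nat.card (torus c) := by
  obtain ⟨p, hchar⟩ := CharP.exists F
  have : Fact p.Prime := ⟨CharP.char_is_prime F p⟩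
  classical
  rw [Nat.card_congr (Equiv.subtypeEquivRight (partner_iff hodd hc) : {d : PSL // Partner c d} ≃ _)]
  set N := Subgroup.normalizer (torus c : Set PSL)
  have hle : torus c ≤ N := Subgroup.le_normalizer
  have hN := card_normalizer_torus p (hc.semi p hodd)
  have hset : {d | d ∈ N ∧ d ∉ torus c} = (N : Set PSL) \ (torus c : Set PSL) := rfl
  show Nat.card ({d | d ∈ N ∧ d ∉ torus c} : Set PSL) = _
  rw [Nat.card_coe_set_eq, hset, Set.ncard_sdiff hle, ← Nat.card_coe_set_eq, ← Nat.card_coe_set_eq]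
  show Nat.card N - Nat.card (torus c) = Nat.card (torus c)
  rw [hN]
  omega

theorem card_pairs (hodd : Odd (Nat.card F)) {c : PSL} (hc : Invol c) :
    2 * Nat.card (Σ x : {x : PSL // Invol x}, {d : PSL // Partner x.1 d}) = Nat.card PSL := by
  obtain ⟨p, hchar⟩ := CharP.exists F
  have : Fact p.Prime := ⟨CharP.char_is_prime F p⟩
  classical
  let _ := Fintype.ofFinite {x : PSL // Invol x}
  rw [Nat.card_sigma, Finset.sum_congr rfl (g := fun _ => Nat.card (torus c)) fun x _ => by
    rw [card_partner hodd x.2, card_torus_invol hodd hc x.2]]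
  rw [Finset.sum_const, smul_eq_mul, Finset.card_univ, ← card_invol hodd hc,
    Nat.card_eq_fintype_card (α := {x : PSL // Invol x})]
  ring

/-- The four-group spanned by a commuting pair of involutions. -/
def vGroup {c d : PSL} (hc : Invol c) (hd : Partner c d) : Subgroup PSL where
  carrier := {1, c, d, c * d}
  one_mem' := by simp
  inv_mem' := by
    rintro x hx
    have hd' : d⁻¹ = d := inv_eq_of_mul_eq_one_right hd.1.1
    have hc' : c⁻¹ = c := inv_eq_of_mul_eq_one_right hc.1
    rcases hx with rfl | rfl | rfl | rfl <;> simp [hc', hd', hd.2.2.eq]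
  mul_mem' := by
    rintro x y hx hy
    have hcc := hc.1
    have hdd := hd.1.1
    have hdc : d * c = c * d := hd.2.2.eq
    have e1 : c * (c * d) = d := by rw [← mul_assoc, hcc, one_mul]
    have e2 : d * (c * d) = c := by rw [← mul_assoc, hdc, mul_assoc, hdd, mul_one]
    have e3 : c * d * c = d := by rw [mul_assoc, hdc, e1]
    have e4 : c * d * d = c := by rw [mul_assoc, hdd, mul_one]
    have e5 : c * d * (c * d) = 1 := by rw [← mul_assoc, e3, hdd]
    rcases hx with rfl | rfl | rfl | rfl <;> rcases hy with rfl | rfl | rfl | rfl <;>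
      simp [hcc, hdd, hdc, e1, e2, e3, e4, e5]

theorem isKleinFour_vGroup {c d : PSL} (hc : Invol c) (hd : Partner c d) : IsKleinFour (vGroup hc hd) := by
  have h1 : Nat.card (vGroup hc hd) = 4 := by
    show Nat.card ({1, c, d, c * d} : Set PSL) = 4
    rw [Nat.card_coe_set_eq]
    have hne1 : c * d ≠ 1 := fun h => hd.2.1 (by
      rw [eq_inv_of_mul_eq_one_right h, inv_eq_of_mul_eq_one_right hc.1])
    have hne2 : c * d ≠ c := fun h => hd.1.2 (mul_eq_left.1 h)
    have hne3 : c * d ≠ d := fun h => hc.2 (mul_eq_right.1 h)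
    rw [Set.ncard_insert_of_notMem (by simp [hc.2.symm, hd.1.2.symm, hne1.symm]),
      Set.ncard_insert_of_notMem (by simp [hd.2.1.symm, hne2.symm]),
      Set.ncard_pair hne3.symm]
  have : Nontrivial (vGroup hc hd) := Finite.one_lt_card_iff_nontrivial.1 (by omega)
  refine ⟨h1, (Monoid.exponent_eq_prime_iff Nat.prime_two).2 ?_⟩
  rintro ⟨x, hx⟩ hx1
  rw [Subgroup.orderOf_mk]
  refine orderOf_eq_prime ?_ fun e => hx1 (Subtype.ext e)
  have hdc : d * c = c * d := hd.2.2.eq
  rw [pow_two]
  rcases hx with rfl | rfl | rfl | rfl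
  · simp
  · exact hc.1
  · exact hd.1.1
  · calc c * d * (c * d) = c * (d * c) * d := by group
      _ = (c * c) * (d * d) := by rw [hdc]; group
      _ = 1 := by rw [hc.1, hd.1.1, one_mul]

theorem invol_of_mem_klein {V : Subgroup PSL} (hV : IsKleinFour V) {x : PSL} (hx : x ∈ V) (hx1 : x ≠ 1) :
    Invol x := by
  refine ⟨?_, hx1⟩
  have := hV.exponent_two ▸ Monoid.pow_exponent_eq_one (⟨x, hx⟩ : V)
  rw [pow_two] at this
  exact congrArg Subtype.val this

theorem commute_of_mem_klein {V : Subgroup PSL} (hV : IsKleinFour V) {x y : PSL} (hx : x ∈ V) (hy : y ∈ V) :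
    Commute x y :=
  congrArg Subtype.val (mul_comm_of_exponent_two hV.exponent_two (⟨x, hx⟩ : V) ⟨y, hy⟩)

theorem vGroup_eq {V : Subgroup PSL} (hV : IsKleinFour V) {c d : PSL} (hc : Invol c) (hd : Partner c d)
    (hcV : c ∈ V) (hdV : d ∈ V) : vGroup hc hd = V := by
  refine Subgroup.eq_of_le_of_card_ge ?_ (by rw [(isKleinFour_vGroup hc hd).card_four, hV.card_four])
  rintro x hx
  rcases hx with rfl | rfl | rfl | rfl
  · exact one_mem _
  · exact hcV
  · exact hdV
  · exact mul_mem hcV hdV

theorem partner_of_mem_klein {V : Subgroup PSL} (hV : IsKleinFour V) {c d : PSL} (hcV : c ∈ V) (hdV : d ∈ V)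
    (hd1 : d ≠ 1) (hne : d ≠ c) : Partner c d :=
  ⟨invol_of_mem_klein hV hdV hd1, hne, commute_of_mem_klein hV hdV hcV⟩

theorem exists_invol (hodd : Odd (Nat.card F)) : ∃ c : PSL, Invol c := by
  have h2 : 2 ∣ Nat.card PSL := by
    obtain ⟨H, ⟨e⟩⟩ := exists_alternating_four hodd
    exact (show 2 ∣ Nat.card H by rw [Nat.card_congr e.toEquiv, card_alternating_four]; norm_num).trans
      H.card_subgroup_dvd_card
  have : Fact (Nat.Prime 2) := ⟨Nat.prime_two⟩
  obtain ⟨c, hc⟩ := exists_prime_orderOf_dvd_card' 2 h2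
  exact ⟨c, by have h := pow_orderOf_eq_one c; rwa [hc, pow_two] at h, fun e => by rw [e, orderOf_one] at hc; omega⟩

theorem twelve_mul_card_klein (hodd : Odd (Nat.card F)) :
    12 * Nat.card {V : Subgroup PSL // IsKleinFour V} = Nat.card PSL := by
  classical
  obtain ⟨p, hchar⟩ := CharP.exists F
  have : Fact p.Prime := ⟨CharP.char_is_prime F p⟩
  obtain ⟨c, hc⟩ := exists_invol hodd
  rw [← card_pairs hodd hc]
  let _ := Fintype.ofFinite {V : Subgroup PSL // IsKleinFour V}
  have hfib : ∀ V : {V : Subgroup PSL // IsKleinFour V},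
      Nat.card (Σ x : {x : V.1 // x ≠ 1}, {y : V.1 // y ≠ 1 ∧ y ≠ x.1}) = 6 := by
    rintro ⟨V, hV⟩
    let _ := Fintype.ofFinite V
    have h4 : Fintype.card V = 4 := by rw [← Nat.card_eq_fintype_card, hV.card_four]
    rw [Nat.card_sigma, Finset.sum_congr rfl (g := fun _ => 2) fun x _ => ?_]
    · rw [Finset.sum_const, smul_eq_mul, Finset.card_univ, Fintype.card_subtype_compl, Fintype.card_subtype_eq,
        h4]
    · rw [Nat.card_eq_fintype_card, Fintype.card_subtype]
      have : (Finset.univ.filter fun y : V => y ≠ 1 ∧ y ≠ x.1) = Finset.univ \ {1, x.1} := by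
        ext y; simp
      rw [this, Finset.card_sdiff, Finset.inter_univ, Finset.card_univ, h4, Finset.card_pair x.2.symm]
  have key : Nat.card (Σ x : {x : PSL // Invol x}, {d : PSL // Partner x.1 d}) =
      Nat.card (Σ V : {V : Subgroup PSL // IsKleinFour V},
        Σ x : {x : V.1 // x ≠ 1}, {y : V.1 // y ≠ 1 ∧ y ≠ x.1}) := by
    refine (Nat.card_eq_of_bijective (fun z =>
      (⟨⟨z.2.1.1.1, invol_of_mem_klein z.1.2 z.2.1.1.2 fun e => z.2.1.2 (Subtype.ext e)⟩,
        ⟨z.2.2.1.1, partner_of_mem_klein z.1.2 z.2.1.1.2 z.2.2.1.2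
          (fun e => z.2.2.2.1 (Subtype.ext e)) (fun e => z.2.2.2.2 (Subtype.ext e))⟩⟩ :
        Σ x : {x : PSL // Invol x}, {d : PSL // Partner x.1 d})) ⟨?_, ?_⟩).symm
    · rintro ⟨⟨V, hV⟩, ⟨⟨x, hxV⟩, hx⟩, ⟨⟨y, hyV⟩, hy⟩⟩ ⟨⟨V', hV'⟩, ⟨⟨x', hxV'⟩, hx'⟩, ⟨⟨y', hyV'⟩, hy'⟩⟩ e
      have hex : x = x' := congrArg (fun z : Σ x : {x : PSL // Invol x}, {d : PSL // Partner x.1 d} => z.1.1) e
      have hey : y = y' := congrArg (fun z : Σ x : {x : PSL // Invol x}, {d : PSL // Partner x.1 d} => z.2.1) e
      subst hex hey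
      have hxi := invol_of_mem_klein hV hxV fun e => hx (Subtype.ext e)
      have hyp := partner_of_mem_klein hV hxV hyV (fun e => hy.1 (Subtype.ext e)) (fun e => hy.2 (Subtype.ext e))
      obtain rfl : V = V' := (vGroup_eq hV hxi hyp hxV hyV).symm.trans (vGroup_eq hV' hxi hyp hxV' hyV')
      rfl
    · rintro ⟨⟨x, hx⟩, ⟨y, hy⟩⟩
      exact ⟨⟨⟨vGroup hx hy, isKleinFour_vGroup hx hy⟩,
        ⟨⟨x, Or.inr (Or.inl rfl)⟩, fun e => hx.2 (congrArg Subtype.val e)⟩,
        ⟨⟨y, Or.inr (Or.inr (Or.inl rfl))⟩, fun e => hy.1.2 (congrArg Subtype.val e),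
          fun e => hy.2.1 (congrArg Subtype.val e)⟩⟩, rfl⟩
  rw [key, Nat.card_sigma, Finset.sum_congr rfl (g := fun _ => 6) fun V _ => hfib V, Finset.sum_const,
    smul_eq_mul, Finset.card_univ, Nat.card_eq_fintype_card]
  ring

/-- The centralizer of `c` inside the normalizer of a four-group `{1, c, d, cd}`. -/
theorem inf_centralizers (hodd : Odd (Nat.card F)) {V : Subgroup PSL} (hV : IsKleinFour V) {c d : PSL}
    (hcV : c ∈ V) (hc : Invol c) (hdV : d ∈ V) (hd : Partner c d) :
    Subgroup.centralizer ({c} : Set PSL) ⊓ Subgroup.centralizer ({d} : Set PSL) = V := by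
  obtain ⟨p, hchar⟩ := CharP.exists F
  have : Fact p.Prime := ⟨CharP.char_is_prime F p⟩
  refine le_antisymm ?_ fun y hy => ⟨?_, ?_⟩
  · rintro y ⟨hyc, hyd⟩
    rw [centralizer_invol hodd hc] at hyc
    replace hyd : y * d = d * y := Subgroup.mem_centralizer_singleton_iff.1 hyd
    obtain ⟨hdN, hdT⟩ := (partner_iff hodd hc d).1 hd
    have key : ∀ z ∈ torus c, z * d = d * z → z ∈ V := by
      intro z hz hzd
      by_cases hz1 : z = 1
      · rw [hz1]; exact one_mem _
      have hm : z * d ∉ torus c := fun h => hdT (by simpa using mul_mem (inv_mem hz) h)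
      have h1 := mul_self_of_normalizer_torus p (hc.semi p hodd) (mul_mem (Subgroup.le_normalizer hz) hdN) hm
      have hzz : z * z = 1 := by
        calc z * z = z * (z * (d * d)) := by rw [hd.1.1, mul_one]
          _ = z * d * (z * d) := by rw [mul_assoc z d (z * d), ← mul_assoc d z d, ← hzd, mul_assoc z d d]
          _ = 1 := h1
      rw [eq_of_invol_mem_torus hodd hc ⟨hzz, hz1⟩ hz]
      exact hcV
    by_cases hyT : y ∈ torus c
    · exact key y hyT hyd
    · have hydT : y * d ∈ torus c := by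
        by_contra hn
        have h1 := mul_self_of_normalizer_torus p (hc.semi p hodd) hyc hyT
        have hi : ((torus c).subgroupOf (Subgroup.normalizer (torus c : Set PSL))).index = 2 := by
          have h := ((torus c).subgroupOf (Subgroup.normalizer (torus c : Set PSL))).card_mul_index
          rw [card_normalizer_torus p (hc.semi p hodd),
            Nat.card_congr (Subgroup.subgroupOfEquivOfLe Subgroup.le_normalizer).toEquiv, mul_comm 2] at h
          exact Nat.eq_of_mul_eq_mul_left Nat.card_pos h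
        have := (Subgroup.mul_mem_iff_of_index_two hi (a := ⟨y, hyc⟩) (b := ⟨d, hdN⟩)).2
        exact hn (this ⟨fun h => absurd h hyT, fun h => absurd h hdT⟩)
      have := key (y * d) hydT (by rw [← mul_assoc, ← hyd, mul_assoc])
      simpa using mul_mem this (inv_mem hdV)
  · show y ∈ Subgroup.centralizer _
    rw [Subgroup.mem_centralizer_singleton_iff]; exact (commute_of_mem_klein hV hy hcV).eq
  · show y ∈ Subgroup.centralizer _
    rw [Subgroup.mem_centralizer_singleton_iff]; exact (commute_of_mem_klein hV hy hdV).eq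

theorem map_conj_eq_iff {V : Subgroup PSL} (g : PSL) :
    V.map (MulAut.conj g).toMonoidHom = V ↔ g ∈ Subgroup.normalizer (V : Set PSL) := by
  constructor
  · intro h
    rw [CA.mem_normalizer_iff_forall]
    intro x hx
    rw [← h]
    exact ⟨x, hx, rfl⟩
  · intro h
    refine le_antisymm ?_ fun x hx => ?_
    · rintro _ ⟨x, hx, rfl⟩; exact (Subgroup.mem_normalizer_iff.1 h x).1 hx
    · exact ⟨g⁻¹ * x * g, by simpa using (Subgroup.mem_normalizer_iff.1 (inv_mem h) x).1 hx, by simp [mul_assoc]⟩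

/-- The order of the normaliser of a four-group. -/
theorem card_normalizer_klein (hodd : Odd (Nat.card F)) {V : Subgroup PSL} (hV : IsKleinFour V) :
    ((Nat.card F % 8 = 3 ∨ Nat.card F % 8 = 5) → Nat.card (Subgroup.normalizer (V : Set PSL)) ≤ 12) ∧
      ((Nat.card F % 8 = 1 ∨ Nat.card F % 8 = 7) → Nat.card (Subgroup.normalizer (V : Set PSL)) = 24) := by
  classical
  obtain ⟨p, hchar⟩ := CharP.exists F
  have : Fact p.Prime := ⟨CharP.char_is_prime F p⟩
  set N := Subgroup.normalizer (V : Set PSL) with hNdef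
  obtain ⟨c, hcV, hc1⟩ := V.bot_or_exists_ne_one.resolve_left fun h => by
    have := hV.card_four; rw [h, Subgroup.card_bot] at this; omega
  obtain ⟨d, hdV, hd1, hdc⟩ : ∃ d ∈ V, d ≠ 1 ∧ d ≠ c := by
    by_contra hh
    push Not at hh
    have hsub : (V : Set PSL) ⊆ {1, c} := fun x hx => by
      by_cases h : x = 1
      · exact Or.inl h
      · exact Or.inr (hh x hx h)
    have h2 := Set.ncard_le_ncard hsub (Set.toFinite _)
    rw [← Nat.card_coe_set_eq] at h2
    have h3 : ({1, c} : Set PSL).ncard ≤ 2 := (Set.ncard_insert_le _ _).trans (by simp)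
    have h4 : Nat.card (V : Set PSL) = 4 := hV.card_four
    omega
  have hc := invol_of_mem_klein hV hcV hc1
  have hd := partner_of_mem_klein hV hcV hdV hd1 hdc
  have hVeq := vGroup_eq hV hc hd hcV hdV
  have hmem : ∀ x ∈ V, x = 1 ∨ x = c ∨ x = d ∨ x = c * d := fun x hx => by rw [← hVeq] at hx; exact hx
  have hVN : V ≤ N := Subgroup.le_normalizer
  set C := N ⊓ Subgroup.centralizer ({c} : Set PSL) with hC
  have hCd : C ⊓ Subgroup.centralizer ({d} : Set PSL) = V := by
    rw [hC, inf_assoc, inf_centralizers hodd hV hcV hc hdV hd, inf_eq_right.2 hVN]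
  have e1 := card_conj_image N c
  have e2 := card_conj_image C d
  rw [← hC] at e1
  rw [hCd, hV.card_four] at e2
  set A := (fun g => g * c * g⁻¹) '' (N : Set PSL)
  set B := (fun g => g * d * g⁻¹) '' (C : Set PSL)
  have hA : A ⊆ {c, d, c * d} := by
    rintro _ ⟨g, hg, rfl⟩
    rcases hmem _ ((Subgroup.mem_normalizer_iff.1 hg c).1 hcV) with e | e | e | e
    · exact absurd (conj_eq_one_iff.1 e) hc1
    · exact Or.inl e
    · exact Or.inr (Or.inl e)
    · exact Or.inr (Or.inr e)
  have hB : B ⊆ {d, c * d} := by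
    rintro _ ⟨g, hg, rfl⟩
    obtain ⟨hgN, hgc⟩ := hg
    replace hgc : g * c = c * g := Subgroup.mem_centralizer_singleton_iff.1 hgc
    rcases hmem _ ((Subgroup.mem_normalizer_iff.1 hgN d).1 hdV) with e | e | e | e
    · exact absurd (conj_eq_one_iff.1 e) hd1
    · have h' : g * d * g⁻¹ = g * c * g⁻¹ := by rw [hgc, mul_inv_cancel_right]; exact e
      exact absurd (mul_left_cancel (mul_right_cancel h')) hdc
    · exact Or.inl e
    · exact Or.inr e
  have hA3 : A.ncard ≤ 3 := (Set.ncard_le_ncard hA (Set.toFinite _)).trans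
    ((Set.ncard_insert_le _ _).trans (Nat.succ_le_succ ((Set.ncard_insert_le _ _).trans (by simp))))
  have hB2 : B.ncard ≤ 2 := (Set.ncard_le_ncard hB (Set.toFinite _)).trans
    ((Set.ncard_insert_le _ _).trans (by simp))
  have hdA : d ∈ B := ⟨1, one_mem _, by simp⟩
  constructor
  · intro h8
    have hB1 : B.ncard ≤ 1 := by
      refine (Set.ncard_le_ncard (t := {d}) ?_ (Set.toFinite _)).trans (by simp)
      rintro x hx
      rcases hB hx with e | e
      · exact e
      exfalso
      obtain ⟨g, ⟨hgN, hgc⟩, rfl⟩ := hx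
      rw [centralizer_invol hodd hc] at hgc
      obtain ⟨hdN, hdT⟩ := (partner_iff hodd hc d).1 hd
      have hs := hc.semi p hodd
      obtain ⟨t, htT, hte⟩ : ∃ t ∈ torus c, t * d * t⁻¹ = c * d := by
        by_cases hgT : g ∈ torus c
        · exact ⟨g, hgT, e⟩
        · refine ⟨g * d, ?_, ?_⟩
          · by_contra hn
            have hi : ((torus c).subgroupOf (Subgroup.normalizer (torus c : Set PSL))).index = 2 := by
              have h := ((torus c).subgroupOf (Subgroup.normalizer (torus c : Set PSL))).card_mul_index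
              rw [card_normalizer_torus p hs,
                Nat.card_congr (Subgroup.subgroupOfEquivOfLe Subgroup.le_normalizer).toEquiv, mul_comm 2] at h
              exact Nat.eq_of_mul_eq_mul_left Nat.card_pos h
            have := (Subgroup.mul_mem_iff_of_index_two hi (a := ⟨g, hgc⟩) (b := ⟨d, hdN⟩)).2
            exact hn (this ⟨fun h => absurd h hgT, fun h => absurd h hdT⟩)
          · rw [_root_.mul_inv_rev, inv_eq_of_mul_eq_one_right hd.1.1, ← e]
            calc g * d * d * (d * g⁻¹) = g * (d * d) * d * g⁻¹ := by group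
              _ = _ := by rw [hd.1.1, mul_one]
      have hm : t * d ∉ torus c := fun h => hdT (by simpa using mul_mem (inv_mem htT) h)
      have h1 := mul_self_of_normalizer_torus p hs (mul_mem (Subgroup.le_normalizer htT) hdN) hm
      have hdt : d * t⁻¹ = t * d := by
        rw [← inv_eq_of_mul_eq_one_right h1, _root_.mul_inv_rev, inv_eq_of_mul_eq_one_right hd.1.1]
      have htt : t * t = c := by
        apply mul_right_cancel (b := d)
        rw [← hte, mul_assoc, mul_assoc, hdt]
      have ho : orderOf t = 4 := by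
        refine orderOf_eq_prime_pow (p := 2) (n := 1) ?_ ?_
        · rw [pow_one, pow_two, htt]; exact hc1
        · rw [show (2 : ℕ) ^ (1 + 1) = 2 + 2 from rfl, pow_add, pow_two, htt, hc.1]
      have h4 : 4 ∣ Nat.card (torus c) := ho ▸ Subgroup.orderOf_dvd_natCard _ htT
      rw [card_torus_invol_mod hodd hc] at h4
      omega
    rw [← e1, ← e2]
    exact (Nat.mul_le_mul hA3 (Nat.mul_le_mul_right 4 hB1))
  · intro h8
    -- the transposition centred at an involution of `V`
    have swap : ∀ x y, x ∈ V → y ∈ V → x ≠ 1 → y ≠ 1 → y ≠ x →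
        ∃ t ∈ N, t * x * t⁻¹ = x ∧ t * y * t⁻¹ = x * y := by
      intro x y hxV hyV hx1 hy1 hyx
      have hx := invol_of_mem_klein hV hxV hx1
      have hy := partner_of_mem_klein hV hxV hyV hy1 hyx
      have hs := hx.semi p hodd
      obtain ⟨hyN, hyT⟩ := (partner_iff hodd hx y).1 hy
      have := isCyclic_torus p hs
      obtain ⟨g, hg⟩ := IsCyclic.exists_ofOrder_eq_natCard (α := torus x)
      have h4 : 4 ∣ Nat.card (torus x) := (card_torus_invol_mod hodd hx).2 h8
      set t : PSL := ((g ^ (orderOf g / 4) : torus x) : PSL) with ht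
      have ho : orderOf t = 4 := by
        rw [ht, Subgroup.orderOf_coe]
        exact orderOf_pow_orderOf_div (orderOf_pos g).ne' (hg.symm ▸ h4)
      have htT : t ∈ torus x := (g ^ (orderOf g / 4) : torus x).2
      have htt : t * t = x := by
        refine eq_of_invol_mem_torus hodd hx ⟨?_, fun e => ?_⟩ (mul_mem htT htT)
        · rw [← pow_two t, ← pow_two, ← pow_mul, show 2 * 2 = orderOf t by rw [ho], pow_orderOf_eq_one]
        · have := orderOf_dvd_of_pow_eq_one (show t ^ 2 = 1 by rw [pow_two, e])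
          rw [ho] at this
          norm_num at this
      have htx : t * x * t⁻¹ = x := by rw [← htt]; group
      have hm : t * y ∉ torus x := fun h => hyT (by simpa using mul_mem (inv_mem htT) h)
      have h1 := mul_self_of_normalizer_torus p hs (mul_mem (Subgroup.le_normalizer htT) hyN) hm
      have hyt : y * t⁻¹ = t * y := by
        rw [← inv_eq_of_mul_eq_one_right h1, _root_.mul_inv_rev, inv_eq_of_mul_eq_one_right hy.1.1]
      have hty : t * y * t⁻¹ = x * y := by rw [mul_assoc, hyt, ← mul_assoc, htt]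
      refine ⟨t, ?_, htx, hty⟩
      rw [hNdef, CA.mem_normalizer_iff_forall]
      intro z hz
      rw [← vGroup_eq hV hx hy hxV hyV] at hz
      rcases hz with rfl | rfl | rfl | rfl
      · simp
      · rw [htx]; exact hxV
      · rw [hty]; exact mul_mem hxV hyV
      · rw [show t * (x * y) * t⁻¹ = (t * x * t⁻¹) * (t * y * t⁻¹) by group, htx, hty]
        exact mul_mem hxV (mul_mem hxV hyV)
    have hcd1 : c * d ≠ 1 := fun h => hdc (by
      rw [eq_inv_of_mul_eq_one_right h, inv_eq_of_mul_eq_one_right hc.1])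
    have hcdc : c * d ≠ c := fun h => hd1 (mul_eq_left.1 h)
    have hcdd : c * d ≠ d := fun h => hc1 (mul_eq_right.1 h)
    have hBeq : B.ncard = 2 := by
      refine le_antisymm hB2 ?_
      obtain ⟨t, htN, htc, htd⟩ := swap c d hcV hdV hc1 hd1 hdc
      have hin : c * d ∈ B := ⟨t, ⟨htN, (Subgroup.mem_centralizer_singleton_iff.2
        (mul_inv_eq_iff_eq_mul.1 htc) : t ∈ Subgroup.centralizer ({c} : Set PSL))⟩, htd⟩
      have := Set.ncard_le_ncard (show {d, c * d} ⊆ B from Set.insert_subset hdA (Set.singleton_subset_iff.2 hin))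
        (Set.toFinite _)
      rwa [Set.ncard_pair hcdd.symm] at this
    have hAeq : A.ncard = 3 := by
      refine le_antisymm hA3 ?_
      have h1 : c ∈ A := ⟨1, one_mem _, by simp⟩
      have h2 : c * d ∈ A := by
        obtain ⟨t, htN, -, ht⟩ := swap d c hdV hcV hd1 hc1 (Ne.symm hdc)
        exact ⟨t, htN, by rw [show (fun g => g * c * g⁻¹) t = t * c * t⁻¹ from rfl, ht]; exact hd.2.2.eq⟩
      have h3 : d ∈ A := by
        obtain ⟨t, htN, -, ht⟩ := swap (c * d) c (mul_mem hcV hdV) hcV hcd1 hc1 (Ne.symm hcdc)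
        refine ⟨t, htN, ?_⟩
        rw [show (fun g => g * c * g⁻¹) t = t * c * t⁻¹ from rfl, ht, mul_assoc, hd.2.2.eq, ← mul_assoc, hc.1,
          one_mul]
      have := Set.ncard_le_ncard (show {c, d, c * d} ⊆ A from
        Set.insert_subset h1 (Set.insert_subset h3 (Set.singleton_subset_iff.2 h2))) (Set.toFinite _)
      rwa [Set.ncard_insert_of_notMem (by simp [Ne.symm hdc, hcdc.symm]), Set.ncard_pair hcdd.symm] at this
    rw [← e1, ← e2, hAeq, hBeq]

/-- The conjugates of a four-group. -/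
theorem card_conjugates (V : Subgroup PSL) :
    Nat.card (Set.range fun g : PSL => V.map (MulAut.conj g).toMonoidHom) *
      Nat.card (Subgroup.normalizer (V : Set PSL)) = Nat.card PSL := by
  rw [← (Subgroup.normalizer (V : Set PSL)).index_mul_card, Subgroup.index_eq_card]
  congr 1
  have hcomp : ∀ a b : PSL, (V.map (MulAut.conj b).toMonoidHom).map (MulAut.conj a).toMonoidHom =
      V.map (MulAut.conj (a * b)).toMonoidHom := fun a b => by
    rw [Subgroup.map_map]; congr 1; ext x; simp [mul_assoc]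
  have key : ∀ g h : PSL, V.map (MulAut.conj g).toMonoidHom = V.map (MulAut.conj h).toMonoidHom ↔
      g⁻¹ * h ∈ Subgroup.normalizer (V : Set PSL) := by
    intro g h
    rw [← map_conj_eq_iff, ← hcomp]
    constructor
    · intro e
      rw [← e, hcomp, inv_mul_cancel]
      ext x
      simp
    · intro e
      conv_lhs => rw [← e]
      rw [hcomp, hcomp, mul_inv_cancel_left]
  refine (Nat.card_eq_of_bijective (fun x : PSL ⧸ Subgroup.normalizer (V : Set PSL) => Quotient.liftOn' x
    (fun g => (⟨_, g, rfl⟩ : Set.range fun g : PSL => V.map (MulAut.conj g).toMonoidHom))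
    (fun g h hgh => Subtype.ext ((key g h).2 (QuotientGroup.leftRel_apply.1 hgh)))) ⟨?_, ?_⟩).symm
  · intro x y
    induction x using Quotient.inductionOn' with
    | h g =>
      induction y using Quotient.inductionOn' with
      | h h => exact fun e => Quotient.sound' (QuotientGroup.leftRel_apply.2 ((key g h).1 (congrArg Subtype.val e)))
  · rintro ⟨_, g, rfl⟩
    exact ⟨Quotient.mk'' g, rfl⟩

theorem isKleinFour_map (V : Subgroup PSL) (hV : IsKleinFour V) (g : PSL) :
    IsKleinFour (V.map (MulAut.conj g).toMonoidHom) := by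
  have e := V.equivMapOfInjective (MulAut.conj g).toMonoidHom (MulAut.conj g).injective
  exact ⟨by rw [← Nat.card_congr e.toEquiv]; exact hV.card_four,
    by rw [← Monoid.exponent_eq_of_mulEquiv e]; exact hV.exponent_two⟩

theorem klein_classes (hodd : Odd (Nat.card F)) :
    ((Nat.card F % 8 = 3 ∨ Nat.card F % 8 = 5) → ∀ V W : Subgroup PSL, IsKleinFour V → IsKleinFour W →
      ∃ g : PSL, W = V.map (MulAut.conj g).toMonoidHom) ∧
    ((Nat.card F % 8 = 1 ∨ Nat.card F % 8 = 7) → ∃ V₁ V₂ : Subgroup PSL, IsKleinFour V₁ ∧ IsKleinFour V₂ ∧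
      (¬ ∃ g : PSL, V₂ = V₁.map (MulAut.conj g).toMonoidHom) ∧ ∀ W : Subgroup PSL, IsKleinFour W →
        (∃ g : PSL, W = V₁.map (MulAut.conj g).toMonoidHom) ∨ ∃ g : PSL, W = V₂.map (MulAut.conj g).toMonoidHom) := by
  classical
  set orbit := fun V : Subgroup PSL => Set.range fun g : PSL => V.map (MulAut.conj g).toMonoidHom
  have hsub : ∀ V : Subgroup PSL, IsKleinFour V → orbit V ⊆ {W | IsKleinFour W} := by
    rintro V hV _ ⟨g, rfl⟩
    exact isKleinFour_map V hV g
  have hall : ({W : Subgroup PSL | IsKleinFour W}).ncard * 12 = Nat.card PSL := by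
    rw [← Nat.card_coe_set_eq, mul_comm]; exact twelve_mul_card_klein hodd
  refine ⟨fun h8 V W hV hW => ?_, fun h8 => ?_⟩
  · have h1 : (orbit V).ncard * Nat.card (Subgroup.normalizer (V : Set PSL)) = Nat.card PSL := by
      rw [← Nat.card_coe_set_eq]; exact card_conjugates V
    have h2 := (card_normalizer_klein hodd hV).1 h8
    have h3 : ({W : Subgroup PSL | IsKleinFour W}).ncard ≤ (orbit V).ncard := by
      have : (orbit V).ncard * Nat.card (Subgroup.normalizer (V : Set PSL)) ≤ (orbit V).ncard * 12 :=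
        Nat.mul_le_mul_left _ h2
      omega
    have h4 : W ∈ orbit V := (Set.eq_of_subset_of_ncard_le (hsub V hV) h3 (Set.toFinite _)).symm ▸ hW
    obtain ⟨g, hg⟩ := h4
    exact ⟨g, hg.symm⟩
  · have hN : ∀ V : Subgroup PSL, IsKleinFour V → 2 * (orbit V).ncard = ({W : Subgroup PSL | IsKleinFour W}).ncard := by
      intro V hV
      have h1 := card_conjugates V
      rw [Nat.card_coe_set_eq, (card_normalizer_klein hodd hV).2 h8] at h1
      have : (orbit V).ncard * 24 = Nat.card PSL := h1
      omega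
    obtain ⟨c, hc⟩ := exists_invol (F := F) hodd
    obtain ⟨p, hchar⟩ := CharP.exists F
    have : Fact p.Prime := ⟨CharP.char_is_prime F p⟩
    obtain ⟨⟨d, hd⟩⟩ := (Nat.card_pos_iff.1 ((card_partner hodd hc).symm ▸ Nat.card_pos)).1
    set V₁ := vGroup hc hd
    have hV₁ := isKleinFour_vGroup hc hd
    have hpos : 0 < (orbit V₁).ncard := (Set.ncard_pos (Set.toFinite _)).2 ⟨_, 1, rfl⟩
    obtain ⟨V₂, hV₂, hnot⟩ : ∃ V₂ : Subgroup PSL, IsKleinFour V₂ ∧ V₂ ∉ orbit V₁ := by
      by_contra hh
      push Not at hh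
      have := Set.ncard_le_ncard (s := {W : Subgroup PSL | IsKleinFour W}) hh (Set.toFinite _)
      have := hN V₁ hV₁
      omega
    refine ⟨V₁, V₂, hV₁, hV₂, fun ⟨g, hg⟩ => hnot ⟨g, hg.symm⟩, fun W hW => ?_⟩
    have hdis : Disjoint (orbit V₁) (orbit V₂) := by
      rw [Set.disjoint_left]
      rintro _ ⟨g, rfl⟩ ⟨h, hh⟩
      refine hnot ⟨h⁻¹ * g, ?_⟩
      have e := congrArg (Subgroup.map (MulAut.conj h⁻¹).toMonoidHom) hh
      rw [Subgroup.map_map, Subgroup.map_map] at e
      refine Eq.trans ?_ (e.symm.trans ?_)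
      · congr 1; ext x; simp [mul_assoc]
      · rw [show (MulAut.conj h⁻¹).toMonoidHom.comp (MulAut.conj h).toMonoidHom = MonoidHom.id PSL by
          ext x; simp [mul_assoc], Subgroup.map_id]
    have hunion : orbit V₁ ∪ orbit V₂ = {W : Subgroup PSL | IsKleinFour W} := by
      refine Set.eq_of_subset_of_ncard_le (Set.union_subset (hsub _ hV₁) (hsub _ hV₂)) ?_ (Set.toFinite _)
      rw [Set.ncard_union_eq hdis]
      have := hN V₁ hV₁
      have := hN V₂ hV₂
      omega
    have : W ∈ orbit V₁ ∪ orbit V₂ := hunion.symm ▸ hW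
    rcases this with ⟨g, hg⟩ | ⟨g, hg⟩
    · exact Or.inl ⟨g, hg.symm⟩
    · exact Or.inr ⟨g, hg.symm⟩

end CfsgLib.SL2
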