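import Mathlib
import Cfsg.Agent.Lib.SL2.Exist
import Cfsg.Agent.S4337
import Cfsg.Agent.S0144

/-!
Solvable subgroups of `PSL(2, q)`.
-/

set_option autoImplicit false
set_option linter.unusedSectionVars false
set_option maxHeartbeats 400000

namespace CfsgLib.SL2

open Matrix
open scoped MatrixGroups Pointwise

variable {F : Type*} [Field F] [Finite F] (p : ℕ) [hp : Fact p.Prime] [CharP F p]

local notation "PSL" => ProjectiveSpecialLinearGroup (Fin 2) F

omit p in
theorem commutator_mem_upperPSL {x y : PSL} (hx : x ∈ borelPSL F) (hy : y ∈ borelPSL F) :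
    x * y * x⁻¹ * y⁻¹ ∈ upperPSL F := by
  obtain ⟨g, hg, rfl⟩ := hx
  obtain ⟨h, hh, rfl⟩ := hy
  have hk : g * h * g⁻¹ * h⁻¹ ∈ borelSL (F := F) :=
    mul_mem (mul_mem (mul_mem hg hh) (inv_mem hg)) (inv_mem hh)
  rw [mem_upperPSL]
  refine ⟨Multiplicative.ofAdd ((g * h * g⁻¹ * h⁻¹).1 0 1), ?_⟩
  rw [← map_inv, ← map_inv, ← map_mul, ← map_mul, ← map_mul]
  congr 1
  rw [← up_eq_upperHom]
  replace hg : g.1 1 0 = 0 := hg
  replace hh : h.1 1 0 = 0 := hh
  replace hk : (g * h * g⁻¹ * h⁻¹).1 1 0 = 0 := hk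
  have h00 : (g * h * g⁻¹ * h⁻¹).1 0 0 = 1 := by
    have hdg := det_eq g
    have hdh := det_eq h
    rw [hg, mul_zero, sub_zero] at hdg
    rw [hh, mul_zero, sub_zero] at hdh
    simp [mul_entry, Matrix.SpecialLinearGroup.coe_inv, Matrix.adjugate_fin_two, hg, hh]
    linear_combination (h.1 0 0 * h.1 1 1) * hdg + hdh
  have h11 : (g * h * g⁻¹ * h⁻¹).1 1 1 = 1 := by
    have hd := det_eq (g * h * g⁻¹ * h⁻¹)
    rw [hk, h00, mul_zero, sub_zero, one_mul] at hd
    exact hd
  exact ext2 (by simp [up_coe, h00]) (by simp [up_coe]) (by simp [up_coe, hk]) (by simp [up_coe, h11])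

omit p in
theorem isSolvable_borelPSL : Group.IsSolvable (borelPSL F) := by
  let U : Subgroup (borelPSL F) := (upperPSL F).subgroupOf (borelPSL F)
  have hN : U.Normal := ⟨fun n hn g => borelPSL_conj g.2 hn⟩
  have : Group.IsSolvable U := Group.isSolvable_of_comm fun a b =>
    Subtype.ext (Subtype.ext (upperPSL_comm a.2 b.2).eq)
  have : Group.IsSolvable (borelPSL F ⧸ U) := by
    refine Group.isSolvable_of_comm fun a b => ?_
    obtain ⟨x, rfl⟩ := QuotientGroup.mk'_surjective U a
    obtain ⟨y, rfl⟩ := QuotientGroup.mk'_surjective U b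
    rw [← map_mul, ← map_mul, QuotientGroup.mk'_apply, QuotientGroup.mk'_apply, QuotientGroup.eq]
    show ((x * y)⁻¹ * (y * x) : PSL) ∈ upperPSL F
    have := commutator_mem_upperPSL (inv_mem y.2) (inv_mem x.2)
    simpa [mul_assoc] using this
  exact Group.isSolvable_of_ker_le_range U.subtype (QuotientGroup.mk' U)
    (by rw [QuotientGroup.ker_mk', Subgroup.range_subtype])

theorem isSolvable_normalizer_torus {c : PSL} (hc : Census.Semi p c) :
    Group.IsSolvable (Subgroup.normalizer (torus c : Set PSL)) := by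
  set N := Subgroup.normalizer (torus c : Set PSL)
  set T := (torus c).subgroupOf N
  have hN : T.Normal := Subgroup.normal_in_normalizer
  have hle : torus c ≤ N := Subgroup.le_normalizer
  have hcard : Nat.card T = Nat.card (torus c) :=
    Nat.card_congr (Subgroup.subgroupOfEquivOfLe hle).toEquiv
  have hi : T.index = 2 := by
    have h := T.card_mul_index
    rw [card_normalizer_torus p hc, hcard, mul_comm 2] at h
    exact Nat.eq_of_mul_eq_mul_left Nat.card_pos h
  have := isCyclic_torus p hc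
  have : Group.IsSolvable T := by
    have := (Subgroup.subgroupOfEquivOfLe hle).isCyclic.2 ‹IsCyclic (torus c)›
    exact Group.isSolvable_of_comm fun a b => IsCyclic.commutative.is_comm.comm a b
  have : Group.IsSolvable (N ⧸ T) := by
    have : Fact (Nat.Prime 2) := ⟨Nat.prime_two⟩
    have := isCyclic_of_prime_card (α := N ⧸ T) (p := 2) (by rw [← Subgroup.index_eq_card, hi])
    exact Group.isSolvable_of_comm fun a b => IsCyclic.commutative.is_comm.comm a b
  exact Group.isSolvable_of_ker_le_range T.subtype (QuotientGroup.mk' T)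
    (by rw [QuotientGroup.ker_mk', Subgroup.range_subtype])

omit p in
theorem isSolvable_conj_borel {H : Subgroup PSL} {k : PSL} (h : ∀ x ∈ H, k * x * k⁻¹ ∈ borelPSL F) :
    Group.IsSolvable H := by
  have := isSolvable_borelPSL (F := F)
  let f : H →* borelPSL F := ((MulAut.conj k).toMonoidHom.comp H.subtype).codRestrict _ fun x => h x x.2
  exact Group.isSolvable_of_isSolvable_injective (f := f) fun x y e =>
    Subtype.ext ((MulAut.conj k).injective (congrArg Subtype.val e))

theorem isSolvable_le_normalizer_torus {H : Subgroup PSL} {c : PSL} (hc : Census.Semi p c)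
    (h : H ≤ Subgroup.normalizer (torus c : Set PSL)) : Group.IsSolvable H := by
  have := isSolvable_normalizer_torus p hc
  exact Group.isSolvable_of_isSolvable_injective (f := Subgroup.inclusion h) (Subgroup.inclusion_injective h)

theorem isSolvable_alternating_four : Group.IsSolvable (alternatingGroup (Fin 4)) := by
  have := CfsgLib.SmallPerm.isSolvable_perm_fin_four
  infer_instance

theorem four_le_card_of_isSimple {K : Type*} [Field K] [Finite K] (h4 : 4 ≤ Nat.card K) :
    IsSimpleGroup (ProjectiveSpecialLinearGroup (Fin 2) K) ∧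
      ¬ Group.IsSolvable (ProjectiveSpecialLinearGroup (Fin 2) K) := by
  have hs : IsSimpleGroup (ProjectiveSpecialLinearGroup (Fin 2) K) := by
    refine CfsgLib.Classical.isSimpleGroup_PSL (Or.inr ?_)
    have := Fintype.ofFinite K
    by_contra hc
    push Not at hc
    classical
    have hle : (Finset.univ : Finset K) ⊆ {0, 1, -1} := fun x _ => by
      by_cases hx : x = 0
      · simp [hx]
      rcases sq_eq_one_iff.1 (hc x hx) with e | e <;> simp [e]
    have := (Finset.card_le_card hle).trans Finset.card_le_three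
    rw [Finset.card_univ, Fintype.card_eq_nat_card] at this
    omega
  refine ⟨hs, fun h => ?_⟩
  have hc := IsSimpleGroup.comm_iff_isSolvable.2 h
  obtain ⟨p, hchar⟩ := CharP.exists K
  have : Fact p.Prime := ⟨CharP.char_is_prime K p⟩
  -- a commutative simple group has prime order
  let _ : CommGroup (ProjectiveSpecialLinearGroup (Fin 2) K) :=
    { (inferInstance : Group (ProjectiveSpecialLinearGroup (Fin 2) K)) with mul_comm := hc }
  have hprime := IsSimpleGroup.prime_card (α := ProjectiveSpecialLinearGroup (Fin 2) K)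
  have hcard := card_PSL (F := K)
  have hd : Nat.gcd 2 (Nat.card K - 1) ∣ 2 := Nat.gcd_dvd_left _ _
  set P := Nat.card (ProjectiveSpecialLinearGroup (Fin 2) K)
  have h1 : P ∣ Nat.card K ∨ P ∣ Nat.card K - 1 ∨ P ∣ Nat.card K + 1 := by
    rcases (Nat.Prime.dvd_mul hprime).1 (hcard ▸ dvd_mul_left P _) with h | h
    · exact Or.inl h
    · exact Or.inr ((Nat.Prime.dvd_mul hprime).1 h)
  have h2 : P ≤ Nat.card K + 1 := by
    rcases h1 with h | h | h <;> have := Nat.le_of_dvd (by omega) h <;> omega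
  have h3 : Nat.card K * ((Nat.card K - 1) * (Nat.card K + 1)) ≤ 2 * (Nat.card K + 1) := by
    rw [← hcard]
    exact Nat.mul_le_mul (Nat.le_of_dvd two_pos hd) h2
  have h4' : 4 * 3 ≤ Nat.card K * (Nat.card K - 1) := Nat.mul_le_mul h4 (by omega)
  rw [← mul_assoc] at h3
  have := Nat.le_of_mul_le_mul_right h3 (by omega)
  omega

theorem isSolvable_of_shape_small {H : Subgroup PSL} {K : Type} [Field K] [Finite K] (hk : Nat.card K ≤ 3)
    (h : Nonempty (H ≃* ProjectiveSpecialLinearGroup (Fin 2) K) ∨ Nonempty (H ≃* ProjGenLinGroup (Fin 2) K)) :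
    Group.IsSolvable H := by
  have hk2 : 2 ≤ Nat.card K := Finite.one_lt_card
  have h6 : Nat.card H = 6 ∨ Nat.card H = 12 ∨ Nat.card H = 24 := by
    rcases h with ⟨⟨e⟩⟩ | ⟨⟨e⟩⟩
    · have := card_PSL (F := K)
      rw [Nat.card_congr e.toEquiv]
      interval_cases hK : Nat.card K <;> norm_num at this ⊢ <;> omega
    · rw [Nat.card_congr e.toEquiv, CfsgLib.Classical.card_PGL_eq_card_SL, card_SL_two']
      interval_cases hK : Nat.card K <;> norm_num
  rcases h6 with h | h | h
  · exact Cfsg.Agent.S0144.result 2 3 1 1 Nat.prime_two Nat.prime_three (by rw [h]; norm_num)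
  · exact Cfsg.Agent.S0144.result 2 3 2 1 Nat.prime_two Nat.prime_three (by rw [h]; norm_num)
  · exact Cfsg.Agent.S0144.result 2 3 3 1 Nat.prime_two Nat.prime_three (by rw [h]; norm_num)

/-! ### Where `A₄` cannot live -/

theorem not_le_normalizer_torus {H : Subgroup PSL} (φ : alternatingGroup (Fin 4) →* H)
    (hφ : Function.Injective φ) {c : PSL} (hc : Census.Semi p c) :
    ¬ H ≤ Subgroup.normalizer (torus c : Set PSL) := by
  intro hle
  obtain ⟨u, v, hu1, huu, hv1, hvv, hne, huv⟩ : ∃ u v : alternatingGroup (Fin 4),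
      u ≠ 1 ∧ u * u = 1 ∧ v ≠ 1 ∧ v ^ 3 = 1 ∧ u * v ≠ v * u ∧ (u * v) * (u * v) ≠ 1 := by
    decide +kernel
  let ψ : alternatingGroup (Fin 4) →* PSL := H.subtype.comp φ
  have hψ : Function.Injective ψ := H.subtype_injective.comp hφ
  have h3 : orderOf (ψ v) = 3 := by
    rw [orderOf_injective ψ hψ]
    exact orderOf_eq_prime (hp := ⟨Nat.prime_three⟩) hvv hv1
  rcases isCommutative_of_le_normalizer_torus p hc (α := ψ u) (β := ψ v) (by
    intro y hy
    rcases hy with rfl | hy
    · exact hle (φ u).2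
    · rw [Set.mem_singleton_iff.1 hy]; exact hle (φ v).2) h3 with h | h
  · exact hne (hψ (by rw [map_mul, map_mul]; exact h.eq))
  · exact huv (hψ (by rw [map_mul, map_mul, map_one]; exact h))

theorem not_conj_borel_of_odd (hodd : Odd (Nat.card F)) {H : Subgroup PSL}
    (φ : alternatingGroup (Fin 4) →* H) (hφ : Function.Injective φ) {k : PSL}
    (hk : ∀ h ∈ H, k * h * k⁻¹ ∈ borelPSL F) : False := by
  obtain ⟨p, hchar⟩ := CharP.exists F
  have : Fact p.Prime := ⟨CharP.char_is_prime F p⟩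
  obtain ⟨x, y, hu1, huu⟩ : ∃ x y : alternatingGroup (Fin 4),
      x * y * x⁻¹ * y⁻¹ ≠ 1 ∧ x * y * x⁻¹ * y⁻¹ * (x * y * x⁻¹ * y⁻¹) = 1 := by
    decide +kernel
  let ψ : alternatingGroup (Fin 4) →* PSL :=
    (MulAut.conj k).toMonoidHom.comp (H.subtype.comp φ)
  have hψ : Function.Injective ψ := (MulAut.conj k).injective.comp (H.subtype_injective.comp hφ)
  have hU : ψ (x * y * x⁻¹ * y⁻¹) ∈ upperPSL F := by
    rw [map_mul, map_mul, map_mul, map_inv, map_inv]
    exact commutator_mem_upperPSL (hk _ (φ x).2) (hk _ (φ y).2)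
  obtain ⟨P, hP⟩ := exists_sylow_eq_upperPSL (F := F) p
  obtain ⟨n, hn⟩ := IsPGroup.iff_orderOf.mp P.2 (⟨_, hP.symm ▸ hU⟩ : (P : Subgroup PSL))
  rw [Subgroup.orderOf_mk, orderOf_injective ψ hψ, orderOf_eq_prime (p := 2) (by rw [pow_two, huu]) hu1] at hn
  have hp2 : p = 2 := ((Nat.prime_dvd_prime_iff_eq Nat.prime_two this.out).1
    (Nat.prime_two.dvd_of_dvd_pow (dvd_of_eq hn))).symm
  subst hp2
  exact two_ne_zero_of_odd_card hodd (CharP.cast_eq_zero F 2)

theorem exists_hom_of_perm_four {G : Type*} [Group G] (e : G ≃* Equiv.Perm (Fin 4)) :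
    ∃ φ : alternatingGroup (Fin 4) →* G, Function.Injective φ :=
  ⟨e.symm.toMonoidHom.comp (alternatingGroup (Fin 4)).subtype,
    e.symm.injective.comp (alternatingGroup (Fin 4)).subtype_injective⟩

theorem exists_hom_of_five {G : Type*} [Group G] (e : G ≃* alternatingGroup (Fin 5)) :
    ∃ φ : alternatingGroup (Fin 4) →* G, Function.Injective φ := by
  obtain ⟨H, ⟨f⟩⟩ := exists_alternating_four_of_five
    (G := G) ⟨⊤, ⟨Subgroup.topEquiv.trans e⟩⟩
  exact ⟨H.subtype.comp f.symm.toMonoidHom, H.subtype_injective.comp f.symm.injective⟩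

/-! ### Element orders in `PGL(2, K)` -/

theorem orderOf_pgl_le {K : Type*} [Field K] [Finite K] (x : ProjGenLinGroup (Fin 2) K) :
    orderOf x ≤ Nat.card K + 1 := by
  obtain ⟨g, rfl⟩ := ProjGenLinGroup.mk_surjective x
  set X := (g : Matrix (Fin 2) (Fin 2) K)
  set V := Submodule.span K ({1, X} : Set (Matrix (Fin 2) (Fin 2) K))
  have hX2 : X * X ∈ V := by
    rw [cayley]
    exact sub_mem (Submodule.smul_mem _ _ (Submodule.subset_span (by simp)))
      (Submodule.smul_mem _ _ (Submodule.subset_span (by simp)))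
  have hpow : ∀ i : ℕ, X ^ i ∈ V := by
    intro i
    induction i with
    | zero => exact Submodule.subset_span (by simp)
    | succ i ih =>
      obtain ⟨a, b, hab⟩ := Submodule.mem_span_pair.1 ih
      rw [pow_succ, ← hab, add_mul, smul_mul_assoc, smul_mul_assoc, one_mul]
      exact add_mem (Submodule.smul_mem _ _ (Submodule.subset_span (by simp))) (Submodule.smul_mem _ _ hX2)
  set n := orderOf (ProjGenLinGroup.mk g)
  have hX0 : ∀ i : ℕ, X ^ i ≠ 0 := fun i h => by
    have h1 : ((g ^ i : GL (Fin 2) K) : Matrix (Fin 2) (Fin 2) K) = 0 := by rw [Units.val_pow_eq_pow_val]; exact h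
    exact (g ^ i).ne_zero h1
  let f : Fin n × Kˣ → {v : V // v ≠ 0} := fun z =>
    ⟨⟨(z.2 : K) • X ^ (z.1 : ℕ), Submodule.smul_mem _ _ (hpow _)⟩, fun h => by
      have := congrArg Subtype.val h
      exact hX0 _ ((smul_eq_zero.1 this).resolve_left z.2.ne_zero)⟩
  have hf : Function.Injective f := by
    rintro ⟨i, a⟩ ⟨j, b⟩ h
    have h' : (a : K) • X ^ (i : ℕ) = (b : K) • X ^ (j : ℕ) := congrArg (fun v => (v.1.1)) h
    have hij : (ProjGenLinGroup.mk g) ^ (i : ℕ) = (ProjGenLinGroup.mk g) ^ (j : ℕ) := by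
      rw [← map_pow, ← map_pow, ProjGenLinGroup.mk_eq_mk_iff]
      refine ⟨a * b⁻¹, Units.ext ?_⟩
      rw [Units.val_mul, GeneralLinearGroup.coe_scalar, Units.val_pow_eq_pow_val, Units.val_pow_eq_pow_val,
        ← Matrix.scalar_commute _ (Commute.all _), Matrix.scalar_apply, ← Matrix.smul_eq_diagonal_mul]
      rw [Units.val_mul, ← smul_smul, smul_comm, h', smul_smul, Units.inv_mul, one_smul]
    have : i = j := Fin.ext (pow_injOn_Iio_orderOf i.2 j.2 hij)
    subst this
    refine Prod.ext rfl (Units.ext ?_)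
    exact sub_eq_zero.1 ((smul_eq_zero.1 (show ((a : K) - b) • X ^ (i : ℕ) = 0 by
      rw [sub_smul, h', sub_self])).resolve_right (hX0 _))
  have hcard := Nat.card_le_card_of_injective f hf
  rw [Nat.card_prod, Nat.card_fin, Nat.card_units] at hcard
  have hV : Nat.card V ≤ Nat.card K ^ 2 := by
    classical
    rw [Module.natCard_eq_pow_finrank (K := K)]
    refine Nat.pow_le_pow_right Nat.card_pos ?_
    show Module.finrank K (Submodule.span K ({1, X} : Set (Matrix (Fin 2) (Fin 2) K))) ≤ 2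
    rw [← Finset.coe_pair]
    exact (finrank_span_finset_le_card _).trans Finset.card_le_two
  have hne : Nat.card {v : V // v ≠ 0} + 1 = Nat.card V := by
    classical
    let _ := Fintype.ofFinite V
    rw [Nat.card_eq_fintype_card, Nat.card_eq_fintype_card, Fintype.card_subtype_compl, Fintype.card_subtype_eq]
    have := Fintype.card_pos (α := V)
    omega
  have hk : 2 ≤ Nat.card K := Finite.one_lt_card
  obtain ⟨j, hj⟩ : ∃ j, Nat.card K = j + 1 := ⟨Nat.card K - 1, by omega⟩
  rw [hj] at hcard hV ⊢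
  rw [Nat.add_sub_cancel] at hcard
  refine Nat.le_of_mul_le_mul_right (?_ : n * j ≤ (j + 1 + 1) * j) (by omega)
  have : (j + 1) ^ 2 = (j + 1 + 1) * j + 1 := by ring
  omega

omit p in
theorem two_le_exponent {H : Subgroup PSL} (hH : H ≠ ⊤) {K : Type*} [Field K] [Finite K] {m : ℕ}
    (hm : Nat.card K ^ m = Nat.card F)
    (hd : Nonempty (H ≃* ProjectiveSpecialLinearGroup (Fin 2) K) ∨ Nonempty (H ≃* ProjGenLinGroup (Fin 2) K)) :
    2 ≤ m := by
  have h1 : 1 < Nat.card F := Finite.one_lt_card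
  by_contra hm2
  have hcases : m = 0 ∨ m = 1 := by omega
  rcases hcases with rfl | rfl
  · rw [pow_zero] at hm; omega
  rw [pow_one] at hm
  refine hH (Subgroup.eq_top_of_card_eq _ ?_)
  rcases hd with ⟨⟨e⟩⟩ | ⟨⟨e⟩⟩
  · have h := card_PSL (F := K)
    rw [hm, ← card_PSL (F := F), ← Nat.card_congr e.toEquiv] at h
    exact Nat.eq_of_mul_eq_mul_left (Nat.gcd_pos_of_pos_left _ two_pos) h
  · refine le_antisymm (Nat.le_of_dvd Nat.card_pos H.card_subgroup_dvd_card) ?_
    rw [Nat.card_congr e.toEquiv, CfsgLib.Classical.card_PGL_eq_card_SL, card_SL_two', hm, ← card_PSL]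
    exact Nat.le_mul_of_pos_left _ dd_pos

omit p in
theorem orderOf_le_of_shape {H : Subgroup PSL} (hH : H ≠ ⊤) (h : SubfieldShape F H) :
    ∃ k m : ℕ, 2 ≤ m ∧ 2 ≤ k ∧ k ^ m = Nat.card F ∧ Nat.card H ≤ k * ((k - 1) * (k + 1)) ∧
      ∀ x ∈ H, orderOf x ≤ k + 1 := by
  obtain ⟨K, fK, fT, m, hm, hd⟩ := h
  rw [Fintype.card_eq_nat_card] at hm
  refine ⟨Nat.card K, m, two_le_exponent hH hm hd, Finite.one_lt_card, hm, ?_, fun x hx => ?_⟩
  · rcases hd with ⟨⟨e⟩⟩ | ⟨⟨e⟩⟩
    · rw [Nat.card_congr e.toEquiv, ← card_PSL (F := K)]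
      exact Nat.le_mul_of_pos_left _ (Nat.gcd_pos_of_pos_left _ two_pos)
    · rw [Nat.card_congr e.toEquiv, CfsgLib.Classical.card_PGL_eq_card_SL, card_SL_two']
  rw [← Subgroup.orderOf_mk x hx]
  rcases hd with ⟨⟨e⟩⟩ | ⟨⟨e⟩⟩
  · rw [← e.orderOf_eq, ← orderOf_injective _ ProjectiveSpecialLinearGroup.toPGL_injective]
    exact orderOf_pgl_le _
  · rw [← e.orderOf_eq]
    exact orderOf_pgl_le _

end CfsgLib.SL2
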