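import Cfsg.Agent.Lib.SL2.Subgroups
import Cfsg.Agent.Lib.SL2.Exist
import Cfsg.Agent.Lib.Classical.Card

/-!
`SL(2, q)` is generated by a large enough additive group of upper transvections together with one
lower transvection, unless the products of their parameters lie in a proper subfield.
-/

set_option autoImplicit false
set_option linter.unusedSectionVars false
set_option maxHeartbeats 400000

namespace CfsgLib.SL2

open Matrix
open scoped MatrixGroups

variable {F : Type*} [Field F] [Finite F]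

local notation "PSL" => ProjectiveSpecialLinearGroup (Fin 2) F
local notation "M2" => Matrix (Fin 2) (Fin 2) F

theorem up_add_two (a b : F) : up (a + b) = up a * up b :=
  map_mul upperHom (Multiplicative.ofAdd a) (Multiplicative.ofAdd b)

theorem up_mul_lo_trace (a b : F) : ((up a * lo b : SL(2, F)) : M2).trace = 2 + a * b := by
  rw [Matrix.SpecialLinearGroup.coe_mul, up_coe, lo_coe, Matrix.trace_fin_two]
  simp [Matrix.mul_apply]
  ring

/-- `W` upper parameters, as a subgroup of `PSL`. -/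
noncomputable def upHom (W : AddSubgroup F) : Multiplicative W →* PSL :=
  proj.comp (upperHom.comp (AddMonoidHom.toMultiplicative W.subtype))

theorem upHom_apply (W : AddSubgroup F) (w : Multiplicative W) :
    upHom W w = proj (up (w.toAdd : F)) := rfl

theorem upHom_injective (W : AddSubgroup F) : Function.Injective (upHom W) := by
  intro a b h
  rw [upHom_apply, upHom_apply] at h
  have := proj_up_injective h
  exact Multiplicative.toAdd.injective (Subtype.ext this)

theorem trace_sq_mem_range {H : Subgroup PSL} {K : Type} [Field K] (f : K →+* F) (D : GL (Fin 2) F)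
    (hD : ∀ y : H, ∃ z : GL (Fin 2) K, ProjectiveSpecialLinearGroup.toPGL (y : PSL) =
      ProjGenLinGroup.mk (D * GeneralLinearGroup.map f z * D⁻¹))
    {X : SL(2, F)} (hX : proj X ∈ H) : (X : M2).trace ^ 2 ∈ Set.range f := by
  obtain ⟨z, hz⟩ := hD ⟨_, hX⟩
  change ProjectiveSpecialLinearGroup.toPGL (QuotientGroup.mk X) = _ at hz
  rw [ProjectiveSpecialLinearGroup.toPGL_mk] at hz
  obtain ⟨u, hu⟩ := ProjGenLinGroup.mk_eq_mk_iff.1 hz
  have e := congrArg Units.val hu
  rw [Units.val_mul, Units.val_mul, Units.val_mul, Matrix.GeneralLinearGroup.coe_scalar] at e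
  have hs : (Matrix.SpecialLinearGroup.toGL X : M2) * Matrix.scalar (Fin 2) (u : F) = (u : F) • (X : M2) := by
    rw [← Matrix.scalar_commute _ (Commute.all _)]
    show Matrix.scalar (Fin 2) (u : F) * (X : M2) = _
    rw [Matrix.scalar_apply, ← Matrix.smul_one_eq_diagonal, smul_mul_assoc, one_mul]
  rw [hs] at e
  have h1 := congrArg Matrix.trace e
  have h2 := congrArg Matrix.det e
  rw [Matrix.trace_smul, Matrix.trace_units_conj, smul_eq_mul] at h1
  rw [Matrix.det_smul, X.det_coe, Matrix.det_units_conj, mul_one, Fintype.card_fin] at h2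
  change _ = (f.mapMatrix (z : Matrix (Fin 2) (Fin 2) K)).det at h2
  rw [← RingHom.map_det] at h2
  change _ = ((z : Matrix (Fin 2) (Fin 2) K).map f).trace at h1
  rw [trace_map_eq'] at h1
  refine ⟨(z : Matrix (Fin 2) (Fin 2) K).trace ^ 2 / (z : Matrix (Fin 2) (Fin 2) K).det, ?_⟩
  have hu0 : (u : F) ≠ 0 := u.ne_zero
  rw [map_div₀, map_pow, ← h1, ← h2]
  field_simp
where
  trace_map_eq' {K : Type} [Field K] {f : K →+* F} {Z : Matrix (Fin 2) (Fin 2) K} :
      (Z.map f).trace = f Z.trace := by simp [Matrix.trace_fin_two]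

theorem card_PSL_le_of_equiv {H : Subgroup PSL} {K : Type} [Field K] [Finite K]
    (hK : Nat.card K = Nat.card F)
    (h : Nonempty (H ≃* ProjectiveSpecialLinearGroup (Fin 2) K) ∨
      Nonempty (H ≃* ProjGenLinGroup (Fin 2) K)) : Nat.card PSL ≤ Nat.card H := by
  have hF : Nat.gcd 2 (Nat.card F - 1) * Nat.card PSL = Nat.card SL(2, F) := by
    rw [card_SL_two', card_PSL]
  rcases h with h | h <;> obtain ⟨e⟩ := h <;> rw [Nat.card_congr e.toEquiv]
  · have hK' : Nat.gcd 2 (Nat.card K - 1) * Nat.card (ProjectiveSpecialLinearGroup (Fin 2) K) =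
        Nat.card SL(2, K) := by rw [card_SL_two', card_PSL]
    rw [card_SL_two', hK, ← card_SL_two'] at hK'
    exact le_of_eq
      (Nat.eq_of_mul_eq_mul_left (Nat.gcd_pos_of_pos_left (Nat.card F - 1) two_pos) (hF.trans hK'.symm))
  · rw [CfsgLib.Classical.card_PGL_eq_card_SL, card_SL_two', hK, ← card_SL_two']
    exact Nat.le_of_dvd Nat.card_pos (Subgroup.card_quotient_dvd_card _)

theorem pow_of_equiv {A : Type*} [Group A] {Hb : Subgroup PSL} (e : Hb ≃* A) {g : SL(2, F)}
    {hg : proj g ∈ Hb} {k : ℕ} (h : e ⟨proj g, hg⟩ ^ k = 1) : proj (g ^ k) = 1 := by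
  have h1 : (⟨proj g, hg⟩ : Hb) ^ k = 1 := e.injective (by rw [map_pow, h, map_one])
  rw [map_pow]
  exact congrArg Subtype.val h1

theorem entry_zero_of_proj_one {g : SL(2, F)} (h : proj g = 1) : (g : M2) 1 0 = 0 := by
  have := (proj_mem_borelPSL (g := g)).1 (h ▸ one_mem _)
  exact this

theorem trace_of_pow_two {μ w : F} (hμ0 : μ ≠ 0) (h2 : (2 : F) = 0)
    (h : proj ((up w * lo μ : SL(2, F)) ^ 2) = 1) : μ * w = 0 := by
  have := entry_zero_of_proj_one h
  simp [pow_succ, Matrix.SpecialLinearGroup.coe_mul, up_coe, lo_coe, Matrix.mul_apply,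
    Fin.sum_univ_two] at this
  exact (mul_eq_zero.1 (show μ * (μ * w) = 0 by linear_combination this - μ * h2)).resolve_left hμ0

theorem trace_of_pow_three {μ w : F} (hμ0 : μ ≠ 0) (h2 : (2 : F) = 0)
    (h : proj ((up w * lo μ : SL(2, F)) ^ 3) = 1) : μ * w = 1 := by
  have := entry_zero_of_proj_one h
  simp [pow_succ, Matrix.SpecialLinearGroup.coe_mul, up_coe, lo_coe, Matrix.mul_apply,
    Fin.sum_univ_two] at this
  have h1 : μ * (μ * w - 1) ^ 2 = 0 := by linear_combination this - μ * (1 + 3 * (μ * w)) * h2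
  exact sub_eq_zero.1 (by simpa [hμ0] using h1)

theorem trace_of_pow_five {μ w : F} (hμ0 : μ ≠ 0) (h2 : (2 : F) = 0)
    (h : proj ((up w * lo μ : SL(2, F)) ^ 5) = 1) : (μ * w) ^ 4 = μ * w := by
  have := entry_zero_of_proj_one h
  simp [pow_succ, Matrix.SpecialLinearGroup.coe_mul, up_coe, lo_coe, Matrix.mul_apply,
    Fin.sum_univ_two] at this
  have h1 : μ * ((μ * w) ^ 2 + μ * w + 1) ^ 2 = 0 := by
    linear_combination this -
      μ * (2 + 9 * (μ * w) + 9 * (μ * w) ^ 2 + 3 * (μ * w) ^ 3) * h2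
  have h3 : (μ * w) ^ 2 + μ * w + 1 = 0 := by simpa [hμ0] using h1
  linear_combination (μ * w) * (μ * w - 1) * h3

theorem not_four {W : AddSubgroup F} {μ : F} (hμ0 : μ ≠ 0) (h4 : Nat.card W = 4)
    (hT : ∀ w ∈ W, μ * w = 0 ∨ μ * w = 1) : False := by
  classical
  have : Nat.card W ≤ Nat.card (Fin 2) :=
    Nat.card_le_card_of_injective (fun w : W => if μ * (w : F) = 0 then (0 : Fin 2) else 1) fun a b h => by
      refine Subtype.ext (mul_left_cancel₀ hμ0 ?_)
      rcases hT a a.2 with ha | ha <;> rcases hT b b.2 with hb | hb <;> simp [ha, hb] at h ⊢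
  rw [h4, Nat.card_fin] at this
  omega

theorem card_four {W : AddSubgroup F} {μ : F} (hgen : ∀ K : Subfield F, (∀ w ∈ W, μ * w ∈ K) → K = ⊤)
    (h2 : (2 : F) = 0) (hT : ∀ w ∈ W, (μ * w) ^ 4 = μ * w) (h4 : Nat.card W = 4) : Nat.card F = 4 := by
  let K : Subfield F :=
    { carrier := {x | x ^ 4 = x}
      mul_mem' := fun {a b} ha hb => show (a * b) ^ 4 = a * b by rw [mul_pow, ha, hb]
      one_mem' := one_pow 4
      add_mem' := fun {a b} (ha : a ^ 4 = a) (hb : b ^ 4 = b) => show (a + b) ^ 4 = a + b by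
        linear_combination ha + hb + (2 * a ^ 3 * b + 3 * a ^ 2 * b ^ 2 + 2 * a * b ^ 3) * h2
      zero_mem' := zero_pow (by norm_num)
      neg_mem' := fun {a} (ha : a ^ 4 = a) => show (-a) ^ 4 = -a by linear_combination ha + a * h2
      inv_mem' := fun a ha => show a⁻¹ ^ 4 = a⁻¹ by rw [inv_pow, ha] }
  have hK := hgen K hT
  have hall : ∀ x : F, x ^ 4 = x := fun x => (hK ▸ Subfield.mem_top x : x ∈ K)
  refine le_antisymm ?_ (h4 ▸ Nat.card_le_card_of_injective (fun w : W => (w : F)) Subtype.val_injective)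
  classical
  let _ := Fintype.ofFinite F
  rw [Nat.card_eq_fintype_card, ← Finset.card_univ]
  refine le_trans (Finset.card_le_card (t := ((Polynomial.X ^ 4 - Polynomial.X : Polynomial F)).roots.toFinset)
    fun x _ => ?_) ((Multiset.toFinset_card_le _).trans ?_)
  · rw [Multiset.mem_toFinset, Polynomial.mem_roots']
    refine ⟨fun e => ?_, by simp [hall x]⟩
    simpa [Polynomial.coeff_X] using congrArg (fun f : Polynomial F => f.coeff 4) e
  · refine (Polynomial.card_roots' _).trans ?_
    compute_degree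

theorem eq_top_of_up_lo' {H : Subgroup SL(2, F)} (W : AddSubgroup F) (hW : ∀ w ∈ W, up w ∈ H)
    {μ : F} (hμ0 : μ ≠ 0) (hμ : lo μ ∈ H)
    (h45 : 5 < Nat.card W ∨ (Nat.card W = 4 ∧ (2 : F) = 0))
    (hgen : ∀ K : Subfield F, (∀ w ∈ W, μ * w ∈ K) → K = ⊤) : H = ⊤ := by
  let _ := Fintype.ofFinite F
  obtain ⟨p, hchar⟩ := CharP.exists F
  obtain ⟨f₁, hp, hcardF⟩ := FiniteField.card F p
  rw [Fintype.card_eq_nat_card] at hcardF
  have : Fact p.Prime := ⟨hp⟩
  have h3 : 3 < Nat.card W := by omega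
  set Hb := H.map proj with hHb
  have hmem : ∀ g ∈ H, proj g ∈ Hb := fun g hg => Subgroup.mem_map_of_mem _ hg
  have hE : (upHom W).range ≤ Hb := by
    rintro _ ⟨w, rfl⟩
    exact hmem _ (hW _ w.toAdd.2)
  have hWd : Nat.card W ∣ Nat.card Hb := by
    rw [← Nat.card_congr Multiplicative.toAdd,
      Nat.card_congr (MonoidHom.ofInjective (upHom_injective W)).toEquiv]
    exact Subgroup.card_dvd_of_le hE
  obtain ⟨k, -, hWp⟩ := (Nat.dvd_prime_pow hp).1 (hcardF ▸ AddSubgroup.card_addSubgroup_dvd_card W)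
  have htop : Hb = ⊤ := by
    rcases dickson_in p Hb with ⟨c, -, hc, h⟩ | ⟨y, hy⟩ | h | h | h | h
    · exfalso
      have hco : Nat.Coprime (Nat.card W) (orderOf c) :=
        hWp ▸ ((hp.coprime_iff_not_dvd).2 hc).pow_left k
      rcases h with ⟨-, h⟩ | h
      · rw [h] at hWd
        have := Nat.Coprime.eq_one_of_dvd hco hWd
        omega
      · obtain ⟨e⟩ := h
        rw [Nat.card_congr e.toEquiv, DihedralGroup.nat_card] at hWd
        have := Nat.le_of_dvd two_pos (hco.dvd_of_dvd_mul_right hWd)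
        omega
    · exfalso
      obtain ⟨g, rfl⟩ := proj_surjective y
      obtain ⟨w, hw, hw0⟩ : ∃ w ∈ W, w ≠ 0 := by
        by_contra hall
        push Not at hall
        have : W = ⊥ := eq_bot_iff.2 fun w hw => AddSubgroup.mem_bot.2 (hall w hw)
        rw [this, AddSubgroup.card_bot] at h3
        omega
      have h1 := hy _ (hmem _ (hW w hw))
      have h2 := hy _ (hmem _ hμ)
      rw [← map_inv, ← map_mul, ← map_mul, proj_mem_borelPSL] at h1 h2
      rw [Matrix.SpecialLinearGroup.coe_mul, Matrix.SpecialLinearGroup.coe_mul,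
        Matrix.SpecialLinearGroup.coe_inv] at h1 h2
      simp [up_coe, lo_coe, Matrix.adjugate_fin_two, Matrix.mul_apply, Fin.sum_univ_two] at h1 h2
      have hc0 : (g : M2) 1 0 = 0 := by
        have : (g : M2) 1 0 ^ 2 * w = 0 := by linear_combination -h1
        simpa [hw0] using this
      have hd0 : (g : M2) 1 1 = 0 := by
        have : μ * (g : M2) 1 1 ^ 2 = 0 := by linear_combination h2
        simpa [hμ0] using this
      have := det_eq g
      rw [hc0, hd0] at this
      simp at this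
    · exfalso
      obtain ⟨e⟩ := h
      rw [Nat.card_congr e.toEquiv, card_alternating_four'] at hWd
      rcases h45 with h5 | ⟨h4, h2⟩
      · exact small_absurd (N := 12) (by norm_num) hWd h5 hp hWp (by decide)
      have hex : ∀ σ : alternatingGroup (Fin 4), σ ^ 2 = 1 ∨ σ ^ 3 = 1 := by decide +kernel
      have hT : ∀ w ∈ W, μ * w = 0 ∨ μ * w = 1 := fun w hw => by
        have hwm : proj (up w * lo μ) ∈ Hb := hmem _ (mul_mem (hW w hw) hμ)
        rcases hex (e ⟨_, hwm⟩) with he | he
        · exact Or.inl (trace_of_pow_two hμ0 h2 (pow_of_equiv e he))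
        · exact Or.inr (trace_of_pow_three hμ0 h2 (pow_of_equiv e he))
      exact not_four hμ0 h4 hT
    · exfalso
      obtain ⟨e⟩ := h
      rw [Nat.card_congr e.toEquiv, card_perm_four] at hWd
      by_cases hp2 : p = 2
      · subst hp2
        obtain ⟨σ, hσ⟩ : ∃ σ : Equiv.Perm (Fin 4), orderOf σ = 4 := ⟨finRotate 4, by
          rw [orderOf_eq_iff (by norm_num)]; decide +kernel⟩
        refine orderOf_ne_four_of_even (by rw [hcardF]; exact (Nat.even_pow' f₁.ne_zero).2 even_two)
          ((e.symm σ : Hb) : PSL) ?_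
        rw [Subgroup.orderOf_coe, MulEquiv.orderOf_eq, hσ]
      · have : Nat.Coprime (Nat.card W) 8 := by
          rw [hWp, show 8 = 2 ^ 3 from rfl]
          exact Nat.Coprime.pow _ _ ((Nat.coprime_primes hp Nat.prime_two).2 hp2)
        have := Nat.le_of_dvd (by norm_num) (this.dvd_of_dvd_mul_left (show Nat.card W ∣ 8 * 3 from hWd))
        omega
    · obtain ⟨e⟩ := h
      rw [Nat.card_congr e.toEquiv, card_alternating_five'] at hWd
      rcases h45 with h5 | ⟨h4, h2⟩
      · exact (small_absurd (N := 60) (by norm_num) hWd h5 hp hWp (by decide)).elim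
      have hex : ∀ σ : alternatingGroup (Fin 5), σ ^ 2 = 1 ∨ σ ^ 3 = 1 ∨ σ ^ 5 = 1 := by decide +kernel
      have hT : ∀ w ∈ W, (μ * w) ^ 4 = μ * w := fun w hw => by
        have hwm : proj (up w * lo μ) ∈ Hb := hmem _ (mul_mem (hW w hw) hμ)
        rcases hex (e ⟨_, hwm⟩) with he | he | he
        · rw [trace_of_pow_two hμ0 h2 (pow_of_equiv e he)]; simp
        · rw [trace_of_pow_three hμ0 h2 (pow_of_equiv e he)]; simp
        · exact trace_of_pow_five hμ0 h2 (pow_of_equiv e he)
      refine Subgroup.eq_top_of_le_card _ ?_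
      have hF4 := card_four hgen h2 hT h4
      have hsl := card_SL_two' (F := F)
      have hpsl : Nat.gcd 2 (Nat.card F - 1) * Nat.card PSL = Nat.card SL(2, F) := by
        rw [card_SL_two', card_PSL]
      rw [hF4] at hsl
      rw [hF4, hsl] at hpsl
      rw [Nat.card_congr e.toEquiv, card_alternating_five']
      norm_num at hpsl
      omega
    · obtain ⟨K, fK, fT, m, -, hsh, f, D, hD⟩ := h
      have hsq : ∀ w ∈ W, (2 + μ * w) ^ 2 ∈ Set.range f := fun w hw => by
        have := trace_sq_mem_range f D hD (hmem _ (mul_mem (hW w hw) hμ))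
        rwa [up_mul_lo_trace, mul_comm w μ] at this
      have hKtop : f.fieldRange = ⊤ := hgen _ fun w hw => by
        have ha := hsq w hw
        have hb := hsq (-w) (neg_mem hw)
        have h4 : (4 : F) ∈ f.fieldRange := ⟨4, map_ofNat f 4⟩
        by_cases h2 : (2 : F) = 0
        · have hsq' : (μ * w) ^ 2 ∈ f.fieldRange := by
            rw [h2, zero_add] at ha; exact ha
          obtain ⟨x, hx⟩ := hsq'
          have : CharP F 2 := CharTwo.of_one_ne_zero_of_two_eq_zero one_ne_zero h2
          have : CharP K 2 := (f.charP_iff f.injective 2).2 this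
          obtain ⟨s, rfl⟩ : ∃ s, s ^ 2 = x := by
            obtain ⟨s, hs⟩ := (Finite.injective_iff_surjective.1 (frobenius_inj K 2)) x
            exact ⟨s, by simpa [frobenius_def] using hs⟩
          rw [map_pow] at hx
          exact ⟨s, frobenius_inj F 2 (by simpa [frobenius_def] using hx)⟩
        · have h8 : (8 : F) ≠ 0 := by
            rw [show (8 : F) = 2 * 2 * 2 by norm_num]
            exact mul_ne_zero (mul_ne_zero h2 h2) h2
          have h8m : (8 : F) ∈ f.fieldRange := ⟨8, map_ofNat f 8⟩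
          have := f.fieldRange.div_mem (f.fieldRange.sub_mem ha hb) h8m
          rwa [show ((2 + μ * w) ^ 2 - (2 + μ * -w) ^ 2) / 8 = μ * w by field_simp; ring] at this
      have hsurj : Function.Surjective f := fun y => RingHom.mem_fieldRange.1 (hKtop ▸ Subfield.mem_top y)
      have hcard : Nat.card K = Nat.card F := Nat.card_eq_of_bijective f ⟨f.injective, hsurj⟩
      exact Subgroup.eq_top_of_le_card _ (card_PSL_le_of_equiv hcard hsh)
  have hlift : ∀ g : SL(2, F), g ∈ H ∨ -g ∈ H := by
    intro g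
    have : proj g ∈ Hb := htop ▸ Subgroup.mem_top _
    obtain ⟨x, hx, e⟩ := this
    rcases eq_or_eq_neg_of_proj_eq e with rfl | rfl
    · exact Or.inl hx
    · exact Or.inr (by rwa [neg_neg])
  have hneg : ∀ g : SL(2, F), g ^ p = 1 → g ∈ H := by
    intro g hg
    rcases hlift g with h | h
    · exact h
    rcases hp.eq_two_or_odd' with rfl | hodd
    · have : CharP F 2 := hchar
      rwa [show -g = g from Subtype.ext (Matrix.ext fun i j => by
        rw [Matrix.SpecialLinearGroup.coe_neg, Matrix.neg_apply, CharTwo.neg_eq])] at h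
    · have := pow_mem h (p + 1)
      rwa [Even.neg_pow (Nat.even_add_one.2 (Nat.not_even_iff_odd.2 hodd)), pow_succ, hg, one_mul] at this
  refine CfsgLib.Classical.eq_top_of_transvection_mem H fun i j hij c => hneg _ ?_
  refine Subtype.ext ?_
  rw [Matrix.SpecialLinearGroup.coe_pow, Matrix.SpecialLinearGroup.transvection_coe]
  simp only [Matrix.SpecialLinearGroup.coe_one]
  show Matrix.transvection i j c ^ p = 1
  rw [transvection_pow' hij, CharP.cast_eq_zero F p, zero_mul, Matrix.transvection_zero]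
where
  card_alternating_four' : Nat.card (alternatingGroup (Fin 4)) = 12 := by
    rw [Nat.card_eq_fintype_card]; decide +kernel
  card_alternating_five' : Nat.card (alternatingGroup (Fin 5)) = 60 := by
    rw [Nat.card_eq_fintype_card]; decide +kernel
  transvection_pow' {i j : Fin 2} {c : F} {p : ℕ} (hij : i ≠ j) :
      Matrix.transvection i j c ^ p = Matrix.transvection i j ((p : F) * c) := by
    induction p with
    | zero => simp
    | succ p ih =>
      rw [pow_succ, ih, Matrix.transvection_mul_transvection_same _ _ hij]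
      congr 1; push_cast; ring
  small_absurd {N n p k : ℕ} (hN0 : N ≠ 0) (h : n ∣ N) (h5 : 5 < n) (hp : p.Prime) (hn : n = p ^ k)
      (hN : ∀ d ∈ Nat.divisors N, 5 < d → 2 ∣ d ∧ 3 ∣ d ∨ 2 ∣ d ∧ 5 ∣ d ∨ 3 ∣ d ∧ 5 ∣ d) : False := by
    have key : ∀ r : ℕ, r.Prime → r ∣ n → r = p := fun r hr hd =>
      (Nat.prime_dvd_prime_iff_eq hr hp).1 (hr.dvd_of_dvd_pow (hn ▸ hd))
    rcases hN n (Nat.mem_divisors.2 ⟨h, hN0⟩) h5 with ⟨a, b⟩ | ⟨a, b⟩ | ⟨a, b⟩
    · have := key 2 Nat.prime_two a; have := key 3 Nat.prime_three b; omega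
    · have := key 2 Nat.prime_two a; have := key 5 Nat.prime_five b; omega
    · have := key 3 Nat.prime_three a; have := key 5 Nat.prime_five b; omega

theorem eq_top_of_up_lo {H : Subgroup SL(2, F)} (W : AddSubgroup F) (hW : ∀ w ∈ W, up w ∈ H)
    {μ : F} (hμ0 : μ ≠ 0) (hμ : lo μ ∈ H) (h5 : 5 < Nat.card W)
    (hgen : ∀ K : Subfield F, (∀ w ∈ W, μ * w ∈ K) → K = ⊤) : H = ⊤ :=
  eq_top_of_up_lo' W hW hμ0 hμ (Or.inl h5) hgen

end CfsgLib.SL2
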