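import Mathlib
import Cfsg.Agent.Lib.SL2.Solvable
import Cfsg.Agent.S0803
import Cfsg.Agent.S0804

/-!
Maximal subgroups of `PSL(2, q)`.
-/

set_option autoImplicit false
set_option linter.unusedSectionVars false
set_option maxHeartbeats 400000

namespace CfsgLib.SL2

open Matrix
open scoped MatrixGroups Pointwise

variable {F : Type*} [Field F] [Finite F]

local notation "PSL" => ProjectiveSpecialLinearGroup (Fin 2) F

theorem isCoatom_of_card_le {G : Type*} [Group G] [Finite G] {H : Subgroup G} (hH : H ≠ ⊤)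
    (h : ∀ M : Subgroup G, H ≤ M → M ≠ ⊤ → Nat.card M ≤ Nat.card H) : IsCoatom H := by
  refine ⟨hH, fun M hM => ?_⟩
  by_contra hMT
  exact hM.ne (Subgroup.eq_of_le_of_card_ge hM.le (h M hM.le hMT))

theorem orderOf_le_of_mulEquiv {G A : Type*} [Group G] [Group A] {H : Subgroup G} (e : H ≃* A) {n : ℕ}
    (h : ∀ a : A, orderOf a ≤ n) {x : G} (hx : x ∈ H) : orderOf x ≤ n := by
  rw [← Subgroup.orderOf_mk x hx, ← e.orderOf_eq]; exact h _

theorem orderOf_alternating_four_le (x : alternatingGroup (Fin 4)) : orderOf x ≤ 3 := by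
  have hall : ∀ x : alternatingGroup (Fin 4), x ^ 2 = 1 ∨ x ^ 3 = 1 := by decide +kernel
  rcases hall x with h | h
  · exact (orderOf_le_of_pow_eq_one two_pos h).trans (by norm_num)
  · exact orderOf_le_of_pow_eq_one three_pos h

theorem orderOf_perm_four_le (x : Equiv.Perm (Fin 4)) : orderOf x ≤ 4 := by
  have hall : ∀ x : Equiv.Perm (Fin 4), x ^ 4 = 1 ∨ x ^ 3 = 1 := by decide +kernel
  rcases hall x with h | h
  · exact orderOf_le_of_pow_eq_one (by norm_num) h
  · exact (orderOf_le_of_pow_eq_one three_pos h).trans (by norm_num)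

theorem orderOf_alternating_five_le (x : alternatingGroup (Fin 5)) : orderOf x ≤ 5 := by
  have hall : ∀ x : alternatingGroup (Fin 5), x ^ 2 = 1 ∨ x ^ 3 = 1 ∨ x ^ 5 = 1 := by decide +kernel
  rcases hall x with h | h | h
  · exact (orderOf_le_of_pow_eq_one two_pos h).trans (by norm_num)
  · exact (orderOf_le_of_pow_eq_one three_pos h).trans (by norm_num)
  · exact orderOf_le_of_pow_eq_one (by norm_num) h

/-- `A₄` has no subgroup of index two. -/
theorem card_ne_six {G : Type*} [Group G] {N M : Subgroup G} (hNM : N ≤ M)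
    (e : M ≃* alternatingGroup (Fin 4)) : Nat.card N ≠ 6 := by
  intro hN
  set N' := (N.subgroupOf M).map e.toMonoidHom
  have hc : Nat.card N' = 6 := by
    rw [Subgroup.card_map_of_injective e.injective,
      Nat.card_congr (Subgroup.subgroupOfEquivOfLe hNM).toEquiv, hN]
  have hi : N'.index = 2 := by
    have := N'.card_mul_index
    rw [hc, card_alternating_four] at this
    omega
  have hall : ∀ x : alternatingGroup (Fin 4), ∃ y z, x = y ^ 2 * z ^ 2 := by decide +kernel
  have htop : N' = ⊤ := by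
    rw [Subgroup.eq_top_iff']
    intro x
    obtain ⟨y, z, rfl⟩ := hall x
    exact mul_mem (Subgroup.sq_mem_of_index_two hi y) (Subgroup.sq_mem_of_index_two hi z)
  rw [htop, Subgroup.index_top] at hi
  omega

theorem card_eq_top {M : Subgroup PSL} (hM : M ≠ ⊤) {n : ℕ} (hn : Nat.card M = n)
    (h : dd F * n = Nat.card F * ((Nat.card F - 1) * (Nat.card F + 1))) : False := by
  rw [← card_PSL] at h
  exact hM (Subgroup.eq_top_of_card_eq _ (hn.trans (Nat.eq_of_mul_eq_mul_left dd_pos h)))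

theorem not_dvd_of_even_four (hq : Nat.card F = 4) {M : Subgroup PSL} : Nat.card M ≠ 24 := by
  intro h
  have hd := M.card_subgroup_dvd_card
  have hG := card_PSL (F := F)
  rw [hq] at hG
  norm_num at hG
  rw [h, hG] at hd
  norm_num at hd

theorem card_five (hq : Nat.card F = 5) : Nat.card PSL = 60 := by
  have hG := card_PSL (F := F)
  rw [hq] at hG
  norm_num at hG
  omega

theorem card_three (hq : Nat.card F = 3) : Nat.card PSL = 12 := by
  have hG := card_PSL (F := F)
  rw [hq] at hG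
  norm_num at hG
  omega

theorem not_six_card : Nat.card F ≠ 6 := by
  intro h
  let _ := Fintype.ofFinite F
  have hpp := FiniteField.isPrimePow_card F
  rw [Fintype.card_eq_nat_card, h, isPrimePow_iff_unique_prime_dvd] at hpp
  have := hpp.unique (y₁ := 2) (y₂ := 3) ⟨Nat.prime_two, by norm_num⟩ ⟨Nat.prime_three, by norm_num⟩
  omega

/-- The dihedral group of order `2(q + 1)/d` is maximal. -/
theorem exists_coatom_succ (hq : Nat.card F ∉ ({2, 7, 9} : Finset ℕ)) :
    ∃ H : Subgroup PSL, IsCoatom H ∧ Nonempty (H ≃* DihedralGroup ((Nat.card F + 1) / dd F)) := by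
  obtain ⟨p, hchar⟩ := CharP.exists F
  have : Fact p.Prime := ⟨CharP.char_is_prime F p⟩
  obtain ⟨c, hc, hco, hcT⟩ := exists_semi_succ p (F := F)
  simp only [Finset.mem_insert, Finset.mem_singleton, not_or] at hq
  have h1 : 1 < Nat.card F := Finite.one_lt_card
  have h6 := not_six_card (F := F)
  set t := (Nat.card F + 1) / dd F
  have hdt : dd F * t = Nat.card F + 1 := Nat.mul_div_cancel' dd_dvd_succ
  have hd := dd_le (F := F)
  have hNc : Nat.card (Subgroup.normalizer (torus c : Set PSL)) = 2 * t := by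
    rw [card_normalizer_torus p hc, hcT]
  refine ⟨Subgroup.normalizer (torus c : Set PSL), isCoatom_of_card_le (fun e => ?_) (fun M hNM hM => ?_),
    hcT ▸ nonempty_normalizer_torus_dihedral p hc⟩
  · rw [e, Subgroup.card_top] at hNc
    have hG := card_PSL (F := F)
    rw [hNc, show Nat.gcd 2 (Nat.card F - 1) * (2 * t) = 2 * (dd F * t) by rw [dd]; ring, hdt, ← mul_assoc] at hG
    have := Nat.eq_of_mul_eq_mul_right (by omega) hG
    have : 3 * 2 ≤ Nat.card F * (Nat.card F - 1) := Nat.mul_le_mul (by omega) (by omega)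
    omega
  rw [hNc]
  have hdvd : 2 * t ∣ Nat.card M := hNc ▸ Subgroup.card_dvd_of_le hNM
  have hcM : c ∈ M := hNM (Subgroup.le_normalizer (mem_torus c))
  rcases dickson_maximal p M with ⟨c', -, hc', h⟩ | ⟨k, hk⟩ | ⟨⟨e⟩⟩ | ⟨⟨e⟩⟩ | ⟨⟨e⟩⟩ | h
  · have h2 := Nat.le_of_dvd Nat.card_pos (Subgroup.card_dvd_of_le h)
    rw [card_normalizer_torus p hc'] at h2
    have h3 : dd F * Nat.card (torus c') ≤ dd F * t := by
      rw [hdt]
      rcases card_torus_cases p hc' with e | e <;> rw [e]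
      · rw [Nat.mul_div_cancel' dd_dvd_pred]; omega
      · rw [Nat.mul_div_cancel' dd_dvd_succ]
    have := Nat.le_of_mul_le_mul_left h3 dd_pos
    omega
  · exfalso
    have hle : M.map (MulAut.conj k).toMonoidHom ≤ borelPSL F := by
      rintro _ ⟨h, hh, rfl⟩; exact hk h hh
    have h2 : dd F * t ∣ dd F * Nat.card (borelPSL F) :=
      Nat.mul_dvd_mul_left _ ((dvd_mul_left t 2).trans (hdvd.trans (card_map_conj M k ▸ Subgroup.card_dvd_of_le hle)))
    rw [hdt, card_borelPSL] at h2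
    obtain ⟨j, hj⟩ : ∃ j, Nat.card F = j + 2 := ⟨Nat.card F - 2, by omega⟩
    rw [hj, show j + 2 - 1 = j + 1 by omega,
      show (j + 2) * (j + 1) = (j + 2 + 1) * j + 2 by ring] at h2
    have := Nat.le_of_dvd two_pos ((Nat.dvd_add_right (dvd_mul_right _ _)).1 h2)
    omega
  · have ht : t ≤ 3 := hco ▸ orderOf_le_of_mulEquiv e orderOf_alternating_four_le hcM
    have hM12 : Nat.card M = 12 := by rw [Nat.card_congr e.toEquiv, card_alternating_four]
    have hq5 : Nat.card F ≤ 5 := by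
      have : dd F * t ≤ 2 * 3 := Nat.mul_le_mul hd ht
      omega
    rcases (show Nat.card F = 3 ∨ Nat.card F = 4 ∨ Nat.card F = 5 by omega) with hq | hq | hq
    · exact absurd (Subgroup.eq_top_of_card_eq M (hM12.trans (card_three hq).symm)) hM
    · rw [hq, dd_of_even ⟨2, hq⟩, one_mul] at hdt; omega
    · rw [hq, dd_of_odd ⟨2, hq⟩] at hdt
      exact absurd (by omega) (card_ne_six hNM e)
  · have ht : t ≤ 4 := hco ▸ orderOf_le_of_mulEquiv e orderOf_perm_four_le hcM
    have hM24 : Nat.card M = 24 := by rw [Nat.card_congr e.toEquiv, card_perm_four]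
    have hq5 : Nat.card F ≤ 7 := by
      have : dd F * t ≤ 2 * 4 := Nat.mul_le_mul hd ht
      omega
    have hdG := M.card_subgroup_dvd_card
    rcases (show Nat.card F = 3 ∨ Nat.card F = 4 ∨ Nat.card F = 5 by omega) with hq | hq | hq
    · rw [hM24, card_three hq] at hdG; norm_num at hdG
    · exact absurd hM24 (not_dvd_of_even_four hq)
    · rw [hM24, card_five hq] at hdG; norm_num at hdG
  · have ht : t ≤ 5 := hco ▸ orderOf_le_of_mulEquiv e orderOf_alternating_five_le hcM
    have hM60 : Nat.card M = 60 := by rw [Nat.card_congr e.toEquiv, card_alternating_five]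
    have hq5 : Nat.card F ≤ 9 := by
      have : dd F * t ≤ 2 * 5 := Nat.mul_le_mul hd ht
      omega
    rcases (show Nat.card F = 3 ∨ Nat.card F = 4 ∨ Nat.card F = 5 ∨ Nat.card F = 8 by omega) with hq | hq | hq | hq
    · have hdG := M.card_subgroup_dvd_card
      rw [hM60, card_three hq] at hdG; norm_num at hdG
    · exact (card_eq_top hM hM60 (by rw [hq, dd_of_even ⟨2, hq⟩])).elim
    · exact absurd (Subgroup.eq_top_of_card_eq M (hM60.trans (card_five hq).symm)) hM
    · rw [hq, dd_of_even ⟨4, hq⟩, one_mul] at hdt; omega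
  · exfalso
    obtain ⟨k, m, hm, hk, hkm, -, hord⟩ := orderOf_le_of_shape hM h
    have h2 : k ^ 2 ≤ Nat.card F := hkm ▸ Nat.pow_le_pow_right (by omega) hm
    have ht : t ≤ k + 1 := hco ▸ hord c hcM
    have h3 : dd F * t ≤ 2 * (k + 1) := Nat.mul_le_mul hd ht
    have hk2 : k = 2 := by
      by_contra hne
      have : 3 * k ≤ k ^ 2 := by rw [pow_two]; exact Nat.mul_le_mul_right _ (by omega)
      omega
    subst hk2
    rw [dd_of_even (hkm ▸ Nat.even_pow.2 ⟨even_two, by omega⟩), one_mul] at hdt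
    omega

/-- The dihedral group of order `2(q - 1)/d` is maximal. -/
theorem exists_coatom_pred (hq : Nat.card F ∉ ({2, 3, 5, 7, 9, 11} : Finset ℕ)) :
    ∃ H : Subgroup PSL, IsCoatom H ∧ Nonempty (H ≃* DihedralGroup ((Nat.card F - 1) / dd F)) := by
  obtain ⟨p, hchar⟩ := CharP.exists F
  have : Fact p.Prime := ⟨CharP.char_is_prime F p⟩
  have hcase := four_or_large hq
  simp only [Finset.mem_insert, Finset.mem_singleton, not_or] at hq
  obtain ⟨c, hc, hco, hcT⟩ := exists_semi_pred p (F := F) (by omega)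
  have h1 : 1 < Nat.card F := Finite.one_lt_card
  set t := (Nat.card F - 1) / dd F
  have hdt : dd F * t = Nat.card F - 1 := Nat.mul_div_cancel' dd_dvd_pred
  have hd := dd_le (F := F)
  have ht3 : 3 ≤ t := by
    rcases hcase with e | e | e
    · rw [e, dd_of_even ⟨2, e⟩, one_mul] at hdt; omega
    · rw [e, dd_of_even ⟨4, e⟩, one_mul] at hdt; omega
    · have : dd F * t ≤ 2 * t := Nat.mul_le_mul_right _ hd
      omega
  have hNc : Nat.card (Subgroup.normalizer (torus c : Set PSL)) = 2 * t := by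
    rw [card_normalizer_torus p hc, hcT]
  obtain ⟨eD⟩ : Nonempty (Subgroup.normalizer (torus c : Set PSL) ≃* DihedralGroup t) :=
    hcT ▸ nonempty_normalizer_torus_dihedral p hc
  refine ⟨Subgroup.normalizer (torus c : Set PSL), isCoatom_of_card_le (fun e => ?_) (fun M hNM hM => ?_),
    ⟨eD⟩⟩
  · rw [e, Subgroup.card_top] at hNc
    have hG := card_PSL (F := F)
    rw [hNc, show Nat.gcd 2 (Nat.card F - 1) * (2 * t) = (Nat.card F - 1) * 2 by
        show dd F * (2 * t) = _
        rw [mul_left_comm, hdt, mul_comm],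
      mul_comm (Nat.card F - 1) (Nat.card F + 1), ← mul_assoc, mul_comm (Nat.card F - 1) 2] at hG
    have := Nat.eq_of_mul_eq_mul_right (by omega) hG
    have : 3 * 4 ≤ Nat.card F * (Nat.card F + 1) := Nat.mul_le_mul (by omega) (by omega)
    omega
  rw [hNc]
  have hdvd : 2 * t ∣ Nat.card M := hNc ▸ Subgroup.card_dvd_of_le hNM
  have hcM : c ∈ M := hNM (Subgroup.le_normalizer (mem_torus c))
  rcases dickson_maximal p M with ⟨c', -, hc', h⟩ | ⟨k, hk⟩ | ⟨⟨e⟩⟩ | ⟨⟨e⟩⟩ | ⟨⟨e⟩⟩ | h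
  · have h2 := Nat.le_of_dvd Nat.card_pos (Subgroup.card_dvd_of_le h)
    rw [card_normalizer_torus p hc'] at h2
    have h3 : dd F * Nat.card (torus c') ≤ Nat.card F + 1 := by
      rcases card_torus_cases p hc' with e | e <;> rw [e]
      · rw [Nat.mul_div_cancel' dd_dvd_pred]; omega
      · rw [Nat.mul_div_cancel' dd_dvd_succ]
    obtain ⟨j, hj⟩ := hdvd
    rcases Nat.lt_or_ge j 2 with hj2 | hj2
    · have := Nat.card_pos (α := M)
      interval_cases j <;> omega
    have h5 : dd F * (4 * t) ≤ dd F * (2 * Nat.card (torus c')) := by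
      refine Nat.mul_le_mul_left _ (le_trans ?_ h2)
      rw [hj]
      exact le_trans (le_of_eq (by ring)) (Nat.mul_le_mul_left (2 * t) hj2)
    rw [mul_left_comm, hdt, mul_left_comm] at h5
    omega
  · exfalso
    let g : DihedralGroup t →* PSL := ((MulAut.conj k).toMonoidHom.comp
      (Subgroup.normalizer (torus c : Set PSL)).subtype).comp eD.symm.toMonoidHom
    have hg : Function.Injective g :=
      ((MulAut.conj k).injective.comp (Subgroup.subtype_injective _)).comp eD.symm.injective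
    set z : DihedralGroup t := DihedralGroup.sr 0 * DihedralGroup.r 1 *
      (DihedralGroup.sr 0)⁻¹ * (DihedralGroup.r 1)⁻¹
    have hb : ∀ y, g y ∈ borelPSL F := fun y => hk _ (hNM (eD.symm y).2)
    have hu : g z ∈ upperPSL F := by
      simp only [z, map_mul, map_inv]
      exact commutator_mem_upperPSL (hb _) (hb _)
    obtain ⟨P, hP⟩ := exists_sylow_eq_upperPSL (F := F) p
    obtain ⟨n, hn⟩ := IsPGroup.iff_orderOf.mp P.2 (⟨_, hP.symm ▸ hu⟩ : (P : Subgroup PSL))
    rw [Subgroup.orderOf_mk, orderOf_injective g hg] at hn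
    have hz : z = DihedralGroup.r (-1 + -1) := by simp [z]
    have hzd : orderOf z ∣ t := by
      rw [hz]
      refine orderOf_dvd_of_pow_eq_one ?_
      simp
    rcases n with _ | n
    · rw [pow_zero, orderOf_eq_one_iff, hz, DihedralGroup.one_def, DihedralGroup.r.injEq] at hn
      have h2 : ((2 : ℕ) : ZMod t) = 0 := by push_cast; linear_combination -hn
      rw [ZMod.natCast_eq_zero_iff] at h2
      have := Nat.le_of_dvd two_pos h2
      omega
    · exact not_dvd_card_torus p hc (hcT.symm ▸ (hn ▸ (dvd_pow_self p (Nat.succ_ne_zero n))).trans hzd)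
  · have ht : t ≤ 3 := hco ▸ orderOf_le_of_mulEquiv e orderOf_alternating_four_le hcM
    exact absurd (by omega) (card_ne_six hNM e)
  · have ht : t ≤ 4 := hco ▸ orderOf_le_of_mulEquiv e orderOf_perm_four_le hcM
    have hM24 : Nat.card M = 24 := by rw [Nat.card_congr e.toEquiv, card_perm_four]
    rcases hcase with hq' | hq' | hq'
    · exact absurd hM24 (not_dvd_of_even_four hq')
    · rw [hq', dd_of_even ⟨4, hq'⟩, one_mul] at hdt; omega
    · have : dd F * t ≤ 2 * 4 := Nat.mul_le_mul hd ht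
      omega
  · have ht : t ≤ 5 := hco ▸ orderOf_le_of_mulEquiv e orderOf_alternating_five_le hcM
    have hM60 : Nat.card M = 60 := by rw [Nat.card_congr e.toEquiv, card_alternating_five]
    rcases hcase with hq' | hq' | hq'
    · exact (card_eq_top hM hM60 (by rw [hq', dd_of_even ⟨2, hq'⟩])).elim
    · rw [hq', dd_of_even ⟨4, hq'⟩, one_mul] at hdt; omega
    · have : dd F * t ≤ 2 * 5 := Nat.mul_le_mul hd ht
      omega
  · obtain ⟨k, m, hm, hk, hkm, hcard, hord⟩ := orderOf_le_of_shape hM h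
    have h2 : k ^ 2 ≤ Nat.card F := hkm ▸ Nat.pow_le_pow_right (by omega) hm
    have ht : t ≤ k + 1 := hco ▸ hord c hcM
    have hk4 : k ≤ 3 := by
      by_contra hne
      have h3 : dd F * t ≤ 2 * (k + 1) := Nat.mul_le_mul hd ht
      have : 4 * k ≤ k ^ 2 := by rw [pow_two]; exact Nat.mul_le_mul_right _ (by omega)
      omega
    have h3 : dd F * t ≤ dd F * (k + 1) := Nat.mul_le_mul_left _ ht
    rcases (show k = 2 ∨ k = 3 by omega) with rfl | rfl
    · norm_num at hcard
      omega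
    · exfalso
      have hle : Nat.card F ≤ 9 := by
        have : dd F * (3 + 1) ≤ 2 * 4 := Nat.mul_le_mul_right _ hd
        omega
      norm_num at h2
      omega

theorem sq_mod_sixteen_of_perm_four {M : Subgroup PSL} (e : M ≃* Equiv.Perm (Fin 4)) :
    Nat.card F ^ 2 % 16 = 1 :=
  let _ := Fintype.ofFinite F
  (Cfsg.Agent.S0803.result (F := F) Fintype.card_eq_nat_card).1 ⟨M, ⟨e⟩⟩

theorem five_dvd_of_alternating_five {M : Subgroup PSL} (e : M ≃* alternatingGroup (Fin 5)) :
    5 ∣ Nat.card F * (Nat.card F ^ 2 - 1) :=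
  let _ := Fintype.ofFinite F
  (Cfsg.Agent.S0804.result (F := F) Fintype.card_eq_nat_card).1 ⟨M, ⟨e⟩⟩

theorem not_torus_nor_borel (hodd : Odd (Nat.card F)) (p : ℕ) [Fact p.Prime] [CharP F p] {M : Subgroup PSL}
    (φ : alternatingGroup (Fin 4) →* M) (hφ : Function.Injective φ) :
    (¬ ∃ c : PSL, Census.Semi p c ∧ M ≤ Subgroup.normalizer (torus c : Set PSL)) ∧
      ¬ ∃ k : PSL, ∀ h ∈ M, k * h * k⁻¹ ∈ borelPSL F :=
  ⟨fun ⟨_, hc, h⟩ => not_le_normalizer_torus p φ hφ hc h,
    fun ⟨_, h⟩ => not_conj_borel_of_odd hodd φ hφ h⟩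

theorem exists_hom_of_le {H M : Subgroup PSL} (h : H ≤ M)
    (hH : ∃ φ : alternatingGroup (Fin 4) →* H, Function.Injective φ) :
    ∃ φ : alternatingGroup (Fin 4) →* M, Function.Injective φ := by
  obtain ⟨φ, hφ⟩ := hH
  exact ⟨(Subgroup.inclusion h).comp φ, (Subgroup.inclusion_injective h).comp hφ⟩

theorem ne_top_of_card_lt {H : Subgroup PSL} (h : Nat.card H < Nat.card PSL) : H ≠ ⊤ := fun e => by
  rw [e, Subgroup.card_top] at h; exact lt_irrefl _ h

theorem card_PSL_ge {q : ℕ} (hq : q ≤ Nat.card F) :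
    q * ((q - 1) * (q + 1)) ≤ 2 * Nat.card PSL := by
  calc q * ((q - 1) * (q + 1)) ≤ Nat.card F * ((Nat.card F - 1) * (Nat.card F + 1)) :=
        Nat.mul_le_mul hq (Nat.mul_le_mul (by omega) (by omega))
    _ = dd F * Nat.card PSL := card_PSL.symm
    _ ≤ _ := Nat.mul_le_mul_right _ dd_le

theorem exists_coatom_perm_four {p : ℕ} (hp : p.Prime) (hF : Nat.card F = p) (h8 : p % 8 = 1 ∨ p % 8 = 7) :
    ∃ H : Subgroup PSL, IsCoatom H ∧ Nonempty (H ≃* Equiv.Perm (Fin 4)) := by
  obtain ⟨p', hchar⟩ := CharP.exists F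
  have : Fact p'.Prime := ⟨CharP.char_is_prime F p'⟩
  let _ := Fintype.ofFinite F
  have hp7 : 7 ≤ p := by have := hp.two_le; omega
  have hodd : Odd (Nat.card F) := by rw [hF, Nat.odd_iff]; omega
  have h16 : Nat.card F ^ 2 % 16 = 1 := by
    rw [hF, Nat.pow_mod]
    have : p % 16 = 1 ∨ p % 16 = 7 ∨ p % 16 = 9 ∨ p % 16 = 15 := by omega
    rcases this with e | e | e | e <;> rw [e]
  obtain ⟨H, ⟨e⟩⟩ := (Cfsg.Agent.S0803.result (F := F) Fintype.card_eq_nat_card).2 h16
  have hH : Nat.card H = 24 := by rw [Nat.card_congr e.toEquiv, card_perm_four]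
  have hG := card_PSL_ge (F := F) (q := 7) (by omega)
  refine ⟨H, isCoatom_of_card_le (ne_top_of_card_lt (by omega)) (fun M hHM hM => ?_), ⟨e⟩⟩
  have hdvd : 24 ∣ Nat.card M := hH ▸ Subgroup.card_dvd_of_le hHM
  obtain ⟨φ, hφ⟩ := exists_hom_of_le hHM (exists_hom_of_perm_four e)
  obtain ⟨hT, hB⟩ := not_torus_nor_borel hodd p' φ hφ
  rw [hH]
  rcases dickson_maximal p' M with ⟨c', -, hc', h⟩ | hk | ⟨⟨e'⟩⟩ | ⟨⟨e'⟩⟩ | ⟨⟨e'⟩⟩ | h
  · exact absurd ⟨c', hc', h⟩ hT
  · exact absurd hk hB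
  · rw [Nat.card_congr e'.toEquiv, card_alternating_four]; norm_num
  · rw [Nat.card_congr e'.toEquiv, card_perm_four]
  · rw [Nat.card_congr e'.toEquiv, card_alternating_five] at hdvd; norm_num at hdvd
  · obtain ⟨k, m, hm, hk, hkm, -⟩ := orderOf_le_of_shape hM h
    rw [hF] at hkm
    exact absurd (hkm ▸ hp) (Nat.Prime.not_prime_pow hm)

theorem exists_coatom_alternating_five {p : ℕ} (hp : p.Prime)
    (h : (Nat.card F = p ∧ (p % 10 = 1 ∨ p % 10 = 9)) ∨
      (Nat.card F = p ^ 2 ∧ (p % 10 = 3 ∨ p % 10 = 7))) :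
    ∃ H : Subgroup PSL, IsCoatom H ∧ Nonempty (H ≃* alternatingGroup (Fin 5)) := by
  obtain ⟨p', hchar⟩ := CharP.exists F
  have : Fact p'.Prime := ⟨CharP.char_is_prime F p'⟩
  let _ := Fintype.ofFinite F
  have hp3 : 3 ≤ p := by have := hp.two_le; omega
  have hq9 : 9 ≤ Nat.card F := by
    rcases h with ⟨e, h⟩ | ⟨e, -⟩
    · omega
    · rw [e, pow_two]; exact Nat.mul_le_mul hp3 hp3
  have hodd : Odd (Nat.card F) := by
    rcases h with ⟨e, h⟩ | ⟨e, h⟩
    · rw [e, Nat.odd_iff]; omega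
    · rw [e]; exact (Nat.odd_iff.2 (by omega)).pow
  have h5 : 5 ∣ Nat.card F * (Nat.card F ^ 2 - 1) := by
    refine dvd_mul_of_dvd_right ?_ _
    have h4 : Nat.card F ^ 2 % 5 = 1 := by
      rcases h with ⟨e, h⟩ | ⟨e, h⟩
      · rw [e, Nat.pow_mod]
        rcases (show p % 5 = 1 ∨ p % 5 = 4 by omega) with e | e <;> rw [e]
      · rw [e, ← pow_mul, Nat.pow_mod]
        rcases (show p % 5 = 3 ∨ p % 5 = 2 by omega) with e | e <;> rw [e]
    omega
  obtain ⟨H, ⟨e⟩⟩ := (Cfsg.Agent.S0804.result (F := F) Fintype.card_eq_nat_card).2 h5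
  have hH : Nat.card H = 60 := by rw [Nat.card_congr e.toEquiv, card_alternating_five]
  have hG := card_PSL_ge (F := F) hq9
  refine ⟨H, isCoatom_of_card_le (ne_top_of_card_lt (by omega)) (fun M hHM hM => ?_), ⟨e⟩⟩
  have hdvd : 60 ∣ Nat.card M := hH ▸ Subgroup.card_dvd_of_le hHM
  obtain ⟨φ, hφ⟩ := exists_hom_of_le hHM (exists_hom_of_five e)
  obtain ⟨hT, hB⟩ := not_torus_nor_borel hodd p' φ hφ
  rw [hH]
  rcases dickson_maximal p' M with ⟨c', -, hc', h⟩ | hk | ⟨⟨e'⟩⟩ | ⟨⟨e'⟩⟩ | ⟨⟨e'⟩⟩ | hs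
  · exact absurd ⟨c', hc', h⟩ hT
  · exact absurd hk hB
  · rw [Nat.card_congr e'.toEquiv, card_alternating_four]; norm_num
  · rw [Nat.card_congr e'.toEquiv, card_perm_four]; norm_num
  · rw [Nat.card_congr e'.toEquiv, card_alternating_five]
  · exfalso
    obtain ⟨k, m, hm, hk, hkm, hor⟩ := card_subfield_shape hM hs
    rcases h with ⟨e, -⟩ | ⟨e, h⟩
    · rw [e] at hkm
      exact absurd (hkm ▸ hp) (Nat.Prime.not_prime_pow hm)
    · rw [e] at hkm
      obtain ⟨b, hb2, hbk⟩ := (Nat.dvd_prime_pow hp).1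
        (show k ∣ p ^ 2 from hkm ▸ dvd_pow_self k (by omega))
      subst hbk
      rw [← pow_mul] at hkm
      have hbm := Nat.pow_right_injective hp.two_le hkm
      have hb1 : b = 1 := by
        rcases (show b = 0 ∨ b = 1 ∨ b = 2 by omega) with rfl | rfl | rfl <;> omega
      subst hb1
      rw [pow_one] at hor
      have h60 : 5 ∣ p * ((p - 1) * (p + 1)) := by
        have : 5 ∣ Nat.card M := (by norm_num : 5 ∣ 60).trans hdvd
        rcases hor with e' | e'
        · rw [← e']; exact dvd_mul_of_dvd_right this _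
        · rw [← e']; exact this
      rcases (Nat.Prime.dvd_mul Nat.prime_five).1 h60 with h' | h'
      · omega
      rcases (Nat.Prime.dvd_mul Nat.prime_five).1 h' with h' | h' <;> omega

theorem exists_coatom_alternating_four {p : ℕ} (hp : p.Prime) (hF : Nat.card F = p) (h5 : 5 ≤ p)
    (h8 : p % 8 = 3 ∨ p % 8 = 5) (h10 : p % 10 ≠ 1 ∧ p % 10 ≠ 9) :
    ∃ H : Subgroup PSL, IsCoatom H ∧ Nonempty (H ≃* alternatingGroup (Fin 4)) := by
  obtain ⟨p', hchar⟩ := CharP.exists F
  have : Fact p'.Prime := ⟨CharP.char_is_prime F p'⟩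
  have hodd : Odd (Nat.card F) := by rw [hF, Nat.odd_iff]; omega
  obtain ⟨H, ⟨e⟩⟩ := exists_alternating_four hodd
  have hH : Nat.card H = 12 := by rw [Nat.card_congr e.toEquiv, card_alternating_four]
  have hG := card_PSL_ge (F := F) (q := 5) (by omega)
  refine ⟨H, isCoatom_of_card_le (ne_top_of_card_lt (by omega)) (fun M hHM hM => ?_), ⟨e⟩⟩
  obtain ⟨φ, hφ⟩ := exists_hom_of_le hHM ⟨e.symm.toMonoidHom, e.symm.injective⟩
  obtain ⟨hT, hB⟩ := not_torus_nor_borel hodd p' φ hφ
  rw [hH]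
  rcases dickson_maximal p' M with ⟨c', -, hc', h⟩ | hk | ⟨⟨e'⟩⟩ | ⟨⟨e'⟩⟩ | ⟨⟨e'⟩⟩ | h
  · exact absurd ⟨c', hc', h⟩ hT
  · exact absurd hk hB
  · rw [Nat.card_congr e'.toEquiv, card_alternating_four]
  · exfalso
    have h16 := sq_mod_sixteen_of_perm_four e'
    rw [hF, Nat.pow_mod] at h16
    rcases (show p % 16 = 3 ∨ p % 16 = 5 ∨ p % 16 = 11 ∨ p % 16 = 13 by omega) with e | e | e | e <;>
      rw [e] at h16 <;> norm_num at h16
  · exfalso
    by_cases hp5 : p = 5
    · exact hM (Subgroup.eq_top_of_card_eq _ (by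
        rw [Nat.card_congr e'.toEquiv, card_alternating_five, card_five (hF.trans hp5)]))
    have h5' := five_dvd_of_alternating_five e'
    rw [hF, show p ^ 2 - 1 = (p - 1) * (p + 1) by rw [mul_comm, ← Nat.sq_sub_sq, one_pow]] at h5'
    rcases (Nat.Prime.dvd_mul Nat.prime_five).1 h5' with h' | h'
    · exact hp5 ((Nat.prime_dvd_prime_iff_eq Nat.prime_five hp).1 h').symm
    rcases (Nat.Prime.dvd_mul Nat.prime_five).1 h' with h' | h' <;> omega
  · obtain ⟨k, m, hm, hk, hkm, -⟩ := orderOf_le_of_shape hM h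
    rw [hF] at hkm
    exact absurd (hkm ▸ hp) (Nat.Prime.not_prime_pow hm)

/-! ### Subfield subgroups -/

theorem eq_of_sq_sub_one_dvd {p a b m r : ℕ} (hp : p.Prime) (hr : r.Prime) (hm : 2 ≤ m) (hk : 3 ≤ p ^ a)
    (hab : b * m = a * r)
    (h : p ^ a * ((p ^ a - 1) * (p ^ a + 1)) ∣ 2 * (p ^ b * ((p ^ b - 1) * (p ^ b + 1)))) : b = a := by
  have ha : 0 < a := by
    rcases Nat.eq_zero_or_pos a with rfl | ha
    · simp at hk
    · exact ha
  have hb : 0 < b := by
    rcases Nat.eq_zero_or_pos b with rfl | hb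
    · rw [zero_mul] at hab
      rcases Nat.mul_eq_zero.1 hab.symm with h | h
      · omega
      · exact absurd h hr.pos.ne'
    · exact hb
  have hsq : ∀ n : ℕ, (p ^ n - 1) * (p ^ n + 1) = p ^ (2 * n) - 1 := fun n => by
    rw [mul_comm, ← Nat.sq_sub_sq, one_pow, ← pow_mul, mul_comm]
  rw [hsq, hsq] at h
  have h1 : p ^ (2 * a) - 1 ∣ 2 * (p ^ (2 * b) - 1) := by
    have hcop : Nat.Coprime (p ^ (2 * a) - 1) (p ^ b) := by
      refine Nat.Coprime.pow_right _ (Nat.Coprime.symm ((Nat.Prime.coprime_iff_not_dvd hp).2 fun hd => ?_))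
      have h2 : p ∣ p ^ (2 * a) := dvd_pow_self p (by omega)
      have h3 := Nat.dvd_sub h2 hd
      rw [Nat.sub_sub_self (Nat.one_le_pow _ _ hp.pos)] at h3
      exact hp.not_dvd_one h3
    refine hcop.dvd_of_dvd_mul_left ?_
    rw [mul_left_comm]
    exact (dvd_mul_left _ _).trans h
  have h2 : p ^ (2 * a) - 1 ∣ 2 * (p ^ (2 * Nat.gcd a b) - 1) := by
    rw [← Nat.gcd_mul_left 2 a b, ← Nat.pow_sub_one_gcd_pow_sub_one, ← Nat.gcd_mul_left 2]
    exact Nat.dvd_gcd (dvd_mul_left _ _) h1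
  obtain ⟨g, hg⟩ : ∃ g, Nat.gcd a b = g := ⟨_, rfl⟩
  rw [hg] at h2
  have hga : g = a := by
    by_contra hne
    have hgd : g ∣ a := hg ▸ Nat.gcd_dvd_left a b
    have hgpos : 0 < g := hg ▸ Nat.gcd_pos_of_pos_left _ ha
    obtain ⟨j, hj⟩ := hgd
    have hj2 : 2 ≤ j := by
      rcases j with _ | _ | j
      · omega
      · omega
      · omega
    have h4 : p ^ (2 * g) * p ^ (2 * g) ≤ p ^ (2 * a) := by
      rw [← pow_add]
      refine Nat.pow_le_pow_right hp.pos ?_
      rw [hj]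
      nlinarith
    have h5 : 4 ≤ p ^ (2 * g) := le_trans (by norm_num)
      ((Nat.pow_le_pow_left hp.two_le (2 * g)).trans' (Nat.pow_le_pow_right two_pos (show 2 ≤ 2 * g by omega)))
    have h6 : 4 * p ^ (2 * g) ≤ p ^ (2 * g) * p ^ (2 * g) := Nat.mul_le_mul_right _ h5
    have := Nat.le_of_dvd (by omega) h2
    omega
  have hdvd : a ∣ b := hga ▸ hg ▸ Nat.gcd_dvd_right a b
  obtain ⟨c, rfl⟩ := hdvd
  have hcm : c * m = r := Nat.eq_of_mul_eq_mul_left ha (by rw [← mul_assoc, hab])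
  rcases hr.eq_one_or_self_of_dvd c ⟨m, hcm.symm⟩ with rfl | rfl
  · rw [mul_one]
  · have : m = 1 := Nat.eq_of_mul_eq_mul_left hr.pos (by rw [hcm, mul_one])
    omega

variable {K : Type*} [Field K] [Finite K]

theorem card_range_pslMap (f : K →+* F) :
    dd K * Nat.card (pslMap f).range = Nat.card K * ((Nat.card K - 1) * (Nat.card K + 1)) := by
  rw [← Nat.card_congr (MonoidHom.ofInjective (pslMap_injective f)).toEquiv]
  exact card_PSL

theorem exists_prime_pow (K : Type*) [Field K] [Finite K] :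
    ∃ p a : ℕ, p.Prime ∧ CharP K p ∧ 0 < a ∧ Nat.card K = p ^ a := by
  let _ := Fintype.ofFinite K
  obtain ⟨p, hchar⟩ := CharP.exists K
  obtain ⟨n, hp, hn⟩ := FiniteField.card K p
  exact ⟨p, n, hp, hchar, n.pos, by rw [← Fintype.card_eq_nat_card, hn]⟩

theorem exists_coatom_pgl (hK : Odd (Nat.card K)) (hF : Nat.card F = Nat.card K ^ 2) :
    ∃ H : Subgroup PSL, IsCoatom H ∧ Nonempty (H ≃* ProjGenLinGroup (Fin 2) K) := by
  obtain ⟨f⟩ := nonempty_ringHom_of_pow_card (K := K) (F := F) 2 hF.symm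
  let _ := Fintype.ofFinite F
  let _ := Fintype.ofFinite K
  obtain ⟨p, a, hp, hchar, ha, hKp⟩ := exists_prime_pow K
  have := Fact.mk hp
  have : CharP F p := charP_of_injective_ringHom f.injective p
  have hk : 3 ≤ Nat.card K := by
    have h1 : 1 < Nat.card K := Finite.one_lt_card
    obtain ⟨j, hj⟩ := hK; omega
  have hodd : Odd (Nat.card F) := hF ▸ hK.pow
  have hsq : ∀ a : K, IsSquare (f a) := fun a => by
    by_cases ha : a = 0
    · exact ⟨0, by simp [ha]⟩
    have := ringChar.charP F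
    have h2 : ringChar F ≠ 2 := fun h => two_ne_zero_of_odd_card hodd (by
      have h' := CharP.cast_eq_zero F (ringChar F)
      rw [h] at h'
      simpa using h')
    rw [FiniteField.isSquare_iff h2 (by simpa using ha)]
    obtain ⟨j, hj⟩ := hK
    have e : Fintype.card F / 2 = (Nat.card K - 1) * (j + 1) := by
      rw [Fintype.card_eq_nat_card, hF, hj, Nat.add_sub_cancel, show (2 * j + 1) ^ 2 = 2 * (2 * j * (j + 1)) + 1 by ring]
      omega
    rw [e, pow_mul, ← map_pow, ← Fintype.card_eq_nat_card, FiniteField.pow_card_sub_one_eq_one a ha,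
      map_one, one_pow]
  set H := (pglMap f hsq).range
  set k := Nat.card K with hk_def
  have hH : Nat.card H = k * ((k - 1) * (k + 1)) := by
    rw [← Nat.card_congr (MonoidHom.ofInjective (pglMap_injective f hsq)).toEquiv,
      CfsgLib.Classical.card_PGL_eq_card_SL, card_SL_two']
  have hH24 : 24 ≤ Nat.card H := by
    rw [hH]
    exact le_trans (by norm_num) (Nat.mul_le_mul hk (Nat.mul_le_mul (show 2 ≤ k - 1 by omega) (show 4 ≤ k + 1 by omega)))
  have hne : H ≠ ⊤ := by
    refine ne_top_of_card_lt ?_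
    have hG := card_PSL_ge (F := F) (q := k * k) (by rw [hF, pow_two])
    rw [hH]
    obtain ⟨j, hj⟩ : ∃ j, k = j + 3 := ⟨k - 3, by omega⟩
    rw [hj, show j + 3 - 1 = j + 2 by omega, show j + 3 + 1 = j + 4 by omega]
    rw [hj, show (j + 3) * (j + 3) - 1 = (j + 2) * (j + 4) by
      rw [Nat.sub_eq_iff_eq_add (by nlinarith)]; ring] at hG
    have : 3 * ((j + 3) * ((j + 2) * (j + 4))) ≤
        (j + 3) * (j + 3) * ((j + 2) * (j + 4) * ((j + 3) * (j + 3) + 1)) :=
      calc 3 * ((j + 3) * ((j + 2) * (j + 4))) ≤ (j + 3) * ((j + 3) * ((j + 2) * (j + 4))) :=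
            Nat.mul_le_mul_right _ (by omega)
        _ ≤ _ := by
          rw [← mul_assoc (j + 3)]
          exact Nat.mul_le_mul_left _ (Nat.le_mul_of_pos_right _ (by positivity))
    have hpos : 0 < (j + 3) * ((j + 2) * (j + 4)) := by positivity
    omega
  refine ⟨H, isCoatom_of_card_le hne (fun M hHM hM => ?_),
    ⟨(MonoidHom.ofInjective (pglMap_injective f hsq)).symm⟩⟩
  have hdvd : Nat.card H ∣ Nat.card M := Subgroup.card_dvd_of_le hHM
  have hp2 : p ≠ 2 := by
    rintro rfl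
    exact two_ne_zero_of_odd_card hodd (by simpa using CharP.cast_eq_zero F 2)
  rcases dickson_maximal p M with ⟨c', -, hc', h⟩ | ⟨w, hw⟩ | ⟨⟨e'⟩⟩ | ⟨⟨e'⟩⟩ | ⟨⟨e'⟩⟩ | h
  · exfalso
    have hpd : p ∣ 2 * Nat.card (torus c') := by
      rw [← card_normalizer_torus p hc']
      refine dvd_trans ?_ (hdvd.trans (Subgroup.card_dvd_of_le h))
      rw [hH, hKp]
      exact dvd_mul_of_dvd_left (dvd_pow_self p ha.ne') _
    rcases hp.dvd_mul.1 hpd with h2 | h2
    · exact hp2 ((Nat.prime_dvd_prime_iff_eq hp Nat.prime_two).1 h2)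
    · exact not_dvd_card_torus p hc' h2
  · exfalso
    have hle : M.map (MulAut.conj w).toMonoidHom ≤ borelPSL F := by
      rintro _ ⟨h, hh, rfl⟩; exact hw h hh
    have h2 : dd F * Nat.card H ∣ dd F * Nat.card (borelPSL F) :=
      Nat.mul_dvd_mul_left _ (hdvd.trans (card_map_conj M w ▸ Subgroup.card_dvd_of_le hle))
    rw [card_borelPSL, dd_of_odd hodd, hH, hF] at h2
    rw [show (k - 1) * (k + 1) = k ^ 2 - 1 by rw [mul_comm, ← Nat.sq_sub_sq, one_pow], pow_two,
      show 2 * (k * (k * k - 1)) = 2 * (k * (k * k - 1)) from rfl, mul_assoc k k, ← mul_assoc 2,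
      mul_comm 2 k, mul_assoc k 2] at h2
    have h3 := Nat.dvd_of_mul_dvd_mul_left (by omega) h2
    rw [mul_comm 2, mul_comm k (k * k - 1)] at h3
    have hpos : 0 < k * k - 1 := by
      have : 3 * 3 ≤ k * k := Nat.mul_le_mul hk hk
      omega
    exact Nat.not_even_iff_odd.2 hK (even_iff_two_dvd.2 (Nat.dvd_of_mul_dvd_mul_left hpos h3))
  · rw [Nat.card_congr e'.toEquiv, card_alternating_four]; omega
  · rw [Nat.card_congr e'.toEquiv, card_perm_four]; omega
  · rw [Nat.card_congr e'.toEquiv, card_alternating_five] at hdvd ⊢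
    rcases Nat.lt_or_ge k 4 with h4 | h4
    · rw [hH, show k = 3 by omega] at hdvd; norm_num at hdvd
    · rw [hH]
      exact le_trans (by norm_num) (Nat.mul_le_mul h4 (Nat.mul_le_mul (show 3 ≤ k - 1 by omega) (show 5 ≤ k + 1 by omega)))
  · obtain ⟨k', m, hm, hk', hkm, hcard, -⟩ := orderOf_le_of_shape hM h
    have hle : k' ≤ k := by
      by_contra hlt
      have h2 : k' ^ 2 ≤ k ^ 2 := by rw [← hF, ← hkm]; exact Nat.pow_le_pow_right (by omega) hm
      have := Nat.pow_lt_pow_left (show k < k' by omega) (show 2 ≠ 0 by norm_num)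
      omega
    rw [hH]
    exact hcard.trans (Nat.mul_le_mul hle (Nat.mul_le_mul (by omega) (by omega)))

theorem exists_coatom_psl_odd {r : ℕ} (hr : r.Prime) (hr2 : r ≠ 2) (hK : Odd (Nat.card K))
    (hF : Nat.card F = Nat.card K ^ r) :
    ∃ H : Subgroup PSL, IsCoatom H ∧ Nonempty (H ≃* ProjectiveSpecialLinearGroup (Fin 2) K) := by
  obtain ⟨f⟩ := nonempty_ringHom_of_pow_card (K := K) (F := F) r hF.symm
  obtain ⟨p, a, hp, hchar, ha, hKp⟩ := exists_prime_pow K
  have := Fact.mk hp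
  have : CharP F p := charP_of_injective_ringHom f.injective p
  have hro : Odd r := hr.odd_of_ne_two hr2
  set k := Nat.card K with hk_def
  have hk : 3 ≤ k := by
    have h1 : 1 < Nat.card K := Finite.one_lt_card
    obtain ⟨j, hj⟩ := hK; omega
  have hodd : Odd (Nat.card F) := hF ▸ hK.pow
  set H := (pslMap f).range
  have hH : 2 * Nat.card H = k * ((k - 1) * (k + 1)) := by
    have := card_range_pslMap f
    rwa [dd_of_odd hK] at this
  have hH12 : 12 ≤ Nat.card H := by
    have : 3 * (2 * 4) ≤ k * ((k - 1) * (k + 1)) := Nat.mul_le_mul hk (Nat.mul_le_mul (by omega) (by omega))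
    omega
  have hlt : k < Nat.card F := by
    rw [hF]
    calc k = k ^ 1 := (pow_one k).symm
      _ < k ^ r := Nat.pow_lt_pow_right (by omega) hr.one_lt
  have hne : H ≠ ⊤ := by
    refine ne_top_of_card_lt ?_
    have hG := card_PSL (F := F)
    rw [show Nat.gcd 2 (Nat.card F - 1) = 2 from dd_of_odd hodd] at hG
    have : k * ((k - 1) * (k + 1)) < Nat.card F * ((Nat.card F - 1) * (Nat.card F + 1)) :=
      Nat.mul_lt_mul_of_lt_of_le hlt (Nat.mul_le_mul (by omega) (by omega))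
        (Nat.mul_pos (by omega) (by omega))
    omega
  refine ⟨H, isCoatom_of_card_le hne (fun M hHM hM => ?_),
    ⟨(MonoidHom.ofInjective (pslMap_injective f)).symm⟩⟩
  have hdvd : Nat.card H ∣ Nat.card M := Subgroup.card_dvd_of_le hHM
  have hpk : p ∣ k := hKp ▸ dvd_pow_self p ha.ne'
  have hp2 : p ≠ 2 := fun e => Nat.not_even_iff_odd.2 hK (even_iff_two_dvd.2 (e ▸ hpk))
  have hpH : p ∣ Nat.card H :=
    ((Nat.coprime_primes hp Nat.prime_two).2 hp2).dvd_of_dvd_mul_left (hH ▸ dvd_mul_of_dvd_left hpk _)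
  rcases dickson_maximal p M with ⟨c', -, hc', h⟩ | ⟨w, hw⟩ | ⟨⟨e'⟩⟩ | ⟨⟨e'⟩⟩ | ⟨⟨e'⟩⟩ | h
  · exfalso
    have hpd : p ∣ 2 * Nat.card (torus c') := by
      rw [← card_normalizer_torus p hc']
      exact hpH.trans (hdvd.trans (Subgroup.card_dvd_of_le h))
    rcases hp.dvd_mul.1 hpd with h2 | h2
    · exact hp2 ((Nat.prime_dvd_prime_iff_eq hp Nat.prime_two).1 h2)
    · exact not_dvd_card_torus p hc' h2
  · exfalso
    have hle : M.map (MulAut.conj w).toMonoidHom ≤ borelPSL F := by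
      rintro _ ⟨h, hh, rfl⟩; exact hw h hh
    have h2 : dd F * Nat.card H ∣ dd F * Nat.card (borelPSL F) :=
      Nat.mul_dvd_mul_left _ (hdvd.trans (card_map_conj M w ▸ Subgroup.card_dvd_of_le hle))
    rw [card_borelPSL, dd_of_odd hodd, hH, hF] at h2
    have h3 : k + 1 ∣ k ^ r * (k ^ r - 1) := ((dvd_mul_left _ _).trans (dvd_mul_left _ _)).trans h2
    have hcop : Nat.Coprime (k + 1) (k ^ r) := Nat.Coprime.pow_right _ (by simp)
    have h4 := hcop.dvd_of_dvd_mul_left h3
    have h5 : k + 1 ∣ k ^ r + 1 := by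
      simpa using hro.nat_add_dvd_pow_add_pow k 1
    have h6 := Nat.dvd_sub h5 h4
    rw [show k ^ r + 1 - (k ^ r - 1) = 2 by have := Nat.one_le_pow r k (by omega); omega] at h6
    have := Nat.le_of_dvd two_pos h6
    omega
  · rw [Nat.card_congr e'.toEquiv, card_alternating_four]; omega
  · rcases Nat.lt_or_ge k 5 with h5 | h5
    · exfalso
      have hk3 : k = 3 := by obtain ⟨j, hj⟩ := hK; omega
      have h16 := sq_mod_sixteen_of_perm_four e'
      obtain ⟨i, hi⟩ := hro
      rw [hF, hk3, ← pow_mul, hi, show (2 * i + 1) * 2 = 4 * i + 2 by ring, pow_add, pow_mul,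
        Nat.mul_mod, Nat.pow_mod] at h16
      norm_num at h16
    · rw [Nat.card_congr e'.toEquiv, card_perm_four]
      have : 5 * (4 * 6) ≤ k * ((k - 1) * (k + 1)) := Nat.mul_le_mul h5 (Nat.mul_le_mul (by omega) (by omega))
      omega
  · rcases Nat.lt_or_ge k 5 with h5 | h5
    · exfalso
      have hk3 : k = 3 := by obtain ⟨j, hj⟩ := hK; omega
      have h5' := five_dvd_of_alternating_five e'
      obtain ⟨i, hi⟩ := hro
      rw [hF, hk3] at h5'
      rcases (Nat.Prime.dvd_mul Nat.prime_five).1 h5' with h' | h'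
      · exact absurd (Nat.prime_five.dvd_of_dvd_pow h') (by norm_num)
      rw [← pow_mul, hi, show (2 * i + 1) * 2 = 4 * i + 2 by ring, pow_add, pow_mul] at h'
      have h1 : (3 ^ 4) ^ i % 5 = 1 := by rw [Nat.pow_mod]; norm_num
      norm_num at h' h1
      omega
    · rw [Nat.card_congr e'.toEquiv, card_alternating_five]
      have : 5 * (4 * 6) ≤ k * ((k - 1) * (k + 1)) := Nat.mul_le_mul h5 (Nat.mul_le_mul (by omega) (by omega))
      omega
  · obtain ⟨k', m, hm, hk', hkm, hor⟩ := card_subfield_shape hM h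
    obtain ⟨b, -, rfl⟩ := (Nat.dvd_prime_pow hp).1 (show k' ∣ p ^ (a * r) by
      rw [pow_mul, ← hKp, ← hF, ← hkm]; exact dvd_pow_self k' (by omega))
    have hbm : b * m = a * r := Nat.pow_right_injective hp.two_le (by
      simp only [pow_mul, ← hKp, ← hF, hkm])
    have hM2 : Nat.card M ∣ p ^ b * ((p ^ b - 1) * (p ^ b + 1)) := by
      rcases hor with e | e
      · exact e ▸ dvd_mul_left _ _
      · exact e ▸ dvd_rfl
    have hb := eq_of_sq_sub_one_dvd hp hr hm (by rw [← hKp]; exact hk) hbm (by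
      rw [← hKp, ← hH]
      exact Nat.mul_dvd_mul_left 2 (hdvd.trans hM2))
    subst hb
    rw [← hKp] at hor hkm
    rcases hor with e | e
    · rw [show Nat.gcd 2 (k - 1) = 2 from dd_of_odd hK, ← hH] at e
      omega
    · exfalso
      have hrm : m = r := Nat.eq_of_mul_eq_mul_left ha hbm
      subst hrm
      refine Nat.not_even_iff_odd.2 hro (even_of_pgl_card_dvd (by omega) hK hkm ?_)
      have hG := card_PSL (F := F)
      rw [show Nat.gcd 2 (Nat.card F - 1) = 2 from dd_of_odd hodd] at hG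
      rw [← hG, ← e, mul_comm 2]
      exact Nat.mul_dvd_mul_right M.card_subgroup_dvd_card 2

theorem exists_coatom_psl_even {r : ℕ} (hr : r.Prime) (hK : Even (Nat.card K)) (hk2 : Nat.card K ≠ 2)
    (hF : Nat.card F = Nat.card K ^ r) :
    ∃ H : Subgroup PSL, IsCoatom H ∧ Nonempty (H ≃* ProjectiveSpecialLinearGroup (Fin 2) K) := by
  obtain ⟨f⟩ := nonempty_ringHom_of_pow_card (K := K) (F := F) r hF.symm
  obtain ⟨p, a, hp, hchar, ha, hKp⟩ := exists_prime_pow K
  have := Fact.mk hp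
  have : CharP F p := charP_of_injective_ringHom f.injective p
  set k := Nat.card K with hk_def
  have hk : 4 ≤ k := by
    have h1 : 1 < Nat.card K := Finite.one_lt_card
    obtain ⟨j, hj⟩ := hK; omega
  have heven : Even (Nat.card F) := hF ▸ (Nat.even_pow.2 ⟨hK, hr.pos.ne'⟩)
  set H := (pslMap f).range
  have hH : Nat.card H = k * ((k - 1) * (k + 1)) := by
    have := card_range_pslMap f
    rwa [dd_of_even hK, one_mul] at this
  have hH60 : 60 ≤ Nat.card H := by
    rw [hH]; exact Nat.mul_le_mul hk (Nat.mul_le_mul (show 3 ≤ k - 1 by omega) (show 5 ≤ k + 1 by omega))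
  have hne : H ≠ ⊤ := by
    refine ne_top_of_card_lt ?_
    have hG := card_PSL (F := F)
    rw [show Nat.gcd 2 (Nat.card F - 1) = 1 from dd_of_even heven, one_mul] at hG
    have hlt : k < Nat.card F := by
      rw [hF]
      calc k = k ^ 1 := (pow_one k).symm
        _ < k ^ r := Nat.pow_lt_pow_right (by omega) hr.one_lt
    rw [hH, hG]
    exact Nat.mul_lt_mul_of_lt_of_le hlt (Nat.mul_le_mul (by omega) (by omega))
      (Nat.mul_pos (by omega) (by omega))
  obtain ⟨-, hns⟩ := four_le_card_of_isSimple (K := K) hk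
  refine ⟨H, isCoatom_of_card_le hne (fun M hHM hM => ?_),
    ⟨(MonoidHom.ofInjective (pslMap_injective f)).symm⟩⟩
  have hdvd : Nat.card H ∣ Nat.card M := Subgroup.card_dvd_of_le hHM
  have hsolv : ¬ Group.IsSolvable M := fun h => hns
    (Group.isSolvable_of_isSolvable_injective
      (f := (Subgroup.inclusion hHM).comp (MonoidHom.ofInjective (pslMap_injective f)).toMonoidHom)
      ((Subgroup.inclusion_injective hHM).comp (MulEquiv.injective _)))
  rcases dickson_maximal p M with ⟨c', -, hc', h⟩ | ⟨w, hw⟩ | ⟨⟨e'⟩⟩ | ⟨⟨e'⟩⟩ | ⟨⟨e'⟩⟩ | h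
  · exact absurd (isSolvable_le_normalizer_torus p hc' h) hsolv
  · exact absurd (isSolvable_conj_borel hw) hsolv
  · rw [Nat.card_congr e'.toEquiv, card_alternating_four]; omega
  · rw [Nat.card_congr e'.toEquiv, card_perm_four]; omega
  · rw [Nat.card_congr e'.toEquiv, card_alternating_five]; omega
  · obtain ⟨k', m, hm, hk', hkm, hor⟩ := card_subfield_shape hM h
    obtain ⟨b, -, rfl⟩ := (Nat.dvd_prime_pow hp).1 (show k' ∣ p ^ (a * r) by
      rw [pow_mul, ← hKp, ← hF, ← hkm]; exact dvd_pow_self k' (by omega))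
    have hbm : b * m = a * r := Nat.pow_right_injective hp.two_le (by
      simp only [pow_mul, ← hKp, ← hF, hkm])
    have hM2 : Nat.card M ∣ p ^ b * ((p ^ b - 1) * (p ^ b + 1)) := by
      rcases hor with e | e
      · exact e ▸ dvd_mul_left _ _
      · exact e ▸ dvd_rfl
    have hb := eq_of_sq_sub_one_dvd hp hr hm (by rw [← hKp]; omega) hbm (by
      rw [← hKp, ← hH]
      exact dvd_mul_of_dvd_right (hdvd.trans hM2) 2)
    subst hb
    rw [hH, hKp]
    exact Nat.le_of_dvd (Nat.mul_pos (by omega) (Nat.mul_pos (by rw [← hKp]; omega) (by omega))) hM2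

end CfsgLib.SL2
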