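import Mathlib
import Cfsg.Agent.Lib.SL2.Solvable
import Cfsg.Agent.Lib.SL2.Maximal

/-!
Pairs generating solvable subgroups of `PSL(2, 2^r)` and `PSL(2, 3^r)`, `r` prime.
-/

set_option autoImplicit false
set_option linter.unusedSectionVars false
set_option maxHeartbeats 800000

namespace CfsgLib.SL2.Solubilizer

open Matrix
open scoped MatrixGroups Pointwise

/-! ### Generalities -/

section Gen

variable {G : Type*} [Group G]

/-- The solubilizer. -/
def solv (x : G) : Set G := {y | Group.IsSolvable ↥(Subgroup.closure ({x, y} : Set G))}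

theorem isSolvable_closure_of_normalizes [Finite G] {N : Subgroup G} (hN : Group.IsSolvable N) {x : G}
    (hx : x ∈ Subgroup.normalizer (N : Set G)) : Group.IsSolvable ↥(N ⊔ Subgroup.zpowers x) := by
  set H := N ⊔ Subgroup.zpowers x with hH
  have hle : H ≤ Subgroup.normalizer (N : Set G) := sup_le Subgroup.le_normalizer (Subgroup.zpowers_le.2 hx)
  have hNH : N ≤ H := le_sup_left
  haveI hn : (N.subgroupOf H).Normal := Subgroup.normal_subgroupOf_of_le_normalizer hle
  haveI : Group.IsSolvable (N.subgroupOf H) := Group.isSolvable_of_isSolvable_injective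
    (f := (Subgroup.subgroupOfEquivOfLe hNH).toMonoidHom) (Subgroup.subgroupOfEquivOfLe hNH).injective
  let gx : H := ⟨x, Subgroup.mem_sup_right (Subgroup.mem_zpowers x)⟩
  have hgen : ∀ q : H ⧸ N.subgroupOf H, ∃ i : ℤ, (QuotientGroup.mk gx : H ⧸ N.subgroupOf H) ^ i = q := by
    intro q
    obtain ⟨⟨h, hh⟩, rfl⟩ := QuotientGroup.mk_surjective q
    have hset : (h : G) ∈ (N : Set G) * (Subgroup.zpowers x : Set G) := by
      rw [← Subgroup.coe_mul_of_right_le_normalizer_left N _ (Subgroup.zpowers_le.2 hx)]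
      exact hh
    obtain ⟨n, hn', y, ⟨i, rfl⟩, hy⟩ := hset
    refine ⟨i, ?_⟩
    change n * x ^ i = h at hy
    rw [← QuotientGroup.mk_zpow, QuotientGroup.eq, Subgroup.mem_subgroupOf]
    push_cast
    have hm : x ^ i ∈ Subgroup.normalizer (N : Set G) := zpow_mem hx i
    have := (Subgroup.mem_normalizer_iff.1 (inv_mem hm) n).1 hn'
    rw [inv_inv] at this
    rw [← hy, ← mul_assoc]
    exact this
  haveI : Group.IsSolvable (H ⧸ N.subgroupOf H) := Group.isSolvable_of_comm fun a b => by
    obtain ⟨i, rfl⟩ := hgen a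
    obtain ⟨j, rfl⟩ := hgen b
    exact ((Commute.refl _).zpow_zpow i j).eq
  exact Group.isSolvable_of_ker_le_range (N.subgroupOf H).subtype (QuotientGroup.mk' (N.subgroupOf H))
    (by rw [QuotientGroup.ker_mk', Subgroup.range_subtype])

theorem isSolvable_of_le {H K : Subgroup G} (h : H ≤ K) (hK : Group.IsSolvable K) : Group.IsSolvable H :=
  Group.isSolvable_of_isSolvable_injective (f := Subgroup.inclusion h) (Subgroup.inclusion_injective h)

theorem mem_solv_of_le {x y : G} {K : Subgroup G} (hK : Group.IsSolvable K) (hx : x ∈ K) (hy : y ∈ K) :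
    y ∈ solv x :=
  isSolvable_of_le ((Subgroup.closure_le _).2 (Set.insert_subset hx (Set.singleton_subset_iff.2 hy))) hK

theorem mem_solv_comm {x y : G} (h : y ∈ solv x) : x ∈ solv y := by
  show Group.IsSolvable _
  rw [Set.pair_comm]; exact h

theorem mem_solv_of_normalizes [Finite G] {x y : G} (h : y * x * y⁻¹ ∈ Subgroup.zpowers x) : y ∈ solv x := by
  have hs : Group.IsSolvable (Subgroup.zpowers x) :=
    Group.isSolvable_of_comm fun a b => IsCyclic.commutative.is_comm.comm a b
  refine mem_solv_of_le (isSolvable_closure_of_normalizes hs (x := y) ?_)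
    (Subgroup.mem_sup_left (Subgroup.mem_zpowers x)) (Subgroup.mem_sup_right (Subgroup.mem_zpowers y))
  rw [← inv_mem_iff]
  refine inv_mem (Subgroup.mem_normalizer_iff_map_conj_eq.2 ?_)
  refine Subgroup.eq_of_le_of_card_ge ?_ (Subgroup.card_map_of_injective (MulAut.conj y).injective).ge
  rw [MonoidHom.map_zpowers]
  exact Subgroup.zpowers_le.2 h

theorem mem_solv_inv {x y : G} : y ∈ solv x⁻¹ ↔ y ∈ solv x := by
  have hle : ∀ a : G, Subgroup.closure ({a⁻¹, y} : Set G) ≤ Subgroup.closure {a, y} := fun a =>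
    (Subgroup.closure_le _).2 (Set.insert_subset (inv_mem (Subgroup.subset_closure (Set.mem_insert _ _)))
      (Set.singleton_subset_iff.2 (Subgroup.subset_closure (Set.mem_insert_of_mem _ rfl))))
  have e : Subgroup.closure ({x⁻¹, y} : Set G) = Subgroup.closure {x, y} :=
    le_antisymm (hle x) (by simpa using hle x⁻¹)
  show Group.IsSolvable _ ↔ Group.IsSolvable _
  rw [e]

theorem mem_solv_mul {x y : G} : x * y ∈ solv x ↔ y ∈ solv x := by
  have e : Subgroup.closure ({x, x * y} : Set G) = Subgroup.closure {x, y} := by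
    have hx1 : x ∈ Subgroup.closure ({x, x * y} : Set G) := Subgroup.subset_closure (Set.mem_insert _ _)
    have hy1 : x * y ∈ Subgroup.closure ({x, x * y} : Set G) := Subgroup.subset_closure (Set.mem_insert_of_mem _ rfl)
    have hx2 : x ∈ Subgroup.closure ({x, y} : Set G) := Subgroup.subset_closure (Set.mem_insert _ _)
    have hy2 : y ∈ Subgroup.closure ({x, y} : Set G) := Subgroup.subset_closure (Set.mem_insert_of_mem _ rfl)
    refine le_antisymm ((Subgroup.closure_le _).2 (Set.insert_subset hx2 (Set.singleton_subset_iff.2 (mul_mem hx2 hy2))))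
      ((Subgroup.closure_le _).2 (Set.insert_subset hx1 (Set.singleton_subset_iff.2 ?_)))
    simpa using mul_mem (inv_mem hx1) hy1
  show Group.IsSolvable _ ↔ Group.IsSolvable _
  rw [e]

theorem mem_solv_conj {x y : G} (k : G) : k * y * k⁻¹ ∈ solv (k * x * k⁻¹) ↔ y ∈ solv x := by
  let e := (Subgroup.closure ({x, y} : Set G)).equivMapOfInjective (MulAut.conj k).toMonoidHom (MulAut.conj k).injective
  have h : (Subgroup.closure ({x, y} : Set G)).map (MulAut.conj k).toMonoidHom =
      Subgroup.closure {k * x * k⁻¹, k * y * k⁻¹} := by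
    rw [MonoidHom.map_closure, Set.image_pair]; rfl
  show Group.IsSolvable _ ↔ Group.IsSolvable _
  rw [← h]
  exact ⟨fun hs => @Group.isSolvable_of_surjective _ _ _ _ e.symm.toMonoidHom e.symm.surjective hs,
    fun hs => @Group.isSolvable_of_surjective _ _ _ _ e.toMonoidHom e.surjective hs⟩

theorem card_solv_conj (x k : G) : Nat.card (solv (k * x * k⁻¹)) = Nat.card (solv x) :=
  (Nat.card_congr ((MulAut.conj k).toEquiv.subtypeEquiv fun _ => (mem_solv_conj k).symm)).symm

theorem card_solv_inv (x : G) : Nat.card (solv x⁻¹) = Nat.card (solv x) :=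
  Nat.card_congr (Equiv.subtypeEquivRight fun _ => mem_solv_inv)

/-- Two involutions generate a solvable subgroup. -/
theorem mem_solv_of_sq [Finite G] {x y : G} (hx : x * x = 1) (hy : y * y = 1) : y ∈ solv x := by
  rw [← mem_solv_mul]
  refine mem_solv_comm (mem_solv_of_normalizes ?_)
  have h1 : x⁻¹ = x := inv_eq_of_mul_eq_one_right hx
  have h2 : y⁻¹ = y := inv_eq_of_mul_eq_one_right hy
  rw [show x * (x * y) * x⁻¹ = (x * y)⁻¹ by rw [_root_.mul_inv_rev, h1, h2, ← mul_assoc x x y, hx, one_mul]]
  exact inv_mem (Subgroup.mem_zpowers _)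

/-- The relations of the alternating group of degree four give a solvable subgroup. -/
theorem mem_solv_of_cube [Finite G] {x y : G} (hx : x * x = 1) (hy : y * y * y = 1)
    (hxy : x * y * (x * y) * (x * y) = 1) : y ∈ solv x := by
  set a := y * x * y⁻¹ with ha
  set b := y * a * y⁻¹ with hb
  have hxab : x * a * b = 1 := by
    have : x * a * b * (y * y * y) = x * y * (x * y) * (x * y) := by rw [hb, ha]; group
    rwa [hxy, hy, mul_one] at this
  have haa : a * a = 1 := by rw [ha, conj_mul, hx, mul_one, mul_inv_cancel]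
  have hbb : b * b = 1 := by rw [hb, conj_mul, haa, mul_one, mul_inv_cancel]
  have hb' : b = x * a :=
    (inv_eq_of_mul_eq_one_right hbb).symm.trans (inv_eq_of_mul_eq_one_left hxab)
  have hcomm : x * a = a * x := by
    have h1 : x * a * (x * a) = 1 := hb' ▸ hbb
    calc x * a = (x * a)⁻¹ := (inv_eq_of_mul_eq_one_right h1).symm
      _ = a * x := by rw [_root_.mul_inv_rev, inv_eq_of_mul_eq_one_right haa, inv_eq_of_mul_eq_one_right hx]
  set N := Subgroup.closure ({x, a} : Set G)
  haveI hN : IsMulCommutative N := Subgroup.isMulCommutative_closure (by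
    rintro u (rfl | rfl) v (rfl | rfl) <;> first | rfl | exact hcomm | exact hcomm.symm)
  have hy' : y ∈ Subgroup.normalizer (N : Set G) := by
    refine Subgroup.mem_normalizer_iff_map_conj_eq.2 ?_
    refine Subgroup.eq_of_le_of_card_ge ?_ (Subgroup.card_map_of_injective (MulAut.conj y).injective).ge
    rw [MonoidHom.map_closure, Set.image_pair]
    refine (Subgroup.closure_le _).2 (Set.insert_subset (Subgroup.subset_closure (Or.inr rfl))
      (Set.singleton_subset_iff.2 ?_))
    show y * a * y⁻¹ ∈ N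
    rw [← hb, hb']
    exact mul_mem (Subgroup.subset_closure (Or.inl rfl)) (Subgroup.subset_closure (Or.inr rfl))
  refine mem_solv_of_le (isSolvable_closure_of_normalizes
    (Group.isSolvable_of_comm fun u v => hN.is_comm.comm u v) hy')
    (Subgroup.mem_sup_left (Subgroup.subset_closure (Or.inl rfl))) (Subgroup.mem_sup_right (Subgroup.mem_zpowers y))

end Gen

/-! ### The group -/

section ProjGroup

variable {F : Type*} [Field F] [Finite F] (p : ℕ) [hp : Fact p.Prime] [CharP F p]

local notation "PSL" => ProjectiveSpecialLinearGroup (Fin 2) F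

/-- Fields of order `2^r` or `3^r` (`r` an odd prime in the second case). -/
structure Small (p r : ℕ) (F : Type*) : Prop where
  card : Nat.card F = p ^ r
  prime : r.Prime
  char : p = 2 ∨ p = 3 ∧ Odd r

variable {p}

theorem Small.four_le {r : ℕ} (h : Small p r F) : 4 ≤ Nat.card F := by
  have := h.prime.two_le
  rw [h.card]
  rcases h.char with rfl | ⟨rfl, -⟩
  · exact le_trans (by norm_num) (Nat.pow_le_pow_right two_pos this)
  · exact le_trans (by norm_num) (Nat.pow_le_pow_right (by norm_num : 0 < 3) this)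

theorem mod_eight_of_three {r : ℕ} (hr : Odd r) : 3 ^ r % 8 = 3 := by
  obtain ⟨k, rfl⟩ := hr
  rw [pow_succ, pow_mul, Nat.mul_mod, Nat.pow_mod]
  norm_num

/-- Element orders in `PSL(2, 3^r)`. -/
theorem orderOf_cases_three {r : ℕ} (h : Small p r F) (hp3 : p = 3) (c : PSL) :
    c = 1 ∨ orderOf c = 3 ∨ (¬ 3 ∣ orderOf c ∧ ¬ 4 ∣ orderOf c) := by
  by_cases hc : c = 1
  · exact Or.inl hc
  rcases semi_or_orderOf p c hc with ho | hs
  · exact Or.inr (Or.inl (hp3 ▸ ho))
  refine Or.inr (Or.inr ⟨hp3 ▸ hs.2, fun h4 => ?_⟩)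
  have hodd : Odd r := h.char.elim (fun e => absurd (hp3.symm.trans e) (by norm_num)) And.right
  have hm := mod_eight_of_three hodd
  rw [← hp3, ← h.card] at hm
  have hg : Nat.gcd 2 (Nat.card F - 1) = 2 := Nat.gcd_eq_left (by omega)
  rcases orderOf_dvd_torus_orders p c hs.2 with hd | hd <;>
    · have := h4.trans hd
      rw [hg] at this
      omega

theorem orderOf_le_three {r : ℕ} (h : Small p r F) {H : Subgroup PSL} (hH : Nat.card H ∣ 24)
    (h2 : p = 2 → ¬ 4 ∣ Nat.card H) {c : PSL} (hc : c ∈ H) : orderOf c ≤ 3 := by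
  have hd := (Subgroup.orderOf_dvd_natCard H hc).trans hH
  rcases h.char with hp2 | ⟨hp3, -⟩
  · by_cases hc1 : c = 1
    · rw [hc1, orderOf_one]; omega
    rcases semi_or_orderOf p c hc1 with ho | hs
    · omega
    · have := hs.2
      rw [hp2] at this
      have hle : orderOf c ≤ 24 := Nat.le_of_dvd (by norm_num) hd
      interval_cases orderOf c <;> omega
  · rcases orderOf_cases_three h hp3 c with rfl | ho | ⟨h3, h4⟩
    · rw [orderOf_one]; omega
    · omega
    · have hle : orderOf c ≤ 24 := Nat.le_of_dvd (by norm_num) hd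
      interval_cases orderOf c <;> omega

theorem borel_of_alternating_four (hp2 : p = 2) {H : Subgroup PSL} (e : H ≃* alternatingGroup (Fin 4)) :
    ∃ k : PSL, ∀ h ∈ H, k * h * k⁻¹ ∈ borelPSL F := by
  subst hp2
  obtain ⟨u, hu, huu, hcomm⟩ : ∃ u : alternatingGroup (Fin 4), u ≠ 1 ∧ u * u = 1 ∧
      ∀ v, u * (v * u * v⁻¹) = v * u * v⁻¹ * u := by decide +kernel
  set w : PSL := ((e.symm u : H) : PSL)
  have hw1 : w ≠ 1 := fun h => hu (e.symm.injective (by rw [map_one]; exact Subtype.ext h))
  have hww : w ^ 2 = 1 := by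
    rw [pow_two]; exact congrArg Subtype.val ((map_mul e.symm u u).symm.trans (by rw [huu, map_one]))
  obtain ⟨k, hk⟩ := exists_conj_mem_upperPSL (F := F) 2 (IsPGroup.of_card (n := 1)
    (by rw [Nat.card_zpowers, orderOf_eq_prime hww hw1, pow_one]) : IsPGroup 2 (Subgroup.zpowers w))
  refine ⟨k, fun h hh => ?_⟩
  have hku := hk w (Subgroup.mem_zpowers w)
  have hk1 : k * w * k⁻¹ ≠ 1 := fun e' => hw1 (conj_eq_one_iff.1 e')
  have hc : w * (h * w * h⁻¹) = h * w * h⁻¹ * w := by
    have := congrArg (fun g : alternatingGroup (Fin 4) => ((e.symm g : H) : PSL)) (hcomm (e ⟨h, hh⟩))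
    simpa [w] using this
  set w' := k * (h * w * h⁻¹) * k⁻¹ with hw'
  have hmem : w' ∈ upperPSL F := by
    refine mem_upperPSL_of_pow 2 (mem_borelPSL_of_conj hku hk1 ?_) ?_
    · convert hku using 1
      calc w' * (k * w * k⁻¹) * w'⁻¹ = k * ((h * w * h⁻¹) * w * (h * w * h⁻¹)⁻¹) * k⁻¹ := by rw [hw']; group
        _ = _ := by rw [← hc, mul_inv_cancel_right]
    · rw [hw', conj_pow, conj_pow, hww]; group
  refine mem_borelPSL_of_conj hku hk1 ?_
  convert hmem using 1
  rw [hw']; group

/-- Solvable subgroups. -/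
theorem solvable_cases {r : ℕ} (h : Small p r F) (H : Subgroup PSL) (hs : Group.IsSolvable H) :
    (∃ c : PSL, Census.Semi p c ∧ H ≤ Subgroup.normalizer (torus c : Set PSL)) ∨
    (∃ k : PSL, ∀ y ∈ H, k * y * k⁻¹ ∈ borelPSL F) ∨
    ((∀ y ∈ H, orderOf y ≤ 3) ∧ (p = 2 → Nat.card H = 6)) := by
  rcases dickson_maximal p H with ⟨c, -, hc, hle⟩ | hb | ⟨⟨e⟩⟩ | ⟨⟨e⟩⟩ | ⟨⟨e⟩⟩ | hsub
  · exact Or.inl ⟨c, hc, hle⟩
  · exact Or.inr (Or.inl hb)
  · by_cases hp2 : p = 2
    · exact Or.inr (Or.inl (borel_of_alternating_four hp2 e))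
    · refine Or.inr (Or.inr ⟨fun y hy => ?_, fun h2 => absurd h2 hp2⟩)
      exact orderOf_le_of_mulEquiv e orderOf_alternating_four_le hy
  · have h4 : orderOf ((e.symm (finRotate 4) : H) : PSL) = 4 := by
      rw [Subgroup.orderOf_coe, MulEquiv.orderOf_eq]
      exact orderOf_eq_prime_pow (p := 2) (n := 1) (by decide) (by decide)
    exfalso
    rcases h.char with hp2 | ⟨hp3, -⟩
    · have he : Even (Nat.card F) := by
        rw [h.card, hp2, Nat.even_pow]; exact ⟨even_two, h.prime.ne_zero⟩
      exact orderOf_ne_four_of_even he _ h4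
    · rcases orderOf_cases_three h hp3 ((e.symm (finRotate 4) : H) : PSL) with h1 | h1 | ⟨-, h1⟩
      · rw [h1, orderOf_one] at h4; omega
      · omega
      · exact h1 h4.symm.dvd
  · haveI := hs
    have : Group.IsSolvable (alternatingGroup (Fin 5)) :=
      Group.isSolvable_of_surjective (f := e.toMonoidHom) e.surjective
    exact absurd (IsSimpleGroup.comm_iff_isSolvable.2 this) (by decide +kernel)
  · have hne : H ≠ ⊤ := by
      rintro rfl
      exact (four_le_card_of_isSimple h.four_le).2
        (@Group.isSolvable_of_surjective _ _ _ _ (Subgroup.topEquiv (G := PSL)).toMonoidHom (Subgroup.topEquiv (G := PSL)).surjective hs)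
    obtain ⟨k, m, hm, hk, hkm, hor⟩ := card_subfield_shape hne hsub
    rw [h.card] at hkm
    obtain ⟨i, -, rfl⟩ := (Nat.dvd_prime_pow hp.out).1 (hkm ▸ dvd_pow_self k (by omega : m ≠ 0))
    rw [← pow_mul] at hkm
    have him : i * m = r := Nat.pow_right_injective hp.out.two_le hkm
    have hi : i = 1 := by
      rcases (Nat.dvd_prime h.prime).1 (him ▸ dvd_mul_left m i) with h1 | h1
      · omega
      · rw [h1] at him
        exact Nat.eq_of_mul_eq_mul_right h.prime.pos (him.trans (one_mul r).symm)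
    subst hi
    rw [pow_one] at hor
    refine Or.inr (Or.inr ?_)
    rcases h.char with hp2 | ⟨hp3, -⟩
    · subst hp2
      norm_num at hor
      exact ⟨fun y hy => orderOf_le_three h (by rw [hor]; norm_num) (fun _ => by rw [hor]; norm_num) hy, fun _ => hor⟩
    · subst hp3
      norm_num at hor
      refine ⟨fun y hy => orderOf_le_three h ?_ (fun e => by norm_num at e) hy, fun e => by norm_num at e⟩
      rcases hor with e | e
      · exact ⟨2, by omega⟩
      · rw [e]

end ProjGroup

end CfsgLib.SL2.Solubilizer
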