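import Mathlib
import Cfsg.Agent.Lib.SL2.Solubilizer

/-!
The orders of the solubilizers in `PSL(2, 2^r)` and `PSL(2, 3^r)`.
-/

set_option autoImplicit false
set_option linter.unusedSectionVars false
set_option maxHeartbeats 800000

namespace CfsgLib.SL2.Solubilizer

open Matrix
open scoped MatrixGroups

variable {F : Type*} [Field F] [Finite F] {p r : ℕ} [hp : Fact p.Prime] [CharP F p]

local notation "PSL" => ProjectiveSpecialLinearGroup (Fin 2) F

/-! ### Matrix dictionary -/

/-- The trace. -/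
def tr (g : SL(2, F)) : F := g 0 0 + g 1 1

theorem det_eq (g : SL(2, F)) : g 0 0 * g 1 1 - g 0 1 * g 1 0 = 1 := by
  rw [← Matrix.det_fin_two]; exact g.det_coe

theorem mul_entry' (g h : SL(2, F)) (i j : Fin 2) : (g * h) i j = g i 0 * h 0 j + g i 1 * h 1 j := by
  rw [Matrix.SpecialLinearGroup.coe_mul, Matrix.mul_apply, Fin.sum_univ_two]

theorem scalar_center {g : SL(2, F)} (h1 : g 0 1 = 0) (h2 : g 1 0 = 0) (h3 : g 0 0 = g 1 1) :
    g ∈ Subgroup.center SL(2, F) := by
  rw [mem_center_iff_not_nonScalar, nonScalar_iff]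
  tauto

theorem center_entries {g : SL(2, F)} (h : g ∈ Subgroup.center SL(2, F)) :
    g 0 1 = 0 ∧ g 1 0 = 0 ∧ g 0 0 = g 1 1 := by
  rw [mem_center_iff_not_nonScalar, nonScalar_iff] at h
  tauto

theorem proj_eq_one_iff' (g : SL(2, F)) : proj g = 1 ↔ g 0 1 = 0 ∧ g 1 0 = 0 ∧ g 0 0 = g 1 1 :=
  ⟨fun h => center_entries ((proj_eq_one_iff g).1 h), fun ⟨h1, h2, h3⟩ => (proj_eq_one_iff g).2 (scalar_center h1 h2 h3)⟩

theorem proj_sq_of_trace {g : SL(2, F)} (h : tr g = 0) : proj g * proj g = 1 := by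
  have hd := det_eq g
  rw [tr] at h
  rw [← map_mul, proj_eq_one_iff']
  simp only [mul_entry']
  exact ⟨by linear_combination g 0 1 * h, by linear_combination g 1 0 * h, by linear_combination (g 0 0 - g 1 1) * h⟩

theorem trace_of_proj_sq {g : SL(2, F)} (h : proj g * proj g = 1) : tr g = 0 ∨ proj g = 1 := by
  rw [← map_mul, proj_eq_one_iff'] at h
  simp only [mul_entry'] at h
  obtain ⟨h1, h2, h3⟩ := h
  by_cases ht : tr g = 0
  · exact Or.inl ht
  refine Or.inr ((proj_eq_one_iff' g).2 ?_)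
  rw [tr] at ht
  refine ⟨?_, ?_, ?_⟩
  · exact (mul_eq_zero.1 (show g 0 1 * (g 0 0 + g 1 1) = 0 by linear_combination h1)).resolve_right ht
  · exact (mul_eq_zero.1 (show g 1 0 * (g 0 0 + g 1 1) = 0 by linear_combination h2)).resolve_right ht
  · exact sub_eq_zero.1 ((mul_eq_zero.1 (show (g 0 0 - g 1 1) * (g 0 0 + g 1 1) = 0 by linear_combination h3)).resolve_right ht)

theorem proj_cube_of_trace {g : SL(2, F)} (h : tr g * tr g = 1) : proj g * proj g * proj g = 1 := by
  have hd := det_eq g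
  rw [tr] at h
  rw [← map_mul, ← map_mul, proj_eq_one_iff']
  simp only [mul_entry']
  exact ⟨by linear_combination g 0 1 * h - g 0 1 * hd, by linear_combination g 1 0 * h - g 1 0 * hd,
    by linear_combination (g 0 0 - g 1 1) * h - (g 0 0 - g 1 1) * hd⟩

theorem trace_of_proj_cube {g : SL(2, F)} (h : proj g * proj g * proj g = 1) : tr g * tr g = 1 ∨ proj g = 1 := by
  have hd := det_eq g
  rw [← map_mul, ← map_mul, proj_eq_one_iff'] at h
  simp only [mul_entry'] at h
  obtain ⟨h1, h2, h3⟩ := h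
  by_cases ht : tr g * tr g = 1
  · exact Or.inl ht
  have ht' : (g 0 0 + g 1 1) * (g 0 0 + g 1 1) - 1 ≠ 0 := fun e => ht (by rw [tr]; linear_combination e)
  refine Or.inr ((proj_eq_one_iff' g).2 ⟨?_, ?_, ?_⟩)
  · exact (mul_eq_zero.1 (show g 0 1 * ((g 0 0 + g 1 1) * (g 0 0 + g 1 1) - 1) = 0 by
      linear_combination h1 + g 0 1 * hd)).resolve_right ht'
  · exact (mul_eq_zero.1 (show g 1 0 * ((g 0 0 + g 1 1) * (g 0 0 + g 1 1) - 1) = 0 by
      linear_combination h2 + g 1 0 * hd)).resolve_right ht'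
  · exact sub_eq_zero.1 ((mul_eq_zero.1 (show (g 0 0 - g 1 1) * ((g 0 0 + g 1 1) * (g 0 0 + g 1 1) - 1) = 0 by
      linear_combination h3 + (g 0 0 - g 1 1) * hd)).resolve_right ht')

theorem three_eq_zero (hp3 : p = 3) : (3 : F) = 0 := by
  subst hp3; simpa using CharP.cast_eq_zero F 3

theorem two_eq_zero (hp2 : p = 2) : (2 : F) = 0 := by
  subst hp2; simpa using CharP.cast_eq_zero F 2

theorem two_ne_zero' (hp3 : p = 3) : (2 : F) ≠ 0 := fun h2 =>
  one_ne_zero (α := F) (by linear_combination (three_eq_zero (F := F) hp3) - h2)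

theorem trace_of_order_le (hp3 : p = 3) {g : SL(2, F)} (h : orderOf (proj g) ≤ 3) :
    tr g = 0 ∨ tr g = 1 ∨ tr g = -1 := by
  have h1 : tr g = 0 ∨ tr g * tr g = 1 := by
    have hone : proj g = 1 → tr g = 0 ∨ tr g * tr g = 1 := fun e => by
      obtain ⟨e1, e2, e3⟩ := (proj_eq_one_iff' g).1 e
      have hd := det_eq g
      right
      rw [tr]
      rw [e1, e3] at hd
      rw [e3]
      linear_combination 4 * hd + (three_eq_zero (F := F) hp3)
    have h0 := orderOf_pos (proj g)
    interval_cases ho : orderOf (proj g)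
    · exact hone (orderOf_eq_one_iff.1 ho)
    · rcases trace_of_proj_sq (g := g) (by rw [← pow_two]; exact orderOf_dvd_iff_pow_eq_one.1 ho.dvd) with e | e
      · exact Or.inl e
      · exact hone e
    · rcases trace_of_proj_cube (g := g) (by rw [← pow_two, ← pow_succ]; exact orderOf_dvd_iff_pow_eq_one.1 ho.dvd) with e | e
      · exact Or.inr e
      · exact hone e
  exact h1.imp_right mul_self_eq_one_iff.1

/-! ### Necessity -/

theorem cases_of_involution (h : Small p r F) {x y : PSL} (hx : x * x = 1) (hx1 : x ≠ 1) (hy : y ∈ solv x) :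
    y * y = 1 ∨ (x * y) * (x * y) = 1 ∨ Commute x y ∨
      (∃ k : PSL, k * x * k⁻¹ ∈ borelPSL F ∧ k * y * k⁻¹ ∈ borelPSL F) ∨
      (p = 3 ∧ orderOf y ≤ 3 ∧ orderOf (x * y) ≤ 3) := by
  set H := Subgroup.closure ({x, y} : Set PSL)
  have hxH : x ∈ H := Subgroup.subset_closure (Set.mem_insert _ _)
  have hyH : y ∈ H := Subgroup.subset_closure (Set.mem_insert_of_mem _ rfl)
  rcases solvable_cases h H hy with ⟨c, hc, hle⟩ | ⟨k, hk⟩ | ⟨ho, hcard⟩
  · by_cases hyT : y ∈ torus c
    · by_cases hxT : x ∈ torus c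
      · haveI := isCyclic_torus p hc
        exact Or.inr (Or.inr (Or.inl (congrArg Subtype.val
          (IsCyclic.commutative.is_comm.comm (⟨x, hxT⟩ : torus c) ⟨y, hyT⟩))))
      · refine Or.inr (Or.inl (mul_self_of_normalizer_torus p hc (hle (mul_mem hxH hyH)) fun e => hxT ?_))
        simpa using mul_mem e (inv_mem hyT)
    · exact Or.inl (mul_self_of_normalizer_torus p hc (hle hyH) hyT)
  · exact Or.inr (Or.inr (Or.inr (Or.inl ⟨k, hk x hxH, hk y hyH⟩)))
  · rcases h.char with hp2 | ⟨hp3, -⟩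
    · by_cases hyy : y * y = 1
      · exact Or.inl hyy
      by_cases hxy : x * y * (x * y) = 1
      · exact Or.inr (Or.inl hxy)
      exfalso
      have h3 : ∀ w ∈ H, w * w ≠ 1 → orderOf w = 3 := by
        intro w hw hww
        have := ho w hw
        have h0 := orderOf_pos w
        interval_cases hw' : orderOf w
        · exact absurd (by rw [orderOf_eq_one_iff.1 hw', mul_one]) hww
        · exact absurd (by rw [← pow_two]; exact orderOf_dvd_iff_pow_eq_one.1 hw'.dvd) hww
        · rfl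
      have ho1 := h3 y hyH hyy
      have ho2 := h3 _ (mul_mem hxH hyH) hxy
      have hZ : Subgroup.zpowers y ≤ H := Subgroup.zpowers_le.2 hyH
      have hidx : ((Subgroup.zpowers y).subgroupOf H).index = 2 := by
        have h1 := ((Subgroup.zpowers y).subgroupOf H).card_mul_index
        rw [Nat.card_congr (Subgroup.subgroupOfEquivOfLe hZ).toEquiv, Nat.card_zpowers, ho1, hcard hp2] at h1
        omega
      have h4 := Subgroup.sq_mem_of_index_two hidx ((⟨x * y, mul_mem hxH hyH⟩ : H) ^ 2)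
      rw [Subgroup.mem_subgroupOf] at h4
      push_cast at h4
      rw [← pow_mul, show (2 * 2 : ℕ) = orderOf (x * y) + 1 by rw [ho2], pow_succ, pow_orderOf_eq_one, one_mul] at h4
      have hxm : x ∈ Subgroup.zpowers y := by simpa using mul_mem h4 (inv_mem (Subgroup.mem_zpowers y))
      have := Subgroup.orderOf_dvd_natCard _ hxm
      rw [Nat.card_zpowers, ho1, orderOf_eq_prime (by rw [pow_two, hx]) hx1] at this
      omega
    · exact Or.inr (Or.inr (Or.inr (Or.inr ⟨hp3, ho y hyH, ho _ (mul_mem hxH hyH)⟩)))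

theorem mem_solv_semi_iff (h : Small p r F) {x y : PSL} (hx : Census.Semi p x) (hx2 : x * x ≠ 1) :
    y ∈ solv x ↔ y ∈ Subgroup.normalizer (torus x : Set PSL) ∨
      ∃ k : PSL, k * x * k⁻¹ ∈ borelPSL F ∧ k * y * k⁻¹ ∈ borelPSL F := by
  constructor
  · intro hy
    set H := Subgroup.closure ({x, y} : Set PSL)
    have hxH : x ∈ H := Subgroup.subset_closure (Set.mem_insert _ _)
    have hyH : y ∈ H := Subgroup.subset_closure (Set.mem_insert_of_mem _ rfl)
    rcases solvable_cases h H hy with ⟨c, hc, hle⟩ | ⟨k, hk⟩ | ⟨ho, hcard⟩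
    · refine Or.inl ?_
      have hxT : x ∈ torus c := by
        by_contra hxT
        exact hx2 (mul_self_of_normalizer_torus p hc (hle hxH) hxT)
      rw [torus_eq_of_mem p hc hxT hx.1]
      exact hle hyH
    · exact Or.inr ⟨k, hk x hxH, hk y hyH⟩
    · have ho3 : orderOf x = 3 := by
        have := ho x hxH
        have h0 := orderOf_pos x
        interval_cases hw' : orderOf x
        · exact absurd (orderOf_eq_one_iff.1 hw') hx.1
        · exact absurd (by rw [← pow_two]; exact orderOf_dvd_iff_pow_eq_one.1 hw'.dvd) hx2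
        · rfl
      rcases h.char with hp2 | ⟨hp3, -⟩
      · refine Or.inl (le_normalizer_torus p hx (H := H) (fun w hw => ?_) hyH)
        have hZ : Subgroup.zpowers x ≤ H := Subgroup.zpowers_le.2 hxH
        have hidx : ((Subgroup.zpowers x).subgroupOf H).index = 2 := by
          have h1 := ((Subgroup.zpowers x).subgroupOf H).card_mul_index
          rw [Nat.card_congr (Subgroup.subgroupOfEquivOfLe hZ).toEquiv, Nat.card_zpowers, ho3, hcard hp2] at h1
          omega
        haveI := Subgroup.normal_of_index_eq_two hidx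
        have := Subgroup.Normal.conj_mem this ⟨x, hxH⟩ (Subgroup.mem_zpowers x) ⟨w, hw⟩
        exact Subgroup.zpowers_le.2 (mem_torus x) this
      · exact absurd (by rw [ho3, hp3]) hx.2
  · rintro (hy | ⟨k, hkx, hky⟩)
    · exact mem_solv_of_le (isSolvable_normalizer_torus p hx)
        (Subgroup.le_normalizer (mem_torus x)) hy
    · exact (mem_solv_conj k).1 (mem_solv_of_le isSolvable_borelPSL hkx hky)

/-! ### Counting in `SL(2, F)` -/

theorem card_lift (S : Set PSL) : Nat.card {g : SL(2, F) // proj g ∈ S} = dd F * Nat.card S := by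
  have h := Nat.card_congr (QuotientGroup.preimageMkEquivSubgroupProdSet (Subgroup.center SL(2, F)) S)
  rw [Nat.card_prod, card_center] at h
  exact h

theorem card_zero_lower : Nat.card {g : SL(2, F) // g 1 0 = 0} = (Nat.card F - 1) * Nat.card F := by
  rw [← Nat.card_units, ← Nat.card_prod]
  refine Nat.card_congr ⟨fun g => (Units.mk0 (g.1 0 0) ?_, g.1 0 1),
    fun v => ⟨⟨!![(v.1 : F), v.2; 0, ((v.1⁻¹ : Fˣ) : F)], by simp [Matrix.det_fin_two]⟩, by simp⟩, ?_, ?_⟩
  · intro e
    have := det_eq g.1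
    rw [e, g.2] at this
    simp at this
  · rintro ⟨g, hg⟩
    have hd := det_eq g
    rw [hg, mul_zero, sub_zero] at hd
    refine Subtype.ext (Subtype.ext ?_)
    ext i j
    fin_cases i <;> fin_cases j <;> simp [hg]
    exact inv_eq_of_mul_eq_one_right hd
  · intro v; ext <;> simp

theorem card_lower_ne_zero (R : F → F → Prop) :
    Nat.card {g : SL(2, F) // g 1 0 ≠ 0 ∧ R (tr g) (g 1 0)} =
      Nat.card {v : F × F // v.2 ≠ 0 ∧ R v.1 v.2} * Nat.card F := by
  rw [← Nat.card_prod]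
  refine Nat.card_congr ⟨fun g => (⟨(tr g.1, g.1 1 0), g.2⟩, g.1 0 0),
    fun v => ⟨⟨!![v.2, (v.2 * (v.1.1.1 - v.2) - 1) / v.1.1.2; v.1.1.2, v.1.1.1 - v.2], ?_⟩, ?_⟩, ?_, ?_⟩
  · have := v.1.2.1
    simp [Matrix.det_fin_two]
    field_simp
    ring
  · simpa [tr] using v.1.2
  · rintro ⟨g, hg⟩
    have hd := det_eq g
    refine Subtype.ext (Subtype.ext ?_)
    ext i j
    fin_cases i <;> fin_cases j <;> simp [tr]
    rw [div_eq_iff hg.1]
    linear_combination hd
  · rintro ⟨⟨⟨u, c⟩, hv⟩, a⟩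
    simp [tr]

theorem card_or' {α : Type*} [Finite α] (P Q : α → Prop) (hPQ : ∀ a, ¬ (P a ∧ Q a)) :
    Nat.card {a // P a ∨ Q a} = Nat.card {a // P a} + Nat.card {a // Q a} := by
  classical
  rw [← Nat.card_sum]
  refine Nat.card_congr (subtypeOrEquiv P Q ?_)
  rw [Pi.disjoint_iff]
  intro a
  rw [Prop.disjoint_iff]
  exact hPQ a

theorem card_borel_or (R : F → F → Prop) :
    Nat.card {g : SL(2, F) // g 1 0 = 0 ∨ R (tr g) (g 1 0)} =
      (Nat.card F - 1) * Nat.card F + Nat.card {v : F × F // v.2 ≠ 0 ∧ R v.1 v.2} * Nat.card F := by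
  rw [← card_zero_lower, ← card_lower_ne_zero, ← card_or' _ _ (fun g => by tauto)]
  exact Nat.card_congr (Equiv.subtypeEquivRight fun g => by tauto)

/-! ### Involutions, `q` even -/

/-- `(1 1; 0 1)`. -/
def up1 : SL(2, F) := ⟨!![1, 1; 0, 1], by simp [Matrix.det_fin_two]⟩

theorem up1_00 : (up1 : SL(2, F)) 0 0 = 1 := rfl
theorem up1_01 : (up1 : SL(2, F)) 0 1 = 1 := rfl
theorem up1_10 : (up1 : SL(2, F)) 1 0 = 0 := rfl
theorem up1_11 : (up1 : SL(2, F)) 1 1 = 1 := rfl

theorem up1_mul (g : SL(2, F)) :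
    ((up1 : SL(2, F)) * g) 1 0 = g 1 0 ∧ tr ((up1 : SL(2, F)) * g) = tr g + g 1 0 := by
  simp only [tr, mul_entry', up1_00, up1_01, up1_10, up1_11]
  constructor <;> ring

theorem up1_inv_mul (g : SL(2, F)) :
    ((up1 : SL(2, F))⁻¹ * g) 1 0 = g 1 0 ∧ tr ((up1 : SL(2, F))⁻¹ * g) = tr g - g 1 0 := by
  obtain ⟨h1, h2⟩ := up1_mul ((up1 : SL(2, F))⁻¹ * g)
  rw [mul_inv_cancel_left] at h1 h2
  exact ⟨h1.symm, by rw [h2, h1]; ring⟩

theorem proj_up1_mem : proj (up1 : SL(2, F)) ∈ borelPSL F := proj_mem_borelPSL.2 (by simp [up1])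

theorem proj_up1_ne : proj (up1 : SL(2, F)) ≠ 1 := fun h => by
  simpa [up1] using ((proj_eq_one_iff' _).1 h).1

theorem proj_up1_pow : proj (up1 : SL(2, F)) ^ p = 1 := by
  rw [← map_pow]
  have : ∀ n : ℕ, ((up1 : SL(2, F)) ^ n : SL(2, F)).1 = !![1, (n : F); 0, 1] := by
    intro n
    induction n with
    | zero => simp [Matrix.one_fin_two]
    | succ n ih => rw [pow_succ, Matrix.SpecialLinearGroup.coe_mul, ih]; simp [up1, add_comm]
  rw [proj_eq_one_iff']
  simp [this]

theorem lower_of_borel (p : ℕ) [Fact p.Prime] [CharP F p] {k : PSL} {g : SL(2, F)} (hx : k * proj (up1 : SL(2, F)) * k⁻¹ ∈ borelPSL F)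
    (hy : k * proj g * k⁻¹ ∈ borelPSL F) : g 1 0 = 0 := by
  have hu : proj (up1 : SL(2, F)) ∈ upperPSL F := mem_upperPSL_of_pow p proj_up1_mem proj_up1_pow
  have hk : k ∈ borelPSL F := mem_borelPSL_of_conj hu proj_up1_ne
    (mem_upperPSL_of_pow p hx (by rw [conj_pow, proj_up1_pow, mul_one, mul_inv_cancel]))
  apply proj_mem_borelPSL.1
  simpa [mul_assoc] using mul_mem (mul_mem (inv_mem hk) hy) hk

theorem proj_up1_mem_solv {g : SL(2, F)} (hg : g 1 0 = 0) : proj g ∈ solv (proj (up1 : SL(2, F))) :=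
  mem_solv_of_le isSolvable_borelPSL proj_up1_mem (proj_mem_borelPSL.2 hg)

theorem mem_solv_invol_even (h : Small p r F) (hp2 : p = 2) (g : SL(2, F)) :
    proj g ∈ solv (proj (up1 : SL(2, F))) ↔ g 1 0 = 0 ∨ (tr g = 0 ∨ tr g = g 1 0) := by
  have h2 : ∀ a : F, -a = a := fun a => by linear_combination (-a) * (two_eq_zero (F := F) hp2)
  have hxx : proj (up1 : SL(2, F)) * proj up1 = 1 := by
    rw [← pow_two]; have := proj_up1_pow (F := F) (p := p); rwa [hp2] at this
  have hsum : tr g = g 1 0 ↔ tr (up1 * g) = 0 := by rw [(up1_mul g).2, add_eq_zero_iff_eq_neg, h2]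
  have key : ∀ g' : SL(2, F), proj g' * proj g' = 1 → tr g' = 0 ∨ g' 1 0 = 0 := fun g' e =>
    (trace_of_proj_sq e).imp_right fun e' => ((proj_eq_one_iff' g').1 e').2.1
  constructor
  · intro hy
    rcases cases_of_involution h hxx proj_up1_ne hy with e | e | e | ⟨k, hkx, hky⟩ | ⟨hp3, -⟩
    · rcases key g e with e' | e'
      exacts [Or.inr (Or.inl e'), Or.inl e']
    · rw [← map_mul] at e
      rcases key _ e with e' | e'
      exacts [Or.inr (Or.inr (hsum.2 e')), Or.inl ((up1_mul g).1 ▸ e')]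
    · have := pow_eq_one_of_commute p (orderOf_eq_prime (proj_up1_pow (p := p)) proj_up1_ne) e
      rw [hp2, pow_two] at this
      rcases key g this with e' | e'
      exacts [Or.inr (Or.inl e'), Or.inl e']
    · exact Or.inl (lower_of_borel p hkx hky)
    · omega
  · rintro (e | e | e)
    · exact proj_up1_mem_solv e
    · exact mem_solv_of_sq hxx (proj_sq_of_trace e)
    · rw [← mem_solv_mul, ← map_mul]
      exact mem_solv_of_sq hxx (proj_sq_of_trace (hsum.1 e))

/-! ### Elements of order three in characteristic three -/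

theorem mem_solv_three_aux (hp3 : p = 3) {g : SL(2, F)} (hu : tr g = 0) (hc : g 1 0 * g 1 0 = 1) :
    proj g ∈ solv (proj (up1 : SL(2, F))) := by
  refine mem_solv_comm (mem_solv_of_cube (proj_sq_of_trace hu) ?_ ?_)
  · have : proj (up1 : SL(2, F)) ^ 3 = 1 := hp3 ▸ proj_up1_pow
    rwa [pow_succ, pow_two] at this
  · rw [← map_mul]
    refine proj_cube_of_trace ?_
    have : tr (g * up1) = tr g + g 1 0 := by simp only [tr, mul_entry', up1_00, up1_01, up1_10, up1_11]; ring
    rw [this, hu, zero_add, hc]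

theorem mem_solv_three (h : Small p r F) (hp3 : p = 3) (g : SL(2, F)) :
    proj g ∈ solv (proj (up1 : SL(2, F))) ↔
      g 1 0 = 0 ∨ ((tr g = 0 ∨ tr g = 1 ∨ tr g = -1) ∧ (g 1 0 = 0 ∨ g 1 0 = 1 ∨ g 1 0 = -1)) := by
  have h3 := three_eq_zero (F := F) hp3
  have ho : orderOf (proj (up1 : SL(2, F))) = p := orderOf_eq_prime proj_up1_pow proj_up1_ne
  constructor
  · intro hy
    set H := Subgroup.closure ({proj (up1 : SL(2, F)), proj g} : Set PSL)
    have hxH : proj (up1 : SL(2, F)) ∈ H := Subgroup.subset_closure (Set.mem_insert _ _)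
    have hyH : proj g ∈ H := Subgroup.subset_closure (Set.mem_insert_of_mem _ rfl)
    rcases solvable_cases h H hy with ⟨c, hc, hle⟩ | ⟨k, hk⟩ | ⟨hord, -⟩
    · exfalso
      by_cases hxT : proj (up1 : SL(2, F)) ∈ torus c
      · exact not_dvd_card_torus p hc (ho ▸ Subgroup.orderOf_dvd_natCard _ hxT)
      · have := mul_self_of_normalizer_torus p hc (hle hxH) hxT
        rw [← pow_two] at this
        have := orderOf_dvd_of_pow_eq_one this
        rw [ho, hp3] at this
        omega
    · exact Or.inl (lower_of_borel p (hk _ hxH) (hk _ hyH))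
    · have hu := trace_of_order_le hp3 (g := g) (hord _ hyH)
      have hv := trace_of_order_le hp3 (g := up1 * g) (by rw [map_mul]; exact hord _ (mul_mem hxH hyH))
      rw [(up1_mul g).2] at hv
      refine Or.inr ⟨hu, ?_⟩
      rcases hu with hu | hu | hu <;> rcases hv with hv | hv | hv <;>
        first
          | (left; linear_combination hv - hu; done)
          | (right; left; linear_combination hv - hu; done)
          | (right; right; linear_combination hv - hu; done)
          | (right; left; linear_combination hv - hu - h3; done)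
          | (right; right; linear_combination hv - hu + h3; done)
  · rintro (e | ⟨hu, e | hc⟩)
    · exact proj_up1_mem_solv e
    · exact proj_up1_mem_solv e
    · have hcc : g 1 0 * g 1 0 = 1 := mul_self_eq_one_iff.2 hc
      by_cases hu0 : tr g = 0
      · exact mem_solv_three_aux hp3 hu0 hcc
      have hu' := hu.resolve_left hu0
      have : tr g + g 1 0 = 0 ∨ tr g - g 1 0 = 0 := by
        rcases hu' with e1 | e1 <;> rcases hc with e2 | e2 <;> simp [e1, e2]
      rcases this with e1 | e1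
      · rw [← mem_solv_mul, ← map_mul]
        exact mem_solv_three_aux hp3 ((up1_mul g).2.trans e1) (by rw [(up1_mul g).1]; exact hcc)
      · rw [show proj g = proj up1 * proj (up1⁻¹ * g) by rw [← map_mul, mul_inv_cancel_left], mem_solv_mul]
        exact mem_solv_three_aux hp3 ((up1_inv_mul g).2.trans e1) (by rw [(up1_inv_mul g).1]; exact hcc)

/-! ### Involutions in characteristic three -/

/-- `(0 1; -1 0)`. -/
def rot : SL(2, F) := ⟨!![0, 1; -1, 0], by simp [Matrix.det_fin_two]⟩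

theorem rot_00 : (rot : SL(2, F)) 0 0 = 0 := rfl
theorem rot_01 : (rot : SL(2, F)) 0 1 = 1 := rfl
theorem rot_10 : (rot : SL(2, F)) 1 0 = -1 := rfl
theorem rot_11 : (rot : SL(2, F)) 1 1 = 0 := rfl

theorem tr_rot_mul (g : SL(2, F)) : tr (rot * g) = g 1 0 - g 0 1 := by
  simp only [tr, mul_entry', rot_00, rot_01, rot_10, rot_11]; ring

theorem mem_solv_invol_odd (h : Small p r F) (hp3 : p = 3) (g : SL(2, F)) :
    proj g ∈ solv (proj (rot : SL(2, F))) ↔
      tr g = 0 ∨ g 1 0 - g 0 1 = 0 ∨ (g 0 0 = g 1 1 ∧ g 0 1 = -g 1 0) ∨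
        (tr g * tr g = 1 ∧ (g 1 0 - g 0 1) * (g 1 0 - g 0 1) = 1) := by
  have h2 := two_ne_zero' (F := F) hp3
  have hxx : proj (rot : SL(2, F)) * proj rot = 1 := proj_sq_of_trace (by simp [tr, rot])
  have hx1 : proj (rot : SL(2, F)) ≠ 1 := fun e => by simpa [rot] using ((proj_eq_one_iff' _).1 e).1
  have hodd : Odd r := h.char.elim (fun e => absurd (hp3.symm.trans e) (by norm_num)) And.right
  constructor
  · intro hy
    rcases cases_of_involution h hxx hx1 hy with e | e | e | ⟨k, hkx, hky⟩ | ⟨-, hy3, hxy3⟩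
    · rcases trace_of_proj_sq e with e | e
      · exact Or.inl e
      · obtain ⟨e1, e2, e3⟩ := (proj_eq_one_iff' g).1 e
        exact Or.inr (Or.inl (by rw [e1, e2, sub_zero]))
    · rw [← map_mul] at e
      rcases trace_of_proj_sq e with e | e
      · exact Or.inr (Or.inl ((tr_rot_mul g).symm.trans e))
      · obtain ⟨e1, e2, e3⟩ := (proj_eq_one_iff' _).1 e
        left
        simp only [mul_entry', rot_00, rot_01, rot_10, rot_11] at e1 e2
        simp at e1 e2
        rw [tr, e1, e2, add_zero]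
    · rcases eq_or_eq_neg_of_proj_eq (g := rot * g) (h := g * rot) (by rw [map_mul, map_mul]; exact e) with e | e
      · have e1 := congrArg (fun m : SL(2, F) => m 0 0) e
        have e2 := congrArg (fun m : SL(2, F) => m 0 1) e
        simp only [mul_entry', rot_00, rot_01, rot_10, rot_11] at e1 e2
        simp at e1 e2
        exact Or.inr (Or.inr (Or.inl ⟨e2, by linear_combination -e1⟩))
      · have e2 := congrArg (fun m : SL(2, F) => m 0 1) e
        simp only [Matrix.SpecialLinearGroup.coe_neg, Matrix.neg_apply, mul_entry', rot_00, rot_01, rot_10, rot_11] at e2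
        simp at e2
        left
        rw [tr, e2]; ring
    · exfalso
      have hd := Subgroup.orderOf_dvd_natCard _ hkx
      rw [← MulAut.conj_apply, MulEquiv.orderOf_eq, orderOf_eq_prime (by rw [pow_two, hxx]) hx1] at hd
      have hm := mod_eight_of_three hodd
      rw [← hp3, ← h.card] at hm
      obtain ⟨i, hi⟩ := hd
      have hB := card_borelPSL (F := F)
      rw [hi, dd_of_odd (Nat.odd_iff.2 (by omega))] at hB
      obtain ⟨a, ha⟩ : ∃ a, Nat.card F = 8 * a + 3 := ⟨Nat.card F / 8, by omega⟩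
      rw [ha, show 8 * a + 3 - 1 = 8 * a + 2 by omega] at hB
      have : (2 * (2 * i)) % 4 = ((8 * a + 3) * (8 * a + 2)) % 4 := by rw [hB]
      rw [Nat.mul_mod (8 * a + 3), show (8 * a + 3) % 4 = 3 by omega, show (8 * a + 2) % 4 = 2 by omega] at this
      omega
    · by_cases e0 : tr g = 0
      · exact Or.inl e0
      by_cases e0' : g 1 0 - g 0 1 = 0
      · exact Or.inr (Or.inl e0')
      have hu := (trace_of_order_le hp3 (g := g) hy3).resolve_left e0
      have hv := (trace_of_order_le hp3 (g := rot * g) (by rw [map_mul]; exact hxy3)).resolve_left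
        (by rw [tr_rot_mul]; exact e0')
      rw [tr_rot_mul] at hv
      exact Or.inr (Or.inr (Or.inr ⟨mul_self_eq_one_iff.2 hu, mul_self_eq_one_iff.2 hv⟩))
  · rintro (e | e | ⟨e1, e2⟩ | ⟨e1, e2⟩)
    · exact mem_solv_of_sq hxx (proj_sq_of_trace e)
    · rw [← mem_solv_mul, ← map_mul]
      exact mem_solv_of_sq hxx (proj_sq_of_trace ((tr_rot_mul g).trans e))
    · refine mem_solv_of_normalizes ?_
      have hc : g * rot = rot * g := by
        refine Subtype.ext ?_
        ext i j
        fin_cases i <;> fin_cases j <;> simp [mul_entry', rot_00, rot_01, rot_10, rot_11] <;> simp [e1, e2]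
      rw [← map_mul, hc, map_mul, mul_inv_cancel_right]
      exact Subgroup.mem_zpowers _
    · refine mem_solv_of_cube hxx (proj_cube_of_trace e1) ?_
      rw [← map_mul]
      exact proj_cube_of_trace (by rw [tr_rot_mul]; exact e2)

theorem anisotropic (h : Nat.card F % 4 = 3) {a b : F} (e : a * a + b * b = 0) : a = 0 ∧ b = 0 := by
  classical
  haveI := Fintype.ofFinite F
  have hns : ¬ IsSquare (-1 : F) := by
    rw [FiniteField.isSquare_neg_one_iff, ← Nat.card_eq_fintype_card]; omega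
  by_cases hb : b = 0
  · subst hb
    exact ⟨mul_self_eq_zero.1 (by linear_combination e), rfl⟩
  · refine absurd ⟨a / b, ?_⟩ hns
    field_simp
    linear_combination -e

theorem card_circle (h : Nat.card F % 4 = 3) {c : F} (hc : c ≠ 0) :
    Nat.card {v : F × F // v.1 * v.1 + v.2 * v.2 = c} = Nat.card F + 1 := by
  classical
  haveI := Fintype.ofFinite F
  have h4 : (0 : F) * 0 ≠ 4 := by
    intro e
    have h2 : (2 : F) = 0 := mul_self_eq_zero.1 (by linear_combination -e)
    have hr : ringChar F = 2 := by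
      have := ringChar.dvd (R := F) (x := 2) (by exact_mod_cast h2)
      exact ((Nat.prime_two.eq_one_or_self_of_dvd _ this).resolve_left (CharP.ringChar_ne_one))
    have := FiniteField.even_card_of_char_two hr
    rw [← Nat.card_eq_fintype_card] at this
    omega
  have hsame : ∀ d : F, d ≠ 0 → Nat.card {v : F × F // v.1 * v.1 + v.2 * v.2 = d} =
      Nat.card {v : F × F // v.1 * v.1 + v.2 * v.2 = 1} := by
    intro d hd
    obtain ⟨a, b, hab⟩ := exists_norm_eq (0 : F) d (Or.inl h4)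
    simp only [mul_zero, add_zero] at hab
    symm
    refine Nat.card_congr ⟨fun v => ⟨(a * v.1.1 - b * v.1.2, a * v.1.2 + b * v.1.1), ?_⟩,
      fun w => ⟨((a * w.1.1 + b * w.1.2) / d, (a * w.1.2 - b * w.1.1) / d), ?_⟩, ?_, ?_⟩
    · linear_combination d * v.2 + (v.1.1 * v.1.1 + v.1.2 * v.1.2) * hab
    · field_simp
      linear_combination d * w.2 + (w.1.1 * w.1.1 + w.1.2 * w.1.2) * hab
    · rintro ⟨⟨v1, v2⟩, hv⟩
      refine Subtype.ext (Prod.ext ?_ ?_) <;> simp <;> field_simp
      · linear_combination v1 * hab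
      · linear_combination v2 * hab
    · rintro ⟨⟨w1, w2⟩, hw⟩
      refine Subtype.ext (Prod.ext ?_ ?_) <;> simp <;> field_simp
      · linear_combination w1 * hab
      · linear_combination w2 * hab
  have hzero : Nat.card {v : F × F // v.1 * v.1 + v.2 * v.2 = 0} = 1 := by
    rw [Nat.card_eq_one_iff_unique]
    exact ⟨⟨fun v w => Subtype.ext (Prod.ext ((anisotropic h v.2).1.trans (anisotropic h w.2).1.symm)
      ((anisotropic h v.2).2.trans (anisotropic h w.2).2.symm))⟩, ⟨⟨(0, 0), by simp⟩⟩⟩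
  have hsum := Nat.card_congr (Equiv.sigmaFiberEquiv (fun v : F × F => v.1 * v.1 + v.2 * v.2))
  rw [Nat.card_sigma, Nat.card_prod, ← Finset.add_sum_erase _ _ (Finset.mem_univ (0 : F)), hzero,
    Finset.sum_congr rfl (fun d hd => hsame d (Finset.ne_of_mem_erase hd)), Finset.sum_const,
    Finset.card_erase_of_mem (Finset.mem_univ _), Finset.card_univ, ← Nat.card_eq_fintype_card, smul_eq_mul] at hsum
  obtain ⟨k, hk⟩ : ∃ k, Nat.card F = k + 2 := ⟨Nat.card F - 2, by have := Finite.one_lt_card (α := F); omega⟩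
  rw [hsame c hc]
  rw [hk, show k + 2 - 1 = k + 1 by omega] at hsum
  rw [hk]
  nlinarith

theorem card_invol_odd (h : Small p r F) (hp3 : p = 3) :
    Nat.card {g : SL(2, F) // tr g = 0 ∨ g 1 0 - g 0 1 = 0 ∨ (g 0 0 = g 1 1 ∧ g 0 1 = -g 1 0) ∨
        (tr g * tr g = 1 ∧ (g 1 0 - g 0 1) * (g 1 0 - g 0 1) = 1)} = 2 * Nat.card F * (Nat.card F + 1) := by
  classical
  haveI := Fintype.ofFinite F
  have h3 := three_eq_zero (F := F) hp3
  have h2 := two_ne_zero' (F := F) hp3
  have hodd : Odd r := h.char.elim (fun e => absurd (hp3.symm.trans e) (by norm_num)) And.right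
  have hm := mod_eight_of_three hodd
  rw [← hp3, ← h.card] at hm
  have h4 : Nat.card F % 4 = 3 := by omega
  -- coordinates: trace, `c - b`, and a point on a conic
  let T := Σ v : F × F, {w : F × F // w.1 * w.1 + w.2 * w.2 = v.1 * v.1 + v.2 * v.2 - 1 ∧
    (v.1 = 0 ∨ v.2 = 0 ∨ (w.1 = 0 ∧ w.2 = 0) ∨ (v.1 * v.1 = 1 ∧ v.2 * v.2 = 1))}
  let e : {g : SL(2, F) // tr g = 0 ∨ g 1 0 - g 0 1 = 0 ∨ (g 0 0 = g 1 1 ∧ g 0 1 = -g 1 0) ∨
      (tr g * tr g = 1 ∧ (g 1 0 - g 0 1) * (g 1 0 - g 0 1) = 1)} ≃ T :=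
    { toFun := fun g => ⟨(tr g.1, g.1 1 0 - g.1 0 1), ⟨(g.1 0 0 + tr g.1, g.1 0 1 - (g.1 1 0 - g.1 0 1)), by
        have hd := det_eq g.1
        refine ⟨?_, ?_⟩
        · simp only [tr]
          linear_combination (-1 : F) * hd + (g.1 0 0 * g.1 0 0 + g.1 0 1 * g.1 0 1 + g.1 0 0 * g.1 1 1 -
            g.1 0 1 * g.1 1 0) * h3
        · rcases g.2 with e | e | ⟨e1, e2⟩ | e
          · exact Or.inl e
          · exact Or.inr (Or.inl e)
          · refine Or.inr (Or.inr (Or.inl ⟨?_, ?_⟩))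
            · simp only [tr]; linear_combination g.1 0 0 * h3 - e1
            · linear_combination g.1 0 1 * h3 - e2
          · exact Or.inr (Or.inr (Or.inr e))⟩⟩
      invFun := fun t => ⟨⟨!![t.2.1.1 - t.1.1, t.2.1.2 + t.1.2; t.2.1.2 - t.1.2, -t.1.1 - t.2.1.1], by
          simp only [Matrix.det_fin_two_of]
          linear_combination (-1 : F) * t.2.2.1⟩, by
        rcases t.2.2.2 with e | e | ⟨e1, e2⟩ | ⟨e1, e2⟩
        · left; simp [tr, e]
        · right; left; simp [e]
        · right; right; left; simp [e1, e2]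
        · right; right; right
          refine ⟨?_, ?_⟩
          · simp [tr]; linear_combination e1 + t.1.1 * t.1.1 * h3
          · simp; linear_combination e2 + t.1.2 * t.1.2 * h3⟩
      left_inv := fun g => by
        refine Subtype.ext (Subtype.ext ?_)
        ext i j
        fin_cases i <;> fin_cases j <;> simp [tr]
        · linear_combination (g.1 0 1 - g.1 1 0) * h3
        · linear_combination (-g.1 0 0 - g.1 1 1) * h3
      right_inv := fun t => by
        obtain ⟨⟨u, v⟩, ⟨⟨A, B⟩, hw⟩⟩ := t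
        have hu : A - u + (-u - A) = u := by linear_combination (-u) * h3
        have hv : B - v - (B + v) = v := by linear_combination (-v) * h3
        refine Sigma.subtype_ext (Prod.ext ?_ ?_) (Prod.ext ?_ ?_) <;> simp [tr]
        · linear_combination (-u) * h3
        · linear_combination (-v) * h3
        · linear_combination (-u) * h3
        · linear_combination v * h3 }
  have hfib : ∀ v : F × F, Nat.card {w : F × F // w.1 * w.1 + w.2 * w.2 = v.1 * v.1 + v.2 * v.2 - 1 ∧
      (v.1 = 0 ∨ v.2 = 0 ∨ (w.1 = 0 ∧ w.2 = 0) ∨ (v.1 * v.1 = 1 ∧ v.2 * v.2 = 1))} =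
      (if v.1 * v.1 + v.2 * v.2 = 1 then 1 else 0) +
      (Nat.card F + 1) * (if (v.1 = 0 ∨ v.2 = 0 ∨ (v.1 * v.1 = 1 ∧ v.2 * v.2 = 1)) ∧ v.1 * v.1 + v.2 * v.2 ≠ 1
        then 1 else 0) := by
    intro v
    by_cases hN : v.1 * v.1 + v.2 * v.2 = 1
    · simp only [hN, sub_self, ne_eq, not_true, and_false, if_false, mul_zero, add_zero, if_true]
      rw [Nat.card_eq_one_iff_unique]
      refine ⟨⟨fun a b => ?_⟩, ⟨⟨(0, 0), by simp, Or.inr (Or.inr (Or.inl ⟨rfl, rfl⟩))⟩⟩⟩
      exact Subtype.ext (Prod.ext ((anisotropic h4 a.2.1).1.trans (anisotropic h4 b.2.1).1.symm)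
        ((anisotropic h4 a.2.1).2.trans (anisotropic h4 b.2.1).2.symm))
    · simp only [hN, if_false, zero_add, ne_eq, not_false_iff, and_true]
      have hr0 : v.1 * v.1 + v.2 * v.2 - 1 ≠ 0 := sub_ne_zero.2 hN
      split_ifs with hv
      · rw [mul_one, ← card_circle h4 hr0]
        refine Nat.card_congr (Equiv.subtypeEquivRight fun w => ⟨And.left, fun e => ⟨e, ?_⟩⟩)
        tauto
      · rw [mul_zero, Nat.card_eq_zero]
        left
        refine ⟨fun w => hv ?_⟩
        rcases w.2.2 with e | e | ⟨e1, e2⟩ | e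
        · exact Or.inl e
        · exact Or.inr (Or.inl e)
        · refine absurd ?_ hr0
          rw [← w.2.1, e1, e2]; ring
        · exact Or.inr (Or.inr e)
  rw [Nat.card_congr e, Nat.card_sigma, Finset.sum_congr rfl (fun v _ => hfib v), Finset.sum_add_distrib,
    ← Finset.mul_sum, Finset.sum_boole, Finset.sum_boole]
  have hcirc : (Finset.univ.filter fun v : F × F => v.1 * v.1 + v.2 * v.2 = 1).card = Nat.card F + 1 := by
    rw [← card_circle h4 one_ne_zero, Nat.card_eq_fintype_card, Fintype.card_subtype]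
  set P : Finset F := {1, -1} with hP
  have hP2 : P.card = 2 := Finset.card_pair fun e => h2 (by linear_combination e)
  have hmemP : ∀ a : F, a ∈ P ↔ a * a = 1 := fun a => by simp [hP, mul_self_eq_one_iff]
  have h11 : (1 : F) + 1 ≠ 1 := fun e => one_ne_zero (α := F) (by linear_combination e)
  have hM : (Finset.univ.filter fun v : F × F =>
      (v.1 = 0 ∨ v.2 = 0 ∨ (v.1 * v.1 = 1 ∧ v.2 * v.2 = 1)) ∧ v.1 * v.1 + v.2 * v.2 ≠ 1) =
      (({0} : Finset F) ×ˢ (Finset.univ \ P)) ∪ ((Finset.univ \ insert 0 P) ×ˢ ({0} : Finset F)) ∪ (P ×ˢ P) := by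
    ext ⟨u, v⟩
    simp only [Finset.mem_filter, Finset.mem_univ, true_and, Finset.mem_union, Finset.mem_product,
      Finset.mem_singleton, Finset.mem_sdiff, Finset.mem_insert, hmemP]
    constructor
    · rintro ⟨e, hne⟩
      by_cases hu : u = 0
      · subst hu; exact Or.inl (Or.inl ⟨rfl, fun hv => hne (by rw [hv]; simp)⟩)
      rcases e with e | e | e
      · exact absurd e hu
      · subst e; exact Or.inl (Or.inr ⟨fun h' => h'.elim hu fun h'' => hne (by rw [h'']; simp), rfl⟩)
      · exact Or.inr e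
    · rintro ((⟨rfl, hv⟩ | ⟨hu, rfl⟩) | ⟨hu, hv⟩)
      · exact ⟨Or.inl rfl, fun e => hv (by linear_combination e)⟩
      · exact ⟨Or.inr (Or.inl rfl), fun e => hu (Or.inr (by linear_combination e))⟩
      · exact ⟨Or.inr (Or.inr ⟨hu, hv⟩), by rw [hu, hv]; exact h11⟩
  have h0P : (0 : F) ∉ P := fun e => by simpa using (hmemP 0).1 e
  have hMcard : (Finset.univ.filter fun v : F × F =>
      (v.1 = 0 ∨ v.2 = 0 ∨ (v.1 * v.1 = 1 ∧ v.2 * v.2 = 1)) ∧ v.1 * v.1 + v.2 * v.2 ≠ 1).card =
      2 * Nat.card F - 1 := by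
    rw [hM, Finset.card_union_of_disjoint, Finset.card_union_of_disjoint]
    · simp only [Finset.card_product, Finset.card_singleton, one_mul, mul_one,
        Finset.card_sdiff_of_subset (Finset.subset_univ _), Finset.card_univ, hP2,
        Finset.card_insert_of_notMem h0P, ← Nat.card_eq_fintype_card]
      omega
    · simp only [Finset.disjoint_left, Finset.mem_product, Finset.mem_singleton, Finset.mem_sdiff, Finset.mem_insert]
      rintro ⟨u, v⟩ ⟨rfl, -⟩ ⟨⟨-, hu⟩, -⟩
      exact hu (Or.inl rfl)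
    · simp only [Finset.disjoint_left, Finset.mem_union, Finset.mem_product, Finset.mem_singleton, Finset.mem_sdiff]
      rintro ⟨u, v⟩ (⟨rfl, -⟩ | ⟨-, rfl⟩) ⟨hu, hv⟩
      · exact h0P hu
      · exact h0P hv
  simp only [Nat.cast_id]
  rw [hcirc, hMcard]
  obtain ⟨k, hk⟩ : ∃ k, Nat.card F = k + 1 := ⟨Nat.card F - 1, by omega⟩
  rw [hk, show 2 * (k + 1) - 1 = 2 * k + 1 by omega]
  ring

/-! ### Reductions to standard elements -/

theorem mod_four_of_three (h : Small p r F) (hp3 : p = 3) : Nat.card F % 4 = 3 := by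
  have hodd : Odd r := h.char.elim (fun e => absurd (hp3.symm.trans e) (by norm_num)) And.right
  have hm := mod_eight_of_three hodd
  rw [h.card, hp3]
  omega

theorem exists_conj_up1 (h : Small p r F) {x : PSL} (hx : orderOf x = p) :
    ∃ k : PSL, k * x * k⁻¹ = proj up1 ∨ k * x * k⁻¹ = (proj up1)⁻¹ := by
  classical
  haveI := Fintype.ofFinite F
  obtain ⟨k, hk⟩ := exists_conj_mem_upperPSL (F := F) p (IsPGroup.of_card (n := 1)
    (by rw [Nat.card_zpowers, hx, pow_one]) : IsPGroup p (Subgroup.zpowers x))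
  obtain ⟨a, ha⟩ := mem_upperPSL.1 (hk x (Subgroup.mem_zpowers x))
  set b : F := a.toAdd with hb
  have hb0 : b ≠ 0 := fun e => by
    have : a = 1 := Multiplicative.toAdd.injective e
    rw [this, map_one, map_one] at ha
    rw [conj_eq_one_iff.1 ha.symm, orderOf_one] at hx
    exact hp.out.one_lt.ne hx
  obtain ⟨s, hs0, hs⟩ : ∃ s : F, s ≠ 0 ∧ (s * s = b ∨ s * s = -b) := by
    suffices h' : IsSquare b ∨ IsSquare (-b) by
      rcases h' with ⟨s, hs⟩ | ⟨s, hs⟩
      · exact ⟨s, fun e => hb0 (by rw [hs, e, mul_zero]), Or.inl hs.symm⟩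
      · exact ⟨s, fun e => hb0 (neg_eq_zero.1 (by rw [hs, e, mul_zero])), Or.inr hs.symm⟩
    rcases h.char with hp2 | ⟨hp3, -⟩
    · exact Or.inl (FiniteField.isSquare_of_char_two (by rw [ringChar.eq F p, hp2]) b)
    · have hn : ¬ IsSquare (-1 : F) := by
        rw [FiniteField.isSquare_neg_one_iff, ← Nat.card_eq_fintype_card, mod_four_of_three h hp3]; omega
      by_cases hbs : IsSquare b
      · exact Or.inl hbs
      · right
        rw [← quadraticChar_one_iff_isSquare (neg_ne_zero.2 hb0), neg_eq_neg_one_mul, map_mul,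
          quadraticChar_neg_one_iff_not_isSquare.2 hn, quadraticChar_neg_one_iff_not_isSquare.2 hbs]
        rfl
  have hcoe : ((upperHom a : SL(2, F)) : Matrix (Fin 2) (Fin 2) F) = !![1, b; 0, 1] := upperHom_coe a
  let D : SL(2, F) := ⟨!![s⁻¹, 0; 0, s], by simp [Matrix.det_fin_two, hs0]⟩
  obtain ⟨hD0, hD1, hD2, hD3⟩ : D 0 0 = s⁻¹ ∧ D 0 1 = 0 ∧ D 1 0 = 0 ∧ D 1 1 = s := ⟨rfl, rfl, rfl, rfl⟩
  obtain ⟨hU0, hU1, hU2, hU3⟩ : (upperHom a : SL(2, F)) 0 0 = 1 ∧ (upperHom a : SL(2, F)) 0 1 = b ∧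
      (upperHom a : SL(2, F)) 1 0 = 0 ∧ (upperHom a : SL(2, F)) 1 1 = 1 := by simp [hcoe]
  refine ⟨proj D * k, ?_⟩
  have hc : proj D * k * x * (proj D * k)⁻¹ = proj (D * upperHom a * D⁻¹) := by
    rw [map_mul, map_mul, map_inv, ha]; group
  rw [hc, ← map_inv]
  rcases hs with hs | hs
  · refine Or.inl (congrArg proj (mul_inv_eq_iff_eq_mul.2 (Subtype.ext ?_)))
    ext i j
    fin_cases i <;> fin_cases j <;> simp [mul_entry', hD0, hD1, hD2, hD3, hU0, hU1, hU2, hU3, up1_00, up1_01, up1_10, up1_11]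
    field_simp
    linear_combination -hs
  · refine Or.inr (congrArg proj (mul_inv_eq_iff_eq_mul.2 (eq_inv_mul_iff_mul_eq.2 (Subtype.ext ?_))))
    ext i j
    fin_cases i <;> fin_cases j <;> simp [mul_entry', hD0, hD1, hD2, hD3, hU0, hU1, hU2, hU3, up1_00, up1_01, up1_10, up1_11]
    field_simp
    linear_combination hs

/-- `(t 0; 0 t⁻¹)`. -/
def diag (t : Fˣ) : SL(2, F) := ⟨!![(t : F), 0; 0, ((t⁻¹ : Fˣ) : F)], by simp [Matrix.det_fin_two]⟩

theorem diag_00 (t : Fˣ) : diag t 0 0 = t := rfl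
theorem diag_01 (t : Fˣ) : diag t 0 1 = 0 := rfl
theorem diag_10 (t : Fˣ) : diag t 1 0 = 0 := rfl
theorem diag_11 (t : Fˣ) : diag t 1 1 = ((t⁻¹ : Fˣ) : F) := rfl

theorem exists_conj_diag {x : PSL} (hx : Census.Semi p x) (hT : Nat.card (torus x) = (Nat.card F - 1) / dd F) :
    ∃ (k : PSL) (t : Fˣ), (t : F) ≠ ((t⁻¹ : Fˣ) : F) ∧ k * x * k⁻¹ = proj (diag t) := by
  have hg := regular_of_semi p (proj_liftSL x) hx
  set g := liftSL x with hg'
  set T := (g : Matrix (Fin 2) (Fin 2) F).trace with hT'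
  obtain ⟨c, hc⟩ : ∃ c : F, c * c - T * c + 1 = 0 := by
    by_contra! hno
    have h1 := card_map_proj (center_le_cent g)
    rw [(cent_nonsplit hno).2] at h1
    change dd F * Nat.card (torus x) = _ at h1
    rw [hT, Nat.mul_div_cancel' dd_dvd_pred] at h1
    omega
  have hc0 : c ≠ 0 := by rintro rfl; simp at hc
  have htr : c + c⁻¹ = T := by
    field_simp
    linear_combination hc
  have hne : c ≠ c⁻¹ := fun e => hg (by
    change T * T = 4
    rw [← htr, ← e]
    have : c * c = 1 := by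
      conv_lhs => arg 2; rw [e]
      exact mul_inv_cancel₀ hc0
    linear_combination 4 * this)
  refine (fun ⟨k, hk⟩ => ⟨proj k, Units.mk0 c hc0, by simpa using hne, by
    rw [← hk, map_mul, map_mul, map_inv, proj_liftSL]⟩) (isConj_of_trace (g := g) (h := diag (Units.mk0 c hc0))
      hg.nonScalar ((nonScalar_iff _).2 (Or.inr (Or.inr (by simpa [diag] using hne)))) ?_ (Or.inl hg))
  rw [← hT', Matrix.trace_fin_two]
  simp [diag, htr]

theorem mem_solv_split (h : Small p r F) (t : Fˣ) (ht : (t : F) ≠ ((t⁻¹ : Fˣ) : F)) (hx : Census.Semi p (proj (diag t)))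
    (hx2 : proj (diag t) * proj (diag t) ≠ 1) (g : SL(2, F)) :
    proj g ∈ solv (proj (diag t)) ↔ g 1 0 = 0 ∨ g 0 1 = 0 ∨ (g 0 0 = 0 ∧ g 1 1 = 0) := by
  have ht' : (t : F) - ((t⁻¹ : Fˣ) : F) ≠ 0 := sub_ne_zero.2 ht
  constructor
  · intro hy
    rcases (mem_solv_semi_iff h hx hx2).1 hy with hN | ⟨k, hkx, hky⟩
    · have hm := (Subgroup.mem_normalizer_iff.1 hN _).1 (mem_torus (proj (diag t)))
      rw [torus_eq (g := diag t) rfl, ← map_inv, ← map_mul, ← map_mul] at hm
      obtain ⟨D, hD, hDe⟩ := hm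
      obtain ⟨h01, h10⟩ : (g * diag t * g⁻¹) 0 1 = 0 ∧ (g * diag t * g⁻¹) 1 0 = 0 := by
        have hd := mem_cent_iff.1 hD
        have e1 := congrArg (fun m : SL(2, F) => m 0 1) hd
        have e2 := congrArg (fun m : SL(2, F) => m 1 0) hd
        simp only [mul_entry', diag_00, diag_01, diag_10, diag_11] at e1 e2
        have d1 : D 0 1 = 0 := (mul_eq_zero.1 (show ((t : F) - ((t⁻¹ : Fˣ) : F)) * D 0 1 = 0 by
          linear_combination e1)).resolve_left ht'
        have d2 : D 1 0 = 0 := (mul_eq_zero.1 (show ((t : F) - ((t⁻¹ : Fˣ) : F)) * D 1 0 = 0 by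
          linear_combination -e2)).resolve_left ht'
        rcases eq_or_eq_neg_of_proj_eq hDe with e | e <;> rw [e]
        · exact ⟨d1, d2⟩
        · simp [d1, d2]
      set E := g * diag t * g⁻¹ with hE
      have hEg : E * g = g * diag t := by rw [hE, inv_mul_cancel_right]
      have e00 := congrArg (fun m : SL(2, F) => m 0 0) hEg
      have e01 := congrArg (fun m : SL(2, F) => m 0 1) hEg
      simp only [mul_entry', diag_00, diag_01, diag_10, diag_11, h01, h10, zero_mul, mul_zero, add_zero, zero_add] at e00 e01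
      have e10 := congrArg (fun m : SL(2, F) => m 1 0) hEg
      have e11 := congrArg (fun m : SL(2, F) => m 1 1) hEg
      simp only [mul_entry', diag_00, diag_01, diag_10, diag_11, h01, h10, zero_mul, mul_zero, add_zero, zero_add] at e10 e11
      have hab : g 0 0 * g 0 1 = 0 := (mul_eq_zero.1 (show g 0 0 * g 0 1 * ((t : F) - ((t⁻¹ : Fˣ) : F)) = 0 by
        linear_combination g 0 0 * e01 - g 0 1 * e00)).resolve_right ht'
      have hcd : g 1 0 * g 1 1 = 0 := (mul_eq_zero.1 (show g 1 0 * g 1 1 * ((t : F) - ((t⁻¹ : Fˣ) : F)) = 0 by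
        linear_combination g 1 0 * e11 - g 1 1 * e10)).resolve_right ht'
      rcases mul_eq_zero.1 hab with e | e
      · rcases mul_eq_zero.1 hcd with e' | e'
        · exact Or.inl e'
        · exact Or.inr (Or.inr ⟨e, e'⟩)
      · exact Or.inr (Or.inl e)
    · obtain ⟨m, rfl⟩ := proj_surjective k
      rw [← map_inv, ← map_mul, ← map_mul, proj_mem_borelPSL] at hkx hky
      obtain ⟨i0, i1, i2, i3⟩ : (m⁻¹ : SL(2, F)) 0 0 = m 1 1 ∧ (m⁻¹ : SL(2, F)) 0 1 = -m 0 1 ∧
          (m⁻¹ : SL(2, F)) 1 0 = -m 1 0 ∧ (m⁻¹ : SL(2, F)) 1 1 = m 0 0 := by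
        rw [Matrix.SpecialLinearGroup.coe_inv, Matrix.adjugate_fin_two]; simp
      simp only [mul_entry', i0, i1, i2, i3, diag_00, diag_01, diag_10, diag_11, mul_zero, add_zero, zero_add,
        zero_mul] at hkx hky
      have hcd : m 1 0 * m 1 1 = 0 := (mul_eq_zero.1 (show m 1 0 * m 1 1 * ((t : F) - ((t⁻¹ : Fˣ) : F)) = 0 by
        linear_combination hkx)).resolve_right ht'
      have hdm := det_eq m
      rcases mul_eq_zero.1 hcd with e | e
      · have hd0 : m 1 1 ≠ 0 := fun e' => by simp [e, e'] at hdm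
        left
        have h' : g 1 0 * (m 1 1 * m 1 1) = 0 := by rw [e] at hky; linear_combination hky
        exact (mul_eq_zero.1 h').resolve_right (mul_ne_zero hd0 hd0)
      · have hc0 : m 1 0 ≠ 0 := fun e' => by simp [e, e'] at hdm
        right; left
        have h' : g 0 1 * (m 1 0 * m 1 0) = 0 := by rw [e] at hky; linear_combination -hky
        exact (mul_eq_zero.1 h').resolve_right (mul_ne_zero hc0 hc0)
  · rintro (e | e | ⟨e1, e2⟩)
    · exact mem_solv_of_le isSolvable_borelPSL (proj_mem_borelPSL.2 (diag_10 t)) (proj_mem_borelPSL.2 e)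
    · have hi : ∀ i j, (rot⁻¹ : SL(2, F)) i j = !![0, -1; 1, 0] i j := by
        intro i j; rw [Matrix.SpecialLinearGroup.coe_inv, Matrix.adjugate_fin_two]; simp [rot_00, rot_01, rot_10, rot_11]
      refine (mem_solv_conj (proj (rot : SL(2, F)))).1 (mem_solv_of_le (isSolvable_borelPSL (F := F)) ?_ ?_) <;>
        rw [← map_inv, ← map_mul, ← map_mul, proj_mem_borelPSL] <;>
        simp [mul_entry', hi, rot_00, rot_01, rot_10, rot_11, diag_00, diag_01, diag_10, diag_11, e]
    · refine mem_solv_comm (mem_solv_mul.1 (mem_solv_of_sq (proj_sq_of_trace ?_) ?_))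
      · rw [tr, e1, e2, add_zero]
      · rw [← map_mul]
        exact proj_sq_of_trace (by simp [tr, mul_entry', diag_00, diag_01, diag_10, diag_11, e1, e2])

theorem card_split :
    Nat.card {g : SL(2, F) // g 1 0 = 0 ∨ g 0 1 = 0 ∨ (g 0 0 = 0 ∧ g 1 1 = 0)} =
      2 * Nat.card F * (Nat.card F - 1) := by
  classical
  have e1 : Nat.card {g : SL(2, F) // g 1 0 ≠ 0 ∧ g 0 1 = 0} = (Nat.card F - 1) * (Nat.card F - 1) := by
    rw [← Nat.card_units, ← Nat.card_prod]
    refine Nat.card_congr ⟨fun g => (Units.mk0 (g.1 0 0) ?_, Units.mk0 (g.1 1 0) g.2.1),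
      fun v => ⟨⟨!![(v.1 : F), 0; (v.2 : F), ((v.1⁻¹ : Fˣ) : F)], by simp [Matrix.det_fin_two]⟩, by simp⟩, ?_, ?_⟩
    · intro e
      have := det_eq g.1
      rw [e, g.2.2] at this
      simp at this
    · rintro ⟨g, hg, hg'⟩
      have hd := det_eq g
      rw [hg', zero_mul, sub_zero] at hd
      refine Subtype.ext (Subtype.ext ?_)
      ext i j
      fin_cases i <;> fin_cases j <;> simp [hg']
      exact inv_eq_of_mul_eq_one_right hd
    · intro v; ext <;> simp
  have e2 : Nat.card {g : SL(2, F) // g 0 0 = 0 ∧ g 1 1 = 0} = Nat.card F - 1 := by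
    rw [← Nat.card_units]
    refine Nat.card_congr ⟨fun g => Units.mk0 (g.1 1 0) ?_,
      fun v => ⟨⟨!![0, -((v⁻¹ : Fˣ) : F); (v : F), 0], by simp [Matrix.det_fin_two]⟩, by simp⟩, ?_, ?_⟩
    · intro e
      have := det_eq g.1
      rw [e, g.2.1] at this
      simp at this
    · rintro ⟨g, hg, hg'⟩
      have hd := det_eq g
      rw [hg, zero_mul, zero_sub] at hd
      refine Subtype.ext (Subtype.ext ?_)
      ext i j
      fin_cases i <;> fin_cases j <;> simp [hg, hg']
      have hc : g 1 0 ≠ 0 := fun e => by simp [e] at hd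
      field_simp
      linear_combination hd
    · intro v; ext; simp
  have e3 : Nat.card {g : SL(2, F) // ¬ g 1 0 = 0 ∧ (g 0 1 = 0 ∨ (g 0 0 = 0 ∧ g 1 1 = 0))} =
      (Nat.card F - 1) * (Nat.card F - 1) + (Nat.card F - 1) := by
    conv_rhs => arg 1; rw [← e1]
    conv_rhs => arg 2; rw [← e2]
    rw [← card_or']
    refine Nat.card_congr (Equiv.subtypeEquivRight fun g => ?_)
    · constructor
      · rintro ⟨hc, hb | hd⟩
        exacts [Or.inl ⟨hc, hb⟩, Or.inr hd]
      · rintro (⟨hc, hb⟩ | ⟨ha, hd⟩)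
        · exact ⟨hc, Or.inl hb⟩
        · refine ⟨fun hc => ?_, Or.inr ⟨ha, hd⟩⟩
          have := det_eq g
          rw [ha, hc] at this
          simp at this
    · rintro g ⟨⟨-, hb⟩, ha, hd⟩
      have := det_eq g
      rw [ha, hb] at this
      simp at this
  rw [Nat.card_congr (Equiv.subtypeEquivRight (q := fun g : SL(2, F) => g 1 0 = 0 ∨
      (¬ g 1 0 = 0 ∧ (g 0 1 = 0 ∨ (g 0 0 = 0 ∧ g 1 1 = 0)))) fun g => by tauto),
    card_or' _ _ (fun g => by tauto), card_zero_lower, e3]
  obtain ⟨k, hk⟩ : ∃ k, Nat.card F = k + 1 := ⟨Nat.card F - 1, by have := Finite.one_lt_card (α := F); omega⟩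
  rw [hk, Nat.add_sub_cancel]
  ring

/-! ### The orders of the solubilizers -/

theorem two_card_eq_one (h : Small p r F) (hp2 : p = 2) : dd F = 1 :=
  dd_of_even (by rw [h.card, hp2, Nat.even_pow]; exact ⟨even_two, h.prime.ne_zero⟩)

theorem three_card_eq_two (h : Small p r F) (hp3 : p = 3) : dd F = 2 :=
  dd_of_odd (Nat.odd_iff.2 (by have := mod_four_of_three h hp3; omega))

theorem card_solv_up1_two (h : Small p r F) (hp2 : p = 2) {x : PSL} (hx : orderOf x = 2) :
    Nat.card (solv x) = 3 * Nat.card F * (Nat.card F - 1) := by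
  classical
  haveI := Fintype.ofFinite F
  obtain ⟨k, hk⟩ := exists_conj_up1 h (x := x) (hx.trans hp2.symm)
  have hs : Nat.card (solv x) = Nat.card (solv (proj (up1 : SL(2, F)))) := by
    rcases hk with e | e <;> rw [← card_solv_conj x k, e]
    exact card_solv_inv _
  have hl := card_lift (F := F) (solv (proj (up1 : SL(2, F))))
  rw [two_card_eq_one h hp2, one_mul, Nat.card_congr (Equiv.subtypeEquivRight fun g => mem_solv_invol_even h hp2 g),
    card_borel_or (fun u c => u = 0 ∨ u = c)] at hl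
  have hset : (Finset.univ.filter fun v : F × F => v.2 ≠ 0 ∧ (v.1 = 0 ∨ v.1 = v.2)) =
      ({0} ×ˢ Finset.univ.erase (0 : F)) ∪ (Finset.univ.erase (0 : F)).image (fun c => (c, c)) := by
    ext ⟨u, c⟩
    simp only [Finset.mem_filter, Finset.mem_univ, true_and, Finset.mem_union, Finset.mem_product, Finset.mem_singleton,
      Finset.mem_erase, Finset.mem_image, and_true, Prod.mk.injEq]
    constructor
    · rintro ⟨hc, e | e⟩
      · exact Or.inl ⟨e, hc⟩
      · exact Or.inr ⟨c, hc, e.symm, rfl⟩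
    · rintro (⟨e, hc⟩ | ⟨d, hd, rfl, rfl⟩)
      · exact ⟨hc, Or.inl e⟩
      · exact ⟨hd, Or.inr rfl⟩
  have hcard : Nat.card {v : F × F // v.2 ≠ 0 ∧ (v.1 = 0 ∨ v.1 = v.2)} = 2 * (Nat.card F - 1) := by
    rw [Nat.card_eq_fintype_card, Fintype.card_subtype, hset, Finset.card_union_of_disjoint,
      Finset.card_image_of_injective _ (fun a b e => (Prod.mk.injEq _ _ _ _ ▸ e).1), Finset.card_product,
      Finset.card_singleton, Finset.card_erase_of_mem (Finset.mem_univ _), Finset.card_univ, Nat.card_eq_fintype_card]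
    · omega
    · simp only [Finset.disjoint_left, Finset.mem_product, Finset.mem_singleton, Finset.mem_erase, Finset.mem_image]
      rintro ⟨u, c⟩ ⟨hu, -⟩ ⟨d, ⟨hd, -⟩, e⟩
      exact hd ((Prod.mk.injEq _ _ _ _ ▸ e).1.trans hu)
  rw [hcard] at hl
  rw [hs, ← hl]
  ring

theorem card_solv_up1_three (h : Small p r F) (hp3 : p = 3) {x : PSL} (hx : orderOf x = 3) :
    2 * Nat.card (solv x) = Nat.card F * (Nat.card F + 5) := by
  classical
  haveI := Fintype.ofFinite F
  obtain ⟨k, hk⟩ := exists_conj_up1 h (x := x) (hx.trans hp3.symm)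
  have hs : Nat.card (solv x) = Nat.card (solv (proj (up1 : SL(2, F)))) := by
    rcases hk with e | e <;> rw [← card_solv_conj x k, e]
    exact card_solv_inv _
  have hl := card_lift (F := F) (solv (proj (up1 : SL(2, F))))
  rw [three_card_eq_two h hp3, Nat.card_congr (Equiv.subtypeEquivRight fun g => mem_solv_three h hp3 g),
    card_borel_or (fun u c => (u = 0 ∨ u = 1 ∨ u = -1) ∧ (c = 0 ∨ c = 1 ∨ c = -1))] at hl
  have h11 : (1 : F) ≠ -1 := fun e => two_ne_zero' (F := F) hp3 (by linear_combination e)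
  have hset : (Finset.univ.filter fun v : F × F => v.2 ≠ 0 ∧ ((v.1 = 0 ∨ v.1 = 1 ∨ v.1 = -1) ∧ (v.2 = 0 ∨ v.2 = 1 ∨ v.2 = -1))) =
      ({0, 1, -1} : Finset F) ×ˢ ({1, -1} : Finset F) := by
    ext ⟨u, c⟩
    simp only [Finset.mem_filter, Finset.mem_univ, true_and, Finset.mem_product, Finset.mem_singleton, Finset.mem_insert]
    constructor
    · rintro ⟨hc, hu, hc'⟩; exact ⟨hu, hc'.resolve_left hc⟩
    · rintro ⟨hu, hc⟩
      refine ⟨?_, hu, Or.inr hc⟩
      rcases hc with rfl | rfl <;> simp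
  have hcard : Nat.card {v : F × F // v.2 ≠ 0 ∧ ((v.1 = 0 ∨ v.1 = 1 ∨ v.1 = -1) ∧ (v.2 = 0 ∨ v.2 = 1 ∨ v.2 = -1))} = 6 := by
    rw [Nat.card_eq_fintype_card, Fintype.card_subtype, hset, Finset.card_product, Finset.card_pair h11,
      Finset.card_insert_of_notMem (by simp), Finset.card_pair h11]
  rw [hcard] at hl
  rw [hs, ← hl]
  obtain ⟨m, hm⟩ : ∃ m, Nat.card F = m + 1 := ⟨Nat.card F - 1, by have := Finite.one_lt_card (α := F); omega⟩
  rw [hm, Nat.add_sub_cancel]
  ring

theorem card_solv_rot (h : Small p r F) (hp3 : p = 3) {x : PSL} (hx : orderOf x = 2) :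
    Nat.card (solv x) = Nat.card F * (Nat.card F + 1) := by
  obtain ⟨g, rfl⟩ := proj_surjective x
  have hx1 : proj g ≠ 1 := fun e => by rw [e, orderOf_one] at hx; omega
  have htr : tr g = 0 := (trace_of_proj_sq (by rw [← pow_two]; exact orderOf_dvd_iff_pow_eq_one.1 hx.dvd)).resolve_right hx1
  have hT : (g : Matrix (Fin 2) (Fin 2) F).trace = 0 := by rw [Matrix.trace_fin_two]; exact htr
  have h4 : (g : Matrix (Fin 2) (Fin 2) F).trace * (g : Matrix (Fin 2) (Fin 2) F).trace ≠ 4 := by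
    rw [hT]
    intro e
    exact one_ne_zero (α := F) (by linear_combination -e - three_eq_zero (F := F) hp3)
  obtain ⟨k, hk⟩ := isConj_of_trace (g := g) (h := (rot : SL(2, F))) (nonScalar_of_trace g h4)
    ((nonScalar_iff _).2 (Or.inl (by rw [rot_01]; exact one_ne_zero)))
    (by rw [hT, Matrix.trace_fin_two, rot_00, rot_11, add_zero]) (Or.inl h4)
  have hl := card_lift (F := F) (solv (proj (rot : SL(2, F))))
  rw [three_card_eq_two h hp3, Nat.card_congr (Equiv.subtypeEquivRight fun g => mem_solv_invol_odd h hp3 g),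
    card_invol_odd h hp3] at hl
  rw [← card_solv_conj (proj g) (proj k), ← map_inv, ← map_mul, ← map_mul, hk]
  linarith

/-- `x` of order dividing `q - 1` resp. `q + 1` is semisimple with the corresponding torus. -/
theorem torus_of_dvd {x : PSL} (hx1 : x ≠ 1) (hx2 : x * x ≠ 1)
    (hd : orderOf x ∣ Nat.card F - 1 ∨ orderOf x ∣ Nat.card F + 1) :
    Census.Semi p x ∧ (orderOf x ∣ Nat.card F - 1 → Nat.card (torus x) = (Nat.card F - 1) / dd F) ∧
      (orderOf x ∣ Nat.card F + 1 → Nat.card (torus x) = (Nat.card F + 1) / dd F) := by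
  haveI := Fintype.ofFinite F
  have hq1 : 1 < Nat.card F := Finite.one_lt_card
  obtain ⟨n, -, hn⟩ := FiniteField.card F p
  rw [← Nat.card_eq_fintype_card] at hn
  have hpq : p ∣ Nat.card F := hn ▸ dvd_pow_self p n.pos.ne'
  have hs : Census.Semi p x := ⟨hx1, fun hp' => hp.out.not_dvd_one (by
    rcases hd with hd | hd
    · have := Nat.dvd_sub hpq (hp'.trans hd)
      rwa [Nat.sub_sub_self hq1.le] at this
    · exact (Nat.dvd_add_right hpq).1 (hp'.trans hd))⟩
  have htwo : orderOf x ∣ Nat.card F - 1 → orderOf x ∣ Nat.card F + 1 → False := fun a b => hx2 (by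
    rw [← pow_two, ← orderOf_dvd_iff_pow_eq_one]
    have := Nat.dvd_sub b a
    rwa [show Nat.card F + 1 - (Nat.card F - 1) = 2 by omega] at this)
  have hT := Subgroup.orderOf_dvd_natCard (torus x) (mem_torus x)
  refine ⟨hs, fun h1 => ?_, fun h1 => ?_⟩ <;> rcases card_torus_cases p hs with e | e
  · exact e
  · exact (htwo h1 ((e ▸ hT).trans (Nat.div_dvd_of_dvd dd_dvd_succ))).elim
  · exact (htwo ((e ▸ hT).trans (Nat.div_dvd_of_dvd dd_dvd_pred)) h1).elim
  · exact e

theorem card_solv_pred (h : Small p r F) {x : PSL} (hx1 : x ≠ 1) (hx2 : x * x ≠ 1) (hd : orderOf x ∣ Nat.card F - 1) :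
    dd F * Nat.card (solv x) = 2 * Nat.card F * (Nat.card F - 1) := by
  obtain ⟨hs, hT, -⟩ := torus_of_dvd (p := p) hx1 hx2 (Or.inl hd)
  obtain ⟨k, t, ht, hk⟩ := exists_conj_diag hs (hT hd)
  have hs' : Census.Semi p (proj (diag t)) := by
    rw [← hk]
    exact ⟨fun e => hx1 (conj_eq_one_iff.1 e), by rw [← MulAut.conj_apply, MulEquiv.orderOf_eq]; exact hs.2⟩
  have hx2' : proj (diag t) * proj (diag t) ≠ 1 := by
    rw [← hk, conj_mul]; exact fun e => hx2 (conj_eq_one_iff.1 e)
  rw [← card_solv_conj x k, hk, ← card_lift,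
    Nat.card_congr (Equiv.subtypeEquivRight fun g => mem_solv_split h t ht hs' hx2' g), card_split]

theorem card_solv_succ (h : Small p r F) {x : PSL} (hx1 : x ≠ 1) (hx2 : x * x ≠ 1) (hd : orderOf x ∣ Nat.card F + 1) :
    dd F * Nat.card (solv x) = 2 * (Nat.card F + 1) := by
  obtain ⟨hs, -, hT⟩ := torus_of_dvd (p := p) hx1 hx2 (Or.inr hd)
  have hno : ∀ k : PSL, k * x * k⁻¹ ∉ borelPSL F := fun k hkx => hx2 (by
    have h1 := Subgroup.orderOf_dvd_natCard _ hkx
    rw [← MulAut.conj_apply, MulEquiv.orderOf_eq] at h1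
    have h2 : orderOf x ∣ Nat.card F * (Nat.card F - 1) := (h1.trans (dvd_mul_left _ _)).trans card_borelPSL.dvd
    have hco : (orderOf x).Coprime (Nat.card F) := Nat.Coprime.coprime_dvd_left hd (by simp [Nat.coprime_add_self_left, Nat.coprime_comm])
    have h3 := Nat.dvd_sub hd (hco.dvd_of_dvd_mul_left h2)
    have := Finite.one_lt_card (α := F)
    rw [show Nat.card F + 1 - (Nat.card F - 1) = 2 by omega] at h3
    rw [← pow_two]; exact orderOf_dvd_iff_pow_eq_one.1 h3)
  have heq : solv x = (Subgroup.normalizer (torus x : Set PSL) : Set PSL) := by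
    ext y
    rw [mem_solv_semi_iff h hs hx2]
    exact ⟨fun h' => h'.resolve_right fun ⟨k, hk, _⟩ => hno k hk, Or.inl⟩
  rw [heq]
  change dd F * Nat.card (Subgroup.normalizer (torus x : Set PSL)) = _
  rw [card_normalizer_torus p hs, hT hd, mul_left_comm, Nat.mul_div_cancel' dd_dvd_succ]

end CfsgLib.SL2.Solubilizer
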