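import Mathlib
import Cfsg.Agent.Lib.SL2.Dickson

/-!
The subgroup of order `120` generated by two transvections over the field of nine elements.
-/

set_option autoImplicit false

namespace CfsgLib.SL2.NineTable

open Matrix
open scoped MatrixGroups

/-- Pairs `(a, b)` stand for `a + b i`. -/
abbrev P2 := Fin 3 × Fin 3

/-- Quadruples of entries. -/
abbrev M2 := P2 × P2 × P2 × P2

def mul2 (x y : P2) : P2 := (x.1 * y.1 + 2 * (x.2 * y.2), x.1 * y.2 + x.2 * y.1)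

def mulM : M2 → M2 → M2
  | (a, b, c, d), (e, f, g, h) =>
    (mul2 a e + mul2 b g, mul2 a f + mul2 b h, mul2 c e + mul2 d g, mul2 c f + mul2 d h)

def elts : List M2 := [
  ((1,0),(0,0),(0,0),(1,0)), ((1,0),(0,0),(1,0),(1,0)), ((1,0),(0,1),(0,0),(1,0)), ((1,0),(0,0),(2,0),(1,0)),
  ((1,0),(0,1),(1,0),(1,1)), ((1,1),(0,1),(1,0),(1,0)), ((1,0),(0,2),(0,0),(1,0)), ((1,0),(0,1),(2,0),(1,2)),
  ((1,1),(0,1),(2,1),(1,1)), ((1,0),(0,2),(1,0),(1,2)), ((1,2),(0,1),(2,0),(1,0)), ((1,1),(2,2),(1,0),(1,1)),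
  ((1,2),(0,2),(1,0),(1,0)), ((1,1),(0,1),(0,2),(1,2)), ((1,0),(0,2),(2,0),(1,1)), ((1,2),(0,1),(0,2),(1,1)),
  ((1,1),(2,2),(2,1),(0,0)), ((1,2),(0,2),(2,2),(1,2)), ((1,2),(1,2),(2,0),(1,2)), ((0,0),(2,2),(2,1),(1,1)),
  ((1,1),(1,0),(1,0),(1,2)), ((1,1),(0,2),(2,0),(1,0)), ((1,2),(1,0),(1,0),(1,1)), ((1,2),(0,1),(1,1),(1,2)),
  ((1,1),(2,2),(0,2),(2,2)), ((1,2),(0,2),(0,1),(1,1)), ((1,2),(1,2),(0,2),(2,1)), ((0,0),(2,2),(2,1),(0,0)),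
  ((1,1),(1,0),(2,1),(2,2)), ((1,1),(0,2),(0,1),(1,2)), ((1,2),(1,0),(2,2),(2,1)), ((2,1),(1,2),(0,2),(1,2)),
  ((1,2),(2,0),(2,0),(1,1)), ((2,2),(2,2),(0,2),(1,1)), ((2,1),(1,0),(2,2),(1,2)), ((1,1),(2,0),(2,0),(1,2)),
  ((2,2),(1,0),(2,1),(1,1)), ((1,2),(2,1),(1,0),(1,2)), ((1,2),(1,2),(1,1),(0,0)), ((0,0),(2,2),(2,1),(2,2)),
  ((1,1),(1,0),(0,2),(0,2)), ((1,1),(0,2),(1,2),(1,1)), ((1,2),(1,0),(0,1),(0,1)), ((2,1),(1,2),(2,0),(2,1)),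
  ((1,2),(2,0),(0,2),(0,1)), ((2,2),(2,2),(2,1),(0,0)), ((2,1),(1,0),(1,0),(2,2)), ((1,1),(2,0),(0,1),(0,2)),
  ((2,2),(1,0),(1,0),(2,1)), ((1,2),(2,1),(2,2),(0,0)), ((0,0),(1,2),(1,1),(1,2)), ((2,1),(0,1),(0,2),(2,2)),
  ((0,2),(2,0),(0,1),(1,1)), ((2,2),(0,1),(0,2),(2,1)), ((0,1),(1,0),(0,1),(1,2)), ((2,1),(0,2),(2,2),(2,1)),
  ((0,1),(2,0),(0,2),(1,2)), ((1,1),(1,1),(2,0),(1,1)), ((0,2),(1,0),(0,2),(1,1)), ((0,0),(2,1),(2,2),(1,2)),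
  ((2,1),(1,2),(1,1),(0,0)), ((1,2),(2,0),(1,1),(2,1)), ((2,2),(2,2),(1,0),(2,2)), ((2,1),(1,0),(0,1),(0,2)),
  ((1,1),(2,0),(1,2),(2,2)), ((2,2),(1,0),(0,2),(0,1)), ((1,2),(2,1),(0,1),(2,1)), ((0,0),(1,2),(1,1),(2,1)),
  ((2,1),(0,1),(2,0),(2,0)), ((0,2),(2,0),(0,0),(0,1)), ((2,2),(0,1),(2,1),(2,2)), ((0,1),(1,0),(0,2),(2,2)),
  ((2,1),(0,2),(1,0),(2,0)), ((0,1),(2,0),(0,0),(0,2)), ((1,1),(1,1),(0,1),(2,2)), ((0,2),(1,0),(0,1),(2,1)),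
  ((0,0),(2,1),(2,2),(0,0)), ((0,0),(1,2),(1,1),(0,0)), ((2,1),(2,0),(0,2),(0,2)), ((2,2),(2,0),(1,2),(1,1)),
  ((0,2),(0,0),(0,1),(0,1)), ((2,0),(0,1),(2,0),(2,1)), ((0,1),(0,0),(0,1),(0,2)), ((2,0),(0,2),(1,0),(2,1)),
  ((2,1),(2,1),(2,2),(0,0)), ((2,1),(2,0),(1,1),(1,2)), ((2,2),(1,1),(0,1),(1,1)), ((0,2),(2,0),(0,2),(2,1)),
  ((2,1),(2,1),(0,1),(1,2)), ((0,0),(2,1),(2,2),(2,1)), ((2,1),(0,1),(1,1),(2,1)), ((2,2),(0,1),(1,0),(2,0)),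
  ((0,1),(1,0),(0,0),(0,2)), ((2,1),(0,2),(0,1),(2,2)), ((0,1),(2,0),(0,1),(2,2)), ((1,1),(1,1),(1,2),(0,0)),
  ((0,2),(1,0),(0,0),(0,1)), ((2,1),(2,0),(2,0),(2,2)), ((2,2),(2,0),(0,1),(0,1)), ((0,2),(0,0),(0,0),(0,1)),
  ((2,0),(0,1),(1,0),(2,2)), ((0,1),(0,0),(0,2),(0,2)), ((2,0),(0,2),(0,0),(2,0)), ((2,1),(2,1),(1,0),(2,1)),
  ((2,2),(1,1),(2,0),(2,2)), ((2,2),(0,2),(1,2),(2,2)), ((0,2),(0,0),(0,2),(0,1)), ((2,0),(0,0),(2,0),(2,0)),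
  ((0,1),(0,0),(0,0),(0,2)), ((2,2),(0,2),(0,1),(2,1)), ((0,0),(1,1),(1,2),(1,1)), ((2,2),(2,0),(2,0),(2,1)),
  ((2,0),(0,1),(0,0),(2,0)), ((2,0),(0,2),(2,0),(2,2)), ((2,2),(1,1),(1,2),(0,0)), ((2,0),(0,0),(1,0),(2,0)),
  ((2,2),(0,2),(2,0),(2,0)), ((0,0),(1,1),(1,2),(2,2)), ((2,0),(0,0),(0,0),(2,0)), ((0,0),(1,1),(1,2),(0,0))]

def step1 : List ℕ := [1, 3, 5, 0, 8, 10, 12, 13, 15, 17, 2, 19, 21, 23, 25, 4, 27, 29, 31, 33,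
  34, 6, 36, 7, 39, 41, 43, 45, 46, 9, 48, 50, 52, 11, 54, 56, 58, 59, 60, 62,
  63, 14, 65, 67, 69, 16, 71, 73, 75, 76, 18, 70, 79, 81, 20, 83, 85, 86, 22, 88,
  77, 87, 24, 92, 94, 96, 89, 26, 91, 98, 100, 28, 102, 78, 104, 30, 84, 38, 47, 32,
  106, 90, 108, 109, 49, 35, 110, 111, 37, 103, 53, 112, 40, 113, 97, 114, 42, 64, 44, 80,
  51, 82, 116, 66, 117, 93, 99, 115, 101, 55, 57, 61, 68, 105, 119, 118, 72, 74, 107, 95]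

def step2 : List ℕ := [2, 4, 6, 7, 9, 11, 0, 14, 16, 1, 18, 20, 22, 24, 3, 26, 28, 30, 32, 27,
  5, 35, 37, 38, 40, 42, 44, 39, 8, 47, 49, 51, 10, 53, 55, 57, 45, 12, 61, 19,
  13, 64, 66, 68, 15, 70, 72, 74, 62, 17, 77, 78, 80, 65, 82, 84, 71, 21, 87, 89,
  90, 23, 91, 93, 95, 33, 25, 50, 97, 99, 36, 101, 103, 92, 29, 52, 59, 67, 31, 105,
  75, 107, 94, 100, 34, 60, 98, 106, 63, 76, 85, 48, 108, 88, 54, 41, 69, 43, 109, 96,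
  115, 56, 112, 46, 111, 114, 58, 113, 73, 86, 117, 116, 118, 81, 79, 83, 104, 119, 102, 110]

theorem closed : ∀ i : Fin 120,
    step1[i.1]! < 120 ∧ mulM elts[i.1]! ((1, 0), (0, 0), (1, 0), (1, 0)) = elts[step1[i.1]!]! ∧
    step2[i.1]! < 120 ∧ mulM elts[i.1]! ((1, 0), (0, 1), (0, 0), (1, 0)) = elts[step2[i.1]!]! := by
  decide +kernel

theorem elts_zero : elts[0]! = ((1, 0), (0, 0), (0, 0), (1, 0)) := rfl

variable {F : Type*} [Field F] [CharP F 3]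

/-- Reading a pair. -/
def val2 (lam : F) (x : P2) : F := ((x.1 : ℕ) : F) + ((x.2 : ℕ) : F) * lam

theorem cast3_add (a b : Fin 3) : (((a + b : Fin 3) : ℕ) : F) = ((a : ℕ) : F) + ((b : ℕ) : F) := by
  rw [← Nat.cast_add, CharP.natCast_eq_natCast F 3, Nat.ModEq, Fin.val_add, Nat.mod_mod]

theorem cast3_mul (a b : Fin 3) : (((a * b : Fin 3) : ℕ) : F) = ((a : ℕ) : F) * ((b : ℕ) : F) := by
  rw [← Nat.cast_mul, CharP.natCast_eq_natCast F 3, Nat.ModEq, Fin.val_mul, Nat.mod_mod]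

theorem val2_add (lam : F) (x y : P2) : val2 lam (x + y) = val2 lam x + val2 lam y := by
  simp only [val2, Prod.fst_add, Prod.snd_add, cast3_add]; ring

theorem val2_mul {lam : F} (hl : lam ^ 2 = -1) (x y : P2) : val2 lam (mul2 x y) = val2 lam x * val2 lam y := by
  have h2 : (((2 : Fin 3) : ℕ) : F) = -1 := by
    have h3 : ((3 : ℕ) : F) = 0 := CharP.cast_eq_zero F 3
    show ((2 : ℕ) : F) = -1
    push_cast at h3 ⊢
    linear_combination h3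
  simp only [val2, mul2, cast3_add, cast3_mul, h2]
  linear_combination (-((x.2 : ℕ) : F) * ((y.2 : ℕ) : F)) * hl

/-- Reading a quadruple. -/
def matOf (lam : F) (A : M2) : Matrix (Fin 2) (Fin 2) F :=
  !![val2 lam A.1, val2 lam A.2.1; val2 lam A.2.2.1, val2 lam A.2.2.2]

attribute [local irreducible] elts step1 step2

/-- At most `120` elements are generated. -/
theorem card_closure_le [Finite F] {lam : F} (hl : lam ^ 2 = -1) :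
    Nat.card (Subgroup.closure ({lo 1, up lam} : Set SL(2, F))) ≤ 120 := by
  classical
  have hmul : ∀ x y : M2, matOf lam (mulM x y) = matOf lam x * matOf lam y := by
    rintro ⟨a, b, c, d⟩ ⟨e, f, g, h⟩
    simp only [matOf, mulM, val2_add, val2_mul hl, Matrix.mul_fin_two]
  have h1 : ((lo 1 : SL(2, F)) : Matrix (Fin 2) (Fin 2) F) = matOf lam ((1, 0), (0, 0), (1, 0), (1, 0)) := by
    rw [lo_coe]; simp [matOf, val2]
  have h2 : ((up lam : SL(2, F)) : Matrix (Fin 2) (Fin 2) F) = matOf lam ((1, 0), (0, 1), (0, 0), (1, 0)) := by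
    rw [up_coe]; simp [matOf, val2]
  let S : Set SL(2, F) := {g | ∃ i : Fin 120, (g : Matrix (Fin 2) (Fin 2) F) = matOf lam elts[i.1]!}
  have hstep : ∀ g ∈ S, g * lo 1 ∈ S ∧ g * up lam ∈ S := by
    rintro g ⟨i, hi⟩
    obtain ⟨a1, b1, a2, b2⟩ := closed i
    exact ⟨⟨⟨_, a1⟩, by rw [Matrix.SpecialLinearGroup.coe_mul, hi, h1]; exact (hmul _ _).symm.trans (congrArg (matOf lam) b1)⟩,
      ⟨⟨_, a2⟩, by rw [Matrix.SpecialLinearGroup.coe_mul, hi, h2]; exact (hmul _ _).symm.trans (congrArg (matOf lam) b2)⟩⟩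
  have hgen : ∀ g ∈ Submonoid.closure ({lo 1, up lam} : Set SL(2, F)), g ∈ S := fun g hg => by
    induction hg using Submonoid.closure_induction_right with
    | one => exact ⟨0, by
        show _ = matOf lam elts[0]!
        rw [Matrix.SpecialLinearGroup.coe_one, elts_zero]; simp [matOf, val2, Matrix.one_fin_two]⟩
    | mul_right x _ y hy ih =>
      rcases hy with rfl | rfl
      exacts [(hstep x ih).1, (hstep x ih).2]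
  have hS : ((Subgroup.closure ({lo 1, up lam} : Set SL(2, F))) : Set SL(2, F)) ⊆ S := fun g hg =>
    hgen g (by rwa [← Subgroup.closure_toSubmonoid_of_finite] )
  let f : Subgroup.closure ({lo 1, up lam} : Set SL(2, F)) → Fin 120 := fun g => (hS g.2).choose
  have hf : Function.Injective f := fun g g' e => by
    refine Subtype.ext (Subtype.ext ?_)
    rw [(hS g.2).choose_spec, (hS g'.2).choose_spec]
    exact congrArg (fun i : Fin 120 => matOf lam elts[i.1]!) e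
  exact (Nat.card_le_card_of_injective f hf).trans_eq (Nat.card_fin _)

end CfsgLib.SL2.NineTable
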