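import Mathlib
import Cfsg.Agent.Lib.SL2.Unipotent
import Cfsg.Agent.Lib.SL2.Centralizer

set_option autoImplicit false

/-!
Classes of elements of order `p` in `GL_2` and `SL_2` in characteristic `p`.
-/

namespace CfsgLib.SL2

open Matrix
open scoped MatrixGroups

variable {F : Type*} [Field F]

/-- Facts on a unipotent `2 × 2` matrix. -/
theorem unip_facts (p : ℕ) [Fact p.Prime] [CharP F p] (M : Matrix (Fin 2) (Fin 2) F)
    (h : M ^ p = 1) : M.trace = 2 ∧ M.det = 1 ∧ (M ≠ 1 → NonScalar M) := by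
  have hN : IsNilpotent (M - 1) := ⟨p, by
    rw [sub_pow_char_of_commute p (Commute.one_right M), h, one_pow, sub_self]⟩
  have htr : (M - 1).trace = 0 := (Matrix.isNilpotent_trace_of_isNilpotent hN).eq_zero
  have hdet : M.det = 1 := by
    have h1 := congrArg Matrix.det h
    rw [Matrix.det_pow, Matrix.det_one] at h1
    exact sub_eq_zero.mp (eq_zero_of_pow_eq_zero (n := p) (by rw [sub_pow_char, h1, one_pow, sub_self]))
  have htr' : M.trace = 2 := by
    rw [Matrix.trace_sub, Matrix.trace_one, Fintype.card_fin, sub_eq_zero] at htr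
    rw [htr]; norm_num
  refine ⟨htr', hdet, fun hM c hc => hM ?_⟩
  have h2 : c ^ p = 1 := by
    have h1 := congrFun (congrFun h 0) 0
    rw [hc, smul_pow, one_pow] at h1
    simpa using h1
  have h3 : c = 1 :=
    sub_eq_zero.mp (eq_zero_of_pow_eq_zero (n := p) (by rw [sub_pow_char, h2, one_pow, sub_self]))
  rw [hc, h3, one_smul]

theorem unip_facts_SL (p : ℕ) [Fact p.Prime] [CharP F p] (g : SL(2, F)) (h : orderOf g = p) :
    (g : Matrix (Fin 2) (Fin 2) F).trace = 2 ∧ NonScalar (g : Matrix (Fin 2) (Fin 2) F) := by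
  have h1 : (g : Matrix (Fin 2) (Fin 2) F) ^ p = 1 := by
    rw [← Matrix.SpecialLinearGroup.coe_pow, ← h, pow_orderOf_eq_one,
      Matrix.SpecialLinearGroup.coe_one]
  obtain ⟨a, -, c⟩ := unip_facts p _ h1
  refine ⟨a, c fun hg => ?_⟩
  rw [show g = 1 from Subtype.ext hg, orderOf_one] at h
  exact (Fact.out : p.Prime).ne_one h.symm

theorem upperHom_conj_upperHom {t : F} (k : SL(2, F)) {s : F}
    (h : k * upperHom (Multiplicative.ofAdd t) = upperHom (Multiplicative.ofAdd s) * k) :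
    (k : Matrix (Fin 2) (Fin 2) F) 1 0 * t = 0 ∧
    (k : Matrix (Fin 2) (Fin 2) F) 0 0 * t = s * (k : Matrix (Fin 2) (Fin 2) F) 1 1 := by
  have h0 := congrArg (fun x : SL(2, F) => (x : Matrix (Fin 2) (Fin 2) F)) h
  simp only [Matrix.SpecialLinearGroup.coe_mul, upperHom_coe, toAdd_ofAdd] at h0
  have h1 := congrFun (congrFun h0 1) 1
  have h2 := congrFun (congrFun h0 0) 1
  simp [Matrix.mul_apply] at h1 h2
  refine ⟨?_, ?_⟩
  · rcases h1 with e | e <;> simp [e]
  · linear_combination h2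

/-- `u(t)` and `u(s)` are conjugate in `SL_2` iff `t * s` is a square. -/
theorem isConj_upperHom_iff {t s : F} (ht : t ≠ 0) (hs : s ≠ 0) :
    IsConj (upperHom (Multiplicative.ofAdd t)) (upperHom (Multiplicative.ofAdd s)) ↔
      IsSquare (t * s) := by
  constructor
  · intro h
    obtain ⟨k, hk⟩ := isConj_iff.mp h
    obtain ⟨h1, h2⟩ := upperHom_conj_upperHom k (mul_inv_eq_iff_eq_mul.mp hk)
    have h10 := (mul_eq_zero.mp h1).resolve_right ht
    have hdet := k.det_coe
    rw [Matrix.det_fin_two, h10, mul_zero, sub_zero] at hdet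
    exact ⟨(k : Matrix (Fin 2) (Fin 2) F) 0 0 * t, by
      linear_combination (-(t * s)) * hdet
        - t * (k : Matrix (Fin 2) (Fin 2) F) 0 0 * h2⟩
  · rintro ⟨r, hr⟩
    have hr0 : r ≠ 0 := fun e => mul_ne_zero ht hs (by rw [hr, e, mul_zero])
    obtain ⟨k, hk⟩ : ∃ k : SL(2, F), (k : Matrix (Fin 2) (Fin 2) F) = !![r / t, 0; 0, t / r] :=
      ⟨⟨_, by rw [Matrix.det_fin_two_of]; field_simp; ring⟩, rfl⟩
    refine isConj_iff.mpr ⟨k, mul_inv_eq_iff_eq_mul.mpr (Subtype.ext ?_)⟩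
    simp only [Matrix.SpecialLinearGroup.coe_mul, upperHom_coe, toAdd_ofAdd, hk]
    ext i j
    fin_cases i <;> fin_cases j <;> simp [Matrix.mul_apply]
    field_simp
    linear_combination -hr

/-- Every non-central unipotent element of `SL_2` is conjugate to some `u(t)`. -/
theorem exists_isConj_upperHom {g : SL(2, F)}
    (hg : NonScalar (g : Matrix (Fin 2) (Fin 2) F))
    (htr : (g : Matrix (Fin 2) (Fin 2) F).trace = 2) :
    ∃ t : F, t ≠ 0 ∧ IsConj g (upperHom (Multiplicative.ofAdd t)) := by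
  have hN : NonScalar (!![1, 1; 0, 1] : Matrix (Fin 2) (Fin 2) F) :=
    (nonScalar_iff _).mpr (Or.inl (by simp))
  obtain ⟨P, hP, hPg⟩ := exists_conj_of_trace_det hg hN
    (by rw [htr, Matrix.trace_fin_two]; simp; norm_num) (by rw [g.det_coe]; simp [Matrix.det_fin_two])
  obtain ⟨k, hk⟩ : ∃ k : SL(2, F), (k : Matrix (Fin 2) (Fin 2) F) = !![P.det⁻¹, 0; 0, 1] * P :=
    ⟨⟨_, by rw [Matrix.det_mul, Matrix.det_fin_two_of]; simp [hP]⟩, rfl⟩
  refine ⟨P.det⁻¹, inv_ne_zero hP, isConj_iff.mpr ⟨k, mul_inv_eq_iff_eq_mul.mpr (Subtype.ext ?_)⟩⟩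
  simp only [Matrix.SpecialLinearGroup.coe_mul, upperHom_coe, toAdd_ofAdd, hk]
  rw [Matrix.mul_assoc, hPg, ← Matrix.mul_assoc, ← Matrix.mul_assoc]
  congr 1
  ext i j
  fin_cases i <;> fin_cases j <;> simp

theorem orderOf_upperHom (p : ℕ) [Fact p.Prime] [CharP F p] {t : F} (ht : t ≠ 0) :
    orderOf (upperHom (Multiplicative.ofAdd t)) = p := by
  rw [orderOf_injective _ upperHom_injective]
  refine orderOf_eq_prime ?_ (by simpa using ht)
  rw [← ofAdd_nsmul, nsmul_eq_mul, CharP.cast_eq_zero, zero_mul, ofAdd_zero]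

theorem mem_cent_upperHom {t : F} (ht : t ≠ 0) {h : SL(2, F)} :
    h ∈ cent (upperHom (Multiplicative.ofAdd t)) ↔
      (h : Matrix (Fin 2) (Fin 2) F) 1 0 = 0 ∧
        (h : Matrix (Fin 2) (Fin 2) F) 0 0 = (h : Matrix (Fin 2) (Fin 2) F) 1 1 := by
  rw [mem_cent_iff]
  constructor
  · intro e
    obtain ⟨h1, h2⟩ := upperHom_conj_upperHom h e.symm
    exact ⟨(mul_eq_zero.mp h1).resolve_right ht, mul_left_cancel₀ ht (by linear_combination h2)⟩
  · rintro ⟨h10, h00⟩
    apply Subtype.ext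
    simp only [Matrix.SpecialLinearGroup.coe_mul, upperHom_coe, toAdd_ofAdd]
    ext i j
    fin_cases i <;> fin_cases j <;> simp [Matrix.mul_apply, h10, h00]
    ring

theorem card_cent_upperHom [Finite F] (h2 : (2 : F) ≠ 0) {t : F} (ht : t ≠ 0) :
    Nat.card (cent (upperHom (Multiplicative.ofAdd t))) = 2 * Nat.card F := by
  classical
  have hroots : Nat.card {a : F // a * a = 1} = 2 := by
    have hne : (1 : F) ≠ -1 := fun e => h2 (by linear_combination e)
    rw [show {a : F // a * a = 1} = ↥({a : F | a * a = 1} : Set F) from rfl, Nat.card_coe_set_eq,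
      show {a : F | a * a = 1} = {1, -1} from Set.ext fun a => by simp [mul_self_eq_one_iff],
      Set.ncard_pair hne]
  refine Eq.trans ?_ (congrArg (· * Nat.card F) hroots)
  rw [← Nat.card_prod]
  refine Nat.card_congr
    { toFun := fun h => (⟨((h : SL(2, F)) : Matrix (Fin 2) (Fin 2) F) 0 0, ?_⟩,
        ((h : SL(2, F)) : Matrix (Fin 2) (Fin 2) F) 0 1)
      invFun := fun x => ⟨⟨!![x.1.1, x.2; 0, x.1.1], ?_⟩,
        (mem_cent_upperHom ht).mpr ⟨rfl, rfl⟩⟩
      left_inv := fun h => ?_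
      right_inv := fun x => ?_ }
  · obtain ⟨h10, h00⟩ := (mem_cent_upperHom ht).mp h.2
    have hdet := (h : SL(2, F)).det_coe
    rw [Matrix.det_fin_two, h10, mul_zero, sub_zero, ← h00] at hdet
    exact hdet
  · rw [Matrix.det_fin_two_of, mul_zero, sub_zero, x.1.2]
  · obtain ⟨h10, h00⟩ := (mem_cent_upperHom ht).mp h.2
    refine Subtype.ext (Subtype.ext ?_)
    ext i j
    fin_cases i <;> fin_cases j <;> simp [h10, h00]
  · ext <;> simp

theorem card_carrier_upperHom [Fintype F] (h2 : (2 : F) ≠ 0) {t : F} (ht : t ≠ 0) :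
    Nat.card (ConjClasses.mk (upperHom (Multiplicative.ofAdd t))).carrier =
      (Fintype.card F ^ 2 - 1) / 2 := by
  set g := upperHom (Multiplicative.ofAdd t) with hg
  have h1 := MulAction.index_stabilizer (ConjAct SL(2, F)) g
  rw [ConjAct.orbit_eq_carrier_conjClasses] at h1
  have h3 := Subgroup.card_mul_index (cent g)
  have h4 : (cent g).index = (MulAction.stabilizer (ConjAct SL(2, F)) g).index := by
    show (Subgroup.centralizer {g}).index = _
    rw [Subgroup.centralizer_eq_comap_stabilizer]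
    exact Subgroup.index_comap_of_surjective _ fun x => ⟨ConjAct.ofConjAct x, rfl⟩
  rw [card_cent_upperHom h2 ht, h4, h1, CfsgLib.Classical.card_SL_two, Nat.card_eq_fintype_card]
    at h3
  rw [Nat.card_coe_set_eq]
  set c := (ConjClasses.mk g).carrier.ncard
  have hq : 0 < Fintype.card F := Fintype.card_pos
  have h5 : 2 * c = Fintype.card F ^ 2 - 1 :=
    Nat.eq_of_mul_eq_mul_left hq (by rw [← h3]; ring)
  omega

theorem exists_nonsquare_dichotomy [Finite F] (h2 : ringChar F ≠ 2) :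
    ∃ ν : F, ν ≠ 0 ∧ ¬ IsSquare ν ∧ ∀ t : F, t ≠ 0 → IsSquare t ∨ IsSquare (t * ν) := by
  classical
  have := Fintype.ofFinite F
  obtain ⟨ν, hν⟩ := FiniteField.exists_nonsquare (F := F) h2
  have hν0 : ν ≠ 0 := fun e => hν (e ▸ IsSquare.zero)
  refine ⟨ν, hν0, hν, fun t ht => or_iff_not_imp_left.mpr fun hn => ?_⟩
  rw [← quadraticChar_one_iff_isSquare (mul_ne_zero ht hν0), map_mul,
    quadraticChar_neg_one_iff_not_isSquare.mpr hn, quadraticChar_neg_one_iff_not_isSquare.mpr hν]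
  norm_num

end CfsgLib.SL2
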