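import Mathlib
import Cfsg.Agent.Lib.Binary.Hat
import Cfsg.Agent.Lib.SL2.Klein
import Cfsg.Agent.Lib.SL2.Maximal
import Cfsg.Agent.Lib.Classical.Transvection

/-!
Binary coset actions of `PSL(2, q)`: general facts.
-/

set_option autoImplicit false
set_option linter.unusedSectionVars false

namespace CfsgLib.SL2.Bin

open Matrix
open scoped MatrixGroups Pointwise
open CfsgLib.Binary CfsgLib.SL2

variable {F : Type*} [Field F] [Finite F]

local notation "PSL" => ProjectiveSpecialLinearGroup (Fin 2) F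

theorem exists_sq_ne_one (h4 : 4 ≤ Nat.card F) : ∃ x : F, x ≠ 0 ∧ x ^ 2 ≠ 1 := by
  by_contra hc
  push Not at hc
  classical
  have := Fintype.ofFinite F
  have hle : (Finset.univ : Finset F) ⊆ {0, 1, -1} := fun x _ => by
    by_cases hx : x = 0
    · simp [hx]
    rcases sq_eq_one_iff.1 (hc x hx) with e | e <;> simp [e]
  have := (Finset.card_le_card hle).trans Finset.card_le_three
  rw [Finset.card_univ, Fintype.card_eq_nat_card] at this
  omega

theorem isSimple (h4 : 4 ≤ Nat.card F) : IsSimpleGroup PSL :=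
  CfsgLib.Classical.isSimpleGroup_PSL (Or.inr (exists_sq_ne_one h4))

/-- A closure of a fixed-point-having element is never normalized by the whole group. -/
theorem normalizer_hat_ne_top (h4 : 4 ≤ Nat.card F) {H : Subgroup PSL} (hH : H ≠ ⊤) {x k : PSL}
    (hx1 : x ≠ 1) (hx : k⁻¹ * x * k ∈ H) :
    Subgroup.normalizer (hat H x : Set PSL) ≠ ⊤ := by
  intro h
  have hn : (hat H x).Normal := Subgroup.normalizer_eq_top_iff.1 h
  rcases (isSimple h4).eq_bot_or_eq_top_of_normal _ hn with e | e
  · exact hx1 (by simpa [e] using self_mem_hat H x)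
  · refine hH (eq_top_iff.2 fun g _ => ?_)
    have hm : k * g * k⁻¹ ∈ hat H x := by rw [e]; exact Subgroup.mem_top _
    simpa [mul_assoc] using conj_mem_of_mem_hat hx hm

theorem hat_le_conj {H : Subgroup PSL} {x k : PSL} (hx : k⁻¹ * x * k ∈ H) :
    hat H x ≤ H.map (MulAut.conj k).toMonoidHom := fun g hg => by
  refine ⟨k⁻¹ * g * k, conj_mem_of_mem_hat hx hg, ?_⟩
  simp [mul_assoc]

end CfsgLib.SL2.Bin
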