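import Mathlib
import Cfsg.Agent.Lib.SL2.Maximal
import Cfsg.Prelude.Def_CaseTheorems

/-!
When is `PSL(2, q)` a minimal simple group.
-/

set_option autoImplicit false
set_option linter.unusedSectionVars false
set_option maxHeartbeats 400000

namespace CfsgLib.SL2

open Matrix
open scoped MatrixGroups Pointwise

variable {F : Type*} [Field F] [Finite F]

local notation "PSL" => ProjectiveSpecialLinearGroup (Fin 2) F

/-- The arithmetic condition. -/
def MinimalCond (q : ℕ) : Prop :=
  (∃ r : ℕ, r.Prime ∧ q = 2 ^ r) ∨ (∃ r : ℕ, r.Prime ∧ r ≠ 2 ∧ q = 3 ^ r) ∨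
    (q.Prime ∧ 5 < q ∧ (q % 5 = 2 ∨ q % 5 = 3)) ∨ q = 5

theorem not_isSolvable_alternating_five : ¬ Group.IsSolvable (alternatingGroup (Fin 5)) := by
  intro h
  have hs : IsSimpleGroup (alternatingGroup (Fin 5)) := alternatingGroup.isSimpleGroup_five
  have hc := IsSimpleGroup.comm_iff_isSolvable.2 h
  have : ∃ a b : alternatingGroup (Fin 5), a * b ≠ b * a := by decide +kernel
  obtain ⟨a, b, hab⟩ := this
  exact hab (hc a b)

theorem exists_proper_subfield_group {p b m : ℕ} (hp : p.Prime) (hm : 2 ≤ m) (h4 : 4 ≤ p ^ b)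
    (hF : Nat.card F = p ^ (b * m)) : ∃ H : Subgroup PSL, H ≠ ⊤ ∧ ¬ Group.IsSolvable H := by
  have := Fact.mk hp
  have hb : b ≠ 0 := by rintro rfl; simp at h4
  have hK : Nat.card (GaloisField p b) = p ^ b := GaloisField.card p b hb
  obtain ⟨f⟩ := nonempty_ringHom_of_pow_card (K := GaloisField p b) (F := F) m (by rw [hK, hF, pow_mul])
  obtain ⟨-, hns⟩ := four_le_card_of_isSimple (K := GaloisField p b) (hK ▸ h4)
  refine ⟨(pslMap f).range, ne_top_of_card_lt ?_, fun h => hns
    (Group.isSolvable_of_isSolvable_injective (f := (MonoidHom.ofInjective (pslMap_injective f)).toMonoidHom)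
      (MulEquiv.injective _))⟩
  have h1 := card_range_pslMap f
  rw [hK] at h1
  have h2 := card_PSL (F := F)
  rw [hF] at h2
  have hlt : p ^ b < p ^ (b * m) := Nat.pow_lt_pow_right hp.one_lt (by
    calc b = b * 1 := (mul_one b).symm
      _ < b * m := Nat.mul_lt_mul_of_pos_left (by omega) (by omega))
  have hq : p ^ b * p ^ b ≤ p ^ (b * m) := by
    rw [← pow_add]; exact Nat.pow_le_pow_right hp.pos (by nlinarith)
  have hle : Nat.card (pslMap f).range ≤ p ^ b * ((p ^ b - 1) * (p ^ b + 1)) :=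
    h1 ▸ Nat.le_mul_of_pos_left _ dd_pos
  have hge : p ^ (b * m) * ((p ^ (b * m) - 1) * (p ^ (b * m) + 1)) ≤ 2 * Nat.card PSL := by
    rw [← h2]; exact Nat.mul_le_mul_right _ (Nat.le_of_dvd two_pos (Nat.gcd_dvd_left _ _))
  have h3 : 4 * (p ^ b * ((p ^ b - 1) * (p ^ b + 1))) ≤
      p ^ (b * m) * ((p ^ (b * m) - 1) * (p ^ (b * m) + 1)) := by
    rw [← mul_assoc]
    exact Nat.mul_le_mul (le_trans (Nat.mul_le_mul_right _ h4) hq) (Nat.mul_le_mul (by omega) (by omega))
  have hpos : 0 < p ^ b * ((p ^ b - 1) * (p ^ b + 1)) :=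
    Nat.mul_pos (by omega) (Nat.mul_pos (by omega) (by omega))
  omega

theorem solvable_proper (hq : MinimalCond (Nat.card F)) {H : Subgroup PSL} (hH : H ≠ ⊤) :
    Group.IsSolvable H := by
  obtain ⟨p, hchar⟩ := CharP.exists F
  have : Fact p.Prime := ⟨CharP.char_is_prime F p⟩
  rcases dickson_maximal p H with ⟨c, -, hc, h⟩ | ⟨k, hk⟩ | ⟨⟨e⟩⟩ | ⟨⟨e⟩⟩ | ⟨⟨e⟩⟩ | h
  · exact isSolvable_le_normalizer_torus p hc h
  · exact isSolvable_conj_borel hk
  · have := isSolvable_alternating_four
    exact Group.isSolvable_of_isSolvable_injective (f := e.toMonoidHom) e.injective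
  · have := CfsgLib.SmallPerm.isSolvable_perm_fin_four
    exact Group.isSolvable_of_isSolvable_injective (f := e.toMonoidHom) e.injective
  · exfalso
    have h60 : Nat.card H = 60 := by rw [Nat.card_congr e.toEquiv, card_alternating_five]
    have h5 := five_dvd_of_alternating_five e
    have key : Nat.card F ^ 2 % 5 = 4 → False := by
      intro h4
      have hq5 : ¬ 5 ∣ Nat.card F := fun hd => by
        have := Nat.mod_eq_zero_of_dvd (dvd_pow hd two_ne_zero); omega
      have := (Nat.Prime.dvd_mul Nat.prime_five).1 h5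
      omega
    rcases hq with ⟨r, hr, e⟩ | ⟨r, hr, hr2, e⟩ | ⟨hp, h5', hmod⟩ | e
    · by_cases hr2 : r = 2
      · subst hr2
        exact card_eq_top hH h60 (by rw [e, dd_of_even ⟨2, e⟩]; norm_num)
      · obtain ⟨i, rfl⟩ := hr.odd_of_ne_two hr2
        apply key
        rw [e, ← pow_mul, show (2 * i + 1) * 2 = 4 * i + 2 by ring, pow_add, pow_mul, Nat.mul_mod, Nat.pow_mod]
        norm_num
    · obtain ⟨i, rfl⟩ := hr.odd_of_ne_two hr2
      apply key
      rw [e, ← pow_mul, show (2 * i + 1) * 2 = 4 * i + 2 by ring, pow_add, pow_mul, Nat.mul_mod, Nat.pow_mod]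
      norm_num
    · apply key
      rw [Nat.pow_mod]
      rcases hmod with e | e <;> rw [e]
    · exact hH (Subgroup.eq_top_of_card_eq _ (by rw [h60, card_five e]))
  · obtain ⟨K, fK, fT, m, hm, hd⟩ := h
    rw [Fintype.card_eq_nat_card] at hm
    have hm2 := two_le_exponent hH hm hd
    refine isSolvable_of_shape_small (K := K) ?_ hd
    have hk : 2 ≤ Nat.card K := Finite.one_lt_card
    have small : ∀ s r : ℕ, s.Prime → r.Prime → Nat.card F = s ^ r → s ≤ 3 → Nat.card K ≤ 3 := by
      intro s r hs hr e hs3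
      obtain ⟨b, -, hb⟩ := (Nat.dvd_prime_pow hs).1 (show Nat.card K ∣ s ^ r by
        rw [← e, ← hm]; exact dvd_pow_self _ (by omega))
      rw [hb, e, ← pow_mul] at hm
      have hbm := Nat.pow_right_injective hs.two_le hm
      rcases hr.eq_one_or_self_of_dvd b ⟨m, hbm.symm⟩ with rfl | rfl
      · rw [hb, pow_one]; exact hs3
      · have : m = 1 := Nat.eq_of_mul_eq_mul_left hr.pos (by rw [hbm, mul_one])
        omega
    rcases hq with ⟨r, hr, e⟩ | ⟨r, hr, -, e⟩ | ⟨hp, -, -⟩ | e
    · exact small 2 r Nat.prime_two hr e (by norm_num)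
    · exact small 3 r Nat.prime_three hr e le_rfl
    · exact absurd (hm ▸ hp) (Nat.Prime.not_prime_pow hm2)
    · exact absurd (hm ▸ (e ▸ Nat.prime_five : (Nat.card F).Prime)) (Nat.Prime.not_prime_pow hm2)

theorem isMinimalSimple_iff : Cfsg.IsMinimalSimple PSL ↔ MinimalCond (Nat.card F) := by
  have h1 : 1 < Nat.card F := Finite.one_lt_card
  constructor
  · rintro ⟨hs, hnc, hsolv⟩
    have hG := card_PSL (F := F)
    obtain ⟨p, a, hp, hchar, ha, hq⟩ := exists_prime_pow F
    have h4 : 4 ≤ Nat.card F := by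
      by_contra hlt
      apply hnc
      have h23 : Nat.card F = 2 ∨ Nat.card F = 3 := by omega
      have hsol : Group.IsSolvable PSL := by
        rcases h23 with e | e
        · exact Cfsg.Agent.S0144.result 2 3 1 1 Nat.prime_two Nat.prime_three (by
            rw [e] at hG; norm_num at hG; rw [hG]; norm_num)
        · exact Cfsg.Agent.S0144.result 2 3 2 1 Nat.prime_two Nat.prime_three (by
            rw [card_three e]; norm_num)
      exact ⟨⟨IsSimpleGroup.comm_iff_isSolvable.2 hsol⟩⟩
    have noA5 : ∀ H : Subgroup PSL, Nonempty (H ≃* alternatingGroup (Fin 5)) → H = ⊤ := by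
      rintro H ⟨e⟩
      by_contra hne
      have := hsolv H hne
      exact not_isSolvable_alternating_five
        (Group.isSolvable_of_isSolvable_injective (f := e.symm.toMonoidHom) e.symm.injective)
    have noSub : ∀ b m : ℕ, 2 ≤ m → a = b * m → p ^ b < 4 := by
      intro b m hm e
      by_contra hlt
      obtain ⟨H, hne, hns⟩ := exists_proper_subfield_group hp hm (show 4 ≤ p ^ b by omega) (e ▸ hq)
      exact hns (hsolv H hne)
    by_cases ha1 : a = 1
    · subst ha1
      rw [pow_one] at hq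
      rw [hq] at h4 ⊢
      by_cases h5 : p = 5
      · exact Or.inr (Or.inr (Or.inr h5))
      have hp46 : p ≠ 4 ∧ p ≠ 6 := ⟨by rintro rfl; norm_num at hp, by rintro rfl; norm_num at hp⟩
      refine Or.inr (Or.inr (Or.inl ⟨hp, by omega, ?_⟩))
      have hnd : ¬ 5 ∣ p := fun h => h5 ((Nat.prime_dvd_prime_iff_eq Nat.prime_five hp).1 h).symm
      by_contra hc
      have hd : 5 ∣ p * (p ^ 2 - 1) := by
        refine dvd_mul_of_dvd_right ?_ _
        have : p ^ 2 % 5 = 1 := by
          rw [Nat.pow_mod]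
          rcases (show p % 5 = 1 ∨ p % 5 = 4 by omega) with e | e <;> rw [e]
        omega
      let _ := Fintype.ofFinite F
      obtain ⟨H, hH⟩ := (Cfsg.Agent.S0804.result (F := F) Fintype.card_eq_nat_card).2 (by rw [hq]; exact hd)
      have htop := noA5 H hH
      obtain ⟨e⟩ := hH
      have h60 : Nat.card H = 60 := by rw [Nat.card_congr e.toEquiv, card_alternating_five]
      rw [htop, Subgroup.card_top] at h60
      have hge := card_PSL_ge (F := F) (q := 7) (by omega)
      omega
    have hbase : ∀ b : ℕ, b ∣ a → b < a → p ^ b < 4 := by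
      rintro b ⟨m, hm⟩ hlt
      refine noSub b m ?_ hm
      rcases m with _ | _ | m <;> omega
    have hp4 : p < 4 := by simpa using hbase 1 (one_dvd a) (by omega)
    have hprime : a.Prime := by
      by_contra hnp
      obtain ⟨b, hb, hb2, hb3⟩ := (Nat.not_prime_iff_exists_dvd_lt (show 2 ≤ a by omega)).1 hnp
      have := hbase b hb hb3
      have : 4 ≤ p ^ b := le_trans (by norm_num) ((Nat.pow_le_pow_left hp.two_le b).trans'
        (Nat.pow_le_pow_right two_pos hb2))
      omega
    rcases (show p = 2 ∨ p = 3 by have := hp.two_le; omega) with rfl | rfl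
    · exact Or.inl ⟨a, hprime, hq⟩
    · refine Or.inr (Or.inl ⟨a, hprime, ?_, hq⟩)
      rintro rfl
      let _ := Fintype.ofFinite F
      obtain ⟨H, hH⟩ := (Cfsg.Agent.S0804.result (F := F) Fintype.card_eq_nat_card).2 (by rw [hq]; norm_num)
      have htop := noA5 H hH
      obtain ⟨e⟩ := hH
      have h60 : Nat.card H = 60 := by rw [Nat.card_congr e.toEquiv, card_alternating_five]
      rw [htop, Subgroup.card_top] at h60
      rw [h60, hq] at hG
      norm_num at hG
  · intro hq
    have h4 : 4 ≤ Nat.card F := by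
      rcases hq with ⟨r, hr, e⟩ | ⟨r, hr, -, e⟩ | ⟨-, h5, -⟩ | e
      · rw [e]; exact le_trans (by norm_num) (Nat.pow_le_pow_right two_pos hr.two_le)
      · rw [e]; exact le_trans (by norm_num) (Nat.pow_le_pow_right (show 0 < 3 by norm_num) hr.two_le)
      · omega
      · omega
    obtain ⟨hs, hns⟩ := four_le_card_of_isSimple (K := F) h4
    exact ⟨hs, fun h => hns (Group.isSolvable_of_comm fun a b => h.is_comm.comm a b),
      fun H hH => solvable_proper hq hH⟩

end CfsgLib.SL2
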