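import Mathlib
import Cfsg.Agent.Lib.SL2.MinimalSimple

/-!
Conjugacy of generating pairs and subgroups over subfields.
-/

set_option autoImplicit false
set_option linter.unusedSectionVars false
set_option maxHeartbeats 400000

namespace CfsgLib.SL2

open Matrix
open scoped MatrixGroups Pointwise

section Pairs

variable {F : Type*} [Field F]

local notation "M2" => Matrix (Fin 2) (Fin 2) F

theorem conj_facts {P : GL (Fin 2) F} {A B : M2} (h : A * (P : M2) = (P : M2) * B) :
    A.trace = B.trace ∧ A.det = B.det ∧ A = (P : M2) * B * ((P⁻¹ : GL (Fin 2) F) : M2) := by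
  have hA : A = (P : M2) * B * ((P⁻¹ : GL (Fin 2) F) : M2) := by
    rw [← h, mul_assoc, Units.mul_inv, mul_one]
  exact ⟨by rw [hA, Matrix.trace_units_conj], by rw [hA, Matrix.det_units_conj], hA⟩

/-- Normal form of a pair with prescribed traces. -/
theorem normal_form {s : F} (a b : SL(2, F)) (ha : NonScalar (a : M2)) (hta : (a : M2).trace = 0)
    (htb : (b : M2).trace = 1) (hs : ((a * b : SL(2, F)) : M2).trace = s) :
    ∃ (P : GL (Fin 2) F) (x y : F), (a : M2) * (P : M2) = (P : M2) * !![0, -1; 1, 0] ∧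
      (b : M2) * (P : M2) = (P : M2) * !![x, y; y - s, 1 - x] ∧ x * (1 - x) - y * (y - s) = 1 := by
  have ha2 : (a : M2) * (a : M2) = -1 := by
    rw [cayley, a.det_coe, hta, zero_smul, one_smul, zero_sub]
  rw [Matrix.trace_fin_two] at hta
  obtain ⟨v0, v1, hv⟩ : ∃ v0 v1 : F,
      v0 * (a.1 1 0 * v0 + a.1 1 1 * v1) - (a.1 0 0 * v0 + a.1 0 1 * v1) * v1 ≠ 0 := by
    rw [nonScalar_iff] at ha
    by_cases h10 : a.1 1 0 = 0
    · by_cases h01 : a.1 0 1 = 0
      · refine ⟨1, 1, ?_⟩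
        rcases ha with e | e | e
        · exact absurd h01 e
        · exact absurd h10 e
        · rw [h10, h01]
          intro h
          exact e (by linear_combination -h)
      · exact ⟨0, 1, by simpa using h01⟩
    · exact ⟨1, 0, by simpa using h10⟩
  let P : GL (Fin 2) F := GeneralLinearGroup.mkOfDetNeZero
    !![v0, a.1 0 0 * v0 + a.1 0 1 * v1; v1, a.1 1 0 * v0 + a.1 1 1 * v1]
    (by rw [Matrix.det_fin_two_of]; exact hv)
  have hP : (P : M2) = !![v0, a.1 0 0 * v0 + a.1 0 1 * v1; v1, a.1 1 0 * v0 + a.1 1 1 * v1] := rfl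
  have hJ : (a : M2) * (P : M2) = (P : M2) * !![0, -1; 1, 0] := by
    have e00 := congrFun (congrFun ha2 0) 0
    have e01 := congrFun (congrFun ha2 0) 1
    have e10 := congrFun (congrFun ha2 1) 0
    have e11 := congrFun (congrFun ha2 1) 1
    simp [Matrix.mul_apply, Fin.sum_univ_two] at e00 e01 e10 e11
    rw [hP]
    ext i j
    fin_cases i <;> fin_cases j <;> simp [Matrix.mul_apply, Fin.sum_univ_two]
    · linear_combination v0 * e00 + v1 * e01
    · linear_combination v0 * e10 + v1 * e11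
  set B := ((P⁻¹ : GL (Fin 2) F) : M2) * (b : M2) * (P : M2) with hB
  have hPB : (b : M2) * (P : M2) = (P : M2) * B := by
    rw [hB, ← mul_assoc, ← mul_assoc, Units.mul_inv, one_mul]
  obtain ⟨htr, hdet, -⟩ := conj_facts hPB
  have hJB : ((a : M2) * (b : M2)) * (P : M2) = (P : M2) * (!![0, -1; 1, 0] * B) := by
    rw [mul_assoc, hPB, ← mul_assoc, hJ, mul_assoc]
  obtain ⟨htr2, -, -⟩ := conj_facts hJB
  rw [← Matrix.SpecialLinearGroup.coe_mul, hs] at htr2
  rw [htb] at htr
  rw [b.det_coe] at hdet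
  rw [Matrix.trace_fin_two] at htr
  rw [Matrix.trace_fin_two, Matrix.mul_apply, Matrix.mul_apply, Fin.sum_univ_two, Fin.sum_univ_two] at htr2
  simp at htr2
  rw [Matrix.det_fin_two] at hdet
  have hz : B 1 0 = B 0 1 - s := by linear_combination htr2
  have hw : B 1 1 = 1 - B 0 0 := by linear_combination -htr
  refine ⟨P, B 0 0, B 0 1, hJ, ?_, ?_⟩
  · rw [hPB]
    congr 1
    rw [Matrix.eta_fin_two B, hz, hw]
    simp
  · rw [hz, hw] at hdet
    exact hdet.symm

/-- Two pairs with the same traces are conjugate in `GL(2, F)`. -/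
theorem exists_intertwiner {s : F} (hs3 : s ^ 2 ≠ 3) (a b a' b' : SL(2, F))
    (ha : NonScalar (a : M2)) (hta : (a : M2).trace = 0) (htb : (b : M2).trace = 1)
    (hs : ((a * b : SL(2, F)) : M2).trace = s)
    (ha' : NonScalar (a' : M2)) (hta' : (a' : M2).trace = 0) (htb' : (b' : M2).trace = 1)
    (hs' : ((a' * b' : SL(2, F)) : M2).trace = s) :
    ∃ D : GL (Fin 2) F, (a' : M2) * (D : M2) = (D : M2) * (a : M2) ∧
      (b' : M2) * (D : M2) = (D : M2) * (b : M2) := by
  obtain ⟨P, x0, y0, hPa, hPb, hd0⟩ := normal_form a b ha hta htb hs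
  obtain ⟨P', x, y, hPa', hPb', hd⟩ := normal_form a' b' ha' hta' htb' hs'
  obtain ⟨u, v, h1, h2, hne⟩ : ∃ u v : F, u * (x0 - x) = v * (y0 + y - s) ∧
      u * (y0 - y) = v * (1 - x0 - x) ∧ (u ≠ 0 ∨ v ≠ 0) := by
    by_cases hA : y0 + y - s = 0 ∧ x0 - x = 0
    · by_cases hB : 1 - x0 - x = 0 ∧ y0 - y = 0
      · exact ⟨1, 0, by rw [hA.2]; ring, by rw [hB.2]; ring, Or.inl one_ne_zero⟩
      · refine ⟨1 - x0 - x, y0 - y, by rw [hA.1, hA.2]; ring, by ring, ?_⟩
        by_contra hc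
        push Not at hc
        exact hB hc
    · refine ⟨y0 + y - s, x0 - x, by ring, ?_, ?_⟩
      · linear_combination hd - hd0
      · by_contra hc
        push Not at hc
        exact hA hc
  have hdet : (!![u, -v; v, u] : M2).det ≠ 0 := by
    rw [Matrix.det_fin_two_of]
    intro h
    have hv : v ≠ 0 := by
      intro hv
      subst hv
      simp at h
      simp [h] at hne
    have key : v * (u * (2 * x0 - 1) - v * (2 * y0 - s)) = 0 := by
      linear_combination v * h1 + u * h2 + (y - y0) * h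
    have key' := (mul_eq_zero.1 key).resolve_left hv
    have key2 : v * v * ((2 * x0 - 1) ^ 2 + (2 * y0 - s) ^ 2) = 0 := by
      linear_combination (2 * x0 - 1) ^ 2 * h - (u * (2 * x0 - 1) + v * (2 * y0 - s)) * key'
    apply hs3
    linear_combination ((mul_eq_zero.1 key2).resolve_left (mul_ne_zero hv hv)) + 4 * hd0
  let D0 : GL (Fin 2) F := GeneralLinearGroup.mkOfDetNeZero _ hdet
  have hD0 : (D0 : M2) = !![u, -v; v, u] := rfl
  have hDa : !![0, -1; 1, 0] * (D0 : M2) = (D0 : M2) * !![0, -1; 1, 0] := by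
    rw [hD0]; ext i j; fin_cases i <;> fin_cases j <;> simp [Matrix.mul_apply, Fin.sum_univ_two]
  have hDb : !![x, y; y - s, 1 - x] * (D0 : M2) = (D0 : M2) * !![x0, y0; y0 - s, 1 - x0] := by
    rw [hD0]
    ext i j
    fin_cases i <;> fin_cases j <;> simp [Matrix.mul_apply, Fin.sum_univ_two]
    · linear_combination -h1
    · linear_combination -h2
    · linear_combination -h2
    · linear_combination h1
  have hconj : ∀ A A' J J' : M2, A * (P : M2) = (P : M2) * J → A' * (P' : M2) = (P' : M2) * J' →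
      J' * (D0 : M2) = (D0 : M2) * J →
      A' * ((P' * D0 * P⁻¹ : GL (Fin 2) F) : M2) = ((P' * D0 * P⁻¹ : GL (Fin 2) F) : M2) * A := by
    intro A A' J J' e e' eD
    obtain ⟨-, -, hA⟩ := conj_facts e
    rw [Units.val_mul, Units.val_mul, ← mul_assoc, ← mul_assoc, e', mul_assoc (P' : M2) J', eD, hA]
    simp only [mul_assoc]
    rw [← mul_assoc ((P⁻¹ : GL (Fin 2) F) : M2) (P : M2), Units.inv_mul, one_mul]
  exact ⟨P' * D0 * P⁻¹, hconj _ _ _ _ hPa hPa' hDa, hconj _ _ _ _ hPb hPb' hDb⟩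

/-- Only scalars commute with such a pair. -/
theorem scalar_of_commute {s : F} (hs3 : s ^ 2 ≠ 3) (a b : SL(2, F)) (ha : NonScalar (a : M2))
    (hta : (a : M2).trace = 0) (htb : (b : M2).trace = 1) (hs : ((a * b : SL(2, F)) : M2).trace = s)
    (X : M2) (hXa : X * (a : M2) = (a : M2) * X) (hXb : X * (b : M2) = (b : M2) * X) :
    ∃ c : F, X = c • 1 := by
  obtain ⟨P, x, y, hPa, hPb, hd⟩ := normal_form a b ha hta htb hs
  set X' := ((P⁻¹ : GL (Fin 2) F) : M2) * X * (P : M2) with hX'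
  have htrans : ∀ A J : M2, A * (P : M2) = (P : M2) * J → X * A = A * X → X' * J = J * X' := by
    intro A J e ec
    obtain ⟨-, -, hA⟩ := conj_facts e
    have e' : J = ((P⁻¹ : GL (Fin 2) F) : M2) * A * (P : M2) := by
      rw [mul_assoc, e, ← mul_assoc, Units.inv_mul, one_mul]
    rw [e', hX']
    simp only [mul_assoc]
    rw [← mul_assoc (P : M2) ((P⁻¹ : GL (Fin 2) F) : M2), Units.mul_inv, one_mul,
      ← mul_assoc (P : M2) ((P⁻¹ : GL (Fin 2) F) : M2), Units.mul_inv, one_mul,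
      ← mul_assoc X A, ec, mul_assoc]
  have ea := htrans _ _ hPa hXa
  have eb := htrans _ _ hPb hXb
  have a00 := congrFun (congrFun ea 0) 0
  have a01 := congrFun (congrFun ea 0) 1
  have b00 := congrFun (congrFun eb 0) 0
  have b01 := congrFun (congrFun eb 0) 1
  simp [Matrix.mul_apply, Fin.sum_univ_two] at a00 a01 b00 b01
  have h10 : X' 1 0 = -X' 0 1 := by linear_combination a00
  have h11 : X' 1 1 = X' 0 0 := by linear_combination -a01
  have hv : X' 0 1 = 0 := by
    by_contra hv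
    apply hs3
    have e1 : X' 0 1 * (2 * y - s) = 0 := by linear_combination b00 + y * h10
    have e2 : X' 0 1 * (1 - 2 * x) = 0 := by linear_combination b01 + y * h11
    have f1 := (mul_eq_zero.1 e1).resolve_left hv
    have f2 := (mul_eq_zero.1 e2).resolve_left hv
    linear_combination 4 * hd + (1 - 2 * x) * f2 + (2 * y - s) * f1
  refine ⟨X' 0 0, ?_⟩
  have hX'' : X' = X' 0 0 • 1 := by
    ext i j
    fin_cases i <;> fin_cases j <;> simp [h11, h10, hv]
  calc X = (P : M2) * X' * ((P⁻¹ : GL (Fin 2) F) : M2) := by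
        rw [hX', ← mul_assoc, ← mul_assoc, Units.mul_inv, one_mul, mul_assoc, Units.mul_inv, mul_one]
    _ = _ := by rw [hX'', mul_smul_comm, mul_one, smul_mul_assoc, Units.mul_inv]; simp

end Pairs

section Lifts

variable {F : Type*} [Field F] [Finite F]

local notation "M2" => Matrix (Fin 2) (Fin 2) F
local notation "PSL" => ProjectiveSpecialLinearGroup (Fin 2) F

theorem nonScalar_lift {x : PSL} {g : SL(2, F)} (h : proj g = x) (hx : x ≠ 1) : NonScalar (g : M2) := by
  by_contra hc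
  exact hx (h ▸ (proj_eq_one_iff _).2 ((mem_center_iff_not_nonScalar _).2 hc))

theorem coef_eq_zero {g X : SL(2, F)} (hg : NonScalar (g : M2)) {c d : F}
    (hX : (X : M2) = c • (g : M2) - d • 1) (hc : proj X = 1) : c = 0 := by
  by_contra h
  rw [proj_eq_one_iff] at hc
  refine (mem_center_iff_not_nonScalar _).1 hc ?_
  rw [nonScalar_iff, hX]
  rw [nonScalar_iff] at hg
  simp only [Matrix.sub_apply, Matrix.smul_apply, smul_eq_mul, Matrix.one_apply_ne (show (0 : Fin 2) ≠ 1 by decide),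
    Matrix.one_apply_ne (show (1 : Fin 2) ≠ 0 by decide), Matrix.one_apply_eq, mul_zero, sub_zero]
  rcases hg with e | e | e
  · exact Or.inl (mul_ne_zero h e)
  · exact Or.inr (Or.inl (mul_ne_zero h e))
  · exact Or.inr (Or.inr fun e' => e (mul_left_cancel₀ h (sub_left_injective e')))

theorem trace_neg_sl (g : SL(2, F)) : ((-g : SL(2, F)) : M2).trace = -(g : M2).trace := by
  rw [Matrix.SpecialLinearGroup.coe_neg, Matrix.trace_neg]

theorem proj_neg_sl (g : SL(2, F)) : proj (-g) = proj g := by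
  rw [show -g = -1 * g from Subtype.ext (by simp), map_mul, proj_neg_one, one_mul]

theorem lift_two {x : PSL} (hx : orderOf x = 2) {g : SL(2, F)} (hg : proj g = x) :
    NonScalar (g : M2) ∧ (g : M2).trace = 0 := by
  have hx1 : x ≠ 1 := fun e => by rw [e, orderOf_one] at hx; omega
  have hns := nonScalar_lift hg hx1
  refine ⟨hns, coef_eq_zero hns (X := g * g) (d := 1) (by rw [coe_mul_self, one_smul]) ?_⟩
  have h2 := pow_orderOf_eq_one x
  rw [hx, pow_two] at h2
  rw [map_mul, hg, h2]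

theorem lift_three {x : PSL} (hx : orderOf x = 3) {g : SL(2, F)} (hg : proj g = x) :
    (g : M2).trace = 1 ∨ (g : M2).trace = -1 := by
  have hx1 : x ≠ 1 := fun e => by rw [e, orderOf_one] at hx; omega
  have hns := nonScalar_lift hg hx1
  set t := (g : M2).trace with ht
  have hM : ((g * (g * g) : SL(2, F)) : M2) = (t * t - 1) • (g : M2) - t • 1 := by
    rw [Matrix.SpecialLinearGroup.coe_mul, coe_mul_self, ← ht, mul_sub, mul_one, mul_smul_comm]
    rw [← Matrix.SpecialLinearGroup.coe_mul, coe_mul_self, ← ht, smul_sub, smul_smul, sub_smul, one_smul]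
    abel
  have h0 := coef_eq_zero hns hM (by
    have h3 := pow_orderOf_eq_one x
    rw [hx] at h3
    rw [map_mul, map_mul, hg, ← pow_two, ← pow_succ', h3])
  exact mul_self_eq_one_iff.1 (sub_eq_zero.1 h0)

theorem lift_five {x : PSL} (hx : orderOf x = 5) {g : SL(2, F)} (hg : proj g = x) :
    ((g : M2).trace * (g : M2).trace = (g : M2).trace + 1) ∨
      (-(g : M2).trace) * (-(g : M2).trace) = -(g : M2).trace + 1 := by
  have hx1 : x ≠ 1 := fun e => by rw [e, orderOf_one] at hx; omega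
  have hns := nonScalar_lift hg hx1
  set t := (g : M2).trace with ht
  have hM : ((g * ((g * g) * (g * g)) : SL(2, F)) : M2) =
      (t ^ 4 - 3 * t ^ 2 + 1) • (g : M2) - (t ^ 3 - 2 * t) • 1 := by
    have hm := coe_mul_self g
    rw [Matrix.SpecialLinearGroup.coe_mul, ← ht] at hm
    rw [Matrix.SpecialLinearGroup.coe_mul, Matrix.SpecialLinearGroup.coe_mul,
      Matrix.SpecialLinearGroup.coe_mul]
    generalize (g : M2) = X at hm ⊢
    simp only [hm, mul_sub, sub_mul, mul_add, add_mul, smul_mul_assoc, mul_smul_comm, smul_sub,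
      smul_add, mul_one, one_mul, smul_smul]
    ext i j
    simp only [Matrix.sub_apply, Matrix.add_apply, Matrix.smul_apply, smul_eq_mul]
    ring
  have h0 := coef_eq_zero hns hM (by
    rw [map_mul, map_mul, map_mul, hg]
    have h5 := pow_orderOf_eq_one x
    rw [hx] at h5
    rw [← h5]
    simp [pow_succ, mul_assoc])
  rcases mul_eq_zero.1 (show (t * t - t - 1) * (t * t + t - 1) = 0 by linear_combination h0) with h | h
  · exact Or.inl (by linear_combination h)
  · exact Or.inr (by linear_combination h)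

/-- Lifts of a triangle pair with normalised traces. -/
theorem exists_lifts {α β : PSL} {n : ℕ} (hα : orderOf α = 2) (hβ : orderOf β = 3)
    (hαβ : orderOf (α * β) = n) {Q : F → Prop}
    (hQ : ∀ g : SL(2, F), proj g = α * β → Q (g : M2).trace ∨ Q (-(g : M2).trace)) :
    ∃ a b : SL(2, F), proj a = α ∧ proj b = β ∧ NonScalar (a : M2) ∧ (a : M2).trace = 0 ∧
      (b : M2).trace = 1 ∧ Q ((a * b : SL(2, F)) : M2).trace := by
  obtain ⟨a, ha⟩ := proj_surjective α
  obtain ⟨b, hb, htb⟩ : ∃ b, proj b = β ∧ (b : M2).trace = 1 := by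
    obtain ⟨b, hb⟩ := proj_surjective β
    rcases lift_three hβ hb with h | h
    · exact ⟨b, hb, h⟩
    · exact ⟨-b, by rw [proj_neg_sl, hb], by rw [trace_neg_sl, h, neg_neg]⟩
  obtain ⟨hns, hta⟩ := lift_two hα ha
  rcases hQ (a * b) (by rw [map_mul, ha, hb]) with h | h
  · exact ⟨a, b, ha, hb, hns, hta, htb, h⟩
  · have ha' : proj (-a) = α := by rw [proj_neg_sl, ha]
    obtain ⟨hns', hta'⟩ := lift_two hα ha'
    exact ⟨-a, b, ha', hb, hns', hta', htb, by
      rwa [show -a * b = -(a * b) from Subtype.ext (by simp), trace_neg_sl]⟩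

/-- A standard pair with prescribed traces. -/
theorem exists_target {s : F} (hxy : ∃ x y : F, x ^ 2 - x + y ^ 2 - s * y + 1 = 0) :
    ∃ a b : SL(2, F), NonScalar (a : M2) ∧ (a : M2).trace = 0 ∧ (b : M2).trace = 1 ∧
      ((a * b : SL(2, F)) : M2).trace = s := by
  obtain ⟨x, y, h⟩ := hxy
  refine ⟨⟨!![0, -1; 1, 0], by simp [Matrix.det_fin_two_of]⟩,
    ⟨!![x, y; y - s, 1 - x], by rw [Matrix.det_fin_two_of]; linear_combination -h⟩, ?_, ?_, ?_, ?_⟩
  · rw [nonScalar_iff]; simp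
  · simp [Matrix.trace_fin_two]
  · simp [Matrix.trace_fin_two]
  · show (!![0, -1; 1, 0] * !![x, y; y - s, 1 - x] : M2).trace = s
    rw [Matrix.trace_fin_two, Matrix.mul_apply, Matrix.mul_apply, Fin.sum_univ_two, Fin.sum_univ_two]
    simp

end Lifts

/-! ### Subgroups over subfields -/

section Sub

variable {K F : Type*} [Field K] [Finite K] [Field F] [Finite F]

local notation "PSL" => ProjectiveSpecialLinearGroup (Fin 2) F

theorem pglMap_coe_injective (f : K →+* F) :
    Function.Injective (ProjGenLinGroup.map (n := Fin 2) f) := by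
  rw [injective_iff_map_eq_one]
  intro x e'
  obtain ⟨g, rfl⟩ := ProjGenLinGroup.mk_surjective x
  rw [ProjGenLinGroup.map_mk, ProjGenLinGroup.mk_eq_one,
    Matrix.GeneralLinearGroup.mem_center_iff_val_mem_range_scalar] at e'
  obtain ⟨u, hu⟩ := e'
  rw [ProjGenLinGroup.mk_eq_one, Matrix.GeneralLinearGroup.mem_center_iff_val_mem_range_scalar]
  refine ⟨(g : Matrix (Fin 2) (Fin 2) K) 0 0, Matrix.ext fun i j => f.injective ?_⟩
  have h00 := congrFun (congrFun hu 0) 0
  have hij := congrFun (congrFun hu i) j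
  simp [Matrix.diagonal_apply] at h00 hij ⊢
  split_ifs at hij ⊢ <;> simp_all

/-- Conjugation by an element of `GL(2, F)`, on `PSL(2, F)`. -/
noncomputable def pslConj (D : GL (Fin 2) F) : PSL →* PSL :=
  (MonoidHom.ofInjective ProjectiveSpecialLinearGroup.toPGL_injective).symm.toMonoidHom.comp
    (((MulAut.conj (ProjGenLinGroup.mk D)).toMonoidHom.comp ProjectiveSpecialLinearGroup.toPGL).codRestrict
      _ fun x => by
        obtain ⟨X, rfl⟩ := proj_surjective x
        refine ⟨proj ⟨(D : Matrix (Fin 2) (Fin 2) F) * X.1 * ((D⁻¹ : GL (Fin 2) F) : Matrix (Fin 2) (Fin 2) F),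
          by rw [Matrix.det_units_conj, X.det_coe]⟩, ?_⟩
        show ProjGenLinGroup.mk _ = ProjGenLinGroup.mk D * ProjGenLinGroup.mk _ * (ProjGenLinGroup.mk D)⁻¹
        rw [← map_inv, ← map_mul, ← map_mul]
        exact congrArg _ (Units.ext rfl))

theorem toPGL_pslConj (D : GL (Fin 2) F) (x : PSL) :
    ProjectiveSpecialLinearGroup.toPGL (pslConj D x) =
      ProjGenLinGroup.mk D * ProjectiveSpecialLinearGroup.toPGL x * (ProjGenLinGroup.mk D)⁻¹ := by
  have := MonoidHom.apply_ofInjective_symm (ProjectiveSpecialLinearGroup.toPGL_injective (n := Fin 2) (R := F))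
  exact this _

theorem pslConj_injective (D : GL (Fin 2) F) : Function.Injective (pslConj D) := by
  intro x y e
  have e' := congrArg ProjectiveSpecialLinearGroup.toPGL e
  rw [toPGL_pslConj, toPGL_pslConj, mul_left_inj, mul_right_inj] at e'
  exact ProjectiveSpecialLinearGroup.toPGL_injective e'

theorem toPGL_pslMap (f : K →+* F) (x : ProjectiveSpecialLinearGroup (Fin 2) K) :
    ProjectiveSpecialLinearGroup.toPGL (pslMap f x) =
      ProjGenLinGroup.map f (ProjectiveSpecialLinearGroup.toPGL x) := by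
  obtain ⟨X, rfl⟩ := proj_surjective x
  rw [pslMap_proj]
  exact congrArg ProjGenLinGroup.mk (Units.ext rfl)

/-- `Φ_{f,D}`. -/
def subHom (f : K →+* F) (D : GL (Fin 2) F) : ProjGenLinGroup (Fin 2) K →* ProjGenLinGroup (Fin 2) F :=
  (MulAut.conj (ProjGenLinGroup.mk D)).toMonoidHom.comp (ProjGenLinGroup.map f)

theorem subHom_injective (f : K →+* F) (D : GL (Fin 2) F) : Function.Injective (subHom f D) :=
  (MulAut.conj _).injective.comp (pglMap_coe_injective f)

/-- The subgroup of `PSL(2, F)` over the subfield `f K`, in the frame `D`. -/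
def pglSub (f : K →+* F) (D : GL (Fin 2) F) : Subgroup PSL :=
  (subHom f D).range.comap ProjectiveSpecialLinearGroup.toPGL

/-- The image of `PSL(2, K)` in the frame `D`. -/
noncomputable def pslSub (f : K →+* F) (D : GL (Fin 2) F) : Subgroup PSL := ((pslConj D).comp (pslMap f)).range

theorem pslSub_le (f : K →+* F) (D : GL (Fin 2) F) : pslSub f D ≤ pglSub f D := by
  rintro _ ⟨x, rfl⟩
  refine ⟨ProjectiveSpecialLinearGroup.toPGL x, ?_⟩
  rw [MonoidHom.comp_apply, toPGL_pslConj, toPGL_pslMap]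
  rfl

theorem proj_mem_pslSub (f : K →+* F) (D : GL (Fin 2) F) {X : SL(2, F)} {Z : SL(2, K)}
    (h : (X : Matrix (Fin 2) (Fin 2) F) * (D : Matrix (Fin 2) (Fin 2) F) =
      (D : Matrix (Fin 2) (Fin 2) F) * (Z : Matrix (Fin 2) (Fin 2) K).map f) : proj X ∈ pslSub f D := by
  refine ⟨proj Z, ProjectiveSpecialLinearGroup.toPGL_injective ?_⟩
  rw [MonoidHom.comp_apply, toPGL_pslConj, toPGL_pslMap]
  show ProjGenLinGroup.mk D * ProjGenLinGroup.mk _ * (ProjGenLinGroup.mk D)⁻¹ = ProjGenLinGroup.mk _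
  rw [← map_inv, ← map_mul, ← map_mul]
  refine congrArg _ (Units.ext ?_)
  show (D : Matrix (Fin 2) (Fin 2) F) * (Z : Matrix (Fin 2) (Fin 2) K).map f *
    ((D⁻¹ : GL (Fin 2) F) : Matrix (Fin 2) (Fin 2) F) = X.1
  rw [← h, mul_assoc, Units.mul_inv, mul_one]

theorem exists_of_mem_pslSub (f : K →+* F) (D : GL (Fin 2) F) {X : SL(2, F)}
    (h : proj X ∈ pslSub f D) : ∃ Z : SL(2, K), (X : Matrix (Fin 2) (Fin 2) F) * (D : Matrix (Fin 2) (Fin 2) F) =
      (D : Matrix (Fin 2) (Fin 2) F) * (Z : Matrix (Fin 2) (Fin 2) K).map f := by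
  obtain ⟨z, hz⟩ := h
  obtain ⟨Z, rfl⟩ := proj_surjective z
  let X' : SL(2, F) := ⟨(D : Matrix (Fin 2) (Fin 2) F) * (Z : Matrix (Fin 2) (Fin 2) K).map f *
    ((D⁻¹ : GL (Fin 2) F) : Matrix (Fin 2) (Fin 2) F), by
      rw [Matrix.det_units_conj]; exact (Matrix.SpecialLinearGroup.map f Z).det_coe⟩
  have hX' : proj X' = proj X := by
    rw [← hz]
    refine ProjectiveSpecialLinearGroup.toPGL_injective ?_
    rw [MonoidHom.comp_apply, toPGL_pslConj, toPGL_pslMap]
    show ProjGenLinGroup.mk _ = ProjGenLinGroup.mk D * ProjGenLinGroup.mk _ * (ProjGenLinGroup.mk D)⁻¹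
    rw [← map_inv, ← map_mul, ← map_mul]
    exact congrArg _ (Units.ext rfl)
  have key : ∀ Z' : SL(2, K), X.1 = (D : Matrix (Fin 2) (Fin 2) F) * (Z' : Matrix (Fin 2) (Fin 2) K).map f *
      ((D⁻¹ : GL (Fin 2) F) : Matrix (Fin 2) (Fin 2) F) → ∃ Z : SL(2, K), X.1 * (D : Matrix (Fin 2) (Fin 2) F) =
      (D : Matrix (Fin 2) (Fin 2) F) * (Z : Matrix (Fin 2) (Fin 2) K).map f := fun Z' e =>
    ⟨Z', by rw [e, mul_assoc, Units.inv_mul, mul_one]⟩
  rcases eq_or_eq_neg_of_proj_eq hX' with e | e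
  · exact key Z (congrArg Subtype.val e)
  · refine key (-Z) ?_
    rw [e, Matrix.SpecialLinearGroup.coe_neg, Matrix.SpecialLinearGroup.coe_neg,
      Matrix.map_neg f (map_neg f), mul_neg, neg_mul]

theorem trace_map_eq (f : K →+* F) (Z : Matrix (Fin 2) (Fin 2) K) : (Z.map f).trace = f Z.trace := by
  simp [Matrix.trace_fin_two]

theorem nonScalar_of_map (f : K →+* F) {Z : Matrix (Fin 2) (Fin 2) K} (h : NonScalar (Z.map f)) :
    NonScalar Z := by
  rw [nonScalar_iff] at h ⊢
  simpa [f.injective.eq_iff] using h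

/-- A triangle pair whose trace invariant lies in `f K` generates a subgroup over `f K`. -/
theorem exists_frame (f : K →+* F) (s0 : K) (hs3 : (f s0) ^ 2 ≠ 3)
    (hxy : ∃ x y : K, x ^ 2 - x + y ^ 2 - s0 * y + 1 = 0) {α β : PSL} (a b : SL(2, F)) (hpa : proj a = α)
    (hpb : proj b = β) (ha : NonScalar (a : Matrix (Fin 2) (Fin 2) F))
    (hta : (a : Matrix (Fin 2) (Fin 2) F).trace = 0) (htb : (b : Matrix (Fin 2) (Fin 2) F).trace = 1)
    (hs : ((a * b : SL(2, F)) : Matrix (Fin 2) (Fin 2) F).trace = f s0) :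
    ∃ D : GL (Fin 2) F, α ∈ pslSub f D ∧ β ∈ pslSub f D := by
  obtain ⟨a0, b0, ha0, hta0, htb0, hs0⟩ := exists_target hxy
  obtain ⟨D, hDa, hDb⟩ := exists_intertwiner hs3 (Matrix.SpecialLinearGroup.map f a0)
    (Matrix.SpecialLinearGroup.map f b0) a b
    (by
      rw [nonScalar_iff] at ha0 ⊢
      simpa [f.injective.eq_iff] using ha0)
    (by show ((a0 : Matrix (Fin 2) (Fin 2) K).map f).trace = 0; rw [trace_map_eq, hta0, map_zero])
    (by show ((b0 : Matrix (Fin 2) (Fin 2) K).map f).trace = 1; rw [trace_map_eq, htb0, map_one])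
    (by
      rw [← map_mul]
      show (((a0 * b0 : SL(2, K)) : Matrix (Fin 2) (Fin 2) K).map f).trace = f s0
      rw [trace_map_eq, hs0]) ha hta htb hs
  exact ⟨D, hpa ▸ proj_mem_pslSub f D hDa, hpb ▸ proj_mem_pslSub f D hDb⟩

/-- An element moving a triangle pair of `PSL(2, K)` into `PSL(2, K)` lies over `K`. -/
theorem mem_pglSub_of_conj (f : K →+* F) (D : GL (Fin 2) F) (s0 : K) (hs3 : (f s0) ^ 2 ≠ 3) {α β y : PSL}
    (a b : SL(2, F)) (hpa : proj a = α) (hpb : proj b = β) (ha : NonScalar (a : Matrix (Fin 2) (Fin 2) F))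
    (hta : (a : Matrix (Fin 2) (Fin 2) F).trace = 0) (htb : (b : Matrix (Fin 2) (Fin 2) F).trace = 1)
    (hs : ((a * b : SL(2, F)) : Matrix (Fin 2) (Fin 2) F).trace = f s0)
    (hα : α ∈ pslSub f D) (hβ : β ∈ pslSub f D) (hyα : y * α * y⁻¹ ∈ pslSub f D)
    (hyβ : y * β * y⁻¹ ∈ pslSub f D) : y ∈ pglSub f D := by
  obtain ⟨Y, rfl⟩ := proj_surjective y
  subst hpa hpb
  rw [← map_inv, ← map_mul, ← map_mul] at hyα hyβ
  obtain ⟨za, hza⟩ := exists_of_mem_pslSub f D hα
  obtain ⟨zb, hzb⟩ := exists_of_mem_pslSub f D hβ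
  obtain ⟨za', hza'⟩ := exists_of_mem_pslSub f D hyα
  obtain ⟨zb', hzb'⟩ := exists_of_mem_pslSub f D hyβ
  have htr : ∀ {X : SL(2, F)} {Z : SL(2, K)}, (X : Matrix (Fin 2) (Fin 2) F) * (D : Matrix (Fin 2) (Fin 2) F) =
      (D : Matrix (Fin 2) (Fin 2) F) * (Z : Matrix (Fin 2) (Fin 2) K).map f →
      f (Z : Matrix (Fin 2) (Fin 2) K).trace = (X : Matrix (Fin 2) (Fin 2) F).trace := by
    intro X Z h
    rw [← trace_map_eq, (conj_facts h).1]
  have hmulD : ∀ {X X' : SL(2, F)} {Z Z' : SL(2, K)},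
      (X : Matrix (Fin 2) (Fin 2) F) * (D : Matrix (Fin 2) (Fin 2) F) =
        (D : Matrix (Fin 2) (Fin 2) F) * (Z : Matrix (Fin 2) (Fin 2) K).map f →
      (X' : Matrix (Fin 2) (Fin 2) F) * (D : Matrix (Fin 2) (Fin 2) F) =
        (D : Matrix (Fin 2) (Fin 2) F) * (Z' : Matrix (Fin 2) (Fin 2) K).map f →
      ((X * X' : SL(2, F)) : Matrix (Fin 2) (Fin 2) F) * (D : Matrix (Fin 2) (Fin 2) F) =
        (D : Matrix (Fin 2) (Fin 2) F) * ((Z * Z' : SL(2, K)) : Matrix (Fin 2) (Fin 2) K).map f := by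
    intro X X' Z Z' h h'
    rw [Matrix.SpecialLinearGroup.coe_mul, Matrix.SpecialLinearGroup.coe_mul, Matrix.map_mul, mul_assoc, h',
      ← mul_assoc, h, mul_assoc]
  have hconjtr : ∀ X : SL(2, F), ((Y * X * Y⁻¹ : SL(2, F)) : Matrix (Fin 2) (Fin 2) F).trace =
      (X : Matrix (Fin 2) (Fin 2) F).trace := by
    intro X
    rw [Matrix.SpecialLinearGroup.coe_mul, Matrix.SpecialLinearGroup.coe_mul, Matrix.trace_mul_comm,
      ← mul_assoc, ← Matrix.SpecialLinearGroup.coe_mul, inv_mul_cancel, Matrix.SpecialLinearGroup.coe_one, one_mul]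
  have hnsmap : ∀ {X : SL(2, F)} {Z : SL(2, K)}, (X : Matrix (Fin 2) (Fin 2) F) * (D : Matrix (Fin 2) (Fin 2) F) =
      (D : Matrix (Fin 2) (Fin 2) F) * (Z : Matrix (Fin 2) (Fin 2) K).map f → proj X ≠ 1 →
      NonScalar (Z : Matrix (Fin 2) (Fin 2) K) := by
    intro X Z h hX
    by_contra hc
    apply hX
    rw [proj_eq_one_iff]
    rcases eq_one_or_eq_neg_one_of_mem_center Z ((mem_center_iff_not_nonScalar _).2 hc) with e | e <;>
      rw [e] at h <;> [have hh : X = 1; have hh : X = -1]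
    · exact Subtype.ext ((Units.mul_left_inj D).1 (by simpa using h))
    · rw [hh]; exact one_mem _
    · exact Subtype.ext ((Units.mul_left_inj D).1 (by simpa [Matrix.map_neg f (map_neg f)] using h))
    · rw [hh]; exact neg_one_mem_center
  have hane : proj a ≠ 1 := fun h => by
    rw [proj_eq_one_iff, mem_center_iff_not_nonScalar] at h
    exact h ha
  have hane' : proj (Y * a * Y⁻¹) ≠ 1 := fun h => hane (by
    rw [map_mul, map_mul, map_inv] at h
    exact conj_eq_one_iff.1 h)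
  have hab' := hmulD hza' hzb'
  rw [show Y * a * Y⁻¹ * (Y * b * Y⁻¹) = Y * (a * b) * Y⁻¹ by group] at hab'
  obtain ⟨E, hEa, hEb⟩ := exists_intertwiner (s := s0)
    (fun h => hs3 (by rw [← map_pow, h, map_ofNat]))
    za zb za' zb' (hnsmap hza hane) (f.injective (by rw [htr hza, hta, map_zero]))
    (f.injective (by rw [htr hzb, htb, map_one]))
    (f.injective (by rw [htr (hmulD hza hzb), hs]))
    (hnsmap hza' hane') (f.injective (by rw [htr hza', hconjtr, hta, map_zero]))
    (f.injective (by rw [htr hzb', hconjtr, htb, map_one]))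
    (f.injective (by rw [htr hab', hconjtr, hs]))
  set U : GL (Fin 2) F := D * GeneralLinearGroup.map f E * D⁻¹ with hU
  have key : ∀ {X : SL(2, F)} {Z Z' : SL(2, K)},
      (X : Matrix (Fin 2) (Fin 2) F) * (D : Matrix (Fin 2) (Fin 2) F) =
        (D : Matrix (Fin 2) (Fin 2) F) * (Z : Matrix (Fin 2) (Fin 2) K).map f →
      ((Y * X * Y⁻¹ : SL(2, F)) : Matrix (Fin 2) (Fin 2) F) * (D : Matrix (Fin 2) (Fin 2) F) =
        (D : Matrix (Fin 2) (Fin 2) F) * (Z' : Matrix (Fin 2) (Fin 2) K).map f →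
      (Z' : Matrix (Fin 2) (Fin 2) K) * (E : Matrix (Fin 2) (Fin 2) K) =
        (E : Matrix (Fin 2) (Fin 2) K) * (Z : Matrix (Fin 2) (Fin 2) K) →
      ((Matrix.SpecialLinearGroup.toGL Y)⁻¹ * U) * Matrix.SpecialLinearGroup.toGL X =
        Matrix.SpecialLinearGroup.toGL X * ((Matrix.SpecialLinearGroup.toGL Y)⁻¹ * U) := by
    intro X Z Z' h h' e
    have g1 : Matrix.SpecialLinearGroup.toGL X = D * GeneralLinearGroup.map f (Matrix.SpecialLinearGroup.toGL Z) * D⁻¹ := by
      rw [eq_mul_inv_iff_mul_eq]; exact Units.ext h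
    have g2 : Matrix.SpecialLinearGroup.toGL (Y * X * Y⁻¹) =
        D * GeneralLinearGroup.map f (Matrix.SpecialLinearGroup.toGL Z') * D⁻¹ := by
      rw [eq_mul_inv_iff_mul_eq]; exact Units.ext h'
    have g3 : Matrix.SpecialLinearGroup.toGL Z' * E = E * Matrix.SpecialLinearGroup.toGL Z := Units.ext e
    calc (Matrix.SpecialLinearGroup.toGL Y)⁻¹ * U * Matrix.SpecialLinearGroup.toGL X
        = (Matrix.SpecialLinearGroup.toGL Y)⁻¹ *
          (D * GeneralLinearGroup.map f (E * Matrix.SpecialLinearGroup.toGL Z) * D⁻¹) := by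
          rw [g1, hU, map_mul]; group
      _ = (Matrix.SpecialLinearGroup.toGL Y)⁻¹ * Matrix.SpecialLinearGroup.toGL (Y * X * Y⁻¹) * U := by
          rw [← g3, g2, hU, map_mul]; group
      _ = _ := by rw [map_mul, map_mul, map_inv]; group
  obtain ⟨c, hc⟩ := scalar_of_commute hs3 a b ha hta htb hs
    (((Matrix.SpecialLinearGroup.toGL Y)⁻¹ * U : GL (Fin 2) F) : Matrix (Fin 2) (Fin 2) F)
    (congrArg Units.val (key hza hza' hEa)) (congrArg Units.val (key hzb hzb' hEb))
  refine ⟨ProjGenLinGroup.mk E, ?_⟩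
  show ProjGenLinGroup.mk D * ProjGenLinGroup.mk (GeneralLinearGroup.map f E) * (ProjGenLinGroup.mk D)⁻¹ =
    ProjGenLinGroup.mk (Matrix.SpecialLinearGroup.toGL Y)
  rw [← map_inv, ← map_mul, ← map_mul, ← hU, eq_comm, ← inv_mul_eq_one, ← map_inv, ← map_mul,
    ProjGenLinGroup.mk_eq_one, Matrix.GeneralLinearGroup.mem_center_iff_val_mem_range_scalar]
  exact ⟨c, by rw [hc, Matrix.scalar_apply, ← Matrix.smul_one_eq_diagonal]⟩

end Sub

end CfsgLib.SL2
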