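import Mathlib
import Cfsg.Agent.Lib.SL2.Rigid

/-!
Maximal subgroups lying over a proper subfield.
-/

set_option autoImplicit false
set_option linter.unusedSectionVars false
set_option maxHeartbeats 400000

namespace CfsgLib.SL2

open Matrix
open scoped MatrixGroups Pointwise

variable {K F : Type*} [Field K] [Finite K] [Field F] [Finite F]

local notation "PSL" => ProjectiveSpecialLinearGroup (Fin 2) F

theorem range_eq_fixed {L : Type*} [Field L] [Finite L] (g : L →+* F) :
    Set.range g = {y : F | y ^ Nat.card L = y} := by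
  classical
  let _ := Fintype.ofFinite L
  have hsub : Set.range g ⊆ {y : F | y ^ Nat.card L = y} := by
    rintro _ ⟨x, rfl⟩
    show g x ^ Nat.card L = g x
    rw [← map_pow, ← Fintype.card_eq_nat_card, FiniteField.pow_card]
  refine Set.eq_of_subset_of_ncard_le hsub ?_ (Set.toFinite _)
  rw [Set.ncard_range_of_injective g.injective]
  have hl : 1 < Nat.card L := Finite.one_lt_card
  set P : Polynomial F := Polynomial.X ^ Nat.card L - Polynomial.X with hP
  have hne : P ≠ 0 := FiniteField.X_pow_card_sub_X_ne_zero F hl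
  have hset : {y : F | y ^ Nat.card L = y} ⊆ ↑P.roots.toFinset := by
    intro y hy
    rw [Finset.mem_coe, Multiset.mem_toFinset, Polynomial.mem_roots hne]
    show Polynomial.eval y P = 0
    rw [hP, Polynomial.eval_sub, Polynomial.eval_pow, Polynomial.eval_X]
    exact sub_eq_zero.2 hy
  refine (Set.ncard_le_ncard hset (Set.toFinite _)).trans ?_
  rw [Set.ncard_coe_finset]
  refine (Multiset.toFinset_card_le _).trans ((Polynomial.card_roots' P).trans ?_)
  rw [hP, FiniteField.X_pow_card_sub_X_natDegree_eq F hl]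

theorem isSquare_image (f : K →+* F) (hodd : Odd (Nat.card F)) {c : ℕ} (hc : Nat.card K ^ (2 * c) = Nat.card F)
    (a : K) : IsSquare (f a) := by
  let _ := Fintype.ofFinite F
  by_cases ha : a = 0
  · exact ⟨0, by simp [ha]⟩
  have := ringChar.charP F
  have h2 : ringChar F ≠ 2 := fun h => two_ne_zero_of_odd_card hodd (by
    have h' := CharP.cast_eq_zero F (ringChar F)
    rw [h] at h'
    simpa using h')
  rw [FiniteField.isSquare_iff h2 (by simpa using ha)]
  have hc0 : 2 * c ≠ 0 := by
    intro h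
    rw [h, pow_zero] at hc
    have : 1 < Nat.card F := Finite.one_lt_card
    omega
  have hKo : Odd (Nat.card K) := by
    exact (Nat.odd_pow_iff hc0).1 (hc ▸ hodd)
  obtain ⟨j, hj⟩ := hKo
  have h4 := geom_sum_mul_add (4 * j * (j + 1)) c
  rw [show 4 * j * (j + 1) + 1 = Nat.card K ^ 2 by rw [hj]; ring, ← pow_mul, hc] at h4
  set S := ∑ i ∈ Finset.range c, (Nat.card K ^ 2) ^ i
  have e : Fintype.card F / 2 = (Nat.card K - 1) * ((j + 1) * S) := by
    rw [Fintype.card_eq_nat_card, ← h4, show S * (4 * j * (j + 1)) + 1 = 2 * (2 * j * ((j + 1) * S)) + 1 by ring,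
      Nat.mul_add_div two_pos, hj, Nat.add_sub_cancel]
    simp
  let _ := Fintype.ofFinite K
  rw [e, pow_mul, ← map_pow, ← Fintype.card_eq_nat_card, FiniteField.pow_card_sub_one_eq_one a ha, map_one,
    one_pow]

theorem pglSub_mono {L : Type*} [Field L] [Finite L] (f : K →+* F) (g : L →+* F)
    (h : Set.range f ⊆ Set.range g) (D : GL (Fin 2) F) : pglSub f D ≤ pglSub g D := by
  rintro x ⟨z, hz⟩
  obtain ⟨Z, rfl⟩ := ProjGenLinGroup.mk_surjective z
  choose e he using fun a : K => h ⟨a, rfl⟩
  have hdet : (Matrix.of fun i j => e ((Z : Matrix (Fin 2) (Fin 2) K) i j)).det ≠ 0 := by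
    intro h0
    have h1 := congrArg g h0
    rw [map_zero, Matrix.det_fin_two, map_sub, map_mul, map_mul] at h1
    simp only [Matrix.of_apply, he] at h1
    rw [← map_mul, ← map_mul, ← map_sub, map_eq_zero, ← Matrix.det_fin_two] at h1
    exact (GeneralLinearGroup.det Z).ne_zero h1
  refine ⟨ProjGenLinGroup.mk (GeneralLinearGroup.mkOfDetNeZero _ hdet), ?_⟩
  rw [← hz]
  show ProjGenLinGroup.mk D * ProjGenLinGroup.mk _ * (ProjGenLinGroup.mk D)⁻¹ =
    ProjGenLinGroup.mk D * ProjGenLinGroup.mk _ * (ProjGenLinGroup.mk D)⁻¹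
  rw [mul_left_inj, mul_right_inj]
  exact congrArg _ (Units.ext (Matrix.ext fun i j => he _))

/-- `pglSub f D` as a subgroup of `PGL(2, K)`. -/
def subPre (f : K →+* F) (D : GL (Fin 2) F) : Subgroup (ProjGenLinGroup (Fin 2) K) :=
  (ProjectiveSpecialLinearGroup.toPGL (n := Fin 2) (R := F)).range.comap (subHom f D)

theorem nonempty_pglSub_equiv (f : K →+* F) (D : GL (Fin 2) F) :
    Nonempty (pglSub f D ≃* subPre f D) := by
  have e1 : (pglSub f D).map ProjectiveSpecialLinearGroup.toPGL = (subPre f D).map (subHom f D) := by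
    rw [pglSub, subPre, Subgroup.map_comap_eq, Subgroup.map_comap_eq, inf_comm]
  exact ⟨((pglSub f D).equivMapOfInjective _ ProjectiveSpecialLinearGroup.toPGL_injective).trans
    ((MulEquiv.subgroupCongr e1).trans
      ((subPre f D).equivMapOfInjective _ (subHom_injective f D)).symm)⟩

theorem card_pglSub_dvd (f : K →+* F) (D : GL (Fin 2) F) :
    Nat.card (pglSub f D) ∣ Nat.card K * ((Nat.card K - 1) * (Nat.card K + 1)) := by
  obtain ⟨e⟩ := nonempty_pglSub_equiv f D
  rw [Nat.card_congr e.toEquiv, ← card_SL_two', ← CfsgLib.Classical.card_PGL_eq_card_SL]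
  exact (subPre f D).card_subgroup_dvd_card

theorem card_pslSub (f : K →+* F) (D : GL (Fin 2) F) :
    dd K * Nat.card (pslSub f D) = Nat.card K * ((Nat.card K - 1) * (Nat.card K + 1)) := by
  have hinj : Function.Injective ((pslConj D).comp (pslMap f)) :=
    (pslConj_injective D).comp (pslMap_injective f)
  rw [pslSub, ← Nat.card_congr (MonoidHom.ofInjective hinj).toEquiv]
  exact card_PSL

theorem pglSub_ne_top (f : K →+* F) (D : GL (Fin 2) F) {m : ℕ} (hm : 2 ≤ m)
    (hK : Nat.card K ^ m = Nat.card F) : pglSub f D ≠ ⊤ := by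
  refine ne_top_of_card_lt ?_
  have hk : 2 ≤ Nat.card K := Finite.one_lt_card
  have hle := Nat.le_of_dvd (Nat.mul_pos (by omega) (Nat.mul_pos (by omega) (by omega))) (card_pglSub_dvd f D)
  have hq : Nat.card K * Nat.card K ≤ Nat.card F := by
    rw [← hK, ← pow_two]; exact Nat.pow_le_pow_right (by omega) hm
  have hG := card_PSL_ge (F := F) hq
  have h4 : 2 * (2 * (Nat.card K * ((Nat.card K - 1) * (Nat.card K + 1)))) ≤
      Nat.card K * Nat.card K * ((Nat.card K * Nat.card K - 1) * (Nat.card K * Nat.card K + 1)) := by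
    obtain ⟨j, hj⟩ : ∃ j, Nat.card K = j + 2 := ⟨Nat.card K - 2, by omega⟩
    rw [hj, show j + 2 - 1 = j + 1 by omega, show (j + 2) * (j + 2) - 1 = (j + 1) * (j + 3) by
      rw [Nat.sub_eq_iff_eq_add (by nlinarith)]; ring]
    calc 2 * (2 * ((j + 2) * ((j + 1) * (j + 2 + 1)))) = 2 * ((j + 2) * ((j + 1) * (j + 3) * 2)) := by ring
      _ ≤ (j + 2) * ((j + 2) * ((j + 1) * (j + 3) * ((j + 2) * (j + 2) + 1))) :=
        Nat.mul_le_mul (by omega) (Nat.mul_le_mul_left _ (Nat.mul_le_mul_left _ (by nlinarith)))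
      _ = _ := by ring
  have hpos : 0 < Nat.card K * ((Nat.card K - 1) * (Nat.card K + 1)) :=
    Nat.mul_pos (by omega) (Nat.mul_pos (by omega) (by omega))
  omega

/-- A maximal subgroup over a proper subfield is `PGL(2, k)` or `PSL(2, k)` with `q = k ^ prime`. -/
theorem coatom_over_subfield {M : Subgroup PSL} (hM : IsCoatom M) (f : K →+* F) (D : GL (Fin 2) F) {m : ℕ}
    (hm : 2 ≤ m) (hK : Nat.card K ^ m = Nat.card F) (hle : M ≤ pglSub f D) :
    M = pglSub f D ∧ m.Prime ∧
      ((Odd (Nat.card F) ∧ m = 2 ∧ Nonempty (M ≃* ProjGenLinGroup (Fin 2) K)) ∨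
        ((Odd m ∨ Even (Nat.card F)) ∧ Nonempty (M ≃* ProjectiveSpecialLinearGroup (Fin 2) K))) := by
  have hk : 2 ≤ Nat.card K := Finite.one_lt_card
  have heq : M = pglSub f D := by
    rcases hM.le_iff.1 hle with h | h
    · exact absurd h (pglSub_ne_top f D hm hK)
    · exact h.symm
  obtain ⟨p, a, hp, hchar, ha, hKp⟩ := exists_prime_pow K
  have := Fact.mk hp
  have hMle : Nat.card M ∣ Nat.card K * ((Nat.card K - 1) * (Nat.card K + 1)) := heq ▸ card_pglSub_dvd f D
  have hprime : m.Prime := by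
    by_contra hnp
    obtain ⟨j, hjm, hj2, hjlt⟩ := (Nat.not_prime_iff_exists_dvd_lt hm).1 hnp
    obtain ⟨i, hi⟩ := hjm
    have hi2 : 2 ≤ i := by
      rcases i with _ | _ | i <;> omega
    have hL : Nat.card (GaloisField p (a * j)) = Nat.card K ^ j := by
      rw [GaloisField.card p _ (Nat.mul_pos ha (by omega)).ne', hKp, ← pow_mul]
    obtain ⟨g⟩ := nonempty_ringHom_of_pow_card (K := GaloisField p (a * j)) (F := F) i
      (by rw [hL, ← pow_mul, ← hi, hK])
    have hsub : Set.range f ⊆ Set.range g := by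
      rw [range_eq_fixed f, range_eq_fixed g, hL]
      intro y (hy : y ^ Nat.card K = y)
      show y ^ (Nat.card K ^ j) = y
      clear hi hi2 hjlt hj2 hL g
      induction j with
      | zero => simp
      | succ n ih => rw [pow_succ, pow_mul, ih, hy]
    have hge : pslSub g D ≤ M := by
      rcases hM.le_iff.1 (hle.trans (pglSub_mono f g hsub D)) with h | h
      · exact absurd h (pglSub_ne_top g D hi2 (by rw [hL, ← pow_mul, ← hi, hK]))
      · exact (pslSub_le g D).trans h.le
    have h1 := card_pslSub g D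
    rw [hL] at h1
    set l := Nat.card K ^ j
    set k := Nat.card K
    have hlk : k * k ≤ l := by rw [← pow_two]; exact Nat.pow_le_pow_right (by omega) hj2
    have h2 : l * ((l - 1) * (l + 1)) ≤ 2 * (k * ((k - 1) * (k + 1))) := by
      rw [← h1]
      exact Nat.mul_le_mul dd_le
        ((Subgroup.card_le_of_le hge).trans (Nat.le_of_dvd (Nat.mul_pos (by omega) (Nat.mul_pos (by omega) (by omega))) hMle))
    have h3 : k * k * ((k - 1) * (l + 1)) ≤ l * ((l - 1) * (l + 1)) := by
      have : k ≤ k * k := Nat.le_mul_of_pos_left _ (by omega)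
      exact Nat.mul_le_mul hlk (Nat.mul_le_mul_right _ (by omega))
    have h4 : 2 * (k * ((k - 1) * (k + 1))) < k * k * ((k - 1) * (l + 1)) := by
      have : 2 * 2 ≤ k * k := Nat.mul_le_mul hk hk
      have : k * 2 ≤ k * k := Nat.mul_le_mul_left _ hk
      calc 2 * (k * ((k - 1) * (k + 1))) < 2 * (k * ((k - 1) * (l + 1))) := by
            refine Nat.mul_lt_mul_of_pos_left (Nat.mul_lt_mul_of_pos_left (Nat.mul_lt_mul_of_pos_left ?_ (by omega)) (by omega)) two_pos
            omega
        _ ≤ _ := by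
          rw [← mul_assoc 2 k]
          exact Nat.mul_le_mul_right _ (by omega)
    omega
  refine ⟨heq, hprime, ?_⟩
  obtain ⟨e⟩ := nonempty_pglSub_equiv f D
  let eM : M ≃* subPre f D := (MulEquiv.subgroupCongr heq).trans e
  have hrange : ∀ y, ProjectiveSpecialLinearGroup.toPGL y ∈ subPre f D := by
    intro y
    refine ⟨pslConj D (pslMap f y), ?_⟩
    rw [toPGL_pslConj, toPGL_pslMap]; rfl
  have hpsl : ∀ _ : Nat.card M ≤ Nat.card (ProjectiveSpecialLinearGroup (Fin 2) K),
      Nonempty (M ≃* ProjectiveSpecialLinearGroup (Fin 2) K) := by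
    intro hcard
    have : Finite (subPre f D) := Finite.of_equiv M eM.toEquiv
    have hR : (ProjectiveSpecialLinearGroup.toPGL (n := Fin 2) (R := K)).range = subPre f D :=
      Subgroup.eq_of_le_of_card_ge (by rintro _ ⟨y, rfl⟩; exact hrange y) (by
        rw [← Nat.card_congr eM.toEquiv, ← Nat.card_congr
          (MonoidHom.ofInjective (ProjectiveSpecialLinearGroup.toPGL_injective (n := Fin 2) (R := K))).toEquiv]
        exact hcard)
    exact ⟨eM.trans ((MulEquiv.subgroupCongr hR.symm).trans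
      (MonoidHom.ofInjective ProjectiveSpecialLinearGroup.toPGL_injective).symm)⟩
  have hP := card_PSL (F := K)
  rcases Nat.even_or_odd (Nat.card F) with hev | hodd
  · refine Or.inr ⟨Or.inr hev, hpsl ?_⟩
    have hKe : Even (Nat.card K) := by
      rw [← hK] at hev; exact (Nat.even_pow.1 hev).1
    rw [show Nat.gcd 2 (Nat.card K - 1) = 1 from dd_of_even hKe, one_mul] at hP
    rw [hP]
    exact Nat.le_of_dvd (Nat.mul_pos (by omega) (Nat.mul_pos (by omega) (by omega))) hMle
  · rcases hprime.eq_two_or_odd' with rfl | hmo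
    · refine Or.inl ⟨hodd, rfl, ?_⟩
      have htop : subPre f D = ⊤ := by
        rw [Subgroup.eq_top_iff']
        intro z
        obtain ⟨Z, rfl⟩ := ProjGenLinGroup.mk_surjective z
        obtain ⟨w, hw⟩ := map_mem_range_toPGL f (isSquare_image f hodd (c := 1) (by simpa using hK)) Z
        refine ⟨pslConj D w, ?_⟩
        rw [toPGL_pslConj, hw]
        rfl
      exact ⟨eM.trans ((MulEquiv.subgroupCongr htop).trans Subgroup.topEquiv)⟩
    · refine Or.inr ⟨Or.inl hmo, hpsl ?_⟩
      have hKo : Odd (Nat.card K) := by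
        rw [← hK] at hodd; exact (Nat.odd_pow_iff hprime.pos.ne').1 hodd
      rw [show Nat.gcd 2 (Nat.card K - 1) = 2 from dd_of_odd hKo] at hP
      obtain ⟨c, hc⟩ := hMle
      have hpos : 0 < Nat.card M := Nat.card_pos
      rcases (show c = 0 ∨ c = 1 ∨ 2 ≤ c by omega) with rfl | rfl | hc2
      · rw [mul_zero] at hc
        have := Nat.mul_pos (show 0 < Nat.card K by omega) (Nat.mul_pos (show 0 < Nat.card K - 1 by omega) (show 0 < Nat.card K + 1 by omega))
        omega
      · exfalso
        rw [mul_one] at hc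
        refine Nat.not_even_iff_odd.2 hmo (even_of_pgl_card_dvd hk hKo hK ?_)
        have hG := card_PSL (F := F)
        rw [show Nat.gcd 2 (Nat.card F - 1) = 2 from dd_of_odd hodd] at hG
        rw [← hG, hc, mul_comm 2]
        exact Nat.mul_dvd_mul_right M.card_subgroup_dvd_card 2
      · have : Nat.card M * 2 ≤ Nat.card M * c := Nat.mul_le_mul_left _ hc2
        omega

end CfsgLib.SL2
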