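import Mathlib
import Cfsg.Agent.Lib.SL2.SubField

/-!
The list of maximal subgroups of `PSL(2, q)`.
-/

set_option autoImplicit false
set_option linter.unusedSectionVars false
set_option maxHeartbeats 400000

namespace CfsgLib.SL2

open Matrix
open scoped MatrixGroups Pointwise

/-! ### Abstract containments -/

section Abstract

variable {G : Type*} [Group G] [Finite G]

theorem not_coatom_of_card_sylow {N : Subgroup G} {r k : ℕ} [Fact r.Prime] (hN : Nat.card N = r ^ k)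
    (hG : ¬ r ^ (k + 1) ∣ Nat.card G) (H : Subgroup G) (hH : H ≠ ⊤) (hdvd : r ^ k ∣ Nat.card H)
    (hlt : r ^ k < Nat.card H) : ¬ IsCoatom N := by
  intro hco
  obtain ⟨P, hP⟩ := Sylow.exists_subgroup_card_pow_prime r hdvd
  set P' := P.map H.subtype with hP'
  have hcP : Nat.card P' = r ^ k := by rw [hP', Subgroup.card_map_of_injective H.subtype_injective, hP]
  have hdvdG : r ^ k ∣ Nat.card G := hN ▸ N.card_subgroup_dvd_card
  have hf : r ^ (Nat.card G).factorization r = r ^ k := by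
    congr 1
    have h1 := (Nat.Prime.pow_dvd_iff_le_factorization Fact.out Nat.card_pos.ne').1 hdvdG
    by_contra hne
    exact hG ((Nat.Prime.pow_dvd_iff_le_factorization Fact.out Nat.card_pos.ne').2 (by omega))
  let SN : Sylow r G := Sylow.ofCard N (by rw [hN, hf])
  let SP : Sylow r G := Sylow.ofCard P' (by rw [hcP, hf])
  obtain ⟨g, hg⟩ := MulAction.exists_smul_eq G SP SN
  have hle : N ≤ H.map (MulAut.conj g).toMonoidHom := by
    have e : N = P'.map (MulAut.conj g).toMonoidHom := by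
      have := congrArg (fun S : Sylow r G => (S : Subgroup G)) hg
      simp only [Sylow.coe_subgroup_smul] at this
      exact this.symm
    rw [e]
    exact Subgroup.map_mono (Subgroup.map_subtype_le P)
  have hcard : Nat.card (H.map (MulAut.conj g).toMonoidHom) = Nat.card H :=
    Subgroup.card_map_of_injective (MulAut.conj g).injective
  rcases hco.le_iff.1 hle with h | h
  · refine hH (Subgroup.eq_top_of_card_eq _ ?_)
    rw [← hcard, h, Subgroup.card_top]
  · rw [h, hN] at hcard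
    omega

theorem not_coatom_normalizer {T : Subgroup G} {r : ℕ} [Fact r.Prime] (hT : Nat.card T = r)
    (hN : Nat.card (Subgroup.normalizer (T : Set G)) = 2 * r) (hG : ¬ r ^ 2 ∣ Nat.card G)
    (H : Subgroup G) (hH : H ≠ ⊤) (hdvd : r ∣ Nat.card H) (hlt : 2 * r < Nat.card H)
    (hcond : ∀ i, i ≤ Nat.card H → i ∣ Nat.card H → i % r = 1 → r * i ∣ Nat.card H → 2 * (r * i) ≤ Nat.card H) :
    ¬ IsCoatom (Subgroup.normalizer (T : Set G)) := by
  intro hco
  have hr : r.Prime := Fact.out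
  obtain ⟨P, hP⟩ := Sylow.exists_subgroup_card_pow_prime r (n := 1) (by rwa [pow_one] : r ^ 1 ∣ Nat.card H)
  rw [pow_one] at hP
  set P' := P.map H.subtype with hP'
  have hcP : Nat.card P' = r := by rw [hP', Subgroup.card_map_of_injective H.subtype_injective, hP]
  have hf : r ^ (Nat.card G).factorization r = r := by
    conv_rhs => rw [← pow_one r]
    congr 1
    have h1 := (Nat.Prime.pow_dvd_iff_le_factorization hr Nat.card_pos.ne').1
      (show r ^ 1 ∣ Nat.card G by rw [pow_one, ← hT]; exact T.card_subgroup_dvd_card)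
    by_contra hne
    exact hG ((Nat.Prime.pow_dvd_iff_le_factorization hr Nat.card_pos.ne').2 (by omega))
  have hfH : r ^ (Nat.card H).factorization r = r := by
    conv_rhs => rw [← pow_one r]
    congr 1
    have h1 := (Nat.Prime.pow_dvd_iff_le_factorization hr Nat.card_pos.ne').1 (show r ^ 1 ∣ Nat.card H by rwa [pow_one])
    by_contra hne
    exact hG (((Nat.Prime.pow_dvd_iff_le_factorization hr Nat.card_pos.ne').2
      (show 2 ≤ _ by omega)).trans H.card_subgroup_dvd_card)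
  let ST : Sylow r G := Sylow.ofCard T (by rw [hT, hf])
  let SP : Sylow r G := Sylow.ofCard P' (by rw [hcP, hf])
  let SH : Sylow r H := Sylow.ofCard P (by rw [hP, hfH])
  obtain ⟨g, hg⟩ := MulAction.exists_smul_eq G SP ST
  have e : T = P'.map (MulAut.conj g).toMonoidHom := by
    have := congrArg (fun S : Sylow r G => (S : Subgroup G)) hg
    simp only [Sylow.coe_subgroup_smul] at this
    exact this.symm
  set NH := Subgroup.normalizer (P : Set H)
  have hle1 : (NH.map H.subtype).map (MulAut.conj g).toMonoidHom ≤ Subgroup.normalizer (T : Set G) := by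
    rintro _ ⟨_, ⟨n, hn, rfl⟩, rfl⟩
    rw [CA.mem_normalizer_iff_forall, e]
    rintro _ ⟨_, ⟨x, hx, rfl⟩, rfl⟩
    refine ⟨((n * x * n⁻¹ : H) : G), ⟨_, (Subgroup.mem_normalizer_iff.1 hn x).1 hx, rfl⟩, ?_⟩
    simp
    group
  have hi := card_sylow_modEq_one r H
  rw [Sylow.card_eq_index_normalizer SH] at hi
  have hi' : NH.index % r = 1 := by
    have h1 : NH.index % r = 1 % r := hi
    rwa [Nat.one_mod_eq_one.2 hr.ne_one] at h1
  have hprod := NH.card_mul_index
  have hPN : P ≤ NH := Subgroup.le_normalizer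
  obtain ⟨c, hc⟩ := hP ▸ Subgroup.card_dvd_of_le hPN
  have h2 : 2 * (r * NH.index) ≤ Nat.card H := by
    refine hcond _ ?_ ⟨_, by rw [← hprod]; ring⟩ hi' ⟨c, by rw [← hprod, hc]; ring⟩
    rw [← hprod]
    exact Nat.le_mul_of_pos_left _ Nat.card_pos
  have hge : 2 * r ≤ Nat.card NH := by
    rw [← hprod, mul_comm (Nat.card NH) NH.index, ← mul_assoc, mul_comm _ NH.index] at h2
    exact Nat.le_of_mul_le_mul_left h2 (Nat.pos_of_ne_zero Subgroup.index_ne_zero_of_finite)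
  have hle2 : Subgroup.normalizer (T : Set G) ≤ H.map (MulAut.conj g).toMonoidHom := by
    rw [← Subgroup.eq_of_le_of_card_ge hle1 (by
      rw [hN, Subgroup.card_map_of_injective (MulAut.conj g).injective,
        Subgroup.card_map_of_injective H.subtype_injective]
      exact hge)]
    exact Subgroup.map_mono (Subgroup.map_subtype_le NH)
  have hcard : Nat.card (H.map (MulAut.conj g).toMonoidHom) = Nat.card H :=
    Subgroup.card_map_of_injective (MulAut.conj g).injective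
  rcases hco.le_iff.1 hle2 with h | h
  · refine hH (Subgroup.eq_top_of_card_eq _ ?_)
    rw [← hcard, h, Subgroup.card_top]
  · rw [h, hN] at hcard
    omega

end Abstract

theorem four_pair : ∃ u v : alternatingGroup (Fin 4), u * u = 1 ∧ u ≠ 1 ∧ v ^ 3 = 1 ∧ v ≠ 1 ∧
    (u * v) ^ 3 = 1 ∧ u * v ≠ 1 ∧
    ∀ x, ∃ (i : Fin 3) (j : Fin 2) (k : Fin 3), x = v ^ (i : ℕ) * u ^ (j : ℕ) * v ^ (k : ℕ) := by
  decide +kernel

theorem five_pair : ∃ u v : alternatingGroup (Fin 5),
    u * u = 1 ∧ u ≠ 1 ∧ v ^ 3 = 1 ∧ v ≠ 1 ∧ (u * v) ^ 5 = 1 ∧ u * v ≠ 1 := by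
  decide +kernel

variable {F : Type*} [Field F] [Finite F]

local notation "PSL" => ProjectiveSpecialLinearGroup (Fin 2) F

theorem normalizer_torus_ne_top (p : ℕ) [Fact p.Prime] [CharP F p] (h4 : 4 ≤ Nat.card F) {c : PSL}
    (hc : Census.Semi p c) : Subgroup.normalizer (torus c : Set PSL) ≠ ⊤ := by
  refine ne_top_of_card_lt ?_
  rw [card_normalizer_torus p hc]
  have ht : Nat.card (torus c) ≤ Nat.card F + 1 := by
    rcases card_torus_cases p hc with e | e <;> rw [e] <;>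
      exact (Nat.div_le_self _ _).trans (by omega)
  have hG := card_PSL_ge (F := F) (le_refl (Nat.card F))
  have : 4 * (3 * (Nat.card F + 1)) ≤ Nat.card F * ((Nat.card F - 1) * (Nat.card F + 1)) :=
    Nat.mul_le_mul h4 (Nat.mul_le_mul_right _ (by omega))
  omega

theorem borelPSL_ne_top : borelPSL F ≠ ⊤ := fun e => by
  have h := index_borelPSL (F := F)
  rw [e, Subgroup.index_top] at h
  have : 0 < Nat.card F := Nat.card_pos
  omega

theorem eq_normalizer_of_le (p : ℕ) [Fact p.Prime] [CharP F p] (h4 : 4 ≤ Nat.card F) {M : Subgroup PSL}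
    (hM : IsCoatom M) {c : PSL} (hc : Census.Semi p c) (h : M ≤ Subgroup.normalizer (torus c : Set PSL)) :
    M = Subgroup.normalizer (torus c : Set PSL) := by
  rcases hM.le_iff.1 h with e | e
  · exact absurd e (normalizer_torus_ne_top p h4 hc)
  · exact e.symm

theorem card_of_le_borel {M : Subgroup PSL} (hM : IsCoatom M) {k : PSL}
    (hk : ∀ h ∈ M, k * h * k⁻¹ ∈ borelPSL F) : dd F * Nat.card M = Nat.card F * (Nat.card F - 1) := by
  have hle : M ≤ (borelPSL F).comap (MulAut.conj k).toMonoidHom := fun h hh => hk h hh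
  have e : ((borelPSL F).comap (MulAut.conj k).toMonoidHom).map (MulAut.conj k).toMonoidHom = borelPSL F :=
    Subgroup.map_comap_eq_self_of_surjective (MulAut.conj k).surjective _
  rcases hM.le_iff.1 hle with h | h
  · rw [h, Subgroup.map_top_of_surjective (MulAut.conj k).toMonoidHom (MulAut.conj k).surjective] at e
    exact absurd e.symm borelPSL_ne_top
  · rw [← card_map_conj M k, ← h, e, card_borelPSL]

/-! ### The groups `A₄`, `S₄`, `A₅` over subfields -/

theorem exists_four_lifts (φ : alternatingGroup (Fin 4) →* PSL) (hφ : Function.Injective φ) :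
    ∃ (u v : alternatingGroup (Fin 4)) (a b : SL(2, F)),
      (∀ x, ∃ (i : Fin 3) (j : Fin 2) (k : Fin 3), x = v ^ (i : ℕ) * u ^ (j : ℕ) * v ^ (k : ℕ)) ∧
      proj a = φ u ∧ proj b = φ v ∧ NonScalar (a : Matrix (Fin 2) (Fin 2) F) ∧
      (a : Matrix (Fin 2) (Fin 2) F).trace = 0 ∧ (b : Matrix (Fin 2) (Fin 2) F).trace = 1 ∧
      ((a * b : SL(2, F)) : Matrix (Fin 2) (Fin 2) F).trace = 1 := by
  obtain ⟨u, v, hu, hu1, hv, hv1, huv, huv1, hall⟩ := four_pair
  have : Fact (Nat.Prime 3) := ⟨Nat.prime_three⟩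
  have h1 : orderOf (φ u) = 2 := by
    rw [orderOf_injective φ hφ]; exact orderOf_eq_prime (by rw [pow_two, hu]) hu1
  have h2 : orderOf (φ v) = 3 := by
    rw [orderOf_injective φ hφ]; exact orderOf_eq_prime hv hv1
  have h3 : orderOf (φ u * φ v) = 3 := by
    rw [← map_mul, orderOf_injective φ hφ]; exact orderOf_eq_prime huv huv1
  obtain ⟨a, b, ha, hb, hns, hta, htb, hs⟩ := exists_lifts (Q := fun t => t = 1) h1 h2 h3 (fun g hg => by
    rcases lift_three h3 hg with h | h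
    · exact Or.inl h
    · exact Or.inr (by rw [h, neg_neg]))
  exact ⟨u, v, a, b, hall, ha, hb, hns, hta, htb, hs⟩

theorem one_sq_ne_three (hodd : Odd (Nat.card F)) : (1 : F) ^ 2 ≠ 3 := fun h =>
  two_ne_zero_of_odd_card hodd (by linear_combination -h)

theorem four_le_pglSub {K : Type*} [Field K] [Finite K] (f : K →+* F) (hodd : Odd (Nat.card F))
    (hKodd : Odd (Nat.card K)) {M : Subgroup PSL} (φ : alternatingGroup (Fin 4) →* PSL)
    (hφ : Function.Injective φ) (hnorm : ∀ y ∈ M, ∀ x, ∃ x', y * φ x * y⁻¹ = φ x') :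
    ∃ D : GL (Fin 2) F, M ≤ pglSub f D := by
  obtain ⟨u, v, a, b, hall, hpa, hpb, hns, hta, htb, hs⟩ := exists_four_lifts φ hφ
  obtain ⟨x0, y0, hxy⟩ := exists_xy hKodd (1 : K)
  have hs' : ((a * b : SL(2, F)) : Matrix (Fin 2) (Fin 2) F).trace = f 1 := by rw [hs, map_one]
  have hs3 : (f 1) ^ 2 ≠ 3 := by rw [map_one]; exact one_sq_ne_three hodd
  obtain ⟨D, hα, hβ⟩ := exists_frame f 1 hs3 ⟨x0, y0, hxy⟩ a b hpa hpb hns hta htb hs'
  refine ⟨D, fun y hy => ?_⟩
  have hmem : ∀ x, φ x ∈ pslSub f D := by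
    intro x
    obtain ⟨i, j, k, rfl⟩ := hall x
    rw [map_mul, map_mul, map_pow, map_pow, map_pow]
    exact mul_mem (mul_mem (pow_mem hβ _) (pow_mem hα _)) (pow_mem hβ _)
  obtain ⟨xu, hxu⟩ := hnorm y hy u
  obtain ⟨xv, hxv⟩ := hnorm y hy v
  exact mem_pglSub_of_conj f D 1 hs3 a b hpa hpb hns hta htb hs' hα hβ (hxu ▸ hmem xu) (hxv ▸ hmem xv)

/-- Any two copies of `A₄` are conjugate under `PGL(2, F)`. -/
theorem exists_conj_four (hodd : Odd (Nat.card F)) (φ φ' : alternatingGroup (Fin 4) →* PSL)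
    (hφ : Function.Injective φ) (hφ' : Function.Injective φ') :
    ∃ D : GL (Fin 2) F, φ.range ≤ φ'.range.map (pslConj D) := by
  obtain ⟨u, v, a, b, hall, hpa, hpb, hns, hta, htb, hs⟩ := exists_four_lifts φ hφ
  obtain ⟨u', v', a', b', -, hpa', hpb', hns', hta', htb', hs'⟩ := exists_four_lifts φ' hφ'
  obtain ⟨D, hDa, hDb⟩ := exists_intertwiner (one_sq_ne_three hodd) a' b' a b hns' hta' htb' hs' hns hta htb hs
  refine ⟨D, ?_⟩
  have key : ∀ {A A' : SL(2, F)}, (A : Matrix (Fin 2) (Fin 2) F) * (D : Matrix (Fin 2) (Fin 2) F) =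
      (D : Matrix (Fin 2) (Fin 2) F) * (A' : Matrix (Fin 2) (Fin 2) F) →
      pslConj D (proj A') = proj A := by
    intro A A' h
    refine ProjectiveSpecialLinearGroup.toPGL_injective ?_
    rw [toPGL_pslConj]
    show ProjGenLinGroup.mk D * ProjGenLinGroup.mk _ * (ProjGenLinGroup.mk D)⁻¹ = ProjGenLinGroup.mk _
    rw [← map_inv, ← map_mul, ← map_mul]
    refine congrArg _ ?_
    rw [mul_inv_eq_iff_eq_mul]
    exact Units.ext h.symm
  have hu : φ u ∈ φ'.range.map (pslConj D) := ⟨φ' u', ⟨u', rfl⟩, by rw [← hpa', key hDa, hpa]⟩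
  have hv : φ v ∈ φ'.range.map (pslConj D) := ⟨φ' v', ⟨v', rfl⟩, by rw [← hpb', key hDb, hpb]⟩
  rintro _ ⟨x, rfl⟩
  obtain ⟨i, j, k, rfl⟩ := hall x
  rw [map_mul, map_mul, map_pow, map_pow, map_pow]
  exact mul_mem (mul_mem (pow_mem hv _) (pow_mem hu _)) (pow_mem hv _)

/-- A maximal `A₄` cannot sit in a bigger copy of `S₄` or `A₅`. -/
theorem not_coatom_four (hodd : Odd (Nat.card F)) {M : Subgroup PSL}
    (e : M ≃* alternatingGroup (Fin 4)) (S : Subgroup PSL) (hS : S ≠ ⊤) (hlt : 12 < Nat.card S)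
    (hφ : ∃ φ : alternatingGroup (Fin 4) →* S, Function.Injective φ) : ¬ IsCoatom M := by
  intro hM
  obtain ⟨φ', hφ'⟩ := hφ
  obtain ⟨D, hD⟩ := exists_conj_four hodd (M.subtype.comp e.symm.toMonoidHom) (S.subtype.comp φ')
    (M.subtype_injective.comp e.symm.injective) (S.subtype_injective.comp hφ')
  have hle : M ≤ S.map (pslConj D) := by
    intro x hx
    obtain ⟨_, ⟨z, rfl⟩, hz⟩ := hD ⟨e ⟨x, hx⟩, rfl⟩
    refine ⟨_, (φ' z).2, ?_⟩
    rw [show (S.subtype.comp φ') z = ((φ' z : S) : PSL) from rfl] at hz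
    rw [hz]
    simp
  have hc : Nat.card (S.map (pslConj D)) = Nat.card S := Subgroup.card_map_of_injective (pslConj_injective D)
  rcases hM.le_iff.1 hle with h | h
  · refine hS (Subgroup.eq_top_of_card_eq _ ?_)
    rw [← hc, h, Subgroup.card_top]
  · rw [h, Nat.card_congr e.toEquiv, card_alternating_four] at hc
    omega

theorem five_le_pglSub {K : Type*} [Field K] [Finite K] (f : K →+* F) {M : Subgroup PSL}
    (e : M ≃* alternatingGroup (Fin 5)) (s0 : K) (hs0 : ∀ t : F, t * t = t + 1 → t = f s0 ∨ t = 1 - f s0)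
    (hs3 : (f s0) ^ 2 ≠ 3) (hs3' : (f (1 - s0)) ^ 2 ≠ 3)
    (hxy : ∀ s : K, s = s0 ∨ s = 1 - s0 → ∃ x y : K, x ^ 2 - x + y ^ 2 - s * y + 1 = 0) :
    ∃ D : GL (Fin 2) F, M ≤ pglSub f D := by
  obtain ⟨u, v, hu, hu1, hv, hv1, huv, huv1⟩ := five_pair
  have : Fact (Nat.Prime 3) := ⟨Nat.prime_three⟩
  have : Fact (Nat.Prime 5) := ⟨Nat.prime_five⟩
  set φ : alternatingGroup (Fin 5) →* PSL := M.subtype.comp e.symm.toMonoidHom
  have hφ : Function.Injective φ := M.subtype_injective.comp e.symm.injective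
  have h1 : orderOf (φ u) = 2 := by
    rw [orderOf_injective φ hφ]; exact orderOf_eq_prime (by rw [pow_two, hu]) hu1
  have h2 : orderOf (φ v) = 3 := by
    rw [orderOf_injective φ hφ]; exact orderOf_eq_prime hv hv1
  have h3 : orderOf (φ u * φ v) = 5 := by
    rw [← map_mul, orderOf_injective φ hφ]; exact orderOf_eq_prime huv huv1
  obtain ⟨a, b, hpa, hpb, hns, hta, htb, hs⟩ := exists_lifts (Q := fun t => t * t = t + 1) h1 h2 h3
    (fun g hg => lift_five h3 hg)
  obtain ⟨s1, hs1, hs13, hxy1⟩ : ∃ s1 : K, ((a * b : SL(2, F)) : Matrix (Fin 2) (Fin 2) F).trace = f s1 ∧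
      (f s1) ^ 2 ≠ 3 ∧ ∃ x y : K, x ^ 2 - x + y ^ 2 - s1 * y + 1 = 0 := by
    rcases hs0 _ hs with h | h
    · exact ⟨s0, h, hs3, hxy _ (Or.inl rfl)⟩
    · exact ⟨1 - s0, by rw [h, map_sub, map_one], hs3', hxy _ (Or.inr rfl)⟩
  obtain ⟨D, hα, hβ⟩ := exists_frame f s1 hs13 hxy1 a b hpa hpb hns hta htb hs1
  refine ⟨D, fun x hx => pslSub_le f D ?_⟩
  set H := Subgroup.closure ({φ u, φ v} : Set PSL) with hH
  have hHM : H ≤ M := by
    rw [hH, Subgroup.closure_le]
    rintro _ (rfl | rfl) <;> exact (e.symm _).2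
  have hge : Nat.card M ≤ Nat.card H := by
    have hu' : φ u ∈ H := Subgroup.subset_closure (by simp)
    have hv' : φ v ∈ H := Subgroup.subset_closure (by simp)
    have oa : orderOf (⟨φ u, hu'⟩ : H) = 2 := by rw [Subgroup.orderOf_mk, h1]
    have ob : orderOf (⟨φ v, hv'⟩ : H) = 3 := by rw [Subgroup.orderOf_mk, h2]
    have oc : orderOf ((⟨φ u, hu'⟩ : H) * ⟨φ v, hv'⟩) = 5 := by rw [MulMemClass.mk_mul_mk, Subgroup.orderOf_mk, h3]
    have h30 : 30 ∣ Nat.card H := Nat.Coprime.mul_dvd_of_dvd_of_dvd (by norm_num : Nat.Coprime 6 5)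
      (Nat.Coprime.mul_dvd_of_dvd_of_dvd (by norm_num : Nat.Coprime 2 3)
        ((dvd_of_eq oa.symm).trans (orderOf_dvd_natCard (G := H) _)) ((dvd_of_eq ob.symm).trans (orderOf_dvd_natCard (G := H) _)))
      ((dvd_of_eq oc.symm).trans (orderOf_dvd_natCard (G := H) _))
    have hne := not_card_thirty oa ob oc
    obtain ⟨j, hj⟩ := h30
    have hpos := Nat.card_pos (α := H)
    rw [Nat.card_congr e.toEquiv, card_alternating_five]
    omega
  rw [← Subgroup.eq_of_le_of_card_ge hHM hge] at hx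
  refine (Subgroup.closure_le _).2 ?_ hx
  rintro _ (rfl | rfl)
  · exact hα
  · exact hβ

theorem exists_conj_borel_four (heven : Even (Nat.card F)) {H : Subgroup PSL}
    (e : H ≃* alternatingGroup (Fin 4)) : ∃ k : PSL, ∀ h ∈ H, k * h * k⁻¹ ∈ borelPSL F := by
  obtain ⟨p, n, hp, hchar, hn, hq⟩ := exists_prime_pow F
  have : Fact p.Prime := ⟨hp⟩
  have hp2 : p = 2 := ((Nat.prime_dvd_prime_iff_eq Nat.prime_two hp).1
    (Nat.prime_two.dvd_of_dvd_pow (hq ▸ even_iff_two_dvd.1 heven))).symm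
  subst hp2
  obtain ⟨u, v, hu1, huu, hcomm, hall⟩ : ∃ u v : alternatingGroup (Fin 4),
      u ≠ 1 ∧ u * u = 1 ∧ u * (v * u * v⁻¹) = (v * u * v⁻¹) * u ∧
      ∀ x, ∃ (i : Fin 3) (j : Fin 2) (k : Fin 3), x = v ^ (i : ℕ) * u ^ (j : ℕ) * v ^ (k : ℕ) := by
    decide +kernel
  set φ : alternatingGroup (Fin 4) →* PSL := H.subtype.comp e.symm.toMonoidHom
  have hφ : Function.Injective φ := H.subtype_injective.comp e.symm.injective
  have hU : orderOf (φ u) = 2 := by
    rw [orderOf_injective φ hφ]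
    exact orderOf_eq_prime (by rw [pow_two, huu]) hu1
  obtain ⟨k, hk⟩ := exists_conj_mem_upperPSL 2
    (IsPGroup.of_card (n := 1) (by rw [Nat.card_zpowers, hU, pow_one]) : IsPGroup 2 (Subgroup.zpowers (φ u)))
  have hku := hk _ (Subgroup.mem_zpowers _)
  have hku1 : k * φ u * k⁻¹ ≠ 1 := fun h => by
    rw [conj_eq_one_iff.1 h, orderOf_one] at hU; omega
  have hw : k * φ (v * u * v⁻¹) * k⁻¹ ∈ upperPSL F := by
    refine mem_upperPSL_of_pow 2 (mem_borelPSL_of_conj hku hku1 ?_) ?_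
    · rw [show k * φ (v * u * v⁻¹) * k⁻¹ * (k * φ u * k⁻¹) * (k * φ (v * u * v⁻¹) * k⁻¹)⁻¹ =
        k * (φ (v * u * v⁻¹) * φ u * (φ (v * u * v⁻¹))⁻¹) * k⁻¹ by group,
        ← map_mul, ← hcomm, map_mul, mul_inv_cancel_right]
      exact hku
    · rw [conj_pow, ← map_pow, pow_two, show v * u * v⁻¹ * (v * u * v⁻¹) = v * (u * u) * v⁻¹ by group,
        huu, mul_one, mul_inv_cancel, map_one, mul_one, mul_inv_cancel]
  have hkv : k * φ v * k⁻¹ ∈ borelPSL F := by
    refine mem_borelPSL_of_conj hku hku1 ?_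
    rwa [show k * φ v * k⁻¹ * (k * φ u * k⁻¹) * (k * φ v * k⁻¹)⁻¹ = k * φ (v * u * v⁻¹) * k⁻¹ by
      rw [map_mul, map_mul, map_inv]; group]
  refine ⟨k, fun h hh => ?_⟩
  obtain ⟨i, j, l, hx⟩ := hall (e ⟨h, hh⟩)
  have hx' : h = φ (v ^ (i : ℕ) * u ^ (j : ℕ) * v ^ (l : ℕ)) := by rw [← hx]; simp [φ]
  rw [hx', map_mul, map_mul, map_pow, map_pow, map_pow,
    show k * (φ v ^ (i : ℕ) * φ u ^ (j : ℕ) * φ v ^ (l : ℕ)) * k⁻¹ =
      (k * φ v ^ (i : ℕ) * k⁻¹) * (k * φ u ^ (j : ℕ) * k⁻¹) * (k * φ v ^ (l : ℕ) * k⁻¹) by group,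
    ← conj_pow, ← conj_pow, ← conj_pow]
  exact mul_mem (mul_mem (pow_mem hkv _) (pow_mem (upperPSL_le_borelPSL hku) _)) (pow_mem hkv _)

theorem le_pglSub_of_shapeIn {M : Subgroup PSL} (hM : M ≠ ⊤) (h : SubfieldShapeIn M.subtype) :
    ∃ (K : Type) (_ : Field K) (_ : Fintype K) (f : K →+* F) (D : GL (Fin 2) F) (m : ℕ),
      2 ≤ m ∧ Nat.card K ^ m = Nat.card F ∧ M ≤ pglSub f D := by
  obtain ⟨K, fK, fT, m, hm, hd, f, D, hz⟩ := h
  rw [Fintype.card_eq_nat_card] at hm
  refine ⟨K, fK, fT, f, D, m, two_le_exponent hM hm hd, hm, fun x hx => ?_⟩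
  obtain ⟨z, hz⟩ := hz ⟨x, hx⟩
  refine ⟨ProjGenLinGroup.mk z, ?_⟩
  rw [show ProjectiveSpecialLinearGroup.toPGL x = _ from hz]
  show ProjGenLinGroup.mk D * ProjGenLinGroup.mk _ * (ProjGenLinGroup.mk D)⁻¹ = _
  rw [← map_inv, ← map_mul, ← map_mul]

end CfsgLib.SL2
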