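import Mathlib
import Cfsg.Agent.Lib.SL2.MaxClass

/-!
Theorem: the maximal subgroups of `PSL(2, q)`.
-/

set_option autoImplicit false
set_option linter.unusedSectionVars false
set_option maxHeartbeats 400000

namespace CfsgLib.SL2

open Matrix
open scoped MatrixGroups Pointwise

variable {F : Type*} [Field F] [Finite F]

local notation "PSL" => ProjectiveSpecialLinearGroup (Fin 2) F

theorem not_coatom_small (p : ℕ) [Fact p.Prime] [CharP F p] (hodd : Odd (Nat.card F)) {c : PSL}
    (hc : Census.Semi p c)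
    (h : (Nat.card F ∈ ({5, 7, 9, 11} : Finset ℕ) ∧ 2 * Nat.card (torus c) = Nat.card F - 1) ∨
      (Nat.card F ∈ ({7, 9} : Finset ℕ) ∧ 2 * Nat.card (torus c) = Nat.card F + 1)) :
    ¬ IsCoatom (Subgroup.normalizer (torus c : Set PSL)) := by
  let _ := Fintype.ofFinite F
  have hN := card_normalizer_torus p hc
  have hG := card_PSL (F := F)
  rw [show Nat.gcd 2 (Nat.card F - 1) = 2 from dd_of_odd hodd] at hG
  have : Fact (Nat.Prime 3) := ⟨Nat.prime_three⟩
  have : Fact (Nat.Prime 5) := ⟨Nat.prime_five⟩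
  have exS4 : Nat.card F = 7 ∨ Nat.card F = 9 → ∃ H : Subgroup PSL, H ≠ ⊤ ∧ Nat.card H = 24 := by
    intro hq
    obtain ⟨H, ⟨e⟩⟩ := (Cfsg.Agent.S0803.result (F := F) Fintype.card_eq_nat_card).2
      (by rcases hq with e | e <;> rw [e] <;> norm_num)
    have hH : Nat.card H = 24 := by rw [Nat.card_congr e.toEquiv, card_perm_four]
    exact ⟨H, fun e' => by rw [e', Subgroup.card_top] at hH; rcases hq with e | e <;> rw [hH, e] at hG <;> norm_num at hG, hH⟩
  have exA5 : Nat.card F = 9 ∨ Nat.card F = 11 → ∃ H : Subgroup PSL, H ≠ ⊤ ∧ Nat.card H = 60 := by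
    intro hq
    obtain ⟨H, ⟨e⟩⟩ := (Cfsg.Agent.S0804.result (F := F) Fintype.card_eq_nat_card).2
      (by rcases hq with e | e <;> rw [e] <;> norm_num)
    have hH : Nat.card H = 60 := by rw [Nat.card_congr e.toEquiv, card_alternating_five]
    exact ⟨H, fun e' => by rw [e', Subgroup.card_top] at hH; rcases hq with e | e <;> rw [hH, e] at hG <;> norm_num at hG, hH⟩
  simp only [Finset.mem_insert, Finset.mem_singleton] at h
  rcases h with ⟨hq, ht⟩ | ⟨hq, ht⟩
  · rcases hq with hq | hq | hq | hq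
    · -- q = 5
      obtain ⟨H, ⟨e⟩⟩ := exists_alternating_four hodd
      have hH : Nat.card H = 12 := by rw [Nat.card_congr e.toEquiv, card_alternating_four]
      have h60 := card_five hq
      exact not_coatom_of_card_sylow (r := 2) (k := 2) (by rw [hN]; norm_num; omega) (by rw [h60]; norm_num) H
        (fun e' => by rw [e', Subgroup.card_top] at hH; omega) (by rw [hH]; norm_num) (by rw [hH]; norm_num)
    · -- q = 7
      obtain ⟨H, hne, hH⟩ := exS4 (Or.inl hq)
      rw [hq] at hG
      exact not_coatom_normalizer (r := 3) (by omega) (by rw [hN]; omega)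
        (fun hd => by norm_num at hd; obtain ⟨j, hj⟩ := hd; omega) H hne (by rw [hH]; norm_num)
        (by omega) (fun i hi hd hm hd' => by rw [hH] at hi hd hd' ⊢; interval_cases i <;> omega)
    · -- q = 9
      obtain ⟨H, hne, hH⟩ := exS4 (Or.inr hq)
      rw [hq] at hG
      exact not_coatom_of_card_sylow (r := 2) (k := 3) (by rw [hN]; norm_num; omega)
        (fun hd => by norm_num at hd; obtain ⟨j, hj⟩ := hd; omega) H hne (by rw [hH]; norm_num)
        (by rw [hH]; norm_num)
    · -- q = 11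
      obtain ⟨H, hne, hH⟩ := exA5 (Or.inr hq)
      rw [hq] at hG
      exact not_coatom_normalizer (r := 5) (by omega) (by rw [hN]; omega)
        (fun hd => by norm_num at hd; obtain ⟨j, hj⟩ := hd; omega) H hne (by rw [hH]; norm_num)
        (by omega) (fun i hi hd hm hd' => by rw [hH] at hi hd hd' ⊢; interval_cases i <;> omega)
  · rcases hq with hq | hq
    · -- q = 7
      obtain ⟨H, hne, hH⟩ := exS4 (Or.inl hq)
      rw [hq] at hG
      exact not_coatom_of_card_sylow (r := 2) (k := 3) (by rw [hN]; norm_num; omega)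
        (fun hd => by norm_num at hd; obtain ⟨j, hj⟩ := hd; omega) H hne (by rw [hH]; norm_num)
        (by rw [hH]; norm_num)
    · -- q = 9
      obtain ⟨H, hne, hH⟩ := exA5 (Or.inl hq)
      rw [hq] at hG
      exact not_coatom_normalizer (r := 5) (by omega) (by rw [hN]; omega)
        (fun hd => by norm_num at hd; obtain ⟨j, hj⟩ := hd; omega) H hne (by rw [hH]; norm_num)
        (by omega) (fun i hi hd hm hd' => by rw [hH] at hi hd hd' ⊢; interval_cases i <;> omega)

/-- The subfield clause. -/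
def SubfieldClause (F : Type*) [Field F] (G : Type*) [Group G] : Prop :=
  (∃ (F₀ : Type) (_ : Field F₀) (_ : Fintype F₀), Nat.card F = Fintype.card F₀ ^ 2 ∧
      Nonempty (G ≃* ProjGenLinGroup (Fin 2) F₀)) ∨
    (∃ (F₀ : Type) (_ : Field F₀) (_ : Fintype F₀) (r : ℕ), r.Prime ∧ Odd r ∧
      Nat.card F = Fintype.card F₀ ^ r ∧ Nonempty (G ≃* ProjectiveSpecialLinearGroup (Fin 2) F₀))

theorem subfieldClause_of_le {K : Type} [Field K] [Finite K] (hodd : Odd (Nat.card F)) {M : Subgroup PSL}
    (hM : IsCoatom M) (f : K →+* F) (D : GL (Fin 2) F) {m : ℕ} (hm : 2 ≤ m)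
    (hK : Nat.card K ^ m = Nat.card F) (hle : M ≤ pglSub f D) : SubfieldClause F M := by
  let _ := Fintype.ofFinite K
  obtain ⟨-, hp, ⟨-, rfl, h⟩ | ⟨hmo | hev, h⟩⟩ := coatom_over_subfield hM f D hm hK hle
  · exact Or.inl ⟨K, inferInstance, inferInstance, by rw [Fintype.card_eq_nat_card, hK], h⟩
  · exact Or.inr ⟨K, inferInstance, inferInstance, m, hp, hmo, by rw [Fintype.card_eq_nat_card, hK], h⟩
  · exact absurd hev (Nat.not_even_iff_odd.2 hodd)

theorem coatom_odd_cases (p : ℕ) [Fact p.Prime] [CharP F p] (hodd : Odd (Nat.card F)) (h5 : 5 ≤ Nat.card F)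
    {M : Subgroup PSL} (hM : IsCoatom M) :
    2 * Nat.card M = Nat.card F * (Nat.card F - 1) ∨
    (13 ≤ Nat.card F ∧ ∃ k : ℕ, 2 * k = Nat.card F - 1 ∧ Nonempty (M ≃* DihedralGroup k)) ∨
    (Nat.card F ≠ 7 ∧ Nat.card F ≠ 9 ∧ ∃ k : ℕ, 2 * k = Nat.card F + 1 ∧ Nonempty (M ≃* DihedralGroup k)) ∨
    SubfieldClause F M ∨
    ((Nat.card F % 10 = 1 ∨ Nat.card F % 10 = 9) ∧
      (Nat.card F = p ∨ (Nat.card F = p ^ 2 ∧ (p % 10 = 3 ∨ p % 10 = 7))) ∧
      Nonempty (M ≃* alternatingGroup (Fin 5))) ∨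
    (Nat.card F = p ∧ (p % 8 = 3 ∨ p % 8 = 5) ∧ ¬ (p % 10 = 1 ∨ p % 10 = 9) ∧
      Nonempty (M ≃* alternatingGroup (Fin 4))) ∨
    (Nat.card F = p ∧ (p % 8 = 1 ∨ p % 8 = 7) ∧ Nonempty (M ≃* Equiv.Perm (Fin 4))) := by
  let _ := Fintype.ofFinite F
  have hp : p.Prime := Fact.out
  obtain ⟨n, -, hn⟩ := FiniteField.card F p
  rw [Fintype.card_eq_nat_card] at hn
  have hpo : Odd p := by
    rw [hn] at hodd; exact (Nat.odd_pow_iff n.pos.ne').1 hodd
  have h2F := two_ne_zero_of_odd_card hodd
  have hdd := dd_of_odd hodd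
  have hG := card_PSL (F := F)
  rw [show Nat.gcd 2 (Nat.card F - 1) = 2 from hdd] at hG
  have hZ : Nat.card (ZMod p) = p := Nat.card_zmod p
  let f : ZMod p →+* F := ZMod.castHom (dvd_refl p) F
  rcases dickson_maximal_in p M with ⟨c, -, hc, h⟩ | ⟨k, hk⟩ | ⟨⟨e⟩⟩ | ⟨⟨e⟩⟩ | ⟨⟨e⟩⟩ | hs
  · -- dihedral
    obtain rfl := eq_normalizer_of_le p (by omega) hM hc h
    obtain ⟨eD⟩ := nonempty_normalizer_torus_dihedral p hc
    obtain ⟨j, hj⟩ := hodd
    have hodd : Odd (Nat.card F) := ⟨j, hj⟩
    rcases card_torus_cases p hc with ht | ht <;> rw [hdd] at ht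
    · refine Or.inr (Or.inl ⟨?_, _, by omega, ⟨eD⟩⟩)
      by_contra hlt
      refine not_coatom_small p hodd hc (Or.inl ⟨?_, by omega⟩) hM
      simp only [Finset.mem_insert, Finset.mem_singleton]
      omega
    · refine Or.inr (Or.inr (Or.inl ⟨?_, ?_, _, by omega, ⟨eD⟩⟩))
      · intro h7
        exact not_coatom_small p hodd hc (Or.inr ⟨by simp only [Finset.mem_insert, Finset.mem_singleton]; omega, by omega⟩) hM
      · intro h9
        exact not_coatom_small p hodd hc (Or.inr ⟨by simp only [Finset.mem_insert, Finset.mem_singleton]; omega, by omega⟩) hM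
  · left
    have := card_of_le_borel hM hk
    rwa [hdd] at this
  · -- A₄
    have hφ : Function.Injective (M.subtype.comp e.symm.toMonoidHom) :=
      M.subtype_injective.comp e.symm.injective
    by_cases h1 : (n : ℕ) = 1
    · rw [h1, pow_one] at hn
      refine Or.inr (Or.inr (Or.inr (Or.inr (Or.inr (Or.inl ⟨hn, ?_, ?_, ⟨e⟩⟩)))))
      · by_contra hc8
        obtain ⟨S, ⟨eS⟩⟩ := (Cfsg.Agent.S0803.result (F := F) Fintype.card_eq_nat_card).2 (by
          rw [hn, Nat.pow_mod]
          obtain ⟨j, hj⟩ := hpo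
          have : p % 16 = 1 ∨ p % 16 = 7 ∨ p % 16 = 9 ∨ p % 16 = 15 := by omega
          rcases this with e | e | e | e <;> rw [e])
        have hS : Nat.card S = 24 := by rw [Nat.card_congr eS.toEquiv, card_perm_four]
        refine not_coatom_four hodd e S (fun e' => ?_) (by omega) (exists_hom_of_perm_four eS) hM
        rw [e', Subgroup.card_top] at hS
        have hge := card_PSL_ge (F := F) h5
        omega
      · intro h10
        obtain ⟨S, ⟨eS⟩⟩ := (Cfsg.Agent.S0804.result (F := F) Fintype.card_eq_nat_card).2 (by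
          rw [hn]
          refine dvd_mul_of_dvd_right ?_ _
          have : p ^ 2 % 5 = 1 := by
            rw [Nat.pow_mod]
            rcases (show p % 5 = 1 ∨ p % 5 = 4 by omega) with e | e <;> rw [e]
          omega)
        have hS : Nat.card S = 60 := by rw [Nat.card_congr eS.toEquiv, card_alternating_five]
        refine not_coatom_four hodd e S (fun e' => ?_) (by omega) (exists_hom_of_five eS) hM
        rw [e', Subgroup.card_top] at hS
        have hge := card_PSL_ge (F := F) (q := 9) (by omega)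
        omega
    · refine Or.inr (Or.inr (Or.inr (Or.inl ?_)))
      obtain ⟨D, hD⟩ := four_le_pglSub f hodd (hZ.symm ▸ hpo) (M.subtype.comp e.symm.toMonoidHom) hφ
        (M := M) (fun y hy x => ⟨e ⟨y, hy⟩ * x * (e ⟨y, hy⟩)⁻¹, by simp⟩)
      exact subfieldClause_of_le hodd hM f D (m := n) (by have := n.pos; omega) (by rw [hZ, hn]) hD
  · -- S₄
    by_cases h1 : (n : ℕ) = 1
    · rw [h1, pow_one] at hn
      refine Or.inr (Or.inr (Or.inr (Or.inr (Or.inr (Or.inr ⟨hn, ?_, ⟨e⟩⟩)))))
      have h16 := sq_mod_sixteen_of_perm_four e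
      rw [hn, Nat.pow_mod] at h16
      obtain ⟨j, hj⟩ := hpo
      have : p % 16 = 1 ∨ p % 16 = 3 ∨ p % 16 = 5 ∨ p % 16 = 7 ∨ p % 16 = 9 ∨ p % 16 = 11 ∨ p % 16 = 13 ∨
          p % 16 = 15 := by omega
      rcases this with e | e | e | e | e | e | e | e <;> rw [e] at h16 <;> norm_num at h16 <;> omega
    · refine Or.inr (Or.inr (Or.inr (Or.inl ?_)))
      let ι : alternatingGroup (Fin 4) →* PSL :=
        (M.subtype.comp e.symm.toMonoidHom).comp (alternatingGroup (Fin 4)).subtype
      obtain ⟨D, hD⟩ := four_le_pglSub f hodd (hZ.symm ▸ hpo) ι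
        ((M.subtype_injective.comp e.symm.injective).comp (alternatingGroup (Fin 4)).subtype_injective)
        (M := M) (fun y hy x => by
          refine ⟨⟨e ⟨y, hy⟩ * (x : Equiv.Perm (Fin 4)) * (e ⟨y, hy⟩)⁻¹, ?_⟩, by simp [ι]⟩
          exact (inferInstance : (alternatingGroup (Fin 4)).Normal).conj_mem _ x.2 _)
      exact subfieldClause_of_le hodd hM f D (m := n) (by have := n.pos; omega) (by rw [hZ, hn]) hD
  · -- A₅
    have hM60 : Nat.card M = 60 := by rw [Nat.card_congr e.toEquiv, card_alternating_five]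
    obtain ⟨s, hs⟩ : ∃ s : F, s * s = s + 1 := by
      have h5M : 5 ∣ Nat.card M := by rw [hM60]; norm_num
      have : Fact (Nat.Prime 5) := ⟨Nat.prime_five⟩
      obtain ⟨x, hx⟩ := exists_prime_orderOf_dvd_card' 5 h5M
      exact exists_sq_five (by rw [Subgroup.orderOf_coe, hx] : orderOf (x : PSL) = 5)
    have hroots : ∀ t : F, t * t = t + 1 → t = s ∨ t = 1 - s := by
      intro t ht
      rcases mul_eq_zero.1 (show (t - s) * (t - (1 - s)) = 0 by linear_combination ht - hs) with h | h
      · exact Or.inl (sub_eq_zero.1 h)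
      · exact Or.inr (sub_eq_zero.1 h)
    have hne3 : ∀ t : F, t * t = t + 1 → t ^ 2 ≠ 3 := by
      intro t ht h
      have e : t = 2 := by linear_combination h - ht
      rw [e] at ht
      exact one_ne_zero (by linear_combination ht : (1 : F) = 0)
    have hs' : (1 - s) * (1 - s) = (1 - s) + 1 := by linear_combination hs
    have hsp : (s ^ p) * (s ^ p) = s ^ p + 1 := by
      have := congrArg (fun z => z ^ p) hs
      simp only [mul_pow, add_pow_char, one_pow] at this
      exact this
    have close : ∀ (K : Type) (_ : Field K) (_ : Finite K) (g : K →+* F) (m : ℕ), 2 ≤ m →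
        Nat.card K ^ m = Nat.card F → Odd (Nat.card K) → s ^ Nat.card K = s → SubfieldClause F M := by
      intro K _ _ g m hm hK hKo hfix
      obtain ⟨s0, hs0⟩ : s ∈ Set.range g := by rw [range_eq_fixed g]; exact hfix
      obtain ⟨D, hD⟩ := five_le_pglSub g e s0 (by rw [hs0]; exact hroots)
        (by rw [hs0]; exact hne3 s hs) (by rw [map_sub, map_one, hs0]; exact hne3 _ hs')
        (fun t _ => exists_xy hKo t)
      exact subfieldClause_of_le hodd hM g D hm hK hD
    have h5G : 5 ∣ Nat.card F * (Nat.card F ^ 2 - 1) := five_dvd_of_alternating_five e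
    rcases (show s ^ p = s ∨ (s ^ p = 1 - s ∧ s ^ p ≠ s) from
      (em (s ^ p = s)).imp_right fun h => ⟨(hroots _ hsp).resolve_left h, h⟩) with hfix | ⟨hfix, hnfix⟩
    · by_cases h1 : (n : ℕ) = 1
      · rw [h1, pow_one] at hn
        refine Or.inr (Or.inr (Or.inr (Or.inr (Or.inl ⟨?_, Or.inl hn, ⟨e⟩⟩))))
        have hp5 : p ≠ 5 := by
          rintro rfl
          exact hM.1 (Subgroup.eq_top_of_card_eq _ (hM60.trans (card_five hn).symm))
        rw [hn] at h5G ⊢
        rw [show p ^ 2 - 1 = (p - 1) * (p + 1) by rw [mul_comm, ← Nat.sq_sub_sq, one_pow]] at h5G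
        obtain ⟨j, hj⟩ := hpo
        rcases (Nat.Prime.dvd_mul Nat.prime_five).1 h5G with h' | h'
        · exact absurd ((Nat.prime_dvd_prime_iff_eq Nat.prime_five hp).1 h').symm hp5
        rcases (Nat.Prime.dvd_mul Nat.prime_five).1 h' with h' | h' <;> omega
      · exact Or.inr (Or.inr (Or.inr (Or.inl (close (ZMod p) inferInstance inferInstance f n
          (by have := n.pos; omega) (by rw [hZ, hn]) (hZ.symm ▸ hpo) (by rw [hZ]; exact hfix)))))
    · -- `s` generates `GF(p²)`
      have hp2 : s ^ (p ^ 2) = s := by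
        rw [pow_two, pow_mul, hfix, sub_pow_char, one_pow, hfix]; ring
      have hpow : ∀ i, s ^ (p ^ (2 * i)) = s := by
        intro i
        induction i with
        | zero => simp
        | succ i ih => rw [Nat.mul_succ, pow_add, pow_mul, ih, hp2]
      obtain ⟨i, hi⟩ : Even (n : ℕ) := by
        by_contra hodd'
        obtain ⟨i, hi⟩ := Nat.not_even_iff_odd.1 hodd'
        apply hnfix
        have := FiniteField.pow_card s
        rw [Fintype.card_eq_nat_card, hn, hi, pow_succ, pow_mul, hpow] at this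
        exact this
      rw [hi, ← two_mul] at hn
      by_cases h1 : i = 1
      · subst h1
        rw [mul_one] at hn
        have hnd : ¬ 5 ∣ p * (p ^ 2 - 1) := by
          intro h
          let _ := Fintype.ofFinite (ZMod p)
          obtain ⟨H, ⟨e'⟩⟩ := (Cfsg.Agent.S0804.result (F := ZMod p) Fintype.card_eq_nat_card).2 (by rwa [hZ])
          have h5H : 5 ∣ Nat.card H := by
            rw [Nat.card_congr e'.toEquiv, card_alternating_five]; norm_num
          have : Fact (Nat.Prime 5) := ⟨Nat.prime_five⟩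
          obtain ⟨x, hx⟩ := exists_prime_orderOf_dvd_card' 5 h5H
          obtain ⟨r, hr⟩ := exists_sq_five (by rw [Subgroup.orderOf_coe, hx] : orderOf (x : ProjectiveSpecialLinearGroup (Fin 2) (ZMod p)) = 5)
          have hfr : f r * f r = f r + 1 := by rw [← map_mul, hr, map_add, map_one]
          have hfix' : (f r) ^ p = f r := by rw [← map_pow, ZMod.pow_card]
          rcases hroots _ hfr with e | e
          · exact hnfix (e ▸ hfix')
          · apply hnfix
            rw [show s = 1 - f r by rw [e]; ring, sub_pow_char, one_pow, hfix']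
        have hp10 : p % 10 = 3 ∨ p % 10 = 7 := by
          obtain ⟨j, hj⟩ := hpo
          rw [show p ^ 2 - 1 = (p - 1) * (p + 1) by rw [mul_comm, ← Nat.sq_sub_sq, one_pow],
            Nat.Prime.dvd_mul Nat.prime_five, Nat.Prime.dvd_mul Nat.prime_five] at hnd
          omega
        refine Or.inr (Or.inr (Or.inr (Or.inr (Or.inl ⟨?_, Or.inr ⟨hn, hp10⟩, ⟨e⟩⟩))))
        right
        rw [hn, Nat.pow_mod]
        rcases hp10 with e | e <;> rw [e] <;> norm_num
      · have hK : Nat.card (GaloisField p 2) = p ^ 2 := GaloisField.card p 2 two_ne_zero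
        have hpi : (p ^ 2) ^ i = Nat.card F := by rw [hn, pow_mul]
        obtain ⟨g⟩ := nonempty_ringHom_of_pow_card (K := GaloisField p 2) (F := F) i (by rw [hK, hpi])
        have hi2 : 2 ≤ i := by have := n.pos; omega
        exact Or.inr (Or.inr (Or.inr (Or.inl (close _ inferInstance inferInstance g i hi2 (by rw [hK, hpi])
          (hK.symm ▸ hpo.pow) (by rw [hK]; exact hp2)))))
  · obtain ⟨K, _, _, g, D, m, hm, hK, hle⟩ := le_pglSub_of_shapeIn hM.1 hs
    exact Or.inr (Or.inr (Or.inr (Or.inl (subfieldClause_of_le hodd hM g D hm hK hle))))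

theorem psl_clause_of_le {K : Type} [Field K] [Finite K] (h4 : 4 ≤ Nat.card F) (heven : Even (Nat.card F))
    {M : Subgroup PSL} (hM : IsCoatom M) (f : K →+* F) (D : GL (Fin 2) F) {m : ℕ} (hm : 2 ≤ m)
    (hK : Nat.card K ^ m = Nat.card F) (hle : M ≤ pglSub f D) :
    Nonempty (M ≃* DihedralGroup (Nat.card F - 1)) ∨
    Nonempty (M ≃* DihedralGroup (Nat.card F + 1)) ∨
    (∃ (F₀ : Type) (_ : Field F₀) (_ : Fintype F₀) (r : ℕ), r.Prime ∧ Fintype.card F₀ ≠ 2 ∧
        Nat.card F = Fintype.card F₀ ^ r ∧ Nonempty (M ≃* ProjectiveSpecialLinearGroup (Fin 2) F₀)) := by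
  let _ := Fintype.ofFinite K
  obtain ⟨-, hp, ⟨hodd, -⟩ | ⟨-, ⟨e⟩⟩⟩ := coatom_over_subfield hM f D hm hK hle
  · exact absurd heven (Nat.not_even_iff_odd.2 hodd)
  by_cases hk2 : Nat.card K = 2
  · -- `M` has order six
    obtain ⟨p, n, hp', hchar, hn, hq⟩ := exists_prime_pow F
    have : Fact p.Prime := ⟨hp'⟩
    have hp2 : p = 2 := ((Nat.prime_dvd_prime_iff_eq Nat.prime_two hp').1
      (Nat.prime_two.dvd_of_dvd_pow (hq ▸ even_iff_two_dvd.1 heven))).symm
    subst hp2
    have h6 : Nat.card M = 6 := by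
      have h := card_PSL (F := K)
      rw [hk2] at h
      norm_num at h
      rw [Nat.card_congr e.toEquiv, h]
    have : Fact (Nat.Prime 3) := ⟨Nat.prime_three⟩
    obtain ⟨c, hc⟩ := exists_prime_orderOf_dvd_card' (G := M) 3 (by rw [h6]; norm_num)
    have hc' : orderOf (c : PSL) = 3 := by rw [Subgroup.orderOf_coe, hc]
    have hsemi : Census.Semi 2 (c : PSL) := ⟨fun h => by rw [h, orderOf_one] at hc'; omega,
      by rw [hc']; norm_num⟩
    have hi : (Subgroup.zpowers c).index = 2 := by
      have := (Subgroup.zpowers c).card_mul_index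
      rw [Nat.card_zpowers, hc, h6] at this
      omega
    have hnorm := Subgroup.normal_of_index_eq_two hi
    have hle : M ≤ Subgroup.normalizer (torus (c : PSL) : Set PSL) := le_normalizer_torus 2 hsemi fun y hy => by
      obtain ⟨i, hi⟩ := Subgroup.mem_zpowers_iff.1 (hnorm.conj_mem c (Subgroup.mem_zpowers c) ⟨y, hy⟩)
      have := congrArg Subtype.val hi
      simp only [Subgroup.coe_zpow, Subgroup.coe_mul, Subgroup.coe_inv] at this
      rw [← this]
      exact Subgroup.zpow_mem _ (mem_torus _) i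
    obtain ⟨eD₀⟩ := nonempty_normalizer_torus_dihedral 2 hsemi
    have eD := (MulEquiv.subgroupCongr (eq_normalizer_of_le 2 h4 hM hsemi hle)).trans eD₀
    rcases card_torus_cases 2 hsemi with ht | ht <;> rw [dd_of_even heven, Nat.div_one] at ht <;>
      rw [ht] at eD
    · exact Or.inl ⟨eD⟩
    · exact Or.inr (Or.inl ⟨eD⟩)
  · exact Or.inr (Or.inr ⟨K, inferInstance, inferInstance, m, hp,
      by rwa [Fintype.card_eq_nat_card], by rw [Fintype.card_eq_nat_card, hK], ⟨e⟩⟩)

theorem coatom_even_cases (heven : Even (Nat.card F)) (h4 : 4 ≤ Nat.card F) {M : Subgroup PSL}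
    (hM : IsCoatom M) :
    Nat.card M = Nat.card F * (Nat.card F - 1) ∨
    Nonempty (M ≃* DihedralGroup (Nat.card F - 1)) ∨
    Nonempty (M ≃* DihedralGroup (Nat.card F + 1)) ∨
    (∃ (F₀ : Type) (_ : Field F₀) (_ : Fintype F₀) (r : ℕ), r.Prime ∧ Fintype.card F₀ ≠ 2 ∧
        Nat.card F = Fintype.card F₀ ^ r ∧ Nonempty (M ≃* ProjectiveSpecialLinearGroup (Fin 2) F₀)) := by
  let _ := Fintype.ofFinite F
  obtain ⟨p, n, hp, hchar, hn, hq⟩ := exists_prime_pow F
  have : Fact p.Prime := ⟨hp⟩
  have hp2 : p = 2 := ((Nat.prime_dvd_prime_iff_eq Nat.prime_two hp).1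
    (Nat.prime_two.dvd_of_dvd_pow (hq ▸ even_iff_two_dvd.1 heven))).symm
  subst hp2
  have hborel : ∀ k : PSL, (∀ h ∈ M, k * h * k⁻¹ ∈ borelPSL F) →
      Nat.card M = Nat.card F * (Nat.card F - 1) := fun k hk => by
    have := card_of_le_borel hM hk
    rwa [dd_of_even heven, one_mul] at this
  rcases dickson_maximal_in 2 M with ⟨c, -, hc, h⟩ | ⟨k, hk⟩ | ⟨⟨e⟩⟩ | ⟨⟨e⟩⟩ | ⟨⟨e⟩⟩ | hs
  · obtain rfl := eq_normalizer_of_le 2 h4 hM hc h
    obtain ⟨eD⟩ := nonempty_normalizer_torus_dihedral 2 hc
    rcases card_torus_cases 2 hc with ht | ht <;> rw [dd_of_even heven, Nat.div_one] at ht <;>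
      rw [ht] at eD
    · exact Or.inr (Or.inl ⟨eD⟩)
    · exact Or.inr (Or.inr (Or.inl ⟨eD⟩))
  · exact Or.inl (hborel k hk)
  · obtain ⟨k, hk⟩ := exists_conj_borel_four heven e
    exact Or.inl (hborel k hk)
  · exfalso
    refine orderOf_ne_four_of_even heven ((e.symm (finRotate 4) : M) : PSL) ?_
    rw [Subgroup.orderOf_coe, MulEquiv.orderOf_eq, orderOf_eq_iff (by norm_num)]
    decide
  · refine Or.inr ?_
    have hM60 : Nat.card M = 60 := by rw [Nat.card_congr e.toEquiv, card_alternating_five]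
    obtain ⟨s, hs⟩ : ∃ s : F, s * s = s + 1 := by
      have h5M : 5 ∣ Nat.card M := by rw [hM60]; norm_num
      have : Fact (Nat.Prime 5) := ⟨Nat.prime_five⟩
      obtain ⟨x, hx⟩ := exists_prime_orderOf_dvd_card' 5 h5M
      exact exists_sq_five (by rw [Subgroup.orderOf_coe, hx] : orderOf (x : PSL) = 5)
    have h2 : (2 : F) = 0 := by exact_mod_cast CharP.cast_eq_zero F 2
    have hroots : ∀ t : F, t * t = t + 1 → t = s ∨ t = 1 - s := by
      intro t ht
      rcases mul_eq_zero.1 (show (t - s) * (t - (1 - s)) = 0 by linear_combination ht - hs) with h | h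
      · exact Or.inl (sub_eq_zero.1 h)
      · exact Or.inr (sub_eq_zero.1 h)
    have hne3 : ∀ t : F, t * t = t + 1 → t ^ 2 ≠ 3 := by
      intro t ht h
      have e : t = 0 := by linear_combination h - ht + h2
      rw [e] at ht
      exact one_ne_zero (by linear_combination -ht : (1 : F) = 0)
    have hs4 : s ^ 4 = s := by linear_combination (s * s + s + 2) * hs + (s + 1) * h2
    have hpow : ∀ i, s ^ (4 ^ i) = s := by
      intro i
      induction i with
      | zero => simp
      | succ i ih => rw [pow_succ, pow_mul, ih, hs4]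
    obtain ⟨i, hi⟩ : Even n := by
      by_contra hodd'
      obtain ⟨i, hi⟩ := Nat.not_even_iff_odd.1 hodd'
      have := FiniteField.pow_card s
      rw [Fintype.card_eq_nat_card, hq, hi, pow_succ, pow_mul 2 2 i, show (2 : ℕ) ^ 2 = 4 by norm_num, pow_mul,
        hpow] at this
      exact one_ne_zero (by linear_combination this - hs : (1 : F) = 0)
    rw [hi, ← two_mul, pow_mul, show (2 : ℕ) ^ 2 = 4 by norm_num] at hq
    have hK : Nat.card (GaloisField 2 2) = 4 := by rw [GaloisField.card 2 2 two_ne_zero]; norm_num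
    have hi2 : 2 ≤ i := by
      rcases i with _ | _ | i
      · omega
      · exfalso
        refine hM.1 (Subgroup.eq_top_of_card_eq _ ?_)
        have h := card_PSL (F := F)
        rw [hq] at h
        norm_num at h
        rw [hM60, h]
      · omega
    obtain ⟨g⟩ := nonempty_ringHom_of_pow_card (K := GaloisField 2 2) (F := F) i (by rw [hK, hq])
    obtain ⟨s0, hs0⟩ : s ∈ Set.range g := by rw [range_eq_fixed g, hK]; exact hs4
    have h2K : (2 : GaloisField 2 2) = 0 := by exact_mod_cast CharP.cast_eq_zero (GaloisField 2 2) 2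
    have hs0' : s0 * s0 = s0 + 1 := g.injective (by rw [map_mul, map_add, map_one, hs0]; exact hs)
    obtain ⟨D, hD⟩ := five_le_pglSub g e s0 (by rw [hs0]; exact hroots) (by rw [hs0]; exact hne3 s hs)
      (by rw [map_sub, map_one, hs0]; exact hne3 _ (by linear_combination hs))
      (fun t ht => ⟨t, 0, by
        rcases ht with rfl | rfl
        · linear_combination hs0' + h2K
        · linear_combination hs0' + h2K⟩)
    exact psl_clause_of_le h4 heven hM g D hi2 (by rw [hK, hq]) hD
  · obtain ⟨K, _, _, g, D, m, hm, hK, hle⟩ := le_pglSub_of_shapeIn hM.1 hs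
    exact Or.inr (psl_clause_of_le h4 heven hM g D hm hK hle)

end CfsgLib.SL2
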