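import Cfsg.Agent.Lib.GL2.SylowTwo

/-!
Two anticommuting square roots of `-1` in a Sylow 2-subgroup of `SL_2(q)`, and its normalizer.
-/

set_option autoImplicit false

namespace CfsgLib.SL2

open Matrix
open scoped MatrixGroups

variable {F : Type*} [Field F] [Finite F]

/-- An element commuting with two anticommuting square roots of `-1` is central. -/
theorem eq_one_or_neg_of_commute {b d g : SL(2, F)} (h2 : (2 : F) ≠ 0) (hb : b * b = -1)
    (hd : d * d = -1) (hbd : b * d * (b * d) = -1) (hgb : g * b = b * g) (hgd : g * d = d * g) :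
    g = 1 ∨ g = -1 := by
  have hne : b * d ≠ d * b := by
    intro h
    rw [show b * d * (b * d) = b * (d * b) * d by group, ← h,
      show b * (b * d) * d = (b * b) * (d * d) by group, hb, hd, neg_mul_neg, one_mul] at hbd
    have := congr_fun₂ (congrArg Subtype.val hbd) 0 0
    simp at this
    exact h2 (by linear_combination this)
  obtain ⟨a, ha⟩ := CfsgLib.GL2.eq_smul_one_of_commute hne
    (X := (g : Matrix (Fin 2) (Fin 2) F)) (congrArg Subtype.val hgb) (congrArg Subtype.val hgd)
  have hdet := g.2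
  rw [ha, det_smul, det_one, mul_one, Fintype.card_fin, pow_two] at hdet
  rcases mul_self_eq_one_iff.1 hdet with h | h
  · exact Or.inl (Subtype.ext (by rw [ha, h, one_smul]; rfl))
  · refine Or.inr (Subtype.ext ?_)
    rw [ha, h]
    ext i j
    fin_cases i <;> fin_cases j <;> simp

/-- A normalizing 2-element of a Sylow subgroup lies in it. -/
theorem mem_sylow_of_normalizes (P : Sylow 2 SL(2, F)) {B : SL(2, F)}
    (hB : B ∈ Subgroup.normalizer ((P : Subgroup SL(2, F)) : Set SL(2, F))) {m : ℕ}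
    (hm : B ^ 2 ^ m = 1) : B ∈ (P : Subgroup SL(2, F)) := by
  have : Fact (Nat.Prime 2) := ⟨Nat.prime_two⟩
  have hz : IsPGroup 2 (Subgroup.zpowers B) := by
    rintro ⟨_, i, rfl⟩
    exact ⟨m, Subtype.ext (show (B ^ i) ^ 2 ^ m = 1 by
      rw [← _root_.zpow_natCast, ← _root_.zpow_mul, mul_comm, _root_.zpow_mul, _root_.zpow_natCast, hm, _root_.one_zpow])⟩
  have h := P.is_maximal' (hz.to_sup_of_normal_right' P.isPGroup' (Subgroup.zpowers_le.2 hB))
    le_sup_right
  exact h ▸ Subgroup.mem_sup_left (Subgroup.mem_zpowers B)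

/-- A pair of anticommuting square roots of `-1`; either the normalizer is the Sylow subgroup or
the subgroup is the quaternion group they generate. -/
theorem exists_sylowTwo_pair (hodd : Odd (Nat.card F)) (P : Sylow 2 SL(2, F)) :
    ∃ b ∈ (P : Subgroup SL(2, F)), ∃ d ∈ (P : Subgroup SL(2, F)),
      b * b = -1 ∧ d * d = -1 ∧ b * d * (b * d) = -1 ∧
      ((∀ B ∈ Subgroup.normalizer ((P : Subgroup SL(2, F)) : Set SL(2, F)),
          B ∈ (P : Subgroup SL(2, F))) ∨
        ∀ x ∈ (P : Subgroup SL(2, F)), ∃ y, (x = y ∨ x = -y) ∧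
          (y = 1 ∨ y = b ∨ y = d ∨ y = b * d)) := by
  classical
  have : Fact (Nat.Prime 2) := ⟨Nat.prime_two⟩
  have h2 := odd_card_two_ne_zero hodd
  obtain ⟨k, hk, ⟨e⟩⟩ := sylow_two_quaternion hodd P
  have : NeZero (2 ^ k) := ⟨by positivity⟩
  set j : ZMod (2 * 2 ^ k) := ((2 ^ (k - 1) : ℕ) : ZMod (2 * 2 ^ k))
  have hj : j + j = ((2 ^ k : ℕ) : ZMod (2 * 2 ^ k)) := by
    simp only [j]
    have h' : 2 ^ (k - 1) + 2 ^ (k - 1) = 2 ^ k := by
      rw [← two_mul, ← pow_succ', Nat.sub_add_cancel hk]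
    rw [← Nat.cast_add, h']
  set z : QuaternionGroup (2 ^ k) := QuaternionGroup.a ((2 ^ k : ℕ) : ZMod (2 * 2 ^ k))
  let emb : QuaternionGroup (2 ^ k) →* SL(2, F) :=
    (P : Subgroup SL(2, F)).subtype.comp e.symm.toMonoidHom
  have hembinj : Function.Injective emb := Subtype.val_injective.comp e.symm.injective
  have hz : emb z = -1 := by
    refine eq_neg_one_of_mul_self h2 ?_ ?_
    · rw [← map_mul, show z * z = 1 from ?_, map_one]
      show QuaternionGroup.a _ = QuaternionGroup.a 0
      rw [← Nat.cast_add, ← two_mul, ZMod.natCast_self]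
    · intro h
      have h' : z = 1 := hembinj (h.trans (map_one emb).symm)
      have h'' := QuaternionGroup.a.inj h'
      rw [ZMod.natCast_eq_zero_iff] at h''
      have := Nat.two_pow_pos k
      have h3 := Nat.le_of_dvd this h''
      omega
  set b0 : QuaternionGroup (2 ^ k) := QuaternionGroup.xa 0
  set d0 : QuaternionGroup (2 ^ k) := QuaternionGroup.xa j
  have sq : ∀ i, (QuaternionGroup.xa i : QuaternionGroup (2 ^ k)) * QuaternionGroup.xa i = z :=
    fun i => by rw [QuaternionGroup.xa_mul_xa]; simp [z]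
  have hbd0 : b0 * d0 * (b0 * d0) = z := by
    simp only [b0, d0, z, QuaternionGroup.xa_mul_xa, QuaternionGroup.a_mul_a, sub_zero]
    congr 1
    rw [← hj]
    have h0 : (j + j) + (j + j) = 0 := by
      rw [hj, ← Nat.cast_add, ← two_mul, ZMod.natCast_self]
    linear_combination h0
  refine ⟨emb b0, (e.symm b0).2, emb d0, (e.symm d0).2, by rw [← map_mul, sq, hz],
    by rw [← map_mul, sq, hz], by rw [← map_mul, ← map_mul, hbd0, hz], ?_⟩
  rcases eq_or_lt_of_le hk with rfl | hk2
  · right
    intro x hx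
    obtain ⟨y, hy⟩ : ∃ y, emb y = x := ⟨e ⟨x, hx⟩, by simp [emb]⟩
    have hall : ∀ y : QuaternionGroup (2 ^ 1), ∃ t : QuaternionGroup (2 ^ 1),
        (y = t ∨ y = z * t) ∧ (t = 1 ∨ t = b0 ∨ t = d0 ∨ t = b0 * d0) := by decide
    obtain ⟨t, ht1, ht2⟩ := hall y
    refine ⟨emb t, ?_, ?_⟩
    · rcases ht1 with h | h
      · exact Or.inl (by rw [← hy, h])
      · exact Or.inr (by rw [← hy, h, map_mul, hz, neg_one_mul])
    · rw [← map_one emb, ← map_mul]
      rcases ht2 with h | h | h | h <;> simp [h]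
  · left
    intro B hB
    have hcyc : IsPGroup 2 (MulAut (QuaternionGroup (2 ^ k))) := by
      refine CfsgLib.Fusion.isPGroup_mulAut_of_cyclic_index_two (k := k + 1) (QuaternionGroup.a 1)
        ?_ (by omega) ?_ ?_
      · rw [QuaternionGroup.orderOf_a_one, pow_succ']
      · have h := Subgroup.card_mul_index
          (Subgroup.zpowers (QuaternionGroup.a 1 : QuaternionGroup (2 ^ k)))
        rw [Nat.card_zpowers, QuaternionGroup.orderOf_a_one, Nat.card_eq_fintype_card,
          QuaternionGroup.card, show 4 * 2 ^ k = 2 * 2 ^ k * 2 by ring] at h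
        exact Nat.eq_of_mul_eq_mul_left (by positivity) h
      · intro x hx
        cases x with
        | a i =>
          exfalso
          apply hx
          rw [Subgroup.mem_zpowers_iff]
          exact ⟨i.val, by rw [zpow_natCast, QuaternionGroup.a_one_pow]; simp⟩
        | xa i =>
          rw [QuaternionGroup.orderOf_xa]
          calc 4 < 2 ^ 3 := by norm_num
            _ ≤ 2 ^ (k + 1) := Nat.pow_le_pow_right two_pos (by omega)
    set α : MulAut (P : Subgroup SL(2, F)) :=
      (P : Subgroup SL(2, F)).normalizerMonoidHom ⟨B, hB⟩ with hα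
    obtain ⟨m, hm⟩ := hcyc ((MulAut.congr e) α)
    have hα1 : α ^ 2 ^ m = 1 := (MulAut.congr e).injective (by rw [map_pow, map_one]; exact hm)
    have hcom : ∀ y : (P : Subgroup SL(2, F)), B ^ 2 ^ m * (y : SL(2, F)) = y * B ^ 2 ^ m := by
      intro y
      have h := congrArg (fun γ : MulAut (P : Subgroup SL(2, F)) => ((γ y : (P : Subgroup SL(2, F))) : SL(2, F))) hα1
      rw [hα, ← map_pow, SubmonoidClass.mk_pow] at h
      exact mul_inv_eq_iff_eq_mul.1 h
    refine mem_sylow_of_normalizes P hB (m := m + 1) ?_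
    rw [pow_succ, pow_mul, pow_two]
    rcases eq_one_or_neg_of_commute h2 (b := emb b0) (d := emb d0) (by rw [← map_mul, sq, hz])
      (by rw [← map_mul, sq, hz]) (by rw [← map_mul, ← map_mul, hbd0, hz]) (hcom (e.symm b0))
      (hcom (e.symm d0)) with h | h <;> rw [h] <;> simp

end CfsgLib.SL2
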