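import Mathlib
import Cfsg.Agent.Lib.SL2.BinBasic

/-!
Binary coset actions of `PSL(2, q)`, `q` even: an involution of the stabilizer puts a whole Sylow
subgroup inside it.
-/

set_option autoImplicit false
set_option linter.unusedSectionVars false

namespace CfsgLib.SL2.Bin

open Matrix
open scoped MatrixGroups Pointwise
open CfsgLib.Binary CfsgLib.SL2

variable {F : Type*} [Field F] [Finite F]

local notation "PSL" => ProjectiveSpecialLinearGroup (Fin 2) F

theorem charP_two (heven : Even (Nat.card F)) : CharP F 2 := by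
  obtain ⟨p, hchar⟩ := CharP.exists F
  have hp : p.Prime := CharP.char_is_prime F p
  let _ := Fintype.ofFinite F
  obtain ⟨n, -, hn⟩ := FiniteField.card F p
  rw [Fintype.card_eq_nat_card] at hn
  rw [hn, Nat.even_pow] at heven
  obtain rfl : p = 2 := (hp.eq_two_or_odd'.resolve_right (Nat.not_odd_iff_even.2 heven.1))
  exact hchar

theorem orderOf_upper [CharP F 2] {u : PSL} (hu : u ∈ upperPSL F) (hu1 : u ≠ 1) : orderOf u = 2 := by
  have : Fact (Nat.Prime 2) := ⟨Nat.prime_two⟩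
  refine orderOf_eq_prime ?_ hu1
  obtain ⟨a, rfl⟩ := mem_upperPSL.1 hu
  rw [← map_pow, ← map_pow]
  have : a ^ 2 = 1 := Multiplicative.toAdd.injective (by
    rw [toAdd_pow, toAdd_one, two_nsmul, CharTwo.add_self_eq_zero])
  rw [this, map_one, map_one]

theorem centralizer_upper [CharP F 2] {u : PSL} (hu : u ∈ upperPSL F) (hu1 : u ≠ 1) :
    Subgroup.centralizer ({u} : Set PSL) = upperPSL F := by
  have : Fact (Nat.Prime 2) := ⟨Nat.prime_two⟩
  ext y
  rw [Subgroup.mem_centralizer_singleton_iff]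
  refine ⟨fun h => ?_, fun h => (upperPSL_comm h hu).eq⟩
  have hc : Commute u y := h.symm
  exact mem_upperPSL_of_pow 2 (mem_borelPSL_of_conj hu hu1 (by rwa [h, mul_inv_cancel_right]))
    (pow_eq_one_of_commute 2 (orderOf_upper hu hu1) hc)

theorem upper_conj [CharP F 2] {u w : PSL} (hu : u ∈ upperPSL F) (hu1 : u ≠ 1)
    (hw : w ∈ upperPSL F) (hw1 : w ≠ 1) : ∃ k : PSL, k * u * k⁻¹ = w := by
  obtain ⟨a, rfl⟩ := mem_upperPSL.1 hu
  obtain ⟨b, rfl⟩ := mem_upperPSL.1 hw
  have hns : ∀ g : SL(2, F), proj g ≠ 1 → NonScalar (g : Matrix (Fin 2) (Fin 2) F) := fun g hg =>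
    not_not.1 fun hn => hg ((proj_eq_one_iff g).2 ((mem_center_iff_not_nonScalar g).2 hn))
  obtain ⟨k, hk⟩ := isConj_of_trace (hns _ hu1) (hns _ hw1)
    (by simp [upperHom_coe, Matrix.trace_fin_two]) (Or.inr (ringChar.eq F 2))
  exact ⟨proj k, by rw [← map_inv, ← map_mul, ← map_mul, hk]⟩

/-- A subgroup containing the upper root group and an element outside the Borel subgroup. -/
theorem eq_top_of_upper {M : Subgroup PSL} (hU : upperPSL F ≤ M) {g : PSL} (hg : g ∈ M)
    (hgB : g ∉ borelPSL F) : M = ⊤ := by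
  obtain ⟨k, rfl⟩ := proj_surjective g
  rw [proj_mem_borelPSL] at hgB
  have hup : ∀ b, upperHom b ∈ M.comap (proj : SL(2, F) →* PSL) := fun b =>
    hU (mem_upperPSL.2 ⟨b, rfl⟩)
  have h := eq_top_of_upper_and_conj (M.comap (proj : SL(2, F) →* PSL)) k hgB hup
    fun b => mul_mem (mul_mem hg (hup b)) (inv_mem hg)
  rw [eq_top_iff]
  intro x _
  obtain ⟨y, rfl⟩ := proj_surjective x
  have : y ∈ M.comap (proj : SL(2, F) →* PSL) := h ▸ Subgroup.mem_top _
  exact this

theorem exists_conj_upper_of_invol [CharP F 2] {x : PSL} (hx : orderOf x = 2) :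
    ∃ k : PSL, k * x * k⁻¹ ∈ upperPSL F ∧ k * x * k⁻¹ ≠ 1 := by
  have : Fact (Nat.Prime 2) := ⟨Nat.prime_two⟩
  obtain ⟨k, hk⟩ := exists_conj_mem_upperPSL 2
    (IsPGroup.of_card (n := 1) (by rw [Nat.card_zpowers, hx, pow_one]) : IsPGroup 2 (Subgroup.zpowers x))
  refine ⟨k, hk x (Subgroup.mem_zpowers x), fun e => ?_⟩
  rw [conj_eq_one_iff.1 e, orderOf_one] at hx
  omega

/-- For `q` even a binary stabilizer contains the centralizers of its involutions. -/
theorem centralizer_le_stabilizer [CharP F 2] (h4 : 4 ≤ Nat.card F) {H : Subgroup PSL} (hH : H ≠ ⊤)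
    (hb : IsBinary H) {x : PSL} (hx : orderOf x = 2) (hxH : x ∈ H) :
    Subgroup.centralizer ({x} : Set PSL) ≤ H := by
  by_contra hnot
  obtain ⟨k, huU, hu1⟩ := exists_conj_upper_of_invol hx
  set u := k * x * k⁻¹ with hu
  have hkx : k⁻¹ * u * k ∈ H := by simpa [hu, mul_assoc] using hxH
  have hCu := centralizer_upper huU hu1
  have hUnot : ¬ upperPSL F ≤ hat H u := by
    intro hle
    refine hnot fun y hy => ?_
    rw [Subgroup.mem_centralizer_singleton_iff] at hy
    have hyU : k * y * k⁻¹ ∈ upperPSL F := by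
      rw [← hCu, Subgroup.mem_centralizer_singleton_iff]
      calc k * y * k⁻¹ * u = k * (y * x) * k⁻¹ := by rw [hu]; group
        _ = k * (x * y) * k⁻¹ := by rw [hy]
        _ = _ := by rw [hu]; group
    simpa [mul_assoc] using conj_mem_of_mem_hat hkx (hle hyU)
  have hUN : upperPSL F ≤ Subgroup.normalizer (hat H u : Set PSL) :=
    hCu ▸ centralizer_le_normalizer_hat H u
  have hBor : hat H u ≤ borelPSL F := by
    intro g hg
    by_contra hgB
    exact normalizer_hat_ne_top h4 hH hu1 hkx (eq_top_of_upper hUN (Subgroup.le_normalizer hg) hgB)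
  have hHatU : hat H u ≤ upperPSL F := by
    intro h hh
    by_contra hhU
    apply hUnot
    let f : upperPSL F → upperPSL F := fun v =>
      ⟨h * v.1 * h⁻¹ * v.1⁻¹, mul_mem (borelPSL_conj (hBor hh) v.2) (inv_mem v.2)⟩
    have finj : Function.Injective f := by
      intro v w e
      have e' : h * v.1 * h⁻¹ * v.1⁻¹ = h * w.1 * h⁻¹ * w.1⁻¹ := congrArg Subtype.val e
      by_contra hne
      set z := w.1⁻¹ * v.1 with hz
      have hzU : z ∈ upperPSL F := mul_mem (inv_mem w.2) v.2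
      have hz1 : z ≠ 1 := fun e => hne (Subtype.ext (inv_mul_eq_one.1 e).symm)
      apply hhU
      rw [← centralizer_upper hzU hz1, Subgroup.mem_centralizer_singleton_iff, ← mul_inv_eq_iff_eq_mul]
      calc h * z * h⁻¹ = (h * w.1 * h⁻¹)⁻¹ * (h * v.1 * h⁻¹ * v.1⁻¹) * v.1 := by rw [hz]; group
        _ = w.1⁻¹ * v.1 := by rw [e']; group
        _ = z := rfl
    intro z hz
    obtain ⟨v, hv⟩ := (Finite.injective_iff_surjective.1 finj) ⟨z, hz⟩
    have hv' : h * v.1 * h⁻¹ * v.1⁻¹ = z := congrArg Subtype.val hv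
    rw [← hv', show h * v.1 * h⁻¹ * v.1⁻¹ = h * (v.1 * h⁻¹ * v.1⁻¹) by group]
    exact mul_mem hh ((Subgroup.mem_normalizer_iff.1 (hUN v.2) h⁻¹).1 (inv_mem hh))
  have hsame : ∀ y g : PSL, y ∈ upperPSL F → y ≠ 1 → g ∈ upperPSL F → g ≠ 1 → g ∈ hat H y →
      hat H g = hat H y := by
    intro y g hy hy1 hg hg1 hgy
    obtain ⟨m, hm⟩ := upper_conj hy hy1 hg hg1
    exact hat_eq_of_mem hm hgy
  obtain ⟨y, hyU, hyn⟩ := SetLike.not_le_iff_exists.1 hUnot
  have hy1 : y ≠ 1 := fun e => hyn (e ▸ one_mem _)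
  have huu : u * u = 1 := by
    have := pow_orderOf_eq_one u
    rwa [orderOf_upper huU hu1, pow_two] at this
  have hyy : y * y = 1 := by
    have := pow_orderOf_eq_one y
    rwa [orderOf_upper hyU hy1, pow_two] at this
  have hz1 : u * y ≠ 1 := fun e => hyn (by
    rw [eq_inv_of_mul_eq_one_right e]; exact inv_mem (self_mem_hat H u))
  obtain ⟨g, hgu, hgy, hgz⟩ := hb.exists_hat (a := u) (b := y) (c := u * y) (by
    rw [(upperPSL_comm huU hyU).eq, ← mul_assoc, hyy, one_mul])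
  by_cases hg1 : g = 1
  · rw [hg1, inv_one, one_mul] at hgz
    have e := hsame _ _ (mul_mem huU hyU) hz1 huU hu1 hgz
    apply hyn
    have hm : u * y ∈ hat H u := e ▸ self_mem_hat H (u * y)
    simpa [← mul_assoc, huu] using mul_mem (self_mem_hat H u) hm
  · have hgU := hHatU hgu
    have e1 := hsame _ _ huU hu1 hgU hg1 hgu
    have e2 := hsame _ _ hyU hy1 hgU hg1 hgy
    exact hyn (e1 ▸ e2 ▸ self_mem_hat H y)

/-- For `q` even, an even stabilizer is a Sylow `2`-subgroup or lies properly between a Sylow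
`2`-subgroup and a Borel subgroup. -/
theorem sylow_or_borel [CharP F 2] (h4 : 4 ≤ Nat.card F) {H : Subgroup PSL} (hH : H ≠ ⊤)
    (hb : IsBinary H) (h2 : 2 ∣ Nat.card H) :
    (∃ P : Sylow 2 PSL, H = P) ∨
      ∃ k : PSL, (∀ h ∈ H, k * h * k⁻¹ ∈ borelPSL F) ∧ ∃ h ∈ H, k * h * k⁻¹ ∉ upperPSL F := by
  have : Fact (Nat.Prime 2) := ⟨Nat.prime_two⟩
  obtain ⟨⟨x, hxH⟩, hx⟩ := exists_prime_orderOf_dvd_card' 2 h2
  rw [Subgroup.orderOf_mk] at hx
  have hC := centralizer_le_stabilizer h4 hH hb hx hxH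
  obtain ⟨k, huU, hu1⟩ := exists_conj_upper_of_invol hx
  have hCu := centralizer_upper huU hu1
  have hUH : ∀ y ∈ upperPSL F, k⁻¹ * y * k ∈ H := by
    intro y hy
    apply hC
    rw [← hCu, Subgroup.mem_centralizer_singleton_iff] at hy
    rw [Subgroup.mem_centralizer_singleton_iff]
    calc k⁻¹ * y * k * x = k⁻¹ * (y * (k * x * k⁻¹)) * k := by group
      _ = k⁻¹ * (k * x * k⁻¹ * y) * k := by rw [hy]
      _ = _ := by group
  have hB : ∀ h ∈ H, k * h * k⁻¹ ∈ borelPSL F := by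
    intro h hh
    by_contra hg
    refine hH ?_
    have hM := eq_top_of_upper (M := H.map (MulAut.conj k).toMonoidHom)
      (fun y hy => ⟨k⁻¹ * y * k, hUH y hy, by simp [mul_assoc]⟩) ⟨h, hh, rfl⟩ hg
    refine Subgroup.map_injective (f := (MulAut.conj k).toMonoidHom) (MulAut.conj k).injective ?_
    rw [hM]
    exact (Subgroup.map_top_of_surjective _ (MulAut.conj k).surjective).symm
  by_cases hall : ∀ h ∈ H, k * h * k⁻¹ ∈ upperPSL F
  · left
    obtain ⟨Q, hQ⟩ := exists_sylow_eq_upperPSL (F := F) 2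
    refine ⟨k⁻¹ • Q, ?_⟩
    rw [Sylow.coe_subgroup_smul, hQ]
    ext y
    rw [Subgroup.mem_pointwise_smul_iff_inv_smul_mem, MulAut.smul_def, ← map_inv, MulAut.conj_apply,
      inv_inv]
    exact ⟨hall y, fun h => by simpa [mul_assoc] using hUH _ h⟩
  · push Not at hall
    exact Or.inr ⟨k, hB, hall⟩

end CfsgLib.SL2.Bin
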