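import Mathlib
import Cfsg.Agent.Lib.SL2.BinBasic

/-!
Binary coset actions of `PSL(2, q)`, `q` odd: the stabilizer has odd order.
-/

set_option autoImplicit false
set_option linter.unusedSectionVars false

namespace CfsgLib.SL2.Bin

open Matrix
open scoped MatrixGroups Pointwise
open CfsgLib.Binary CfsgLib.SL2

variable {F : Type*} [Field F] [Finite F]

local notation "PSL" => ProjectiveSpecialLinearGroup (Fin 2) F

theorem torus_facts (hodd : Odd (Nat.card F)) (h7 : 7 ≤ Nat.card F) {a : PSL} (ha : Invol a) :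
    2 ∣ Nat.card (torus a) ∧ 3 ≤ Nat.card (torus a) ∧
    Nat.card (Subgroup.centralizer ({a} : Set PSL)) = 2 * Nat.card (torus a) ∧
    (2 * Nat.card (torus a) = Nat.card F - 1 ∨ 2 * Nat.card (torus a) = Nat.card F + 1) ∧
    ∃ r ∈ torus a, orderOf r = Nat.card (torus a) := by
  obtain ⟨p, hchar⟩ := CharP.exists F
  have : Fact p.Prime := ⟨CharP.char_is_prime F p⟩
  have hs := ha.semi p hodd
  have h := card_torus_cases p hs
  rw [dd_of_odd hodd] at h
  have h2 := even_card_torus_invol ha
  have hq := Nat.odd_iff.1 hodd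
  have hC : Nat.card (Subgroup.centralizer ({a} : Set PSL)) = 2 * Nat.card (torus a) := by
    rw [centralizer_invol hodd ha, card_normalizer_torus p hs]
  obtain ⟨r, hr⟩ := (isCyclic_torus p hs).exists_ofOrder_eq_natCard
  refine ⟨h2, by omega, hC, by omega, r, r.2, by rw [Subgroup.orderOf_coe, hr]⟩

theorem centralizer_eq_of_le (hodd : Odd (Nat.card F)) {a d : PSL} (ha : Invol a) (hd : Invol d)
    (h : Subgroup.centralizer ({d} : Set PSL) ≤ Subgroup.centralizer ({a} : Set PSL)) :
    Subgroup.centralizer ({d} : Set PSL) = Subgroup.centralizer ({a} : Set PSL) := by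
  obtain ⟨p, hchar⟩ := CharP.exists F
  have : Fact p.Prime := ⟨CharP.char_is_prime F p⟩
  refine Subgroup.eq_of_le_of_card_ge h (le_of_eq ?_)
  rw [centralizer_invol hodd ha, centralizer_invol hodd hd, card_normalizer_torus p (ha.semi p hodd),
    card_normalizer_torus p (hd.semi p hodd), card_torus_invol hodd ha hd]

theorem centralizer_inter (hodd : Odd (Nat.card F)) {a d : PSL} (ha : Invol a) (hd : Partner a d)
    {y : PSL} (hya : y ∈ Subgroup.centralizer ({a} : Set PSL))
    (hyd : y ∈ Subgroup.centralizer ({d} : Set PSL)) : y = 1 ∨ y = a ∨ y = d ∨ y = a * d := by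
  have h := inf_centralizers hodd (isKleinFour_vGroup ha hd) (c := a) (d := d)
    (Or.inr (Or.inl rfl)) ha (Or.inr (Or.inr (Or.inl rfl))) hd
  have hy : y ∈ vGroup ha hd := h ▸ Subgroup.mem_inf.2 ⟨hya, hyd⟩
  exact hy

/-- Proper overgroups of an involution centralizer. -/
theorem overgroup_cases (hodd : Odd (Nat.card F)) (h7 : 7 ≤ Nat.card F) {a : PSL} (ha : Invol a)
    {M : Subgroup PSL} (hCM : Subgroup.centralizer ({a} : Set PSL) ≤ M) (hM : M ≠ ⊤) :
    M = Subgroup.centralizer ({a} : Set PSL) ∨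
      (Nat.card M = 24 ∧ Nat.card (torus a) = 4) := by
  obtain ⟨p, hchar⟩ := CharP.exists F
  have : Fact p.Prime := ⟨CharP.char_is_prime F p⟩
  obtain ⟨h2, h3, hC, hq, r, hr, hro⟩ := torus_facts hodd h7 ha
  have hodd' := Nat.odd_iff.1 hodd
  have hdvd : 2 * Nat.card (torus a) ∣ Nat.card M := hC ▸ Subgroup.card_dvd_of_le hCM
  have hrM : r ∈ M := hCM (by
    rw [centralizer_invol hodd ha]; exact Subgroup.le_normalizer hr)
  rcases dickson_maximal p M with ⟨c, -, hc, h⟩ | ⟨k, hk⟩ | ⟨⟨e⟩⟩ | ⟨⟨e⟩⟩ | ⟨⟨e⟩⟩ | h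
  · left
    have hle := Nat.le_of_dvd Nat.card_pos (Subgroup.card_dvd_of_le h)
    rw [card_normalizer_torus p hc] at hle
    have hc' := card_torus_cases p hc
    rw [dd_of_odd hodd] at hc'
    obtain ⟨m, hm⟩ := hdvd
    refine (Subgroup.eq_of_le_of_card_ge hCM ?_).symm
    rw [hC]
    rcases m with _ | _ | m
    · have := Nat.card_pos (α := M); omega
    · omega
    · have : 2 * Nat.card (torus a) * 2 ≤ Nat.card M := hm ▸ Nat.mul_le_mul_left _ (by omega)
      omega
  · exfalso
    have hle : M.map (MulAut.conj k).toMonoidHom ≤ borelPSL F := by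
      rintro _ ⟨h, hh, rfl⟩; exact hk h hh
    have hd : 2 * (2 * Nat.card (torus a)) ∣ 2 * Nat.card (borelPSL F) :=
      Nat.mul_dvd_mul_left 2 (hdvd.trans (card_map_conj M k ▸ Subgroup.card_dvd_of_le hle))
    have hB := card_borelPSL (F := F)
    rw [dd_of_odd hodd] at hB
    rw [hB] at hd
    obtain ⟨j, hj⟩ : ∃ j, Nat.card F = j + 2 := ⟨Nat.card F - 2, by omega⟩
    rw [hj] at hq hd hodd' h7
    rcases hq with e | e <;> rw [e] at hd
    · rw [show j + 2 - 1 = j + 1 by omega] at hd
      have := (Nat.mul_dvd_mul_iff_right (by omega : 0 < j + 1)).1 hd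
      omega
    · rw [show j + 2 - 1 = j + 1 by omega] at hd
      have hd' : j + 2 + 1 ∣ (j + 2) * (j + 1) := (dvd_mul_left _ _).trans hd
      rw [show (j + 2) * (j + 1) = (j + 2 + 1) * j + 2 by ring] at hd'
      have := Nat.le_of_dvd two_pos ((Nat.dvd_add_right (dvd_mul_right _ _)).1 hd')
      omega
  · exfalso
    have := orderOf_le_of_mulEquiv e orderOf_alternating_four_le hrM
    omega
  · right
    have := orderOf_le_of_mulEquiv e orderOf_perm_four_le hrM
    exact ⟨by rw [Nat.card_congr e.toEquiv, card_perm_four], by omega⟩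
  · exfalso
    have := orderOf_le_of_mulEquiv e orderOf_alternating_five_le hrM
    have h4 : Nat.card (torus a) = 4 := by omega
    rw [h4, Nat.card_congr e.toEquiv, card_alternating_five] at hdvd
    omega
  · right
    obtain ⟨k, m, hm, hk, hkm, -, hord⟩ := orderOf_le_of_shape hM h
    obtain ⟨k', m', hm', hk', hkm', hcard⟩ := card_subfield_shape hM h
    have ht := hord r hrM
    have h2' : k * k ≤ Nat.card F := by
      rw [← hkm, ← pow_two]; exact Nat.pow_le_pow_right (by omega) hm
    have h2'' : k' * k' ≤ Nat.card F := by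
      rw [← hkm', ← pow_two]; exact Nat.pow_le_pow_right (by omega) hm'
    have hk3 : k ≤ 3 := by
      by_contra hne
      have : 4 * k ≤ k * k := Nat.mul_le_mul_right _ (by omega)
      omega
    have hk'3 : k' ≤ 3 := by
      by_contra hne
      have : 4 * 4 ≤ k' * k' := Nat.mul_le_mul (by omega) (by omega)
      omega
    have hk'2 : k' ≠ 2 := fun e => by
      rw [e] at hkm'
      have := Nat.even_iff.1 ((Nat.even_pow.2 ⟨even_two, by omega⟩ : Even (2 ^ m')))
      omega
    obtain rfl : k' = 3 := by omega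
    have h4 : Nat.card (torus a) = 4 := by omega
    rw [h4] at hdvd
    norm_num at hcard
    omega

/-- In a subgroup of order `24` containing the centralizer of order `8` of the involution `a`, the
conjugates of `a` are the involutions of a four-group. -/
theorem klein_of_card (hodd : Odd (Nat.card F)) (h7 : 7 ≤ Nat.card F) {a : PSL} (ha : Invol a)
    {M : Subgroup PSL} (hCM : Subgroup.centralizer ({a} : Set PSL) ≤ M) (hM : Nat.card M = 24)
    (ht : Nat.card (torus a) = 4) :
    ∃ b, Partner a b ∧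
      (fun g => g * a * g⁻¹) '' (M : Set PSL) = ({a, b, a * b} : Set PSL) := by
  obtain ⟨-, -, hC, -, r, hr, hro⟩ := torus_facts hodd h7 ha
  set T := (fun g => g * a * g⁻¹) '' (M : Set PSL) with hT
  have hT3 : T.ncard = 3 := by
    have h := card_conj_image M a
    rw [inf_eq_right.2 hCM, hC, hM, ht, ← hT] at h
    omega
  have haT : a ∈ T := ⟨1, one_mem _, by group⟩
  have hrC : r ∈ Subgroup.centralizer ({a} : Set PSL) := by
    rw [centralizer_invol hodd ha]; exact Subgroup.le_normalizer hr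
  have hr2 : r * r = a := by
    rw [ht] at hro
    refine eq_of_invol_mem_torus hodd ha ⟨?_, fun e => ?_⟩ (mul_mem hr hr)
    · have := pow_orderOf_eq_one r
      rw [hro] at this
      simpa [pow_succ, mul_assoc] using this
    · have := orderOf_dvd_of_pow_eq_one (x := r) (n := 2) (by rw [pow_two, e])
      rw [hro] at this
      omega
  have hcl : ∀ g ∈ Subgroup.centralizer ({a} : Set PSL), ∀ x ∈ T, x ≠ a →
      g * x * g⁻¹ ∈ T ∧ g * x * g⁻¹ ≠ a := by
    rintro g hg x ⟨m, hm, rfl⟩ hne
    refine ⟨⟨g * m, mul_mem (hCM hg) hm, by group⟩, fun e => hne ?_⟩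
    rw [Subgroup.mem_centralizer_singleton_iff] at hg
    calc m * a * m⁻¹ = g⁻¹ * (g * (m * a * m⁻¹) * g⁻¹) * g := by group
      _ = g⁻¹ * (a * g) := by rw [e, mul_assoc]
      _ = a := by rw [← hg, inv_mul_cancel_left]
  have hcom : ∀ x ∈ T, Commute x a := by
    intro x hx
    by_cases hne : x = a
    · rw [hne]
    have h1 := hcl r hrC x hx hne
    have h2 := hcl r hrC _ h1.1 h1.2
    suffices h : r * (r * x * r⁻¹) * r⁻¹ = x by
      have h' : a * x * a⁻¹ = x := by rw [← hr2]; rw [← hr2] at *; simpa [mul_assoc] using h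
      exact (mul_inv_eq_iff_eq_mul.1 h').symm
    by_contra hne2
    have hsub : ({a, x, r * x * r⁻¹, r * (r * x * r⁻¹) * r⁻¹} : Set PSL) ⊆ T :=
      Set.insert_subset haT (Set.insert_subset hx (Set.insert_subset h1.1
        (Set.singleton_subset_iff.2 h2.1)))
    have hne1 : r * x * r⁻¹ ≠ x := fun e => hne2 (by rw [e, e])
    have hne3 : r * (r * x * r⁻¹) * r⁻¹ ≠ r * x * r⁻¹ := fun e =>
      hne1 (mul_left_cancel (mul_right_cancel e))
    have hle := Set.ncard_le_ncard hsub (Set.toFinite _)
    rw [Set.ncard_insert_of_notMem (by simp [Ne.symm hne, Ne.symm h1.2, Ne.symm h2.2]),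
      Set.ncard_insert_of_notMem (by simp [Ne.symm hne1, Ne.symm hne2]),
      Set.ncard_pair hne3.symm, hT3] at hle
    omega
  have hcom' : ∀ x ∈ T, ∀ y ∈ T, Commute x y := by
    rintro _ ⟨m, hm, rfl⟩ _ ⟨n, hn, rfl⟩
    have h := hcom _ ⟨n⁻¹ * m, mul_mem (inv_mem hn) hm, rfl⟩
    have h' := h.map (MulAut.conj n).toMonoidHom
    simpa [mul_assoc] using h'
  obtain ⟨b, hbT, hba⟩ := Set.exists_ne_of_one_lt_ncard (by omega : 1 < T.ncard) a
  have hbI : Invol b := by obtain ⟨m, -, rfl⟩ := hbT; exact ha.conj m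
  have hb : Partner a b := ⟨hbI, hba, hcom b hbT⟩
  refine ⟨b, hb, Set.eq_of_subset_of_ncard_le ?_ ?_ (Set.toFinite _)⟩
  · intro x hx
    have hxI : Invol x := by obtain ⟨m, -, rfl⟩ := hx; exact ha.conj m
    rcases centralizer_inter hodd ha hb (Subgroup.mem_centralizer_singleton_iff.2 (hcom x hx).eq)
      (Subgroup.mem_centralizer_singleton_iff.2 (hcom' x hx b hbT).eq) with e | e | e | e
    · exact absurd e hxI.2
    · exact Or.inl e
    · exact Or.inr (Or.inl e)
    · exact Or.inr (Or.inr e)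
  · rw [hT3]
    exact (Set.ncard_insert_le _ _).trans (Nat.succ_le_succ ((Set.ncard_insert_le _ _).trans (by simp)))

/-- No proper subgroup contains the centralizers of an involution and of all its partners. -/
theorem eq_top_of_centralizers (hodd : Odd (Nat.card F)) (h7 : 7 ≤ Nat.card F) {a : PSL}
    (ha : Invol a) {M : Subgroup PSL} (hCM : Subgroup.centralizer ({a} : Set PSL) ≤ M)
    (hP : ∀ d, Partner a d → Subgroup.centralizer ({d} : Set PSL) ≤ M) : M = ⊤ := by
  obtain ⟨-, h3, hC, -, -⟩ := torus_facts hodd h7 ha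
  by_contra hM
  rcases overgroup_cases hodd h7 ha hCM hM with e | ⟨hM24, ht⟩
  · obtain ⟨⟨d, hd⟩⟩ := (Nat.card_pos_iff.1 (by rw [card_partner hodd ha]; omega :
      0 < Nat.card {d : PSL // Partner a d})).1
    have he := centralizer_eq_of_le hodd ha hd.1 ((hP d hd).trans e.le)
    have hsub : (Subgroup.centralizer ({a} : Set PSL) : Set PSL) ⊆ {1, a, d, a * d} := fun y hy =>
      centralizer_inter hodd ha hd hy (he ▸ hy)
    have hle := Set.ncard_le_ncard hsub (Set.toFinite _)
    rw [← Nat.card_coe_set_eq] at hle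
    have h4 : ({1, a, d, a * d} : Set PSL).ncard ≤ 4 := (Set.ncard_insert_le _ _).trans
      (Nat.succ_le_succ ((Set.ncard_insert_le _ _).trans
      (Nat.succ_le_succ ((Set.ncard_insert_le _ _).trans (by simp)))))
    simp only [SetLike.coe_sort_coe] at hle
    omega
  obtain ⟨b, hb, hcls⟩ := klein_of_card hodd h7 ha hCM hM24 ht
  obtain ⟨d, hd, hdb, hdab⟩ : ∃ d, Partner a d ∧ d ≠ b ∧ d ≠ a * b := by
    by_contra hh
    push Not at hh
    have hsub : {d : PSL | Partner a d} ⊆ {b, a * b} := fun d hd => by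
      by_cases h : d = b
      · exact Or.inl h
      · exact Or.inr (hh d hd h)
    have hle := Set.ncard_le_ncard hsub (Set.toFinite _)
    rw [← Nat.card_coe_set_eq] at hle
    have h2 : ({b, a * b} : Set PSL).ncard ≤ 2 := (Set.ncard_insert_le _ _).trans (by simp)
    have h4 : Nat.card {d : PSL | Partner a d} = 4 := (card_partner hodd ha).trans ht
    omega
  obtain ⟨b', hb', hcls'⟩ := klein_of_card hodd h7 hd.1 (hP d hd) hM24
    ((card_torus_invol hodd ha hd.1).trans ht)
  have hdC : d ∈ Subgroup.centralizer ({a} : Set PSL) :=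
    Subgroup.mem_centralizer_singleton_iff.2 hd.2.2.eq
  have hbm : b ∈ (fun g => g * a * g⁻¹) '' (M : Set PSL) := by rw [hcls]; exact Or.inr (Or.inl rfl)
  obtain ⟨m, hm, hmb⟩ := hbm
  simp only at hmb
  have hbM : b ∈ M := hCM (Subgroup.mem_centralizer_singleton_iff.2 hb.2.2.eq)
  have hdM : d ∈ M := hCM hdC
  have hd' : d⁻¹ = d := inv_eq_of_mul_eq_one_right hd.1.1
  have hb1 : b⁻¹ = b := inv_eq_of_mul_eq_one_right hb.1.1
  have hdbd : d * b * d⁻¹ = a * b := by
    have hx : d * b * d⁻¹ ∈ ({a, b, a * b} : Set PSL) := hcls ▸ ⟨d * m, mul_mem hdM hm, by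
      rw [← hmb]; group⟩
    rcases hx with e | e | e
    · have h' := congrArg (fun y => d⁻¹ * y * d) e
      simp only [mul_assoc, inv_mul_cancel_left, inv_mul_cancel, mul_one] at h'
      refine absurd ?_ hb.2.1
      rw [h', ← hd.2.2.eq, inv_mul_cancel_left]
    · rcases centralizer_inter hodd ha hb hdC
        (Subgroup.mem_centralizer_singleton_iff.2 (mul_inv_eq_iff_eq_mul.1 e)) with f | f | f | f
      · exact absurd f hd.1.2
      · exact absurd f hd.2.1
      · exact absurd f hdb
      · exact absurd f hdab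
    · exact e
  have hy : b * d * b⁻¹ = a * d := by
    rw [hb1]
    calc b * d * b = d * (d * b * d⁻¹) * b := by rw [hd']; simp [← mul_assoc, hd.1.1]
      _ = (d * a) * (b * b) := by rw [hdbd]; simp [mul_assoc]
      _ = a * d := by rw [hb.1.1, mul_one, hd.2.2.eq]
  have hy' : a * d ∈ ({d, b', d * b'} : Set PSL) := hcls' ▸ ⟨b, hbM, hy⟩
  have hd'b' : d * b' = b' * d := hb'.2.2.eq.symm
  have key : ∀ g ∈ M, g * d * g⁻¹ ≠ a := by
    intro g hg e
    have : d ∈ ({a, b, a * b} : Set PSL) := hcls ▸ ⟨g⁻¹, inv_mem hg, by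
      show g⁻¹ * a * g⁻¹⁻¹ = d
      rw [← e]; group⟩
    rcases this with f | f | f
    · exact hd.2.1 f
    · exact hdb f
    · exact hdab f
  have hin : a ∈ ({d, b', d * b'} : Set PSL) := by
    have hda : a = a * d * d := by rw [mul_assoc, hd.1.1, mul_one]
    rcases hy' with f | f | f
    · exact absurd (mul_eq_right.1 f) ha.2
    · right; right
      show a = d * b'
      rw [hd'b', hda, f]
    · right; left
      rw [hda, f, hd'b', mul_assoc, hd.1.1, mul_one]
  rw [← hcls'] at hin
  obtain ⟨g, hg, hga⟩ := hin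
  exact key g hg hga

/-- For `q` odd a binary stabilizer has odd order. -/
theorem odd_card_stabilizer (hodd : Odd (Nat.card F)) (h7 : 7 ≤ Nat.card F) {H : Subgroup PSL}
    (hH : H ≠ ⊤) (hb : IsBinary H) : ¬ 2 ∣ Nat.card H := by
  intro h2
  have : Fact (Nat.Prime 2) := ⟨Nat.prime_two⟩
  obtain ⟨⟨a₀, ha₀H⟩, ha₀⟩ := exists_prime_orderOf_dvd_card' 2 h2
  rw [Subgroup.orderOf_mk] at ha₀
  have ha₀I : Invol a₀ := ⟨by have := pow_orderOf_eq_one a₀; rwa [ha₀, pow_two] at this,
    fun e => by rw [e, orderOf_one] at ha₀; omega⟩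
  have h4 : 4 ≤ Nat.card F := by omega
  have hfix : ∀ x : PSL, Invol x → ∃ k : PSL, k⁻¹ * x * k ∈ H := fun x hx => by
    obtain ⟨k, rfl⟩ := invol_conj hodd ha₀I hx
    exact ⟨k, by simpa [mul_assoc] using ha₀H⟩
  have hsym : ∀ x y : PSL, Invol x → Invol y → y ∈ hat H x → hat H y = hat H x := by
    intro x y hx hy hm
    obtain ⟨k, hk⟩ := invol_conj hodd hx hy
    exact hat_eq_of_mem hk hm
  -- every partner lies in the closure
  have hstep : ∀ a d : PSL, Invol a → Partner a d → d ∈ hat H a := by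
    intro a d ha hd
    by_contra hnot
    have hne : hat H a ≠ hat H d := fun e => hnot (e ▸ self_mem_hat H d)
    have hnot' : a ∉ hat H d := fun h => hne (hsym d a hd.1 ha h)
    have he : Partner a (a * d) := by
      refine ⟨⟨?_, fun e => hd.2.1 ?_⟩, fun e => hd.1.2 (mul_eq_left.1 e),
        (Commute.refl a).mul_left hd.2.2⟩
      · rw [mul_assoc, ← mul_assoc d a d, hd.2.2.eq, mul_assoc a d d, hd.1.1, mul_one, ha.1]
      · rw [eq_inv_of_mul_eq_one_right e, inv_eq_of_mul_eq_one_right ha.1]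
    obtain ⟨g, hga, hgd, hgc⟩ := hb.exists_hat (a := a) (b := d) (c := a * d)
      (by rw [← mul_assoc, hd.2.2.eq, mul_assoc, hd.1.1, mul_one])
    have hcent : ∀ x y : PSL, Invol x → Partner x y → y ∉ hat H x → x ∉ hat H y →
        g ∈ hat H x → g ∈ hat H y → g ∈ Subgroup.centralizer ({x} : Set PSL) := by
      intro x y hx hy hnx hny hgx hgy
      obtain ⟨k, hk⟩ := hfix x hx
      rcases overgroup_cases hodd h7 hx (centralizer_le_normalizer_hat H x)
        (normalizer_hat_ne_top h4 hH hx.2 hk) with e | ⟨h24, ht⟩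
      · exact e ▸ Subgroup.le_normalizer hgx
      obtain ⟨b, hbp, hcls⟩ := klein_of_card hodd h7 hx (centralizer_le_normalizer_hat H x) h24 ht
      have hxm : x ∈ hat H x := self_mem_hat H x
      have hT : ∀ z ∈ ({x, b, x * b} : Set PSL), z ∈ hat H x := by
        intro z hz
        rw [← hcls] at hz
        obtain ⟨n, hn, rfl⟩ := hz
        exact (Subgroup.mem_normalizer_iff.1 hn x).1 hxm
      have hgT : g * x * g⁻¹ ∈ ({x, b, x * b} : Set PSL) :=
        hcls ▸ ⟨g, Subgroup.le_normalizer hgx, rfl⟩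
      have hxC : x ∈ Subgroup.centralizer ({y} : Set PSL) :=
        Subgroup.mem_centralizer_singleton_iff.2 hy.2.2.eq.symm
      have hyC : y ∈ Subgroup.centralizer ({x} : Set PSL) :=
        Subgroup.mem_centralizer_singleton_iff.2 hy.2.2.eq
      let K : Subgroup PSL := hat H x ⊓ hat H y
      have hKx : ∀ k ∈ K, x * k * x⁻¹ ∈ K := fun k hk =>
        ⟨(Subgroup.mem_normalizer_iff.1 (Subgroup.le_normalizer hxm) k).1 hk.1,
          (Subgroup.mem_normalizer_iff.1 (centralizer_le_normalizer_hat H y hxC) k).1 hk.2⟩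
      have hKy : ∀ k ∈ K, y * k * y⁻¹ ∈ K := fun k hk =>
        ⟨(Subgroup.mem_normalizer_iff.1 (centralizer_le_normalizer_hat H x hyC) k).1 hk.1,
          (Subgroup.mem_normalizer_iff.1 (Subgroup.le_normalizer (self_mem_hat H y)) k).1 hk.2⟩
      have hgK : g ∈ K := ⟨hgx, hgy⟩
      have hv : g * x * g⁻¹ * x⁻¹ ∈ K := by
        have := mul_mem hgK (hKx _ (inv_mem hgK))
        simpa [mul_assoc] using this
      rw [Subgroup.mem_centralizer_singleton_iff, ← mul_inv_eq_iff_eq_mul]
      by_contra hne'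
      have hx1 : x⁻¹ = x := inv_eq_of_mul_eq_one_right hx.1
      have hxb : x * b = b * x := hbp.2.2.eq.symm
      obtain ⟨w, hw, hwK⟩ : ∃ w, (w = b ∨ w = x * b) ∧ w ∈ K := by
        rcases hgT with e | e | e
        · exact absurd e hne'
        · refine ⟨x * b, Or.inr rfl, ?_⟩
          rwa [e, hx1, ← hxb] at hv
        · refine ⟨b, Or.inl rfl, ?_⟩
          rwa [e, hx1, hxb, mul_assoc, hx.1, mul_one] at hv
      have hwx : x ∈ K := by
        have hw' : y * w * y⁻¹ ∈ ({x, b, x * b} : Set PSL) := by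
          have hwc : w ∈ ({x, b, x * b} : Set PSL) := Or.inr hw
          rw [← hcls] at hwc ⊢
          obtain ⟨n, hn, rfl⟩ := hwc
          exact ⟨y * n, mul_mem (centralizer_le_normalizer_hat H x hyC) hn, by group⟩
        have hwK' := hKy w hwK
        have hwp : Partner x w := by
          rcases hw with rfl | rfl
          · exact hbp
          · refine ⟨⟨?_, fun e => hbp.2.1 ?_⟩, fun e => hbp.1.2 (mul_eq_left.1 e),
              (Commute.refl x).mul_left hbp.2.2⟩
            · rw [mul_assoc, ← mul_assoc b x b, ← hxb, mul_assoc x b b, hbp.1.1, mul_one, hx.1]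
            · rw [eq_inv_of_mul_eq_one_right e, hx1]
        have hwne : y * w * y⁻¹ ≠ w := by
          intro e
          have hV : y ∈ vGroup hx hwp := centralizer_inter hodd hx hwp hyC
            (Subgroup.mem_centralizer_singleton_iff.2 (mul_inv_eq_iff_eq_mul.1 e))
          apply hnx
          rcases hV with f | f | f | f
          · exact absurd f hy.1.2
          · exact f ▸ hxm
          · exact f ▸ hT w (Or.inr hw)
          · exact f ▸ mul_mem hxm (hT w (Or.inr hw))
        rcases hw' with f | f | f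
        · exact f ▸ hwK'
        · rcases hw with rfl | rfl
          · exact absurd f hwne
          · rw [f] at hwK'
            have := mul_mem hwK hwK'
            rwa [mul_assoc, hbp.1.1, mul_one] at this
        · rcases hw with rfl | rfl
          · rw [f] at hwK'
            have := mul_mem hwK' hwK
            rwa [mul_assoc, hbp.1.1, mul_one] at this
          · exact absurd f hwne
      exact hny hwx.2
    have h1 := hcent a d ha hd hnot hnot' hga hgd
    have h2' := hcent d a hd.1 ⟨ha, Ne.symm hd.2.1, hd.2.2.symm⟩ hnot' hnot hgd hga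
    rcases centralizer_inter hodd ha hd h1 h2' with rfl | rfl | rfl | rfl
    · rw [inv_one, one_mul] at hgc
      have := hsym _ _ he.1 ha hgc
      apply hnot
      have hm : a * d ∈ hat H a := this ▸ self_mem_hat H (a * d)
      simpa [← mul_assoc] using mul_mem (inv_mem (self_mem_hat H a)) hm
    · exact hnot' hgd
    · exact hnot hga
    · apply hnot
      simpa [← mul_assoc] using mul_mem (inv_mem (self_mem_hat H a)) hga
  have hcle : ∀ a : PSL, Invol a → a ∈ H → Subgroup.centralizer ({a} : Set PSL) ≤ H := by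
    intro a ha haH
    refine le_trans (fun y hy => ?_) (hat_le haH)
    obtain ⟨-, h3, -, -, -⟩ := torus_facts hodd h7 ha
    obtain ⟨⟨d, hd⟩⟩ := (Nat.card_pos_iff.1 (by rw [card_partner hodd ha]; omega :
      0 < Nat.card {d : PSL // Partner a d})).1
    rw [centralizer_invol hodd ha] at hy
    by_cases hyT : y ∈ torus a
    · obtain ⟨hdN, hdT⟩ := (partner_iff hodd ha d).1 hd
      have hyd : Partner a (y * d) := (partner_iff hodd ha _).2 ⟨mul_mem hy hdN,
        fun h => hdT (by simpa using mul_mem (inv_mem hyT) h)⟩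
      simpa using mul_mem (hstep a _ ha hyd) (inv_mem (hstep a d ha hd))
    · exact hstep a y ha ((partner_iff hodd ha y).2 ⟨hy, hyT⟩)
  refine hH (eq_top_of_centralizers hodd h7 ha₀I (hcle a₀ ha₀I ha₀H) fun d hd =>
    hcle d hd.1 (hat_le ha₀H (hstep a₀ d ha₀I hd)))

end CfsgLib.SL2.Bin
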