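import Mathlib
import Cfsg.Agent.Lib.SL2.BinEven

/-!
Binary coset actions of `PSL(2, q)`: the binary actions.
-/

set_option autoImplicit false
set_option linter.unusedSectionVars false

namespace CfsgLib.SL2.Bin

open Matrix
open scoped MatrixGroups Pointwise
open CfsgLib.Binary CfsgLib.SL2

variable {F : Type*} [Field F] [Finite F]

local notation "PSL" => ProjectiveSpecialLinearGroup (Fin 2) F

/-- A regular action is binary. -/
theorem binary_bot {G : Type*} [Group G] : IsBinary (⊥ : Subgroup G) := by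
  intro n I J hn h
  let i0 : Fin n := ⟨0, by omega⟩
  let i1 : Fin n := ⟨1, by omega⟩
  obtain ⟨g, hg0, hg1⟩ := h i0 i1 (by simp [i0, i1, Fin.ext_iff])
  refine ⟨g, fun i => ?_⟩
  by_cases hi : i = i0
  · rw [hi]; exact hg0
  obtain ⟨g', h0, hi'⟩ := h i0 i (fun e => hi e.symm)
  have e : (g⁻¹ * g') • I i0 = I i0 := by rw [mul_smul, h0, ← hg0, inv_smul_smul]
  obtain ⟨k, hk⟩ := QuotientGroup.mk_surjective (I i0)
  rw [← hk] at e
  have := smul_mk_eq_iff.1 e
  rw [Subgroup.mem_bot] at this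
  have hgg : g = g' := by
    have h2 : g⁻¹ * g' = 1 := by
      calc g⁻¹ * g' = k * (k⁻¹ * (g⁻¹ * g') * k) * k⁻¹ := by group
        _ = 1 := by rw [this]; group
    exact inv_mul_eq_one.1 h2
  rw [hgg]; exact hi'

theorem proj_injective_even [CharP F 2] : Function.Injective (proj : SL(2, F) → PSL) := by
  intro g h e
  rcases eq_or_eq_neg_of_proj_eq e with f | f
  · exact f.symm
  · rw [f]
    apply Subtype.ext
    ext i j
    rw [Matrix.SpecialLinearGroup.coe_neg, Matrix.neg_apply, CharTwo.neg_eq]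

theorem liftSL_mul [CharP F 2] (x y : PSL) : liftSL (x * y) = liftSL x * liftSL y :=
  proj_injective_even (by rw [map_mul, proj_liftSL, proj_liftSL, proj_liftSL])

/-- Pairwise transporters of vectors with preserved determinants. -/
theorem det_pair_eq {u w : Fin 2 → F} {d : Fin 2 → F} (hne : u 0 * w 1 - u 1 * w 0 ≠ 0)
    (h1 : u 0 * d 1 - u 1 * d 0 = 0) (h2 : w 0 * d 1 - w 1 * d 0 = 0) : d = 0 := by
  funext i
  fin_cases i
  · exact (mul_eq_zero.1 (by linear_combination w 0 * h1 - u 0 * h2 :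
      (u 0 * w 1 - u 1 * w 0) * d 0 = 0)).resolve_left hne
  · exact (mul_eq_zero.1 (by linear_combination w 1 * h1 - u 1 * h2 :
      (u 0 * w 1 - u 1 * w 0) * d 1 = 0)).resolve_left hne

theorem det_mulVec (A : SL(2, F)) (u w : Fin 2 → F) :
    ((A : Matrix (Fin 2) (Fin 2) F) *ᵥ u) 0 * ((A : Matrix (Fin 2) (Fin 2) F) *ᵥ w) 1 -
      ((A : Matrix (Fin 2) (Fin 2) F) *ᵥ u) 1 * ((A : Matrix (Fin 2) (Fin 2) F) *ᵥ w) 0 =
    u 0 * w 1 - u 1 * w 0 := by
  simp only [Matrix.mulVec, dotProduct, Fin.sum_univ_two]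
  linear_combination (u 0 * w 1 - u 1 * w 0) * det_eq A

/-- The action on the cosets of a Sylow `2`-subgroup, `q` even, is binary. -/
theorem binary_sylow [CharP F 2] (P : Sylow 2 PSL) : IsBinary (P : Subgroup PSL) := by
  have : Fact (Nat.Prime 2) := ⟨Nat.prime_two⟩
  obtain ⟨Q, hQ⟩ := exists_sylow_eq_upperPSL (F := F) 2
  obtain ⟨k, hk⟩ := MulAction.exists_smul_eq PSL Q P
  have hmem : ∀ y, y ∈ (P : Subgroup PSL) ↔ k⁻¹ * y * k ∈ upperPSL F := by
    intro y
    rw [← hk, Sylow.coe_subgroup_smul, hQ, Subgroup.mem_pointwise_smul_iff_inv_smul_mem,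
      MulAut.smul_def, ← map_inv, MulAut.conj_apply, inv_inv]
  let e1 : Fin 2 → F := ![1, 0]
  have hfix : ∀ y, y ∈ (P : Subgroup PSL) ↔
      (liftSL (k⁻¹ * y * k) : Matrix (Fin 2) (Fin 2) F) *ᵥ e1 = e1 := by
    intro y
    rw [hmem]
    set A := liftSL (k⁻¹ * y * k) with hA
    constructor
    · intro h
      obtain ⟨t, ht⟩ := mem_upperPSL_up h
      have e : A = up t := proj_injective_even (by rw [proj_liftSL, ht])
      rw [e, up_coe]
      ext i; fin_cases i <;> simp [e1, Matrix.mulVec, dotProduct, Fin.sum_univ_two]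
    · intro h
      have h0 := congrFun h 0
      have h1 := congrFun h 1
      simp [e1, Matrix.mulVec, dotProduct, Fin.sum_univ_two] at h0 h1
      rw [← proj_liftSL (k⁻¹ * y * k), ← hA]
      rw [eq_up_of_entries h1 h0]
      exact proj_up_mem_upperPSL _
  let v : PSL ⧸ (P : Subgroup PSL) → (Fin 2 → F) := fun ω =>
    Quotient.liftOn' ω (fun g => (liftSL (g * k) : Matrix (Fin 2) (Fin 2) F) *ᵥ e1) (fun g g' hgg => by
      rw [QuotientGroup.leftRel_apply, hfix] at hgg
      show (liftSL (g * k) : Matrix (Fin 2) (Fin 2) F) *ᵥ e1 = _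
      rw [show g' * k = (g * k) * (k⁻¹ * (g⁻¹ * g') * k) by group, liftSL_mul (g * k) (k⁻¹ * (g⁻¹ * g') * k),
        Matrix.SpecialLinearGroup.coe_mul, ← Matrix.mulVec_mulVec, hgg])
  have hv : ∀ (g : PSL) (ω : PSL ⧸ (P : Subgroup PSL)),
      v (g • ω) = (liftSL g : Matrix (Fin 2) (Fin 2) F) *ᵥ v ω := by
    intro g ω
    induction ω using Quotient.inductionOn' with
    | h a =>
      show (liftSL (g * a * k) : Matrix (Fin 2) (Fin 2) F) *ᵥ e1 = _ *ᵥ _
      rw [mul_assoc g a k, liftSL_mul g (a * k), Matrix.SpecialLinearGroup.coe_mul,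
        ← Matrix.mulVec_mulVec]
      rfl
  have hinj : Function.Injective v := by
    intro x y h
    induction x using Quotient.inductionOn' with
    | h a =>
      induction y using Quotient.inductionOn' with
      | h b =>
        change (liftSL (a * k) : Matrix (Fin 2) (Fin 2) F) *ᵥ e1 =
          (liftSL (b * k) : Matrix (Fin 2) (Fin 2) F) *ᵥ e1 at h
        refine Quotient.sound' ?_
        rw [QuotientGroup.leftRel_apply, hfix,
          show k⁻¹ * (a⁻¹ * b) * k = (a * k)⁻¹ * (b * k) by group, liftSL_mul,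
          Matrix.SpecialLinearGroup.coe_mul, ← Matrix.mulVec_mulVec, ← h, Matrix.mulVec_mulVec,
          ← Matrix.SpecialLinearGroup.coe_mul, ← liftSL_mul, inv_mul_cancel,
          show liftSL (1 : PSL) = 1 from proj_injective_even (by rw [proj_liftSL, map_one]),
          Matrix.SpecialLinearGroup.coe_one, Matrix.one_mulVec]
  intro n I J hn h
  let i0 : Fin n := ⟨0, by omega⟩
  let i1 : Fin n := ⟨1, by omega⟩
  have hJ : ∀ {i : Fin n} {g : PSL}, g • I i = J i →
      (liftSL g : Matrix (Fin 2) (Fin 2) F) *ᵥ v (I i) = v (J i) := fun {i g} e => by rw [← hv, e]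
  set dt : (Fin 2 → F) → (Fin 2 → F) → F := fun u w => u 0 * w 1 - u 1 * w 0 with hdt
  have hdet : ∀ i j, dt (v (J i)) (v (J j)) = dt (v (I i)) (v (I j)) := by
    intro i j
    by_cases hij : i = j
    · rw [hij]; simp [hdt, mul_comm]
    obtain ⟨g, hi, hj⟩ := h i j hij
    simp only [hdt]
    rw [← hJ hi, ← hJ hj, det_mulVec]
  have hnz : ∀ ω, v ω 0 ≠ 0 ∨ v ω 1 ≠ 0 := by
    intro ω
    induction ω using Quotient.inductionOn' with
    | h a =>
      by_contra hc
      push Not at hc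
      have hd := det_eq (liftSL (a * k))
      have h0 : (liftSL (a * k) : Matrix (Fin 2) (Fin 2) F) 0 0 = 0 := by
        have := hc.1; change ((liftSL (a * k) : Matrix (Fin 2) (Fin 2) F) *ᵥ e1) 0 = 0 at this
        simpa [e1, Matrix.mulVec, dotProduct, Fin.sum_univ_two] using this
      have h1 : (liftSL (a * k) : Matrix (Fin 2) (Fin 2) F) 1 0 = 0 := by
        have := hc.2; change ((liftSL (a * k) : Matrix (Fin 2) (Fin 2) F) *ᵥ e1) 1 = 0 at this
        simpa [e1, Matrix.mulVec, dotProduct, Fin.sum_univ_two] using this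
      rw [h0, h1] at hd
      simp at hd
  by_cases hdep : ∀ i, dt (v (I i0)) (v (I i)) = 0
  · obtain ⟨g, hg0, -⟩ := h i0 i1 (by simp [i0, i1, Fin.ext_iff])
    refine ⟨g, fun i => ?_⟩
    by_cases hi : i = i0
    · rw [hi]; exact hg0
    obtain ⟨g', h0, hi'⟩ := h i0 i (fun e => hi e.symm)
    obtain ⟨c, hc⟩ : ∃ c : F, v (I i) = c • v (I i0) := by
      have e : v (I i0) 0 * v (I i) 1 - v (I i0) 1 * v (I i) 0 = 0 := hdep i
      rcases hnz (I i0) with hz | hz
      · refine ⟨v (I i) 0 / v (I i0) 0, funext fun j => ?_⟩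
        fin_cases j <;> simp
        · field_simp
        · field_simp
          linear_combination e
      · refine ⟨v (I i) 1 / v (I i0) 1, funext fun j => ?_⟩
        fin_cases j <;> simp
        · field_simp
          linear_combination -e
        · field_simp
    apply hinj
    rw [hv, ← hJ hi', hc, Matrix.mulVec_smul, Matrix.mulVec_smul, hJ hg0, hJ h0]
  · push Not at hdep
    obtain ⟨m, hm⟩ := hdep
    have hm0 : i0 ≠ m := fun e => hm (by rw [← e]; simp [hdt, mul_comm])
    obtain ⟨g, hg0, hgm⟩ := h i0 m hm0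
    refine ⟨g, fun i => hinj ?_⟩
    have key := det_pair_eq (u := v (J i0)) (w := v (J m)) (d := v (g • I i) - v (J i))
      (by have := hdet i0 m; simp only [hdt] at this hm ⊢; rw [this]; exact hm) ?_ ?_
    · exact sub_eq_zero.1 key
    · have h1 := hdet i0 i
      have h2 := det_mulVec (liftSL g) (v (I i0)) (v (I i))
      rw [hJ hg0, ← hv] at h2
      simp only [hdt, Pi.sub_apply] at h1 ⊢
      linear_combination h2 - h1
    · have h1 := hdet m i
      have h2 := det_mulVec (liftSL g) (v (I m)) (v (I i))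
      rw [hJ hgm, ← hv] at h2
      simp only [hdt, Pi.sub_apply] at h1 ⊢
      linear_combination h2 - h1

theorem order_three [CharP F 2] {x : PSL} (hx : x ^ 3 = 1) (hx1 : x ≠ 1) :
    (liftSL x : Matrix (Fin 2) (Fin 2) F).trace = 1 ∧ NonScalar (liftSL x : Matrix (Fin 2) (Fin 2) F) := by
  set A := liftSL x with hA
  have hns : NonScalar (A : Matrix (Fin 2) (Fin 2) F) := not_not.1 fun hn =>
    hx1 (by rw [← proj_liftSL x]; exact (proj_eq_one_iff A).2 ((mem_center_iff_not_nonScalar A).2 hn))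
  refine ⟨?_, hns⟩
  have h3 : A ^ 3 = 1 := proj_injective_even (by rw [map_pow, proj_liftSL, hx, map_one])
  set τ := (A : Matrix (Fin 2) (Fin 2) F).trace
  have h2 : (2 : F) = 0 := CharTwo.two_eq_zero
  have e : (-τ) • (1 : Matrix (Fin 2) (Fin 2) F) + (τ * τ - 1) • (A : Matrix (Fin 2) (Fin 2) F) =
      (1 : F) • (1 : Matrix (Fin 2) (Fin 2) F) + (0 : F) • (A : Matrix (Fin 2) (Fin 2) F) := by
    have h := congrArg (fun M : SL(2, F) => (M : Matrix (Fin 2) (Fin 2) F)) h3
    simp only [pow_succ, pow_zero, one_mul, Matrix.SpecialLinearGroup.coe_mul,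
      Matrix.SpecialLinearGroup.coe_one] at h
    rw [cayley, A.det_coe, Matrix.sub_mul, Matrix.smul_mul, cayley, A.det_coe] at h
    rw [one_smul, zero_smul, add_zero]
    conv_rhs => rw [← h]
    ext i j
    fin_cases i <;> fin_cases j <;> simp [τ] <;> ring
  obtain ⟨e1, -⟩ := smul_one_add_smul_inj hns e
  linear_combination -e1 + (-1 : F) * h2

/-- Two elements of order three with product of order three coincide, without cube roots of unity. -/
theorem triangle_eq [CharP F 2] (hω : ¬ ∃ ω : F, ω * ω + ω + 1 = 0) {x z : PSL} (hx : x ^ 3 = 1)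
    (hx1 : x ≠ 1) (hz : z ^ 3 = 1) (hz1 : z ≠ 1) (hxz : (x * z) ^ 3 = 1) (hxz1 : x * z ≠ 1) :
    z = x := by
  obtain ⟨tA, nA⟩ := order_three hx hx1
  obtain ⟨tZ, nZ⟩ := order_three hz hz1
  obtain ⟨tP, -⟩ := order_three hxz hxz1
  rw [liftSL_mul, Matrix.SpecialLinearGroup.coe_mul] at tP
  set A : Matrix (Fin 2) (Fin 2) F := (liftSL x : Matrix (Fin 2) (Fin 2) F)
  set Z : Matrix (Fin 2) (Fin 2) F := (liftSL z : Matrix (Fin 2) (Fin 2) F)
  obtain ⟨P, hP, hAP⟩ := exists_companion A nA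
  rw [show A.det = 1 from (liftSL x).det_coe, tA] at hAP
  have hu : IsUnit P.det := isUnit_iff_ne_zero.2 hP
  set W := P⁻¹ * Z * P with hW
  set C : Matrix (Fin 2) (Fin 2) F := !![0, -1; 1, 1] with hC
  have hA' : A = P * C * P⁻¹ := by
    rw [← hAP, Matrix.mul_assoc, Matrix.mul_nonsing_inv _ hu, Matrix.mul_one]
  have hZ' : Z = P * W * P⁻¹ := by
    rw [hW]
    simp only [Matrix.mul_assoc, Matrix.mul_nonsing_inv _ hu, Matrix.mul_one]
    rw [← Matrix.mul_assoc, Matrix.mul_nonsing_inv _ hu, Matrix.one_mul]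
  have hWt : W.trace = 1 := by
    rw [hW, Matrix.trace_mul_cycle, Matrix.mul_nonsing_inv _ hu, Matrix.one_mul, tZ]
  have hWd : W.det = 1 := by
    rw [hW, Matrix.det_mul, Matrix.det_mul, mul_comm, ← mul_assoc, ← Matrix.det_mul,
      Matrix.mul_nonsing_inv _ hu, Matrix.det_one, one_mul]
    exact (liftSL z).det_coe
  have hCW : (C * W).trace = 1 := by
    have e : A * Z = P * (C * W) * P⁻¹ := by
      rw [hA', hZ']
      simp only [Matrix.mul_assoc]
      rw [← Matrix.mul_assoc P⁻¹ P, Matrix.nonsing_inv_mul P hu, Matrix.one_mul]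
    rw [e, Matrix.trace_mul_cycle, Matrix.nonsing_inv_mul _ hu, Matrix.one_mul] at tP
    exact tP
  rw [Matrix.trace_fin_two] at hWt hCW
  rw [Matrix.det_fin_two] at hWd
  simp [hC, Matrix.mul_apply, Fin.sum_univ_two] at hCW
  have h2 : (2 : F) = 0 := CharTwo.two_eq_zero
  set a := W 0 0
  set b := W 0 1
  set c := W 1 0
  set d := W 1 1
  have hq : a * a + a * (1 + b) + (1 + b) * (1 + b) = 0 := by
    have hd : d = 1 - a := by linear_combination hWt
    have hc : c = b + (1 - a) - 1 := by linear_combination -hCW + hd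
    rw [hd, hc] at hWd
    linear_combination hWd + (a * a + b + 1 - a * 0) * h2 + (b * b) * h2
  have hy : 1 + b = 0 := by
    by_contra hne
    refine hω ⟨a / (1 + b), ?_⟩
    field_simp
    linear_combination hq
  have ha : a = 0 := by
    rw [hy] at hq
    simp at hq
    exact hq
  have hWC : W = C := by
    have hb' : b = -1 := by linear_combination hy
    have hd : d = 1 := by linear_combination hWt - ha
    have hc : c = 1 := by
      rw [ha, hb', hd] at hWd
      linear_combination hWd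
    rw [Matrix.eta_fin_two W]
    show !![a, b; c, d] = _
    rw [ha, hb', hc, hd]
  rw [← proj_liftSL z, ← proj_liftSL x]
  congr 1
  apply Subtype.ext
  show Z = A
  rw [hZ', hA', hWC]

/-- The action on the cosets of a subgroup of order three, `q = 2^a`, `a` odd, is binary. -/
theorem binary_three [CharP F 2] (hω : ¬ ∃ ω : F, ω * ω + ω + 1 = 0) {H : Subgroup PSL}
    (h3 : Nat.card H = 3) : IsBinary H := by
  classical
  let K : PSL ⧸ H → Subgroup PSL := fun ω => MulAction.stabilizer PSL ω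
  have hK : ∀ ω, Nat.card (K ω) = 3 := by
    intro ω
    obtain ⟨a, rfl⟩ := QuotientGroup.mk_surjective ω
    have e : (QuotientGroup.mk a : PSL ⧸ H) = a • ((1 : PSL) : PSL ⧸ H) := by
      rw [MulAction.Quotient.smul_mk, smul_eq_mul, mul_one]
    show Nat.card (MulAction.stabilizer PSL (QuotientGroup.mk a : PSL ⧸ H)) = 3
    rw [e, MulAction.stabilizer_smul_eq_stabilizer_map_conj, MulAction.stabilizer_quotient]
    exact (Subgroup.card_map_of_injective (MulAut.conj a).injective).trans h3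
  have hTI : ∀ {x : PSL} {ω ω' : PSL ⧸ H}, x ∈ K ω → x ∈ K ω' → x ≠ 1 → K ω = K ω' := by
    intro x ω ω' hx hx' hx1
    have : Fact (Nat.Prime 3) := ⟨Nat.prime_three⟩
    have hz : ∀ ω, x ∈ K ω → Subgroup.zpowers x = K ω := fun ω hx => by
      refine Subgroup.eq_of_le_of_card_ge (Subgroup.zpowers_le.2 hx) ?_
      rw [hK, Nat.card_zpowers]
      have h := Subgroup.orderOf_dvd_natCard (K ω) hx
      rw [hK] at h
      rcases (Nat.dvd_prime Nat.prime_three).1 h with e | e
      · exact absurd (orderOf_eq_one_iff.1 e) hx1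
      · omega
    rw [← hz ω hx, ← hz ω' hx']
  have hpow : ∀ {x : PSL} {ω : PSL ⧸ H}, x ∈ K ω → x ^ 3 = 1 := fun {x ω} hx => by
    have h := Subgroup.orderOf_dvd_natCard (K ω) hx
    rw [hK] at h
    exact orderOf_dvd_iff_pow_eq_one.1 h
  intro n I J hn h
  let i0 : Fin n := ⟨0, by omega⟩
  let i1 : Fin n := ⟨1, by omega⟩
  have mk : ∀ {g g' : PSL} {i : Fin n}, g • I i = J i → g' • I i = J i → g⁻¹ * g' ∈ K (I i) := by
    intro g g' i e e'
    show (g⁻¹ * g') • I i = I i
    rw [mul_smul, e', ← e, inv_smul_smul]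
  by_cases hall : ∀ i, K (I i) = K (I i0)
  · obtain ⟨g, hg0, -⟩ := h i0 i1 (by simp [i0, i1, Fin.ext_iff])
    refine ⟨g, fun i => ?_⟩
    by_cases hi : i = i0
    · rw [hi]; exact hg0
    obtain ⟨g', h0, hi'⟩ := h i0 i (fun e => hi e.symm)
    have hm' := mk h0 hg0
    rw [← hall i] at hm'
    have hm : (g'⁻¹ * g) • I i = I i := hm'
    rw [mul_smul, inv_smul_eq_iff, hi'] at hm
    exact hm
  · push Not at hall
    obtain ⟨m, hm⟩ := hall
    have hm0 : i0 ≠ m := fun e => hm (by rw [e])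
    obtain ⟨g, hg0, hgm⟩ := h i0 m hm0
    refine ⟨g, fun i => ?_⟩
    by_cases hi0 : i = i0
    · rw [hi0]; exact hg0
    by_cases him : i = m
    · rw [him]; exact hgm
    obtain ⟨a, ha0, hai⟩ := h i0 i (fun e => hi0 e.symm)
    obtain ⟨b, hbm, hbi⟩ := h m i (fun e => him e.symm)
    set x := g⁻¹ * a with hx
    have hx0 : x ∈ K (I i0) := mk hg0 ha0
    set y := g⁻¹ * b with hy
    have hym : y ∈ K (I m) := mk hgm hbm
    have hz : a⁻¹ * b ∈ K (I i) := mk hai hbi
    suffices hxi : x ∈ K (I i) by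
      have e : x • I i = I i := hxi
      rw [hx, mul_smul, inv_smul_eq_iff, hai] at e
      exact e.symm
    by_cases hx1 : x = 1
    · rw [hx1]; exact one_mem _
    set z := a⁻¹ * b with hzdef
    have exz : x * z = y := by rw [hx, hy, hzdef]; group
    by_cases hy1 : y = 1
    · rw [eq_inv_of_mul_eq_one_left (exz.trans hy1)]; exact inv_mem hz
    by_cases hz1 : z = 1
    · rw [hz1, mul_one] at exz
      exact absurd (hTI hym (exz ▸ hx0) hy1) hm
    have hzx : z = x := triangle_eq hω (hpow hx0) hx1 (hpow hz) hz1 (by rw [exz]; exact hpow hym)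
      (by rw [exz]; exact hy1)
    exact hzx ▸ hz

theorem not_root_of_odd_pow [Fintype F] {a : ℕ} (ha : Odd a) (hq : Fintype.card F = 2 ^ a) :
    ¬ ∃ ω : F, ω * ω + ω + 1 = 0 := by
  rintro ⟨ω, hω⟩
  classical
  have := charP_two (F := F) (by rw [Nat.card_eq_fintype_card, hq]; exact Nat.even_pow.2 ⟨even_two, ha.pos.ne'⟩)
  have h3 : ω ^ 3 = 1 := by linear_combination (ω - 1) * hω
  have h0 : ω ≠ 0 := by rintro rfl; simp at hω
  have h1 : Units.mk0 ω h0 ≠ 1 := fun e => by
    have e' : ω = 1 := congrArg Units.val e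
    rw [e'] at hω
    have h2 : (2 : F) = 0 := CharTwo.two_eq_zero
    exact one_ne_zero (by linear_combination hω - h2 : (1 : F) = 0)
  have : Fact (Nat.Prime 3) := ⟨Nat.prime_three⟩
  have ho : orderOf (Units.mk0 ω h0) = 3 := orderOf_eq_prime (Units.ext (by simpa using h3)) h1
  have hd := orderOf_dvd_card (x := Units.mk0 ω h0)
  rw [ho, Fintype.card_units, hq] at hd
  obtain ⟨l, rfl⟩ := ha
  rw [pow_succ, pow_mul] at hd
  have h4 : (2 ^ 2) ^ l % 3 = 1 := by rw [Nat.pow_mod]; norm_num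
  omega

theorem odd_exponent_of_no_root [Fintype F] {a : ℕ} (hq : Fintype.card F = 2 ^ a) (h4 : 4 ≤ Fintype.card F)
    (hω : ¬ ∃ ω : F, ω * ω + ω + 1 = 0) : Odd a := by
  rcases Nat.even_or_odd a with ⟨l, rfl⟩ | h
  swap; · exact h
  exfalso
  apply hω
  classical
  have : Fact (Nat.Prime 3) := ⟨Nat.prime_three⟩
  have h3 : 3 ∣ Fintype.card Fˣ := by
    rw [Fintype.card_units, hq, ← two_mul, pow_mul]
    have h4 : (2 ^ 2) ^ l % 3 = 1 := by rw [Nat.pow_mod]; norm_num
    omega
  obtain ⟨u, hu⟩ := exists_prime_orderOf_dvd_card 3 h3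
  refine ⟨u, ?_⟩
  have hu3 : (u : F) ^ 3 = 1 := by rw [← Units.val_pow_eq_pow_val, ← hu, pow_orderOf_eq_one, Units.val_one]
  have hu1 : (u : F) - 1 ≠ 0 := sub_ne_zero.2 fun e => by
    rw [show u = 1 from Units.ext (e.trans Units.val_one.symm), orderOf_one] at hu; omega
  exact (mul_eq_zero.1 (by linear_combination hu3 : ((u : F) - 1) * ((u : F) * u + u + 1) = 0)).resolve_left hu1

end CfsgLib.SL2.Bin
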