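import Mathlib
import Cfsg.Agent.Lib.SL2.BinBasic

/-!
Binary coset actions of `PSL(2, q)`: stabilizers of odd order.
-/

set_option autoImplicit false
set_option linter.unusedSectionVars false

namespace CfsgLib.SL2.Bin

open Matrix
open scoped MatrixGroups Pointwise
open CfsgLib.Binary CfsgLib.SL2

variable {F : Type*} [Field F] [Finite F]

local notation "PSL" => ProjectiveSpecialLinearGroup (Fin 2) F

theorem proj_neg' (A : SL(2, F)) : proj (-A) = proj A := by
  rw [show -A = -1 * A by simp, map_mul, (proj_eq_one_iff _).2 neg_one_mem_center, one_mul]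

/-- An element of trace `T` whose inverse times a semisimple `g` has trace `T'`. -/
theorem exists_trace_pair (g : SL(2, F)) (hg : Regular g) (T T' : F) :
    ∃ y : SL(2, F), (y : Matrix (Fin 2) (Fin 2) F).trace = T ∧
      ((y⁻¹ * g : SL(2, F)) : Matrix (Fin 2) (Fin 2) F).trace = T' := by
  set t := (g : Matrix (Fin 2) (Fin 2) F).trace with ht
  set D := 4 - t * t with hD'
  have hD : D ≠ 0 := sub_ne_zero.2 (Ne.symm hg)
  set A := (2 * T - t * T') / D with hA
  set B := (t * T - 2 * T') / D with hB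
  have e1 : 2 * A - t * B = T := by rw [hA, hB]; field_simp; rw [hD']; ring
  have e2 : -t * A + 2 * B = -T' := by rw [hA, hB]; field_simp; rw [hD']; ring
  obtain ⟨a0, b0, hab0⟩ := exists_norm_eq (-t)
    (-(A * A - t * A * B + B * B - T * A + T' * B + 1)) (Or.inl (by rw [neg_mul_neg]; exact hg))
  obtain ⟨a, b, hab⟩ : ∃ a b : F, a * a - t * a * b + b * b - T * a + T' * b + 1 = 0 :=
    ⟨A + a0, B + b0, by linear_combination hab0 + a0 * e1 + b0 * e2⟩
  obtain ⟨P, hP, hgP⟩ := exists_companion _ hg.nonScalar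
  rw [g.det_coe, ← ht] at hgP
  set Y : Matrix (Fin 2) (Fin 2) F := !![a, b; T' + b - a * t, T - a] with hY
  have hu : IsUnit P.det := isUnit_iff_ne_zero.2 hP
  have hYdet : (P * Y * P⁻¹).det = 1 := by
    rw [Matrix.det_conj (P.isUnit_iff_isUnit_det.2 hu), hY, Matrix.det_fin_two_of]
    linear_combination -hab
  obtain ⟨y, hy⟩ : ∃ y : SL(2, F), (y : Matrix (Fin 2) (Fin 2) F) = P * Y * P⁻¹ :=
    ⟨⟨_, hYdet⟩, rfl⟩
  refine ⟨y, ?_, ?_⟩
  · rw [hy, Matrix.trace_mul_cycle, Matrix.nonsing_inv_mul P hu, Matrix.one_mul, hY,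
      Matrix.trace_fin_two_of]
    ring
  · rw [Matrix.SpecialLinearGroup.coe_mul, coe_inv_eq, hy]
    show (((P * Y * P⁻¹).trace • (1 : Matrix (Fin 2) (Fin 2) F) - P * Y * P⁻¹) *
      (g : Matrix (Fin 2) (Fin 2) F)).trace = T'
    have hg' : (g : Matrix (Fin 2) (Fin 2) F) = P * !![0, -1; 1, t] * P⁻¹ := by
      rw [← hgP, Matrix.mul_assoc, Matrix.mul_nonsing_inv P hu, Matrix.mul_one]
    have hprod : P * Y * P⁻¹ * (g : Matrix (Fin 2) (Fin 2) F) =
        P * (Y * !![0, -1; 1, t]) * P⁻¹ := by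
      rw [hg']
      simp only [Matrix.mul_assoc]
      rw [← Matrix.mul_assoc P⁻¹ P, Matrix.nonsing_inv_mul P hu, Matrix.one_mul]
    rw [Matrix.sub_mul, Matrix.smul_mul, Matrix.one_mul, hprod, Matrix.trace_sub,
      Matrix.trace_smul, ← ht, smul_eq_mul, Matrix.trace_mul_cycle P (Y * _) P⁻¹,
      Matrix.trace_mul_cycle P Y P⁻¹, Matrix.nonsing_inv_mul P hu, Matrix.one_mul, Matrix.one_mul,
      hY, Matrix.trace_fin_two_of, Matrix.trace_fin_two]
    simp [Matrix.mul_apply, Fin.sum_univ_two]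
    ring

theorem commute_of_mem_torus {Y W : SL(2, F)} (h : proj W ∈ torus (proj Y)) : Y * W = W * Y := by
  rw [torus_eq (g := Y) rfl] at h
  obtain ⟨m, hm, e⟩ := h
  refine mem_cent_iff.1 ?_
  rcases eq_or_eq_neg_of_proj_eq e with rfl | rfl
  · exact hm
  · rw [show -m = -1 * m by simp]
    exact mul_mem (center_le_cent Y neg_one_mem_center) hm

theorem hat_le_torus_conj {H : Subgroup PSL} {x k : PSL} (h : hat H x ≤ torus x) :
    hat H (k * x * k⁻¹) ≤ torus (k * x * k⁻¹) := by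
  intro g hg
  have hm := mem_torus_conj k (h (mem_hat_conj.1 hg))
  simpa [mul_assoc] using hm

/-- A semisimple element whose closure lies in its torus excludes binarity, apart from order three
without cube roots of unity in characteristic two. -/
theorem not_binary_of_semi (p : ℕ) [Fact p.Prime] [CharP F p] {H : Subgroup PSL} (hb : IsBinary H)
    {A : SL(2, F)} (hs : Census.Semi p (proj A)) (hx : hat H (proj A) ≤ torus (proj A))
    (hexc : (2 : F) ≠ 0 ∨ (A : Matrix (Fin 2) (Fin 2) F).trace ≠ 1 ∨ ∃ ω : F, ω * ω + ω + 1 = 0) :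
    False := by
  have hA : Regular A := regular_of_semi p rfl hs
  set τ := (A : Matrix (Fin 2) (Fin 2) F).trace with hτ
  have hreg : ∀ Y : SL(2, F), ((Y : Matrix (Fin 2) (Fin 2) F).trace = τ ∨
      (Y : Matrix (Fin 2) (Fin 2) F).trace = -τ) → ∃ k : PSL, k * proj A * k⁻¹ = proj Y := by
    have key : ∀ B : SL(2, F), (B : Matrix (Fin 2) (Fin 2) F).trace = τ →
        ∃ k : PSL, k * proj A * k⁻¹ = proj B := by
      intro B hB
      have hBr : Regular B := by unfold Regular; rw [hB]; exact hA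
      obtain ⟨k, hk⟩ := isConj_of_trace hA.nonScalar hBr.nonScalar hB.symm (Or.inl hA)
      exact ⟨proj k, by rw [← map_inv, ← map_mul, ← map_mul, hk]⟩
    rintro Y (h | h)
    · exact key Y h
    · rw [← proj_neg' Y]
      exact key (-Y) (by rw [Matrix.SpecialLinearGroup.coe_neg, Matrix.trace_neg, h, neg_neg])
  have tri : ∀ Y Z : SL(2, F), ((Y : Matrix (Fin 2) (Fin 2) F).trace = τ ∨
      (Y : Matrix (Fin 2) (Fin 2) F).trace = -τ) → ((Z : Matrix (Fin 2) (Fin 2) F).trace = τ ∨
      (Z : Matrix (Fin 2) (Fin 2) F).trace = -τ) → (((Y * Z : SL(2, F)) : Matrix (Fin 2) (Fin 2) F).trace = τ ∨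
      ((Y * Z : SL(2, F)) : Matrix (Fin 2) (Fin 2) F).trace = -τ) → Y * Z = Z * Y := by
    intro Y Z hY hZ hYZ
    obtain ⟨kY, hkY⟩ := hreg Y hY
    obtain ⟨kZ, hkZ⟩ := hreg Z hZ
    obtain ⟨kP, hkP⟩ := hreg (Y * Z) hYZ
    have tY : hat H (proj Y) ≤ torus (proj Y) := hkY ▸ hat_le_torus_conj hx
    have tZ : hat H (proj Z) ≤ torus (proj Z) := hkZ ▸ hat_le_torus_conj hx
    have tP : hat H (proj (Y * Z)) ≤ torus (proj (Y * Z)) := hkP ▸ hat_le_torus_conj hx
    have sY : Census.Semi p (proj Y) := hkY ▸ Census.semi_conj hs kY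
    have sP : Census.Semi p (proj (Y * Z)) := hkP ▸ Census.semi_conj hs kP
    obtain ⟨g, hga, hgb, hgc⟩ := hb.exists_hat (map_mul proj Y Z)
    by_cases hg : g = 1
    · rw [hg, inv_one, one_mul] at hgc
      have h := commute_of_mem_torus (tZ hgc)
      exact (mul_right_cancel (b := Z) (by rw [mul_assoc Z Y Z]; exact h)).symm
    · have e1 := torus_eq_of_mem p sP (tP hga) hg
      have e2 := torus_eq_of_mem p sY (tY hgb) hg
      have hm : proj (Y * Z) ∈ torus (proj Y) := by rw [← e2, e1]; exact mem_torus _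
      have h := commute_of_mem_torus hm
      exact mul_left_cancel (a := Y) (by rw [h, mul_assoc])
  by_cases hcase : τ = τ * τ - 2 ∧ (2 : F) = 0
  · obtain ⟨hτ2, h2⟩ := hcase
    have hτ1 : τ = 1 := by
      have h0 : τ * (τ - 1) = 0 := by linear_combination -hτ2 + h2
      rcases mul_eq_zero.1 h0 with e | e
      · exact absurd (show τ * τ = 4 by rw [e, show (4 : F) = 2 * 2 by norm_num, h2]) hA
      · exact sub_eq_zero.1 e
    obtain ⟨ω, hω⟩ : ∃ ω : F, ω * ω + ω + 1 = 0 :=
      (hexc.resolve_left fun h => h h2).resolve_left fun h => h hτ1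
    obtain ⟨Y, hY⟩ : ∃ Y : SL(2, F), (Y : Matrix (Fin 2) (Fin 2) F) = !![0, -1; 1, 1] :=
      ⟨⟨_, by simp [Matrix.det_fin_two_of]⟩, rfl⟩
    obtain ⟨Z, hZ⟩ : ∃ Z : SL(2, F), (Z : Matrix (Fin 2) (Fin 2) F) = !![ω, 0; ω, 1 + ω] :=
      ⟨⟨_, by rw [Matrix.det_fin_two_of]; linear_combination hω - h2⟩, rfl⟩
    have h := tri Y Z (Or.inl (by rw [hY, Matrix.trace_fin_two_of, hτ1]; ring))
      (Or.inl (by rw [hZ, Matrix.trace_fin_two_of, hτ1]; linear_combination ω * h2))
      (Or.inl (by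
        rw [Matrix.SpecialLinearGroup.coe_mul, hY, hZ, hτ1, Matrix.trace_fin_two]
        simp [Matrix.mul_apply, Fin.sum_univ_two]))
    have e := congrArg (fun M : SL(2, F) => (M : Matrix (Fin 2) (Fin 2) F) 0 0) h
    simp only [Matrix.SpecialLinearGroup.coe_mul, hY, hZ] at e
    simp [Matrix.mul_apply, Fin.sum_univ_two] at e
    rw [e] at hω
    simp at hω
  · obtain ⟨T', hT', hT'2⟩ : ∃ T' : F, (T' = τ ∨ T' = -τ) ∧ T' ≠ τ * τ - 2 := by
      by_cases e : τ = τ * τ - 2
      · refine ⟨-τ, Or.inr rfl, fun e' => ?_⟩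
        have h2 : (2 : F) ≠ 0 := fun h => hcase ⟨e, h⟩
        have h0 : τ = 0 := (mul_eq_zero.1 (by linear_combination e - e' : (2 : F) * τ = 0)).resolve_left h2
        rw [h0] at e
        exact h2 (by linear_combination e)
      · exact ⟨τ, Or.inl rfl, e⟩
    have hT'4 : T' ≠ 2 := fun e => hA (by
      rcases hT' with h | h <;> rw [e] at h <;> show τ * τ = 4
      · rw [← h]; norm_num
      · rw [show τ = -2 by linear_combination h]; norm_num)
    obtain ⟨Y, hY1, hY2⟩ := exists_trace_pair A hA τ T'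
    have h := tri Y (Y⁻¹ * A) (Or.inl hY1) (hT'.imp (hY2.trans ·) (hY2.trans ·))
      (Or.inl (by rw [mul_inv_cancel_left]))
    have hc : Y ∈ cent A := mem_cent_iff.2 (by
      rw [mul_inv_cancel_left, mul_assoc] at h
      calc A * Y = Y * (Y⁻¹ * (A * Y)) := by group
        _ = Y * A := by rw [← h])
    rcases eq_or_eq_inv_of_trace hA hc hY1 with e | e
    · rw [e, inv_mul_cancel] at hY2
      exact hT'4 (by rw [← hY2]; simp)
    · rw [e, inv_inv] at hY2
      apply hT'2
      rw [← hY2, coe_mul_self, Matrix.trace_sub, Matrix.trace_smul, Matrix.trace_one, Fintype.card_fin,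
        smul_eq_mul]
      norm_num [hτ]

/-- A stabilizer inside a Borel subgroup contains no semisimple element. -/
theorem not_semi_of_borel (p : ℕ) [Fact p.Prime] [CharP F p] {H : Subgroup PSL} (hb : IsBinary H)
    {x k : PSL} (hxH : x ∈ H) (hk : ∀ h ∈ H, k * h * k⁻¹ ∈ borelPSL F) (hs : Census.Semi p x) :
    False := by
  obtain ⟨A, hA⟩ := proj_surjective (k * x * k⁻¹)
  have hsA : Census.Semi p (proj A) := hA ▸ Census.semi_conj hs k
  have hA10 : (A : Matrix (Fin 2) (Fin 2) F) 1 0 = 0 := proj_mem_borelPSL.1 (hA ▸ hk x hxH)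
  have hdet := det_eq A
  rw [hA10, mul_zero, sub_zero] at hdet
  have hne : (A : Matrix (Fin 2) (Fin 2) F) 0 0 - (A : Matrix (Fin 2) (Fin 2) F) 1 1 ≠ 0 := by
    intro e
    refine regular_of_semi p rfl hsA ?_
    rw [Matrix.trace_fin_two]
    rw [sub_eq_zero] at e
    rw [e] at hdet ⊢
    linear_combination 4 * hdet
  set s := (A : Matrix (Fin 2) (Fin 2) F) 0 1 /
    ((A : Matrix (Fin 2) (Fin 2) F) 0 0 - (A : Matrix (Fin 2) (Fin 2) F) 1 1) with hsdef
  set D := up s * A * up (-s) with hD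
  have hD10 : (D : Matrix (Fin 2) (Fin 2) F) 1 0 = 0 := by
    simp [hD, mul_entry, up_coe, hA10]
  have hD01 : (D : Matrix (Fin 2) (Fin 2) F) 0 1 = 0 := by
    simp [hD, mul_entry, up_coe, hA10, hsdef]
    field_simp
    ring
  set k' := proj (up s) * k with hk'
  have hxD : proj D = k' * x * k'⁻¹ := by
    rw [hD, hk', map_mul, map_mul, hA, up_neg, map_inv]
    group
  have hk'B : ∀ h ∈ H, k' * h * k'⁻¹ ∈ borelPSL F := fun h hh => by
    have hu : proj (up s) ∈ borelPSL F := upperPSL_le_borelPSL (proj_up_mem_upperPSL s)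
    have := mul_mem (mul_mem hu (hk h hh)) (inv_mem hu)
    simpa [hk', mul_assoc] using this
  obtain ⟨W, hW⟩ : ∃ W : SL(2, F), (W : Matrix (Fin 2) (Fin 2) F) = !![0, 1; -1, 0] :=
    ⟨⟨_, by simp [Matrix.det_fin_two_of]⟩, rfl⟩
  have hWD : W * D = D⁻¹ * W := by
    apply Subtype.ext
    simp only [Matrix.SpecialLinearGroup.coe_mul, coe_inv_eq, hW]
    ext i j
    fin_cases i <;> fin_cases j <;>
      simp [Matrix.mul_apply, Matrix.vecMul, dotProduct, Fin.sum_univ_two, hD10, hD01, Matrix.trace_fin_two]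
  have hDdet := det_eq D
  rw [hD10, hD01, mul_zero, sub_zero] at hDdet
  have hfix1 : k'⁻¹ * proj D * k' ∈ H := by simpa [hxD, mul_assoc] using hxH
  have hfix2 : (proj W * k')⁻¹ * proj D * (proj W * k') ∈ H := by
    have e : proj W⁻¹ * proj D * proj W = proj D⁻¹ := by
      rw [← map_mul, ← map_mul]
      congr 1
      have : D * W = W * D⁻¹ := by
        calc D * W = D * (W * D) * D⁻¹ := by group
          _ = W * D⁻¹ := by rw [hWD]; group
      rw [mul_assoc, this, inv_mul_cancel_left]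
    rw [_root_.mul_inv_rev, show k'⁻¹ * (proj W)⁻¹ * proj D * (proj W * k') =
      k'⁻¹ * ((proj W)⁻¹ * proj D * proj W) * k' by group, ← map_inv, e, map_inv, hxD]
    simpa [mul_assoc] using hxH
  have hsD : Census.Semi p (proj D) := hxD ▸ Census.semi_conj hs k'
  have htor : hat H (proj D) ≤ torus (proj D) := by
    intro g hg
    obtain ⟨Y, rfl⟩ := proj_surjective g
    have h1 := hk'B _ (conj_mem_of_mem_hat hfix1 hg)
    have h2 := hk'B _ (conj_mem_of_mem_hat hfix2 hg)
    rw [show k' * (k'⁻¹ * proj Y * k') * k'⁻¹ = proj Y by group, proj_mem_borelPSL] at h1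
    rw [show k' * ((proj W * k')⁻¹ * proj Y * (proj W * k')) * k'⁻¹ = (proj W)⁻¹ * proj Y * proj W by group,
      ← map_inv, ← map_mul, ← map_mul, proj_mem_borelPSL, Matrix.SpecialLinearGroup.coe_mul,
      Matrix.SpecialLinearGroup.coe_mul, coe_inv_eq, hW] at h2
    simp [Matrix.mul_apply, Matrix.vecMul, dotProduct, Fin.sum_univ_two, Matrix.trace_fin_two] at h2
    rw [torus_eq (g := D) rfl]
    refine ⟨Y, mem_cent_iff.2 ?_, rfl⟩
    apply Subtype.ext
    simp only [Matrix.SpecialLinearGroup.coe_mul]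
    ext i j
    fin_cases i <;> fin_cases j <;>
      simp [Matrix.mul_apply, Fin.sum_univ_two, hD10, hD01, h1, h2] <;> ring
  refine not_binary_of_semi p hb hsD htor ?_
  by_cases ht : (D : Matrix (Fin 2) (Fin 2) F).trace = 1
  · refine Or.inr (Or.inr ⟨-(D : Matrix (Fin 2) (Fin 2) F) 0 0, ?_⟩)
    rw [Matrix.trace_fin_two] at ht
    linear_combination (D : Matrix (Fin 2) (Fin 2) F) 0 0 * ht - hDdet
  · exact Or.inr (Or.inl ht)

/-- A stabilizer inside a root group excludes binarity in odd characteristic. -/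
theorem not_upper_of_binary (h2 : (2 : F) ≠ 0) {H : Subgroup PSL} (hb : IsBinary H) (hne : H ≠ ⊥)
    {k : PSL} (hk : ∀ h ∈ H, k * h * k⁻¹ ∈ upperPSL F) : False := by
  obtain ⟨x, hxH, hx1⟩ := H.bot_or_exists_ne_one.resolve_left hne
  obtain ⟨s, hs⟩ := mem_upperPSL_up (hk x hxH)
  have hs0 : s ≠ 0 := fun e => hx1 (conj_eq_one_iff.1 (by rw [← hs, e, up_zero, map_one]))
  have hfix : ∀ r, (r = s ∨ r = -s) → k⁻¹ * proj (up r) * k ∈ H := by
    rintro r (rfl | rfl)
    · simpa [hs, mul_assoc] using hxH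
    · rw [up_neg, map_inv, hs]
      simpa [mul_assoc] using inv_mem hxH
  have hU : ∀ r, (r = s ∨ r = -s) → hat H (proj (up r)) ≤ upperPSL F := by
    intro r hr g hg
    simpa [mul_assoc] using hk _ (conj_mem_of_mem_hat (hfix r hr) hg)
  obtain ⟨M, hM⟩ : ∃ M : SL(2, F), (M : Matrix (Fin 2) (Fin 2) F) = !![0, s / 2; -2 / s, 0] :=
    ⟨⟨_, by simp [Matrix.det_fin_two_of]; field_simp⟩, rfl⟩
  set L := lo (2 / s) with hL
  have hrel : L * up (-s) * L⁻¹ = -(up s * (M * up s * M⁻¹)) := by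
    apply Subtype.ext
    simp only [Matrix.SpecialLinearGroup.coe_mul, Matrix.SpecialLinearGroup.coe_neg, coe_inv_eq,
      hM, hL, up_coe, lo_coe]
    ext i j
    fin_cases i <;> fin_cases j <;>
      simp [Matrix.mul_apply, Matrix.vecMul, dotProduct, Fin.sum_univ_two, Matrix.trace_fin_two] <;>
      field_simp <;> ring
  obtain ⟨g, hga, hgb, hgc⟩ := hb.exists_hat (a := proj (L * up (-s) * L⁻¹)) (b := proj (up s))
    (c := proj (M * up s * M⁻¹)) (by rw [hrel, proj_neg', map_mul])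
  rw [map_mul, map_mul, map_inv] at hga
  obtain ⟨r, hr⟩ := mem_upperPSL_up (hU (-s) (Or.inr rfl) (mem_hat_conj.1 hga))
  obtain ⟨t, ht⟩ := mem_upperPSL_up (hU s (Or.inl rfl) hgb)
  have hg1 : g = 1 := by
    have e : proj (L * up r * L⁻¹) = proj (up t) := by
      rw [map_mul, map_mul, map_inv, hr, ht]; group
    have h10 := fun z : SL(2, F) => congrArg (fun N : SL(2, F) => (N : Matrix (Fin 2) (Fin 2) F) 1 0) (a₁ := up t) (a₂ := z)
    have hr0 : r = 0 := by
      rcases eq_or_eq_neg_of_proj_eq e with f | f <;>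
      · have := h10 _ f
        simp only [Matrix.SpecialLinearGroup.coe_mul, Matrix.SpecialLinearGroup.coe_neg, coe_inv_eq,
          hL, up_coe, lo_coe] at this
        simp [Matrix.mul_apply, Matrix.vecMul, dotProduct, Fin.sum_univ_two, Matrix.trace_fin_two] at this
        field_simp at this
        simp [h2] at this
        first
          | exact this
          | exact (mul_eq_zero.1 (by linear_combination this : (4 : F) * r = 0)).resolve_left
              (by rw [show (4 : F) = 2 * 2 by norm_num]; exact mul_ne_zero h2 h2)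
          | exact (mul_eq_zero.1 (by linear_combination -this : (4 : F) * r = 0)).resolve_left
              (by rw [show (4 : F) = 2 * 2 by norm_num]; exact mul_ne_zero h2 h2)
    rw [← ht, ← e, hr0, up_zero, mul_one, mul_inv_cancel, map_one]
  rw [hg1, inv_one, one_mul, map_mul proj (M * up s), map_mul proj M, map_inv] at hgc
  obtain ⟨r', hr'⟩ := mem_upperPSL_up (hU s (Or.inl rfl) (mem_hat_conj.1 hgc))
  have e : proj (M * up r' * M⁻¹) = proj (L * up (-s) * L⁻¹) := by
    rw [map_mul, map_mul, map_inv, hr']; group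
  rcases eq_or_eq_neg_of_proj_eq e with f | f <;>
  · have := congrArg (fun N : SL(2, F) => (N : Matrix (Fin 2) (Fin 2) F) 0 1) f
    simp only [Matrix.SpecialLinearGroup.coe_mul, Matrix.SpecialLinearGroup.coe_neg, coe_inv_eq,
      hM, hL, up_coe, lo_coe] at this
    simp [Matrix.mul_apply, Matrix.vecMul, dotProduct, Fin.sum_univ_two, Matrix.trace_fin_two, hs0] at this

/-- The binary stabilizers of odd order. -/
theorem odd_case {H : Subgroup PSL} (hH : H ≠ ⊤) (hb : IsBinary H) (hne : H ≠ ⊥)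
    (hodd : ¬ 2 ∣ Nat.card H) :
    (2 : F) = 0 ∧ (¬ ∃ ω : F, ω * ω + ω + 1 = 0) ∧ Nat.card H = 3 := by
  obtain ⟨p, hchar⟩ := CharP.exists F
  have : Fact p.Prime := ⟨CharP.char_is_prime F p⟩
  rcases dickson p H with ⟨c, hcH, hc, (⟨-, h⟩ | ⟨⟨e⟩⟩)⟩ | ⟨k, hk⟩ | ⟨⟨e⟩⟩ | ⟨⟨e⟩⟩ | ⟨⟨e⟩⟩ | h
  · have hc1 : c ≠ 1 := fun e => hne ((Subgroup.card_eq_one).1 (by rw [h, e, orderOf_one]))
    have hs : Census.Semi p c := ⟨hc1, hc⟩
    have hz : Subgroup.zpowers c = H :=
      Subgroup.eq_of_le_of_card_ge (Subgroup.zpowers_le.2 hcH) (by rw [Nat.card_zpowers, h])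
    obtain ⟨A, rfl⟩ := proj_surjective c
    have hx : hat H (proj A) ≤ torus (proj A) :=
      (hat_le hcH).trans (hz ▸ Subgroup.zpowers_le.2 (mem_torus _))
    by_contra hgoal
    refine not_binary_of_semi p hb hs hx ?_
    by_contra hex
    push Not at hex
    obtain ⟨h2, ht, hω⟩ := hex
    refine hgoal ⟨h2, fun ⟨ω, h⟩ => hω ω h, ?_⟩
    rw [h]
    have : Fact (Nat.Prime 3) := ⟨Nat.prime_three⟩
    refine orderOf_eq_prime ?_ hc1
    rw [← map_pow, proj_eq_one_iff]
    have e : A ^ 3 = -1 := by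
      apply Subtype.ext
      rw [pow_succ, pow_two, Matrix.SpecialLinearGroup.coe_mul, coe_mul_self, ht, one_smul,
        Matrix.sub_mul, Matrix.one_mul, ← Matrix.SpecialLinearGroup.coe_mul, coe_mul_self, ht, one_smul,
        Matrix.SpecialLinearGroup.coe_neg, Matrix.SpecialLinearGroup.coe_one]
      abel
    rw [e]
    exact neg_one_mem_center
  · exact absurd ⟨orderOf c, by rw [Nat.card_congr e.toEquiv, DihedralGroup.nat_card]⟩ hodd
  · exfalso
    by_cases hU : ∀ h ∈ H, k * h * k⁻¹ ∈ upperPSL F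
    · refine not_upper_of_binary (fun h2 => ?_) hb hne hU
      obtain ⟨x, hxH, hx1⟩ := H.bot_or_exists_ne_one.resolve_left hne
      have hp2 : (p : ℕ) = 2 :=
        ((Nat.dvd_prime Nat.prime_two).1 ((CharP.cast_eq_zero_iff F p 2).1 (by exact_mod_cast h2))).resolve_left
          (Fact.out : p.Prime).ne_one
      subst hp2
      obtain ⟨s, hs⟩ := mem_upperPSL_up (hU x hxH)
      have h1 : (k * x * k⁻¹) ^ 2 = 1 := by
        rw [← hs, ← map_pow, pow_two, ← up_add, CharTwo.add_self_eq_zero, up_zero, map_one]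
      rw [conj_pow, conj_eq_one_iff] at h1
      refine hodd ?_
      have h2' : orderOf x = 2 := orderOf_eq_prime h1 hx1
      have h3 := Subgroup.orderOf_dvd_natCard H hxH
      rwa [h2'] at h3
    · push Not at hU
      obtain ⟨h, hh, hhU⟩ := hU
      have h1 : h ≠ 1 := fun e => hhU (by rw [e, mul_one, mul_inv_cancel]; exact one_mem _)
      rcases semi_or_orderOf p h h1 with ho | hs
      · refine hhU (mem_upperPSL_of_pow p (hk h hh) ?_)
        rw [conj_pow, show h ^ p = 1 from ho ▸ pow_orderOf_eq_one h, mul_one, mul_inv_cancel]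
      · exact not_semi_of_borel p hb hh hk hs
  · exact absurd (by rw [Nat.card_congr e.toEquiv, card_alternating_four]; norm_num) hodd
  · exact absurd (by rw [Nat.card_congr e.toEquiv, card_perm_four]; norm_num) hodd
  · exact absurd (by rw [Nat.card_congr e.toEquiv, card_alternating_five]; norm_num) hodd
  · obtain ⟨j, m, -, hj, -, hcard⟩ := card_subfield_shape hH h
    refine absurd ?_ hodd
    obtain ⟨i, rfl⟩ : ∃ i, j = i + 1 := ⟨j - 1, by omega⟩
    rw [show i + 1 - 1 = i by omega] at hcard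
    rcases Nat.even_or_odd i with ⟨l, hl⟩ | ⟨l, hl⟩
    · rcases hcard with e | e
      · rw [Nat.gcd_eq_left (by omega : 2 ∣ i)] at e
        refine ⟨(i + 1) * (l * (l + 1)), ?_⟩
        rw [hl] at e ⊢
        linarith [e]
      · exact ⟨(i + 1) * (l * (i + 2)), by rw [e, hl]; ring⟩
    · have hg : Nat.gcd 2 i = 1 := by
        rw [Nat.gcd_rec, show i % 2 = 1 by omega, Nat.gcd_one_left]
      rw [hg, one_mul, or_self] at hcard
      exact ⟨(l + 1) * (i * (i + 2)), by rw [hcard, hl]; ring⟩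

end CfsgLib.SL2.Bin
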