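import Mathlib
import Cfsg.Agent.Lib.SL2.BinOdd
import Cfsg.Agent.Lib.SL2.BinEven
import Cfsg.Agent.Lib.SL2.BinSemi
import Cfsg.Agent.Lib.SL2.BinPos

/-!
The binary coset actions of `PSL(2, q)`.
-/

set_option autoImplicit false

namespace CfsgLib.SL2.Bin

open CfsgLib.Binary CfsgLib.SL2

theorem binary_iff {F : Type*} [Field F] [Fintype F] (h4 : 4 ≤ Fintype.card F)
    (h5 : Fintype.card F ≠ 5) (H : Subgroup (Matrix.ProjectiveSpecialLinearGroup (Fin 2) F))
    (hH : H ≠ ⊤) :
    IsBinary H ↔
      (H = ⊥ ∨ ((∃ a : ℕ, Fintype.card F = 2 ^ a) ∧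
          ∃ P : Sylow 2 (Matrix.ProjectiveSpecialLinearGroup (Fin 2) F), H = P) ∨
        ((∃ a : ℕ, Odd a ∧ Fintype.card F = 2 ^ a) ∧ Nat.card H = 3)) := by
  have hc : Nat.card F = Fintype.card F := Nat.card_eq_fintype_card
  have hpow : ∀ [CharP F 2], ∃ a : ℕ, Fintype.card F = 2 ^ a := fun {_} => by
    obtain ⟨n, -, hn⟩ := FiniteField.card F 2
    exact ⟨n, hn⟩
  constructor
  · intro hb
    by_cases hne : H = ⊥
    · exact Or.inl hne
    right
    by_cases h2 : 2 ∣ Nat.card H
    · rcases Nat.even_or_odd (Nat.card F) with he | ho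
      · have := charP_two (F := F) he
        have : Fact (Nat.Prime 2) := ⟨Nat.prime_two⟩
        rcases sylow_or_borel (by omega) hH hb h2 with hP | ⟨k, hB, h, hh, hhU⟩
        · exact Or.inl ⟨hpow, hP⟩
        · exfalso
          have h1 : h ≠ 1 := fun e => hhU (by rw [e, mul_one, mul_inv_cancel]; exact one_mem _)
          rcases semi_or_orderOf 2 h h1 with ho | hs
          · refine hhU (mem_upperPSL_of_pow 2 (hB h hh) ?_)
            rw [conj_pow, show h ^ 2 = 1 from (congrArg (h ^ ·) ho).symm.trans (pow_orderOf_eq_one h), mul_one, mul_inv_cancel]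
          · exact not_semi_of_borel 2 hb hh hB hs
      · exfalso
        have := Nat.odd_iff.1 ho
        exact odd_card_stabilizer ho (by omega) hH hb h2
    · obtain ⟨h20, hω, h3⟩ := odd_case hH hb hne h2
      have : CharP F 2 := by
        obtain ⟨p, hchar⟩ := CharP.exists F
        have hp : p.Prime := CharP.char_is_prime F p
        have hd := (CharP.cast_eq_zero_iff F p 2).1 (by exact_mod_cast h20)
        rw [Nat.prime_dvd_prime_iff_eq hp Nat.prime_two] at hd
        exact hd ▸ hchar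
      obtain ⟨a, ha⟩ := hpow
      exact Or.inr ⟨⟨a, odd_exponent_of_no_root ha h4 hω, ha⟩, h3⟩
  · rintro (rfl | ⟨⟨a, ha⟩, P, rfl⟩ | ⟨⟨a, hao, ha⟩, h3⟩)
    · exact binary_bot
    · have := charP_two (F := F) (by
        rw [hc, ha]
        refine Nat.even_pow.2 ⟨even_two, ?_⟩
        rintro rfl
        norm_num at ha
        omega)
      exact binary_sylow P
    · have := charP_two (F := F) (by rw [hc, ha]; exact Nat.even_pow.2 ⟨even_two, hao.pos.ne'⟩)
      exact binary_three (not_root_of_odd_pow hao ha) h3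

end CfsgLib.SL2.Bin
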