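import Mathlib
import Cfsg.Prelude.Def_LocalEven
import Cfsg.Agent.Lib.SL2.Dickson

/-!
Coordinates for a faithful natural `SL₂(F)`-module inside an ambient group, with the chosen Sylow
subgroup upper unitriangular.
-/

set_option autoImplicit false
set_option linter.style.haveILetI false

open Matrix
open scoped MatrixGroups

namespace CfsgLib.SL2.Natural

variable {G : Type*} [Group G] {F : Type*} [Field F]

/-- A frame: an isomorphism `ρ : L ≃ SL(2, F)` and coordinates `f : F² → V` intertwining conjugation, with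
`T` the upper unitriangular subgroup. -/
structure Frame (F : Type*) [Field F] (V L T : Subgroup G) where
  ρ : L ≃* SL(2, F)
  f : (Fin 2 → F) → G
  f_add : ∀ v w, f (v + w) = f v * f w
  f_inj : Function.Injective f
  mem_V : ∀ x, x ∈ V ↔ ∃ v, f v = x
  conj : ∀ (l : L) (v : Fin 2 → F), (l : G) * f v * (l : G)⁻¹ =
    f (((ρ l : SL(2, F)) : Matrix (Fin 2) (Fin 2) F).mulVec v)
  T_le : T ≤ L
  mem_T : ∀ l : L, (l : G) ∈ T ↔ ∃ t : F, ρ l = CfsgLib.SL2.up t

theorem charP_of_card [Fintype F] {p n : ℕ} [Fact p.Prime] (hF : Fintype.card F = p ^ n) :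
    CharP F p := by
  obtain ⟨q, hq⟩ := CharP.exists F
  obtain ⟨m, hqp, hm⟩ := FiniteField.card F q
  have hn : n ≠ 0 := by
    rintro rfl
    have := Fintype.one_lt_card (α := F)
    rw [hF] at this
    simp at this
  have : q = p := by
    have h1 : q ∣ p ^ n := by rw [← hF, hm]; exact dvd_pow_self q m.pos.ne'
    exact (Nat.prime_dvd_prime_iff_eq hqp Fact.out).mp (hqp.dvd_of_dvd_pow h1)
  exact this ▸ hq

theorem exists_frame [Finite G] [Fintype F] {p n : ℕ} [Fact p.Prime] (hF : Fintype.card F = p ^ n)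
    {V L : Subgroup G} (hnat : Cfsg.IsNaturalSL2Module F V L)
    (hf : L ⊓ Subgroup.centralizer (V : Set G) = ⊥) (S : Sylow p L) {T : Subgroup G}
    (hT : T = (S : Subgroup L).map L.subtype) : Nonempty (Frame F V L T) := by
  haveI := charP_of_card hF
  obtain ⟨-, ρ, ψ, hsurj, hker, hact⟩ := hnat
  have hinj : Function.Injective ρ := by
    rw [← MonoidHom.ker_eq_bot_iff, hker, Subgroup.eq_bot_iff_forall]
    intro l hl
    have : (l : G) ∈ L ⊓ Subgroup.centralizer (V : Set G) := ⟨l.2, hl⟩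
    rw [hf, Subgroup.mem_bot] at this
    exact Subtype.ext this
  let e : L ≃* SL(2, F) := MulEquiv.ofBijective ρ ⟨hinj, hsurj⟩
  obtain ⟨g, hg⟩ := CfsgLib.SL2.exists_conj_upperSL p (S.mapSurjective (f := e.toMonoidHom) e.surjective)
  let M : Matrix (Fin 2) (Fin 2) F := (g : Matrix (Fin 2) (Fin 2) F)
  let f : (Fin 2 → F) → G := fun v => ((Additive.toMul (ψ.symm (M.mulVec v)) : V) : G)
  have hgg : M * ((g⁻¹ : SL(2, F)) : Matrix (Fin 2) (Fin 2) F) = 1 := by
    rw [← Matrix.SpecialLinearGroup.coe_mul, mul_inv_cancel]; rfl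
  have hgg' : ((g⁻¹ : SL(2, F)) : Matrix (Fin 2) (Fin 2) F) * M = 1 := by
    rw [← Matrix.SpecialLinearGroup.coe_mul, inv_mul_cancel]; rfl
  refine ⟨⟨e.trans (MulAut.conj g⁻¹), f, ?_, ?_, ?_, ?_, hT ▸ Subgroup.map_subtype_le _, ?_⟩⟩
  · intro v w
    simp only [f, Matrix.mulVec_add, map_add, toMul_add, Subgroup.coe_mul]
  · intro v w h
    have h1 : M.mulVec v = M.mulVec w := ψ.symm.injective (Additive.toMul.injective (Subtype.ext h))
    have h2 := congrArg (((g⁻¹ : SL(2, F)) : Matrix (Fin 2) (Fin 2) F).mulVec) h1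
    rwa [Matrix.mulVec_mulVec, Matrix.mulVec_mulVec, hgg', Matrix.one_mulVec, Matrix.one_mulVec] at h2
  · intro x
    constructor
    · intro hx
      refine ⟨((g⁻¹ : SL(2, F)) : Matrix (Fin 2) (Fin 2) F).mulVec (ψ (Additive.ofMul ⟨x, hx⟩)), ?_⟩
      simp only [f, Matrix.mulVec_mulVec, hgg, Matrix.one_mulVec, AddEquiv.symm_apply_apply]
      rfl
    · rintro ⟨v, rfl⟩
      exact SetLike.coe_mem _
  · intro l v
    obtain ⟨w, hw, hψ⟩ := hact l (Additive.toMul (ψ.symm (M.mulVec v)))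
    rw [show Additive.ofMul (Additive.toMul (ψ.symm (M.mulVec v))) = ψ.symm (M.mulVec v) from rfl,
      AddEquiv.apply_symm_apply] at hψ
    have hrw : M.mulVec ((((e.trans (MulAut.conj g⁻¹)) l : SL(2, F)) :
        Matrix (Fin 2) (Fin 2) F).mulVec v) = ψ (Additive.ofMul w) := by
      rw [hψ, Matrix.mulVec_mulVec, Matrix.mulVec_mulVec]
      congr 1
      simp only [MulEquiv.trans_apply, MulAut.conj_apply, inv_inv,
        Matrix.SpecialLinearGroup.coe_mul]
      rw [← Matrix.mul_assoc, ← Matrix.mul_assoc, hgg, Matrix.one_mul]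
      rfl
    simp only [f, hrw, AddEquiv.symm_apply_apply]
    exact hw.symm
  · intro l
    have h1 : (l : G) ∈ T ↔ e l ∈ ((S.mapSurjective (f := e.toMonoidHom) e.surjective : Sylow p SL(2, F)) :
        Subgroup SL(2, F)) := by
      rw [hT]
      change _ ↔ e l ∈ (S : Subgroup L).map e.toMonoidHom
      constructor
      · rintro ⟨s, hs, hsl⟩
        exact ⟨s, hs, congrArg e (Subtype.ext hsl)⟩
      · rintro ⟨s, hs, hsl⟩
        exact ⟨s, hs, congrArg Subtype.val (e.injective hsl)⟩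
    rw [h1, hg]
    constructor
    · rintro ⟨_, ⟨b, rfl⟩, hb⟩
      refine ⟨b.toAdd, ?_⟩
      simp only [MulEquiv.trans_apply, MulAut.conj_apply, inv_inv, ← hb]
      change g⁻¹ * (g * CfsgLib.SL2.upperHom b * g⁻¹) * g = _
      simp only [CfsgLib.SL2.up, ofAdd_toAdd]
      group
    · rintro ⟨t, ht⟩
      refine ⟨CfsgLib.SL2.up t, ⟨_, rfl⟩, ?_⟩
      simp only [MulEquiv.trans_apply, MulAut.conj_apply, inv_inv] at ht
      change g * CfsgLib.SL2.up t * g⁻¹ = e l
      rw [← ht]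
      group

section
variable {V L T : Subgroup G} (R : Frame F V L T)
include R

theorem Frame.f_zero : R.f 0 = 1 := by
  have h := R.f_add 0 0
  rw [zero_add] at h
  simpa using h

theorem Frame.f_neg (v : Fin 2 → F) : R.f (-v) = (R.f v)⁻¹ := by
  apply eq_inv_of_mul_eq_one_left
  rw [← R.f_add, neg_add_cancel, R.f_zero]

theorem Frame.comm (v : Fin 2 → F) (l : L) : R.f v * (l : G) * (R.f v)⁻¹ * (l : G)⁻¹ =
    R.f (v - ((R.ρ l : SL(2, F)) : Matrix (Fin 2) (Fin 2) F).mulVec v) := by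
  rw [sub_eq_add_neg, R.f_add, ← Matrix.mulVec_neg, ← R.conj, R.f_neg]
  group

theorem Frame.exists_up (t : F) : ∃ l : L, (l : G) ∈ T ∧ R.ρ l = CfsgLib.SL2.up t :=
  ⟨R.ρ.symm (CfsgLib.SL2.up t), (R.mem_T _).mpr ⟨t, R.ρ.apply_symm_apply _⟩, R.ρ.apply_symm_apply _⟩

theorem Frame.centralizes_iff (v : Fin 2 → F) (l : L) {t : F} (ht : R.ρ l = CfsgLib.SL2.up t) :
    (l : G) * R.f v = R.f v * (l : G) ↔ t * v 1 = 0 := by
  rw [← mul_inv_eq_iff_eq_mul, R.conj, R.f_inj.eq_iff, ht, CfsgLib.SL2.up_coe]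
  constructor
  · intro h
    have := congrFun h 0
    simpa [Matrix.mulVec, dotProduct, Fin.sum_univ_two] using this
  · intro h
    funext i
    fin_cases i <;> simp [Matrix.mulVec, dotProduct, Fin.sum_univ_two, h]

theorem Frame.mem_fix (x : G) :
    x ∈ V ⊓ Subgroup.centralizer (T : Set G) ↔ ∃ a : F, R.f ![a, 0] = x := by
  constructor
  · rintro ⟨hxV, hxC⟩
    obtain ⟨v, rfl⟩ := (R.mem_V x).mp hxV
    obtain ⟨l, hl, ht⟩ := R.exists_up 1
    have h := (R.centralizes_iff v l ht).mp (Subgroup.mem_centralizer_iff.mp hxC _ hl)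
    rw [one_mul] at h
    refine ⟨v 0, congrArg R.f ?_⟩
    funext i
    fin_cases i <;> simp [h]
  · rintro ⟨a, rfl⟩
    refine ⟨(R.mem_V _).mpr ⟨_, rfl⟩, ?_⟩
    change _ ∈ Subgroup.centralizer _
    rw [Subgroup.mem_centralizer_iff]
    intro l hl
    obtain ⟨t, ht⟩ := (R.mem_T ⟨l, R.T_le hl⟩).mp hl
    exact (R.centralizes_iff _ ⟨l, R.T_le hl⟩ ht).mpr (by simp)

theorem Frame.card_V : Nat.card V = Nat.card F ^ 2 := by
  rw [show Nat.card V = Nat.card (Fin 2 → F) from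
    (Nat.card_congr (Equiv.ofBijective (fun v => (⟨R.f v, (R.mem_V _).mpr ⟨v, rfl⟩⟩ : V))
      ⟨fun a b h => R.f_inj (congrArg Subtype.val h), fun x => by
        obtain ⟨v, hv⟩ := (R.mem_V x.1).mp x.2
        exact ⟨v, Subtype.ext hv⟩⟩)).symm,
    Nat.card_fun, Nat.card_fin]

theorem Frame.card_fix : Nat.card ↥(V ⊓ Subgroup.centralizer (T : Set G)) = Nat.card F :=
  (Nat.card_congr (Equiv.ofBijective
    (fun a : F => (⟨R.f ![a, 0], (R.mem_fix _).mpr ⟨a, rfl⟩⟩ :
      ↥(V ⊓ Subgroup.centralizer (T : Set G))))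
    ⟨fun a b h => by
      have := congrFun (R.f_inj (congrArg Subtype.val h)) 0
      simpa using this,
    fun x => by
      obtain ⟨a, ha⟩ := (R.mem_fix x.1).mp x.2
      exact ⟨a, Subtype.ext ha⟩⟩)).symm

theorem Frame.borel_normalizes (g : L) (h : (R.ρ g).1 1 0 = 0) :
    (g : G) ∈ Subgroup.normalizer (T : Set G) := by
  have key : ∀ g : L, (R.ρ g).1 1 0 = 0 → ∀ x ∈ T, (g : G) * x * (g : G)⁻¹ ∈ T := by
    intro g h x hx
    obtain ⟨t, ht⟩ := (R.mem_T ⟨x, R.T_le hx⟩).mp hx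
    refine (R.mem_T (g * ⟨x, R.T_le hx⟩ * g⁻¹)).mpr ?_
    rw [map_mul, map_mul, map_inv, ht]
    obtain ⟨h10, h00⟩ := CfsgLib.SL2.conj_up_entries (R.ρ g) t
    exact ⟨_, CfsgLib.SL2.eq_up_of_entries (by rw [h10, h]; simp) (h00 h)⟩
  rw [Subgroup.mem_normalizer_iff]
  refine fun x => ⟨key g h x, fun hx => ?_⟩
  have := key g⁻¹ (by rw [map_inv]; simpa using (CfsgLib.SL2.inv_entries (R.ρ g)).2.2.1.trans (by rw [h, neg_zero])) _ hx
  simpa [mul_assoc] using this

/-- The diagonal element with eigenvalue `a` on the fixed line. -/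
theorem Frame.exists_diag (a : F) (ha : a ≠ 0) :
    ∃ l : L, (l : G) ∈ L ⊓ Subgroup.normalizer (T : Set G) ∧
      ∀ x y : F, (l : G) * R.f ![x, y] * (l : G)⁻¹ = R.f ![a * x, a⁻¹ * y] := by
  let d : SL(2, F) := ⟨!![a, 0; 0, a⁻¹], by simp [Matrix.det_fin_two_of, ha]⟩
  refine ⟨R.ρ.symm d, ⟨SetLike.coe_mem _, R.borel_normalizes _ (by rw [R.ρ.apply_symm_apply]; rfl)⟩,
    fun x y => ?_⟩
  rw [R.conj, R.ρ.apply_symm_apply]
  congr 1
  funext i
  fin_cases i <;> simp [d, Matrix.mulVec, dotProduct, Fin.sum_univ_two]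

end

end CfsgLib.SL2.Natural
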