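import Mathlib
import Cfsg.Agent.S2431
import Cfsg.Agent.S0262
import Cfsg.Agent.Lib.SL2.Unipotent

/-!
# Redundant Sylow subgroups of `SL_2(q)`
-/

set_option autoImplicit false

namespace Cfsg.Agent.SL2Redundant

open CfsgLib.SL2 Matrix
open scoped MatrixGroups Pointwise

/-- Every element of prime power order lies in a Sylow subgroup other than `Q`, for some `Q`. -/
def Red (G : Type*) [Group G] (p : ℕ) : Prop :=
  ∃ Q : Sylow p G, ∀ x : G, (∃ k : ℕ, orderOf x = p ^ k) → ∃ P : Sylow p G, P ≠ Q ∧ x ∈ P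

variable {G : Type*} [Group G] [Finite G] {p : ℕ} [Fact p.Prime]

theorem pow_of_mem (P : Sylow p G) {x : G} (hx : x ∈ P) : ∃ k : ℕ, orderOf x = p ^ k := by
  obtain ⟨k, hk⟩ := IsPGroup.iff_orderOf.mp P.isPGroup' ⟨x, hx⟩
  exact ⟨k, by rwa [← Subgroup.orderOf_coe] at hk⟩

theorem isPGroup_zpowers {x : G} (hx : ∃ k : ℕ, orderOf x = p ^ k) : IsPGroup p (Subgroup.zpowers x) := by
  obtain ⟨k, hk⟩ := hx
  exact IsPGroup.of_card (n := k) (by rw [Nat.card_zpowers, hk])

theorem not_red_of_cyclic (h : ∀ Q : Sylow p G, IsCyclic (Q : Subgroup G)) : ¬ Red G p := by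
  rintro ⟨Q, hQ⟩
  obtain ⟨c, hc⟩ := (h Q).exists_generator
  obtain ⟨P, hne, hP⟩ := hQ c (pow_of_mem Q c.2)
  refine hne (Sylow.ext ?_)
  refine Q.is_maximal' P.isPGroup' fun y hy => ?_
  obtain ⟨i, hi⟩ := Subgroup.mem_zpowers_iff.mp (hc ⟨y, hy⟩)
  have hi' : (c : G) ^ i = y := by rw [← Subgroup.coe_zpow]; exact congrArg Subtype.val hi
  exact hi' ▸ Subgroup.zpow_mem _ hP i

/-- Red transfers along a surjection with central kernel. -/
theorem red_iff_of_surjective {H : Type*} [Group H] (f : G →* H) (hf : Function.Surjective f)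
    (hker : f.ker ≤ Subgroup.center G) : Red G p ↔ Red H p := by
  haveI : Finite H := Finite.of_surjective f hf
  have mem : ∀ (P : Sylow p G) (x : G), (∃ k : ℕ, orderOf x = p ^ k) →
      (f x ∈ (P : Subgroup G).map f ↔ x ∈ P) := by
    intro P x hx
    refine ⟨fun h => ?_, fun h => ⟨x, h, rfl⟩⟩
    obtain ⟨u, hu, hux⟩ := h
    have hz : u⁻¹ * x ∈ Subgroup.center G := hker (MonoidHom.mem_ker.mpr (by
      rw [map_mul, map_inv, hux, inv_mul_cancel]))
    have hN : Subgroup.zpowers x ≤ Subgroup.normalizer ((P : Subgroup G) : Set G) := by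
      rw [Subgroup.zpowers_le]
      have h1 : x = u * (u⁻¹ * x) := (mul_inv_cancel_left _ _).symm
      rw [h1]
      exact mul_mem (Subgroup.le_normalizer hu) (Subgroup.center_le_normalizer _ hz)
    have hsup := IsPGroup.to_sup_of_normal_right' (isPGroup_zpowers hx) P.isPGroup' hN
    show x ∈ (P : Subgroup G)
    rw [← P.is_maximal' hsup le_sup_right]
    exact Subgroup.mem_sup_left (Subgroup.mem_zpowers x)
  have lift : ∀ y : H, (∃ k : ℕ, orderOf y = p ^ k) → ∃ x, f x = y ∧ ∃ k : ℕ, orderOf x = p ^ k := by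
    rintro y ⟨k, hk⟩
    obtain ⟨x, rfl⟩ := hf y
    obtain ⟨a, m, hm, hxm⟩ := Nat.exists_eq_pow_mul_and_not_dvd (orderOf_pos x).ne' p (Fact.out : p.Prime).ne_one
    have hcop : Nat.Coprime m (orderOf (f x)) := by
      rw [hk]; exact (((Fact.out : p.Prime).coprime_iff_not_dvd.mpr hm).pow_left k).symm
    obtain ⟨j, hj⟩ := exists_pow_eq_self_of_coprime hcop
    refine ⟨(x ^ m) ^ j, by rw [map_pow, map_pow, hj], ?_⟩
    have h1 : orderOf ((x ^ m) ^ j) ∣ p ^ a := orderOf_dvd_of_pow_eq_one (by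
      rw [← pow_mul, ← pow_mul, show m * (j * p ^ a) = orderOf x * j by rw [hxm]; ring, pow_mul,
        pow_orderOf_eq_one, one_pow])
    obtain ⟨i, -, hi⟩ := (Nat.dvd_prime_pow Fact.out).mp h1
    exact ⟨i, hi⟩
  have inj : ∀ P Q : Sylow p G, P.mapSurjective hf = Q.mapSurjective hf → P = Q := by
    intro P Q h
    refine (Sylow.ext (P.is_maximal' Q.isPGroup' fun y hy => ?_)).symm
    have h1 : (P : Subgroup G).map f = (Q : Subgroup G).map f := congrArg Sylow.toSubgroup h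
    exact (mem Q y (pow_of_mem P hy)).mp (h1 ▸ ⟨y, hy, rfl⟩)
  constructor
  · rintro ⟨Q, hQ⟩
    refine ⟨Q.mapSurjective hf, fun y hy => ?_⟩
    obtain ⟨x, rfl, hx⟩ := lift y hy
    obtain ⟨P, hne, hP⟩ := hQ x hx
    exact ⟨P.mapSurjective hf, fun h => hne (inj P Q h), ⟨x, hP, rfl⟩⟩
  · rintro ⟨Q', hQ'⟩
    obtain ⟨Q, rfl⟩ := Sylow.mapSurjective_surjective hf p Q'
    refine ⟨Q, fun x hx => ?_⟩
    obtain ⟨k, hk⟩ := hx
    obtain ⟨i, -, hi⟩ := (Nat.dvd_prime_pow (Fact.out : p.Prime)).mp (hk ▸ orderOf_map_dvd f x)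
    obtain ⟨P', hne, hP'⟩ := hQ' (f x) ⟨i, hi⟩
    obtain ⟨P, rfl⟩ := Sylow.mapSurjective_surjective hf p P'
    exact ⟨P, fun h => hne (h ▸ rfl), (mem P x ⟨k, hk⟩).mp hP'⟩

variable {F : Type*} [Field F] [Fintype F]

/-- In the defining characteristic there is no redundant Sylow subgroup. -/
theorem not_red_char (r : ℕ) [Fact r.Prime] [CharP F r] : ¬ Red SL(2, F) r := by
  rintro ⟨Q, hQ⟩
  obtain ⟨g, hg⟩ := exists_conj_upperSL r Q
  have hcomm : ∀ P : Sylow r SL(2, F), ∀ a ∈ P, ∀ b ∈ P, a * b = b * a := by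
    intro P a ha b hb
    obtain ⟨g', hg'⟩ := exists_conj_upperSL r P
    obtain ⟨_, ⟨u, rfl⟩, rfl⟩ : a ∈ (upperHom (F := F)).range.map (MulAut.conj g').toMonoidHom := hg' ▸ ha
    obtain ⟨_, ⟨v, rfl⟩, rfl⟩ : b ∈ (upperHom (F := F)).range.map (MulAut.conj g').toMonoidHom := hg' ▸ hb
    rw [← map_mul, ← map_mul, ← map_mul, ← map_mul, mul_comm u v]
  set b : Multiplicative F := Multiplicative.ofAdd 1
  set x := g * upperHom b * g⁻¹ with hx
  have hxQ : x ∈ Q := by
    show x ∈ (Q : Subgroup SL(2, F))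
    rw [hg]
    exact ⟨upperHom b, ⟨b, rfl⟩, rfl⟩
  have hns : NonScalar (x : Matrix (Fin 2) (Fin 2) F) := by
    by_contra hn
    have hz := (mem_center_iff_not_nonScalar x).mpr hn
    have he : upperHom b = x := by
      calc upperHom b = g⁻¹ * x * g := by rw [hx]; group
        _ = x := by rw [mul_assoc, ← Subgroup.mem_center_iff.mp hz g, inv_mul_cancel_left]
    have hz' := (mem_center_iff_not_nonScalar (upperHom b)).mp (he ▸ hz)
    refine hz' ?_
    rw [nonScalar_iff]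
    simp [upperHom_coe, b]
  obtain ⟨P, hne, hP⟩ := hQ x (pow_of_mem Q hxQ)
  refine hne (Sylow.ext ?_)
  have hPN : (P : Subgroup SL(2, F)) ≤ Subgroup.normalizer ((Q : Subgroup SL(2, F)) : Set SL(2, F)) := by
    refine le_trans ?_ (Subgroup.centralizer_le_normalizer _)
    intro a ha
    rw [Subgroup.mem_centralizer_iff]
    intro c hc
    exact cent_comm hns (mem_cent_iff.mpr (hcomm Q x hxQ c hc))
      (mem_cent_iff.mpr (hcomm P x hP a ha))
  have hsup := IsPGroup.to_sup_of_normal_right' P.isPGroup' Q.isPGroup' hPN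
  rw [← Q.is_maximal' hsup le_sup_right]
  exact (P.is_maximal' hsup le_sup_left).symm

theorem regular_of_two (h20 : (2 : F) ≠ 0) {x : SL(2, F)} (hx : ∃ k : ℕ, orderOf x = 2 ^ k)
    (h1 : x ≠ 1) (h2 : x ≠ -1) : Regular x := by
  obtain ⟨r, hr⟩ := CharP.exists F
  haveI : Fact r.Prime := ⟨CharP.char_is_prime F r⟩
  by_contra hn
  obtain ⟨k, hk⟩ := hx
  have hd := orderOf_dvd_of_pow_eq_one (pow_two_mul_char_of_not_regular hn r)
  have hr2 : ¬ 2 ∣ r := fun h => h20 (by
    rw [((Nat.prime_dvd_prime_iff_eq Nat.prime_two (Fact.out : r.Prime)).mp h).symm] at hr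
    exact CharTwo.two_eq_zero)
  rw [hk] at hd
  have hd2 : 2 ^ k ∣ 2 :=
    ((Nat.prime_two.coprime_iff_not_dvd.mpr hr2).pow_left k).dvd_of_dvd_mul_right hd
  have hxx : x * x = 1 := by
    rw [← sq]; exact orderOf_dvd_iff_pow_eq_one.mp (hk ▸ hd2)
  exact h2 (eq_neg_one_of_mul_self h20 hxx h1)

/-- A torus of two-power order divisible by four forces uniqueness. -/
theorem not_red_two (hodd : Odd (Fintype.card F))
    (h : (∃ k : ℕ, Fintype.card F + 1 = 2 ^ k) ∨ ∃ k : ℕ, Fintype.card F = 2 ^ k + 1) :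
    ¬ Red SL(2, F) 2 := by
  rintro ⟨Q, hQ⟩
  have hodd' : Odd (Nat.card F) := by rwa [Nat.card_eq_fintype_card]
  have h20 : (2 : F) ≠ 0 := odd_card_two_ne_zero hodd'
  have hq2 := Nat.odd_iff.mp hodd
  have hq3 : 3 ≤ Fintype.card F := by have := Fintype.one_lt_card (α := F); omega
  obtain ⟨g, hg, hcyc, h4, hcard⟩ := exists_torus_four_dvd hodd'
  set N := Nat.card (cent g) with hN
  rw [Nat.card_eq_fintype_card (α := F)] at hcard
  have hNq : N = Fintype.card F - 1 ∨ N = Fintype.card F + 1 := by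
    rw [← Nat.card_eq_fintype_card]; exact (cent_regular hg).2
  obtain ⟨e, he⟩ : ∃ e, N = 2 ^ e := by
    rcases h with ⟨k, hk⟩ | ⟨k, hk⟩
    · rcases hNq with e | e
      · refine ⟨1, ?_⟩
        have h4' : 4 ∣ Fintype.card F - 1 := e ▸ h4
        rcases Nat.lt_or_ge k 2 with hk2 | hk2
        · interval_cases k <;> omega
        · have : 4 ∣ 2 ^ k := (show (4 : ℕ) = 2 ^ 2 by norm_num) ▸ Nat.pow_dvd_pow 2 hk2
          omega
      · exact ⟨k, e.trans hk⟩
    · rcases hNq with e | e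
      · exact ⟨k, by omega⟩
      · refine ⟨2, ?_⟩
        have h4' : 4 ∣ Fintype.card F + 1 := e ▸ h4
        rcases Nat.lt_or_ge k 2 with hk2 | hk2
        · interval_cases k <;> omega
        · have : 4 ∣ 2 ^ k := (show (4 : ℕ) = 2 ^ 2 by norm_num) ▸ Nat.pow_dvd_pow 2 hk2
          omega
  obtain ⟨gen, hgen⟩ := hcyc.exists_ofOrder_eq_natCard
  obtain ⟨h', hh'⟩ : ∃ h' : SL(2, F), h' * (gen : SL(2, F)) * h'⁻¹ ∈ Q := by
    obtain ⟨P, hP⟩ := (isPGroup_zpowers (p := 2) (x := (gen : SL(2, F)))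
      ⟨e, by rw [Subgroup.orderOf_coe, hgen, ← hN, he]⟩).exists_le_sylow
    obtain ⟨h', hh'⟩ := MulAction.exists_smul_eq SL(2, F) P Q
    refine ⟨h', ?_⟩
    rw [← hh']
    exact ⟨gen, hP (Subgroup.mem_zpowers _), rfl⟩
  set c := h' * (gen : SL(2, F)) * h'⁻¹ with hc
  have hco : orderOf c = N := by
    rw [hc, ← MulAut.conj_apply, MulEquiv.orderOf_eq, Subgroup.orderOf_coe, hgen]
  have hN4 : 4 ≤ N := Nat.le_of_dvd Nat.card_pos h4
  have hc1 : c ≠ 1 := fun e => by rw [e, orderOf_one] at hco; omega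
  have hc2 : c ≠ -1 := fun e => by rw [e, orderOf_neg_one h20] at hco; omega
  have hcr : Regular c := regular_of_two h20 ⟨e, hco.trans he⟩ hc1 hc2
  have hgn : NonScalar ((gen : SL(2, F)) : Matrix (Fin 2) (Fin 2) F) := by
    have : Regular (h'⁻¹ * c * (h'⁻¹)⁻¹) := hcr.conj h'⁻¹
    rw [show h'⁻¹ * c * (h'⁻¹)⁻¹ = (gen : SL(2, F)) by rw [hc]; group] at this
    exact this.nonScalar
  have hcc : Nat.card (cent c) = N := by
    rw [hN, ← cent_eq_of_mem hg.nonScalar hgn gen.2]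
    refine Nat.card_congr (((MulAut.conj h').toEquiv.subtypeEquiv fun y => ?_).symm)
    show y ∈ cent (gen : SL(2, F)) ↔ MulAut.conj h' y ∈ cent c
    rw [mem_cent_iff, mem_cent_iff, show c = MulAut.conj h' gen from rfl, ← map_mul, ← map_mul,
      (MulAut.conj h').injective.eq_iff]
  have hcz : cent c = Subgroup.zpowers c := (Subgroup.eq_of_le_of_card_ge
    (Subgroup.zpowers_le.mpr (self_mem_cent c)) (by rw [Nat.card_zpowers, hco, hcc])).symm
  have hNc : Nat.card (Subgroup.normalizer (cent c : Set SL(2, F))) = 2 ^ (e + 1) := by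
    rw [card_normalizer_cent hcr, hcc, he, pow_succ']
  have main : ∀ P : Sylow 2 SL(2, F), c ∈ P →
      (P : Subgroup SL(2, F)) = Subgroup.normalizer (cent c : Set SL(2, F)) := by
    intro P hP
    obtain ⟨R, hR⟩ := (IsPGroup.of_card hNc).exists_le_sylow
    have hge : 2 ^ (e + 1) ≤ Nat.card (P : Subgroup SL(2, F)) := by
      rw [P.card_eq_multiplicity, ← R.card_eq_multiplicity, ← hNc]
      exact Nat.card_le_card_of_injective _ (Subgroup.inclusion_injective hR)
    obtain ⟨i, hi⟩ := IsPGroup.iff_card.mp P.isPGroup'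
    have hd : 2 ^ i ∣ Fintype.card F * (N * (if Fintype.card F % 4 = 1 then Fintype.card F + 1 else Fintype.card F - 1)) := by
      rw [← hi]
      have := Subgroup.card_subgroup_dvd_card (P : Subgroup SL(2, F))
      rw [hcard] at this
      simpa [Nat.card_eq_fintype_card (α := F)] using this
    have hd1 := ((Nat.prime_two.coprime_iff_not_dvd.mpr (by omega)).pow_left i).dvd_of_dvd_mul_left hd
    obtain ⟨o, ho, ho2⟩ : ∃ o, ¬ 2 ∣ o ∧
        (if Fintype.card F % 4 = 1 then Fintype.card F + 1 else Fintype.card F - 1) = 2 * o := by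
      split_ifs with h4'
      · exact ⟨(Fintype.card F + 1) / 2, by omega, by omega⟩
      · exact ⟨(Fintype.card F - 1) / 2, by omega, by omega⟩
    rw [ho2, ← mul_assoc, he, ← pow_succ] at hd1
    have hd2 := ((Nat.prime_two.coprime_iff_not_dvd.mpr ho).pow_left i).dvd_of_dvd_mul_right hd1
    have hPc : Nat.card (P : Subgroup SL(2, F)) = 2 ^ (e + 1) :=
      le_antisymm (hi ▸ Nat.le_of_dvd (pow_pos two_pos _) hd2) hge
    have hle : cent c ≤ (P : Subgroup SL(2, F)) := hcz ▸ Subgroup.zpowers_le.mpr hP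
    refine Subgroup.eq_of_le_of_card_ge ?_ (by rw [hNc, hPc])
    have hidx : ((cent c).subgroupOf (P : Subgroup SL(2, F))).index = 2 := by
      have h1 := Subgroup.card_mul_index ((cent c).subgroupOf (P : Subgroup SL(2, F)))
      rw [Nat.card_congr (Subgroup.subgroupOfEquivOfLe hle).toEquiv, hcc, hPc, he, pow_succ] at h1
      exact Nat.eq_of_mul_eq_mul_left (pow_pos two_pos e) h1
    exact (Subgroup.normal_subgroupOf_iff_le_normalizer hle).mp (Subgroup.normal_of_index_eq_two hidx)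
  obtain ⟨P, hne, hP⟩ := hQ c (pow_of_mem Q hh')
  exact hne (Sylow.ext ((main P hP).trans (main Q hh').symm))

/-- Otherwise every two-element lies in several Sylow subgroups. -/
theorem red_two (hodd : Odd (Fintype.card F)) (h1 : ¬ ∃ k : ℕ, Fintype.card F + 1 = 2 ^ k)
    (h2 : ¬ ∃ k : ℕ, Fintype.card F = 2 ^ k + 1) : Red SL(2, F) 2 := by
  classical
  have hodd' : Odd (Nat.card F) := by rwa [Nat.card_eq_fintype_card]
  have h20 : (2 : F) ≠ 0 := odd_card_two_ne_zero hodd'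
  obtain ⟨Q⟩ : Nonempty (Sylow 2 SL(2, F)) := inferInstance
  refine ⟨Q, ?_⟩
  obtain ⟨k, hk, ⟨iso⟩⟩ := sylow_two_quaternion hodd' Q
  haveI : NeZero (2 ^ k) := ⟨by positivity⟩
  have hnc : ∃ a ∈ Q, ∃ b ∈ Q, a * b ≠ b * a := by
    refine ⟨iso.symm (QuaternionGroup.a 1), (iso.symm _).2, iso.symm (QuaternionGroup.xa 0),
      (iso.symm _).2, fun hc => ?_⟩
    have hc' : iso.symm (QuaternionGroup.a 1) * iso.symm (QuaternionGroup.xa 0) =
        iso.symm (QuaternionGroup.xa 0) * iso.symm (QuaternionGroup.a 1) := Subtype.ext hc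
    rw [← map_mul, ← map_mul, iso.symm.injective.eq_iff, QuaternionGroup.a_mul_xa,
      QuaternionGroup.xa_mul_a] at hc'
    injection hc' with hc'
    have h2' : ((2 : ℕ) : ZMod (2 * 2 ^ k)) = 0 := by push_cast; linear_combination -hc'
    rw [ZMod.natCast_eq_zero_iff] at h2'
    have := Nat.le_of_dvd two_pos h2'
    have : 2 ≤ 2 ^ k := Nat.le_self_pow (by omega) 2
    omega
  have main : ∀ x ∈ Q, x ≠ 1 → x ≠ -1 → ∃ P : Sylow 2 SL(2, F), P ≠ Q ∧ x ∈ P := by
    intro x hxQ hx1 hx2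
    have hxr : Regular x := regular_of_two h20 (pow_of_mem Q hxQ) hx1 hx2
    obtain ⟨o, ho, hoo, ho1⟩ : ∃ o ∈ cent x, Odd (orderOf o) ∧ o ≠ 1 := by
      set N := Nat.card (cent x) with hN
      obtain ⟨a, m, hm, hNm⟩ := Nat.exists_eq_two_pow_mul_odd (n := N) Nat.card_pos.ne'
      have hm1 : m ≠ 1 := fun e => by
        rw [e, mul_one] at hNm
        rcases (cent_regular hxr).2 with h' | h' <;> rw [← hN, hNm, Nat.card_eq_fintype_card] at h'
        · have := Fintype.one_lt_card (α := F)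
          exact h2 ⟨a, by omega⟩
        · exact h1 ⟨a, h'.symm⟩
      haveI : Fact m.minFac.Prime := ⟨Nat.minFac_prime hm1⟩
      obtain ⟨o, ho⟩ := exists_prime_orderOf_dvd_card' (G := cent x) m.minFac
        (by rw [← hN, hNm]; exact (Nat.minFac_dvd m).mul_left _)
      refine ⟨o, o.2, ?_, fun e => ?_⟩
      · rw [Subgroup.orderOf_coe, ho]; exact hm.of_dvd_nat (Nat.minFac_dvd m)
      · rw [← Subgroup.orderOf_coe, e, orderOf_one] at ho
        exact (Fact.out : m.minFac.Prime).ne_one ho.symm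
    refine ⟨o • Q, fun he => ?_, ?_⟩
    · have hoN : o ∈ Subgroup.normalizer ((Q : Subgroup SL(2, F)) : Set SL(2, F)) :=
        Sylow.smul_eq_iff_mem_normalizer.mp he
      set X := (cent x).subgroupOf (Q : Subgroup SL(2, F)) with hX
      have hXt : X < ⊤ := lt_top_iff_ne_top.mpr fun ht => by
        obtain ⟨a, ha, b, hb, hab⟩ := hnc
        exact hab (cent_comm hxr.nonScalar
          (show (⟨a, ha⟩ : (Q : Subgroup SL(2, F))) ∈ X from ht ▸ Subgroup.mem_top _)
          (show (⟨b, hb⟩ : (Q : Subgroup SL(2, F))) ∈ X from ht ▸ Subgroup.mem_top _))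
      haveI := Q.isPGroup'.isNilpotent
      obtain ⟨y, hyN, hyX⟩ := SetLike.exists_of_lt (normalizerCondition_of_isNilpotent X hXt)
      have hxm : y * ⟨x, hxQ⟩ * y⁻¹ ∈ X :=
        (Subgroup.mem_normalizer_iff.mp hyN _).mp (self_mem_cent x)
      have hyinv : (y : SL(2, F)) * x * (y : SL(2, F))⁻¹ = x⁻¹ := by
        rcases eq_or_eq_inv_of_trace hxr hxm (trace_conj (y : SL(2, F)) x) with h | h
        · exact absurd (show (y : SL(2, F)) ∈ cent x from mem_cent_iff.mpr (mul_inv_eq_iff_eq_mul.mp h).symm) hyX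
        · exact h
      have hyo := Cfsg.Agent.S2431.inverts_torus hxr hyinv ho
      have hoo2 : o⁻¹ * o⁻¹ ∈ Q := by
        have hm : (y : SL(2, F)) * (o * (y : SL(2, F))⁻¹ * o⁻¹) ∈ Q :=
          mul_mem y.2 ((Subgroup.mem_normalizer_iff.mp hoN _).mp (inv_mem y.2))
        rwa [← mul_assoc, ← mul_assoc, hyo] at hm
      obtain ⟨i, hi⟩ := pow_of_mem Q hoo2
      have hodd2 : Odd (orderOf (o⁻¹ * o⁻¹)) := by
        rw [← sq]; exact (orderOf_inv o ▸ hoo).of_dvd_nat (orderOf_pow_dvd 2)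
      rw [hi] at hodd2
      have hi0 : i = 0 := by
        by_contra h0
        exact absurd hodd2 (by rw [Nat.not_odd_iff_even]; exact (even_two.pow_of_ne_zero h0))
      rw [hi0, pow_zero, orderOf_eq_one_iff, ← sq, inv_pow, inv_eq_one, ← orderOf_dvd_iff_pow_eq_one] at hi
      rcases (Nat.dvd_prime Nat.prime_two).mp hi with e | e
      · exact ho1 (orderOf_eq_one_iff.mp e)
      · rw [e] at hoo; exact absurd hoo (by decide)
    · refine ⟨x, hxQ, ?_⟩
      show o * x * o⁻¹ = x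
      rw [← mem_cent_iff.mp ho, mul_inv_cancel_right]
  intro x hx
  by_cases hxQ : x ∈ Q
  · by_cases hc : x = 1 ∨ x = -1
    · obtain ⟨a, ha, b, hb, hab⟩ := hnc
      have ha1 : a ≠ 1 := fun e => hab (by rw [e, one_mul, mul_one])
      have ha2 : a ≠ -1 := fun e => hab (by
        rw [e]; exact ((Subgroup.mem_center_iff.mp neg_one_mem_center) b).symm)
      obtain ⟨P, hne, -⟩ := main a ha ha1 ha2
      refine ⟨P, hne, ?_⟩
      rcases hc with rfl | rfl
      · exact one_mem _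
      · obtain ⟨g, hg⟩ := MulAction.exists_smul_eq SL(2, F) Q P
        rw [← hg]
        refine ⟨-1, hxQ, ?_⟩
        show g * -1 * g⁻¹ = -1
        rw [Subgroup.mem_center_iff.mp neg_one_mem_center g, mul_inv_cancel_right]
    · push Not at hc
      exact main x hxQ hc.1 hc.2
  · obtain ⟨P, hP⟩ := (isPGroup_zpowers hx).exists_le_sylow
    exact ⟨P, fun e => hxQ (e ▸ hP (Subgroup.mem_zpowers x)), hP (Subgroup.mem_zpowers x)⟩

/-- The criterion for `SL_2(q)`. -/
theorem red_SL_iff : Red SL(2, F) p ↔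
    (p = 2 ∧ (¬ ∃ k : ℕ, Fintype.card F + 1 = 2 ^ k) ∧ (¬ ∃ k : ℕ, Fintype.card F = 2 ^ k) ∧
      ¬ ∃ k : ℕ, Fintype.card F = 2 ^ k + 1) := by
  obtain ⟨r, hr⟩ := CharP.exists F
  haveI : Fact r.Prime := ⟨CharP.char_is_prime F r⟩
  obtain ⟨n, -, hn⟩ := FiniteField.card F r
  by_cases hpr : p = r
  · subst hpr
    refine ⟨fun h => absurd h (not_red_char p), ?_⟩
    rintro ⟨rfl, -, h, -⟩
    exact absurd ⟨n, hn⟩ h
  by_cases hp : p = 2
  · subst hp
    have hr2 : Odd r := (Fact.out : r.Prime).odd_of_ne_two (Ne.symm hpr)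
    have hodd : Odd (Fintype.card F) := hn ▸ hr2.pow
    constructor
    · intro h
      refine ⟨rfl, fun he => not_red_two hodd (Or.inl he) h, ?_, fun he => not_red_two hodd (Or.inr he) h⟩
      rintro ⟨k, hk⟩
      rcases k with _ | k
      · have := Fintype.one_lt_card (α := F); rw [pow_zero] at hk; omega
      · rw [hk, Nat.odd_pow_iff (Nat.succ_ne_zero k)] at hodd; exact absurd hodd (by decide)
    · rintro ⟨-, h1, -, h2⟩
      exact red_two hodd h1 h2
  · exact ⟨fun h => absurd h (not_red_of_cyclic fun Q => Cfsg.Agent.S0262.result r p hp hpr Q),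
      fun h => absurd h.1 hp⟩

theorem red_PSL_iff : Red (Matrix.ProjectiveSpecialLinearGroup (Fin 2) F) p ↔
    (p = 2 ∧ (¬ ∃ k : ℕ, Fintype.card F + 1 = 2 ^ k) ∧ (¬ ∃ k : ℕ, Fintype.card F = 2 ^ k) ∧
      ¬ ∃ k : ℕ, Fintype.card F = 2 ^ k + 1) := by
  rw [← red_iff_of_surjective (G := SL(2, F))
    (QuotientGroup.mk' (Subgroup.center SL(2, F))) (QuotientGroup.mk'_surjective _)
    (QuotientGroup.ker_mk' _).le]
  exact red_SL_iff

end Cfsg.Agent.SL2Redundant
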