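import Mathlib
import Cfsg.Agent.Lib.SL2.Klein
import Cfsg.Agent.Lib.SL2.Solvable

/-!
Sylow `2`-subgroups of subgroups of `SL(2, q)` with non-normal Sylow `p`-subgroup.
-/

set_option autoImplicit false
set_option linter.unusedSectionVars false
set_option maxHeartbeats 400000

namespace CfsgLib.SL2

open Matrix
open scoped MatrixGroups Pointwise

/-- A non-commutative subgroup of a generalized quaternion group is generalized quaternion. -/
theorem quaternion_subgroup {k : ℕ} (S : Subgroup (QuaternionGroup (2 ^ k)))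
    (hS : ¬ ∀ x y : S, x * y = y * x) : ∃ j : ℕ, 1 ≤ j ∧ Nonempty (S ≃* QuaternionGroup (2 ^ j)) := by
  classical
  have : NeZero (2 ^ k) := ⟨by positivity⟩
  set A : Subgroup (QuaternionGroup (2 ^ k)) := Subgroup.zpowers (QuaternionGroup.a 1) with hA
  have hmemA : ∀ i, QuaternionGroup.a i ∈ A := fun i => ⟨(i.val : ℤ), by
    show QuaternionGroup.a 1 ^ (i.val : ℤ) = _
    rw [zpow_natCast, QuaternionGroup.a_one_pow, ZMod.natCast_zmod_val]⟩
  obtain ⟨g, hg⟩ := (Subgroup.isCyclic_iff_exists_zpowers_eq_top (S ⊓ A)).1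
    (isCyclic_of_injective (Subgroup.inclusion (inf_le_right : S ⊓ A ≤ A)) (Subgroup.inclusion_injective _))
  have hgS : g ∈ S := ((hg ▸ Subgroup.mem_zpowers g : g ∈ S ⊓ A)).1
  have hgA : g ∈ A := ((hg ▸ Subgroup.mem_zpowers g : g ∈ S ⊓ A)).2
  by_cases hx : ∃ i, QuaternionGroup.xa i ∈ S
  swap
  · exfalso
    push Not at hx
    refine hS fun x y => ?_
    obtain ⟨x, hxS⟩ := x
    obtain ⟨y, hyS⟩ := y
    refine Subtype.ext ?_
    rcases x with i | i
    · rcases y with j | j
      · show QuaternionGroup.a i * QuaternionGroup.a j = QuaternionGroup.a j * QuaternionGroup.a i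
        rw [QuaternionGroup.a_mul_a, QuaternionGroup.a_mul_a, add_comm]
      · exact absurd hyS (hx j)
    · exact absurd hxS (hx i)
  obtain ⟨i, hi⟩ := hx
  set w := QuaternionGroup.xa (n := 2 ^ k) i with hw
  have hww : w * w = QuaternionGroup.a (2 ^ k : ℕ) := by
    rw [hw, QuaternionGroup.xa_mul_xa, add_sub_cancel_right]
  have hinv : ∀ x ∈ A, w * x * w⁻¹ = x⁻¹ := by
    intro x hx
    obtain ⟨z, rfl⟩ := Subgroup.mem_zpowers_iff.1 hx
    rw [← conj_zpow, ← _root_.inv_zpow]
    congr 1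
    rw [mul_inv_eq_iff_eq_mul, hw, QuaternionGroup.xa_mul_a,
      show (QuaternionGroup.a (n := 2 ^ k) 1)⁻¹ = QuaternionGroup.a (-1) from inv_eq_of_mul_eq_one_right (by
        rw [QuaternionGroup.a_mul_a, add_neg_cancel, QuaternionGroup.a_zero]),
      QuaternionGroup.a_mul_xa, sub_neg_eq_add]
  obtain ⟨m, -, hm⟩ : ∃ m ≤ k + 1, orderOf g = 2 ^ m := by
    refine (Nat.dvd_prime_pow Nat.prime_two).1 ?_
    have := Subgroup.orderOf_dvd_natCard A hgA
    rwa [hA, Nat.card_zpowers, QuaternionGroup.orderOf_a_one, ← pow_succ'] at this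
  have hwwS : QuaternionGroup.a ((2 ^ k : ℕ) : ZMod (2 * 2 ^ k)) ∈ S ⊓ A := ⟨hww ▸ mul_mem hi hi, hmemA _⟩
  have hne : QuaternionGroup.a ((2 ^ k : ℕ) : ZMod (2 * 2 ^ k)) ≠ 1 := by
    rw [QuaternionGroup.one_def]
    intro e
    injection e with e
    rw [ZMod.natCast_eq_zero_iff] at e
    have := Nat.le_of_dvd (by positivity) e
    have : 0 < 2 ^ k := by positivity
    omega
  have hm1 : 1 ≤ m := by
    by_contra hlt
    rw [show m = 0 by omega, pow_zero, orderOf_eq_one_iff] at hm
    have h' : QuaternionGroup.a ((2 ^ k : ℕ) : ZMod (2 * 2 ^ k)) ∈ Subgroup.zpowers g := hg.symm ▸ hwwS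
    rw [hm, Subgroup.zpowers_one_eq_bot, Subgroup.mem_bot] at h'
    exact hne h'
  obtain ⟨j, rfl⟩ : ∃ j, m = j + 1 := ⟨m - 1, by omega⟩
  have : NeZero (2 ^ j) := ⟨by positivity⟩
  have horder : orderOf g = 2 * 2 ^ j := by rw [hm, pow_succ']
  have hsq : w * w = g ^ (2 ^ j) := by
    -- both are the involution of the cyclic group `A`
    have hz1 : orderOf (w * w) = 2 := by
      refine orderOf_eq_prime ?_ (hww ▸ hne)
      rw [hww, pow_two, QuaternionGroup.a_mul_a, QuaternionGroup.one_def]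
      congr 1
      rw [← Nat.cast_add, ZMod.natCast_eq_zero_iff, two_mul]
    have hz2 : orderOf (g ^ (2 ^ j)) = 2 := by
      rw [orderOf_pow' _ (by positivity), horder, Nat.gcd_eq_right (dvd_mul_left _ _),
        Nat.mul_div_cancel _ (by positivity)]
    -- an involution of `A` is `a (2 ^ k)`
    have key : ∀ x ∈ A, orderOf x = 2 → x = QuaternionGroup.a ((2 ^ k : ℕ) : ZMod (2 * 2 ^ k)) := by
      intro x hx hx2
      obtain ⟨z, rfl⟩ : ∃ z, QuaternionGroup.a z = x := by
        rcases x with z | z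
        · exact ⟨z, rfl⟩
        · exfalso
          have h4 := QuaternionGroup.orderOf_xa (n := 2 ^ k) z
          omega
      have h1 := pow_orderOf_eq_one (QuaternionGroup.a (n := 2 ^ k) z)
      rw [hx2, pow_two, QuaternionGroup.a_mul_a, QuaternionGroup.one_def] at h1
      injection h1 with h1
      have h1' : (z.val + z.val) % (2 * 2 ^ k) = 0 := by
        rw [← ZMod.val_add, h1, ZMod.val_zero]
      have hlt := ZMod.val_lt z
      have hz0 : z.val ≠ 0 := fun e => by
        rw [ZMod.val_eq_zero] at e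
        rw [e, ← QuaternionGroup.one_def, orderOf_one] at hx2
        omega
      congr 1
      rw [← ZMod.natCast_zmod_val z]
      congr 1
      rcases Nat.lt_or_ge (z.val + z.val) (2 * 2 ^ k) with h | h
      · rw [Nat.mod_eq_of_lt h] at h1'; omega
      · rw [Nat.mod_eq_sub_mod h, Nat.mod_eq_of_lt (by omega)] at h1'; omega
    rw [hww, key _ (pow_mem hgA _) hz2]
  have hwout : w ∉ Subgroup.zpowers g := by
    intro h
    have hwA : w ∈ A := Subgroup.zpowers_le.2 hgA h
    obtain ⟨n, hn⟩ : ∃ n : ℕ, QuaternionGroup.a (n := 2 ^ k) 1 ^ n = w :=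
      (Submonoid.mem_powers_iff _ _).1 (IsOfFinOrder.mem_powers_iff_mem_zpowers (isOfFinOrder_of_finite _) |>.2 hwA)
    rw [QuaternionGroup.a_one_pow, hw] at hn
    cases hn
  obtain ⟨f, hf, hr⟩ := CfsgLib.Classical.exists_quaternion_hom horder hsq (hinv g hgA) hwout
  have hS' : f.range = S := by
    rw [hr]
    refine le_antisymm ((Subgroup.closure_le _).2 ?_) fun x hx => ?_
    · rintro _ (rfl | rfl)
      · exact hgS
      · exact hi
    · have hcl : ∀ y ∈ S ⊓ A, y ∈ Subgroup.closure ({g, w} : Set (QuaternionGroup (2 ^ k))) := fun y hy =>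
        Subgroup.zpowers_le.2 (Subgroup.subset_closure (by simp)) (hg.symm ▸ hy)
      rcases x with l | l
      · exact hcl _ ⟨hx, hmemA l⟩
      · rw [show QuaternionGroup.xa l = w * (w⁻¹ * QuaternionGroup.xa l) by group]
        refine mul_mem (Subgroup.subset_closure (by simp)) (hcl _ ⟨S.mul_mem (S.inv_mem hi) hx, ?_⟩)
        have e : w * QuaternionGroup.a (l - i) = QuaternionGroup.xa l := by
          rw [hw, QuaternionGroup.xa_mul_a, add_sub_cancel]
        rw [← e, inv_mul_cancel_left]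
        exact hmemA _
  refine ⟨j, ?_, ⟨((MonoidHom.ofInjective hf).trans (MulEquiv.subgroupCongr hS')).symm⟩⟩
  by_contra hlt
  obtain rfl : j = 0 := by omega
  apply hS
  intro x y
  rw [pow_zero, pow_one] at hsq
  have hc : ∀ a b : QuaternionGroup (2 ^ 0), a * b = b * a := by decide
  obtain ⟨x', rfl⟩ := ((MonoidHom.ofInjective hf).trans (MulEquiv.subgroupCongr hS')).surjective x
  obtain ⟨y', rfl⟩ := ((MonoidHom.ofInjective hf).trans (MulEquiv.subgroupCongr hS')).surjective y
  rw [← map_mul, ← map_mul, hc]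

variable {F : Type*} [Field F] [Finite F] (p : ℕ) [hp : Fact p.Prime] [CharP F p]

local notation "PSL" => ProjectiveSpecialLinearGroup (Fin 2) F

theorem card_sylow_eq_one_of_conj_borel (H : Subgroup SL(2, F)) {k : PSL}
    (hk : ∀ h ∈ H.map proj, k * h * k⁻¹ ∈ borelPSL F) : Nat.card (Sylow p H) = 1 := by
  obtain ⟨K, rfl⟩ := proj_surjective k
  have hb : ∀ h : H, (K * (h : SL(2, F)) * K⁻¹).1 1 0 = 0 := by
    intro h
    have := hk _ ⟨h, h.2, rfl⟩
    rwa [← map_inv, ← map_mul, ← map_mul, proj_mem_borelPSL] at this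
  let χ : H →* F :=
    { toFun := fun h => (K * (h : SL(2, F)) * K⁻¹).1 0 0
      map_one' := by simp
      map_mul' := fun a b => by
        show (K * ((a : SL(2, F)) * b) * K⁻¹).1 0 0 = _
        rw [show K * ((a : SL(2, F)) * b) * K⁻¹ = (K * a * K⁻¹) * (K * b * K⁻¹) by group, mul_entry, hb b,
          mul_zero, add_zero] }
  have hp' : ∀ x : F, ∀ i : ℕ, x ^ (p ^ i) = 1 → x = 1 := fun x i h => by
    have : (x - 1) ^ (p ^ i) = 0 := by rw [sub_pow_char_pow, h, one_pow, sub_self]
    exact sub_eq_zero.1 (eq_zero_of_pow_eq_zero this)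
  let U : Subgroup H :=
    { carrier := {h | χ h = 1}
      one_mem' := map_one χ
      mul_mem' := fun {a b} ha hb => by
        show χ (a * b) = 1
        rw [map_mul, ha, hb, one_mul]
      inv_mem' := fun {a} ha => by
        show χ a⁻¹ = 1
        have := map_mul χ a⁻¹ a
        rw [inv_mul_cancel, map_one, (ha : χ a = 1), mul_one] at this
        exact this.symm }
  have hU : IsPGroup p U := by
    intro u
    refine ⟨1, Subtype.ext (Subtype.ext ?_)⟩
    set M := K * ((u : H) : SL(2, F)) * K⁻¹ with hM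
    have h00 : M.1 0 0 = 1 := u.2
    have h10 : M.1 1 0 = 0 := hb u
    have h11 : M.1 1 1 = 1 := by
      have hd := det_eq M
      rw [h00, h10, mul_zero, sub_zero, one_mul] at hd
      exact hd
    have hup : M = up (M.1 0 1) := ext2 (by simp [up_coe, h00]) (by simp [up_coe]) (by simp [up_coe, h10])
      (by simp [up_coe, h11])
    have hpow : ∀ n : ℕ, M ^ n = up ((n : F) * M.1 0 1) := by
      intro n
      induction n with
      | zero => simp [up_zero]
      | succ n ih => rw [pow_succ, ih]; nth_rewrite 2 [hup]; rw [← up_add]; congr 1; push_cast; ring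
    have h1 := hpow p
    rw [CharP.cast_eq_zero, zero_mul, up_zero, hM, conj_pow] at h1
    rw [pow_one]
    push_cast
    exact conj_eq_one_iff.1 h1
  have hPU : ∀ P : Sylow p H, (P : Subgroup H) ≤ U := fun P x hx => by
    obtain ⟨i, hi⟩ := P.2 ⟨x, hx⟩
    have hx' : x ^ (p ^ i) = 1 := congrArg Subtype.val hi
    exact hp' _ i (by rw [← map_pow, hx', map_one])
  rw [Nat.card_eq_one_iff_unique]
  exact ⟨⟨fun P Q => Sylow.ext ((P.3 hU (hPU P)).symm.trans (Q.3 hU (hPU Q)))⟩, inferInstance⟩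

theorem exists_four_of_card_sylow (hp2 : p ≠ 2) (H : Subgroup SL(2, F)) (hH : 1 < Nat.card (Sylow p H)) :
    ∃ φ : alternatingGroup (Fin 4) →* H.map proj, Function.Injective φ := by
  have hodd : Odd (Nat.card F) := by
    let _ := Fintype.ofFinite F
    obtain ⟨n, -, hn⟩ := FiniteField.card F p
    rw [Nat.card_eq_fintype_card, hn]
    exact (hp.out.odd_of_ne_two hp2).pow
  have hpdvd : p ∣ Nat.card H := by
    by_contra hnd
    obtain ⟨P⟩ := (inferInstance : Nonempty (Sylow p H))
    have hbot : ∀ P : Sylow p H, (P : Subgroup H) = ⊥ := fun P => by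
      apply Subgroup.eq_bot_of_card_eq
      rw [P.card_eq_multiplicity, Nat.factorization_eq_zero_of_not_dvd hnd, pow_zero]
    have : Subsingleton (Sylow p H) := ⟨fun P Q => Sylow.ext ((hbot P).trans (hbot Q).symm)⟩
    have := Finite.card_le_one_iff_subsingleton.2 this
    omega
  rcases dickson_maximal p (H.map proj) with ⟨c, -, hc, h⟩ | ⟨k, hk⟩ | ⟨⟨e⟩⟩ | ⟨⟨e⟩⟩ | ⟨⟨e⟩⟩ | h
  · exfalso
    have h1 : p ∣ Nat.card (H.map proj) := by
      have hle : Subgroup.center SL(2, F) ≤ H ⊔ Subgroup.center SL(2, F) := le_sup_right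
      have hmap : (H ⊔ Subgroup.center SL(2, F)).map proj = H.map proj := by
        have hz : (Subgroup.center SL(2, F)).map proj = ⊥ :=
          (Subgroup.map_eq_bot_iff _).2 (le_of_eq (QuotientGroup.ker_mk' _).symm)
        rw [Subgroup.map_sup, hz, sup_bot_eq]
      have h2 := card_map_proj hle
      rw [hmap, show Nat.gcd 2 (Nat.card F - 1) = 2 from dd_of_odd hodd] at h2
      have h3 : p ∣ 2 * Nat.card (H.map proj) :=
        h2 ▸ hpdvd.trans (Subgroup.card_dvd_of_le le_sup_left)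
      exact (hp.out.dvd_mul.1 h3).resolve_left fun e => hp2 ((Nat.prime_dvd_prime_iff_eq hp.out Nat.prime_two).1 e)
    have h2 := h1.trans (Subgroup.card_dvd_of_le h)
    rw [card_normalizer_torus p hc] at h2
    rcases hp.out.dvd_mul.1 h2 with h' | h'
    · exact hp2 ((Nat.prime_dvd_prime_iff_eq hp.out Nat.prime_two).1 h')
    · exact not_dvd_card_torus p hc h'
  · have := card_sylow_eq_one_of_conj_borel p H hk
    omega
  · exact ⟨e.symm.toMonoidHom, e.symm.injective⟩
  · exact exists_hom_of_perm_four e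
  · exact exists_hom_of_five e
  · obtain ⟨K, fK, fT, m, hm, hd⟩ := h
    rw [Fintype.card_eq_nat_card] at hm
    have hm0 : m ≠ 0 := by
      rintro rfl
      rw [pow_zero] at hm
      have : 1 < Nat.card F := Finite.one_lt_card
      omega
    have hKo : Odd (Nat.card K) := (Nat.odd_pow_iff hm0).1 (hm.symm ▸ hodd)
    obtain ⟨A, ⟨a⟩⟩ := exists_alternating_four (F := K) hKo
    rcases hd with ⟨⟨e⟩⟩ | ⟨⟨e⟩⟩
    · exact ⟨e.symm.toMonoidHom.comp (A.subtype.comp a.symm.toMonoidHom),
        e.symm.injective.comp (A.subtype_injective.comp a.symm.injective)⟩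
    · exact ⟨e.symm.toMonoidHom.comp (ProjectiveSpecialLinearGroup.toPGL.comp (A.subtype.comp a.symm.toMonoidHom)),
        e.symm.injective.comp (ProjectiveSpecialLinearGroup.toPGL_injective.comp
          (A.subtype_injective.comp a.symm.injective))⟩

theorem sylow_two_of_subgroup (hp2 : p ≠ 2) (H : Subgroup SL(2, F)) (hH : 1 < Nat.card (Sylow p H))
    (S : Sylow 2 H) : ∃ k : ℕ, 1 ≤ k ∧ Nonempty ((S : Subgroup H) ≃* QuaternionGroup (2 ^ k)) := by
  have hodd : Odd (Nat.card F) := by
    let _ := Fintype.ofFinite F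
    obtain ⟨n, -, hn⟩ := FiniteField.card F p
    rw [Nat.card_eq_fintype_card, hn]
    exact (hp.out.odd_of_ne_two hp2).pow
  have h2F := two_ne_zero_of_odd_card hodd
  obtain ⟨φ, hφ⟩ := exists_four_of_card_sylow p hp2 H hH
  obtain ⟨u, v, hu1, huu, hv1, hvv, huv, hcomm⟩ : ∃ u v : alternatingGroup (Fin 4),
      u ≠ 1 ∧ u * u = 1 ∧ v ≠ 1 ∧ v * v = 1 ∧ u ≠ v ∧ u * v = v * u := by
    decide +kernel
  obtain ⟨U, hUH, hU⟩ := (φ u).2
  obtain ⟨V, hVH, hV⟩ := (φ v).2
  have hψ : ∀ x, ((φ x : H.map proj) : PSL) = 1 → x = 1 := fun x hx =>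
    hφ ((Subtype.ext hx).trans (map_one φ).symm)
  have sq : ∀ (X : SL(2, F)) (x : alternatingGroup (Fin 4)), proj X = ((φ x : H.map proj) : PSL) →
      x ≠ 1 → x * x = 1 → X * X = -1 := by
    intro X x hX hx1 hxx
    have hX1 : proj (X * X) = 1 := by
      rw [map_mul, hX, ← Subgroup.coe_mul, ← map_mul, hxx, map_one]; rfl
    rcases eq_one_or_eq_neg_one_of_mem_center _ ((proj_eq_one_iff _).1 hX1) with e | e
    · exfalso
      apply hx1 (hψ x ?_)
      rw [← hX]
      by_cases hX0 : X = 1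
      · rw [hX0, map_one]
      · rw [eq_neg_one_of_mul_self h2F e hX0, proj_neg_one]
    · exact e
  have hUU := sq U u hU hu1 huu
  have hVV := sq V v hV hv1 hvv
  have hne : U * V ≠ V * U := by
    intro e
    have h1 : (U * V) * (U * V) = 1 := by
      calc U * V * (U * V) = U * (V * U) * V := by group
        _ = (U * U) * (V * V) := by rw [← e]; group
        _ = 1 := by rw [hUU, hVV]; simp
    have h2 : proj (U * V) = 1 := by
      by_cases h0 : U * V = 1
      · rw [h0, map_one]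
      · rw [eq_neg_one_of_mul_self h2F h1 h0, proj_neg_one]
    rw [map_mul, hU, hV, ← Subgroup.coe_mul, ← map_mul] at h2
    apply huv
    rw [eq_inv_of_mul_eq_one_left (hψ _ h2), inv_eq_of_mul_eq_one_right hvv]
  have hinv : V * U * V⁻¹ = U⁻¹ := by
    have hp' : proj (U * V) = proj (V * U) := by
      rw [map_mul, map_mul, hU, hV, ← Subgroup.coe_mul, ← Subgroup.coe_mul, ← map_mul, ← map_mul, hcomm]
    rcases eq_or_eq_neg_of_proj_eq hp' with e | e
    · exact absurd e.symm hne
    · rw [show U⁻¹ = -U from inv_eq_of_mul_eq_one_right (by rw [mul_neg, hUU, neg_neg]), mul_inv_eq_iff_eq_mul, e,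
        neg_mul]
  let U' : H := ⟨U, hUH⟩
  let V' : H := ⟨V, hVH⟩
  have ho : orderOf U' = 2 * 2 := by
    rw [Subgroup.orderOf_mk]
    exact orderOf_of_mul_self h2F hUU
  obtain ⟨f, hf, hfr⟩ := CfsgLib.Classical.exists_quaternion_hom (n := 2) ho
    (show V' * V' = U' ^ 2 from Subtype.ext (by show V * V = _; rw [hVV]; simp [U', pow_two, hUU]))
    (Subtype.ext (by show V * U * V⁻¹ = U⁻¹; exact hinv))
    (fun h => hne (by
      obtain ⟨z, hz⟩ := Subgroup.mem_zpowers_iff.1 h
      have hz' : U ^ z = V := congrArg Subtype.val hz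
      rw [← hz']
      exact ((Commute.refl U).zpow_right z).eq))
  have hf2 : IsPGroup 2 f.range := IsPGroup.of_card (n := 3) (by
    rw [← Nat.card_congr (MonoidHom.ofInjective hf).toEquiv, Nat.card_eq_fintype_card, QuaternionGroup.card]
    norm_num)
  obtain ⟨T, hT⟩ := hf2.exists_le_sylow
  have hSnc : ¬ ∀ x y : (S : Subgroup H), x * y = y * x := by
    intro hc
    have e := T.equiv S
    apply hne
    have hmem : ∀ z ∈ ({U', V'} : Set H), z ∈ (T : Subgroup H) := fun z hz =>
      hT (hfr ▸ Subgroup.subset_closure hz)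
    have := e.injective (show e (⟨U', hmem _ (by simp)⟩ * ⟨V', hmem _ (by simp)⟩) =
      e (⟨V', hmem _ (by simp)⟩ * ⟨U', hmem _ (by simp)⟩) by rw [map_mul, map_mul, hc])
    exact congrArg (fun z : (T : Subgroup H) => ((z : H) : SL(2, F))) this
  have hS2 : IsPGroup 2 ((S : Subgroup H).map H.subtype) := S.2.map _
  obtain ⟨P, hP⟩ := hS2.exists_le_sylow
  obtain ⟨k, -, ⟨eP⟩⟩ := sylow_two_quaternion hodd P
  let ι : (S : Subgroup H) →* (P : Subgroup SL(2, F)) :=
    (H.subtype.comp (S : Subgroup H).subtype).codRestrict _ fun x => hP ⟨x, x.2, rfl⟩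
  have hι : Function.Injective (eP.toMonoidHom.comp ι) := eP.injective.comp fun x y h =>
    Subtype.ext (Subtype.ext (congrArg (fun z : (P : Subgroup SL(2, F)) => (z : SL(2, F))) h))
  let eι := MonoidHom.ofInjective hι
  obtain ⟨j, hj, ⟨ej⟩⟩ := quaternion_subgroup (eP.toMonoidHom.comp ι).range fun hc => hSnc fun x y =>
    eι.injective (by rw [map_mul, map_mul, hc])
  exact ⟨j, hj, ⟨eι.trans ej⟩⟩

end CfsgLib.SL2
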