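import Cfsg.Agent.Lib.SL2.PSL

/-!
The extension of the twisted tensor module of `SL₂(3^α)` by `PSL₂(3^α) × C₂`: an element order
computation.
-/

set_option autoImplicit false
set_option linter.style.haveILetI false
set_option linter.unusedSectionVars false

namespace CfsgLib.SL2.Twist

open Matrix
open scoped MatrixGroups

variable {F : Type} [Field F] [CharP F 3]

/-- The module: `2 × 2` matrices. -/
abbrev V (F : Type) := Matrix (Fin 2) (Fin 2) F

/-- The Frobenius twist of a matrix. -/
def tw (g : SL(2, F)) : Matrix (Fin 2) (Fin 2) F :=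
  (g : Matrix (Fin 2) (Fin 2) F).map (frobenius F 3)

theorem tw_mul (g h : SL(2, F)) : tw (g * h) = tw g * tw h := by
  rw [tw, tw, tw, Matrix.SpecialLinearGroup.coe_mul, Matrix.map_mul]

theorem tw_one : tw (1 : SL(2, F)) = 1 := by
  rw [tw, Matrix.SpecialLinearGroup.coe_one, Matrix.map_one _ (map_zero _) (map_one _)]

/-- The twisted tensor action. -/
def act (g : SL(2, F)) (X : V F) : V F := (g : Matrix (Fin 2) (Fin 2) F) * X * (tw g)ᵀ

theorem act_mul (g h : SL(2, F)) (X : V F) : act (g * h) X = act g (act h X) := by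
  simp only [act, tw_mul, Matrix.SpecialLinearGroup.coe_mul, Matrix.transpose_mul, mul_assoc]

theorem act_one (X : V F) : act (1 : SL(2, F)) X = X := by
  simp [act, tw_one]

theorem act_add (g : SL(2, F)) (X Y : V F) : act g (X + Y) = act g X + act g Y := by
  simp [act, mul_add, add_mul]

theorem act_neg_one (X : V F) : act (-1 : SL(2, F)) X = X := by
  have h : tw (-1 : SL(2, F)) = -1 := by
    rw [tw]
    ext i j
    fin_cases i <;> fin_cases j <;> simp
  simp [act, h]

/-- The action as automorphisms. -/
def actHom : SL(2, F) →* MulAut (Multiplicative (V F)) :=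
  MonoidHom.mk'
    (fun g => AddEquiv.toMultiplicative
      { toFun := act g
        invFun := act g⁻¹
        left_inv := fun X => by rw [← act_mul, inv_mul_cancel, act_one]
        right_inv := fun X => by rw [← act_mul, mul_inv_cancel, act_one]
        map_add' := act_add g })
    fun g h => MulEquiv.ext fun X => congrArg Multiplicative.ofAdd (act_mul g h X.toAdd)

theorem actHom_center [Finite F] {z : SL(2, F)} (hz : z ∈ Subgroup.center SL(2, F)) :
    actHom z = 1 := by
  rcases eq_one_or_eq_neg_one_of_mem_center z hz with rfl | rfl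
  · exact map_one _
  · exact MulEquiv.ext fun X => congrArg Multiplicative.ofAdd (act_neg_one X.toAdd)

variable [Finite F]

/-- The action of `PSL₂`. -/
def pHom : ProjectiveSpecialLinearGroup (Fin 2) F →* MulAut (Multiplicative (V F)) :=
  QuotientGroup.lift _ actHom fun _ hz => MonoidHom.mem_ker.mpr (actHom_center hz)

theorem pHom_proj (g : SL(2, F)) (X : Multiplicative (V F)) :
    pHom (proj g) X = Multiplicative.ofAdd (act g X.toAdd) := rfl

/-- The sign action of the extra involution. -/
def negHom : Multiplicative (ZMod 2) →* MulAut (Multiplicative (V F)) where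
  toFun e := if e = 1 then 1 else MulEquiv.inv (Multiplicative (V F))
  map_one' := if_pos rfl
  map_mul' a b := by
    have hcases : ∀ x : Multiplicative (ZMod 2), x = 1 ∨ x = Multiplicative.ofAdd 1 := by decide
    have hne : (Multiplicative.ofAdd (1 : ZMod 2)) ≠ 1 := by decide
    rcases hcases a with rfl | rfl <;> rcases hcases b with rfl | rfl
    · simp
    · simp [hne]
    · simp [hne]
    · rw [if_pos (by decide : Multiplicative.ofAdd (1 : ZMod 2) * Multiplicative.ofAdd 1 = 1),
        if_neg hne]
      exact MulEquiv.ext fun X => (inv_inv X).symm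

/-- The action of `PSL₂ × C₂`. -/
def fullHom : ProjectiveSpecialLinearGroup (Fin 2) F × Multiplicative (ZMod 2) →*
    MulAut (Multiplicative (V F)) :=
  MonoidHom.noncommCoprod pHom negHom fun x e => MulEquiv.ext fun X => by
    show pHom x (negHom e X) = negHom e (pHom x X)
    by_cases he : e = 1
    · subst he; simp
    · simp only [negHom, MonoidHom.coe_mk, OneHom.coe_mk, if_neg he, MulEquiv.inv_apply, map_inv]

/-- The group. -/
abbrev Grp (F : Type) [Field F] [CharP F 3] [Finite F] :=
  Multiplicative (V F) ⋊[fullHom] (ProjectiveSpecialLinearGroup (Fin 2) F × Multiplicative (ZMod 2))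

theorem three_smul (X : V F) : X + X + X = 0 := by
  ext i j
  have h3 : (3 : F) = 0 := by exact_mod_cast CharP.cast_eq_zero F 3
  simp only [Matrix.add_apply, Matrix.zero_apply]
  linear_combination X i j * h3

theorem cube_eq_one (v : Multiplicative (V F)) : v ^ 3 = 1 := by
  rw [pow_succ, pow_two]
  exact congrArg Multiplicative.ofAdd (three_smul v.toAdd)

/-- The `orderOf h`-th power of `x` lies in the module and is fixed by `h = x.right`. -/
theorem exists_pow_eq (x : Grp F) : ∃ w : Multiplicative (V F),
    x ^ orderOf x.right = SemidirectProduct.inl w ∧ fullHom x.right w = w := by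
  refine ⟨(x ^ orderOf x.right).left, ?_, ?_⟩
  · refine SemidirectProduct.ext rfl ?_
    rw [SemidirectProduct.right_inl]
    exact (map_pow SemidirectProduct.rightHom x _).trans (pow_orderOf_eq_one _)
  · have hr : (x ^ orderOf x.right).right = 1 :=
      (map_pow SemidirectProduct.rightHom x _).trans (pow_orderOf_eq_one _)
    have h := congrArg SemidirectProduct.left ((Commute.self_pow x (orderOf x.right)).eq)
    rw [SemidirectProduct.mul_left, SemidirectProduct.mul_left, hr, map_one, MulAut.one_apply,
      mul_comm (x ^ orderOf x.right).left] at h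
    exact mul_left_cancel h

theorem orderOf_dvd_three_mul (x : Grp F) : orderOf x ∣ 3 * orderOf x.right := by
  obtain ⟨w, hw, -⟩ := exists_pow_eq x
  refine orderOf_dvd_of_pow_eq_one ?_
  rw [mul_comm, pow_mul, hw, ← map_pow, cube_eq_one, map_one]

theorem orderOf_eq_of_free (x : Grp F) (h : ∀ w, fullHom x.right w = w → w = 1) :
    orderOf x = orderOf x.right := by
  refine Nat.dvd_antisymm ?_ (orderOf_map_dvd SemidirectProduct.rightHom x)
  obtain ⟨w, hw, hfix⟩ := exists_pow_eq x
  rw [h w hfix, map_one] at hw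
  exact orderOf_dvd_of_pow_eq_one hw

theorem sign_cases (e : Multiplicative (ZMod 2)) : e = 1 ∨ e ≠ 1 ∧ orderOf e = 2 := by
  by_cases he : e = 1
  · exact Or.inl he
  · refine Or.inr ⟨he, ?_⟩
    have : orderOf e ∣ 2 := orderOf_dvd_of_pow_eq_one
      ((by decide : ∀ e : Multiplicative (ZMod 2), e ^ 2 = 1) e)
    rcases (Nat.dvd_prime Nat.prime_two).mp this with h | h
    · exact absurd (orderOf_eq_one_iff.mp h) he
    · exact h

theorem full_fix {g : SL(2, F)} {e : Multiplicative (ZMod 2)} {w : Multiplicative (V F)}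
    (h : fullHom (proj g, e) w = w) :
    ∃ ε : F, (ε = 1 ∨ ε = -1) ∧ (e = 1 → ε = 1) ∧ (e ≠ 1 → ε = -1) ∧
      act g w.toAdd = ε • w.toAdd := by
  by_cases he : e = 1
  · subst he
    refine ⟨1, Or.inl rfl, fun _ => rfl, fun h => absurd rfl h, ?_⟩
    have h' : pHom (proj g) (negHom 1 w) = w := h
    rw [map_one, MulAut.one_apply, pHom_proj] at h'
    rw [one_smul]
    exact congrArg Multiplicative.toAdd h'
  · refine ⟨-1, Or.inr rfl, fun h => absurd h he, fun _ => rfl, ?_⟩
    have h' : pHom (proj g) (negHom e w) = w := h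
    simp only [negHom, MonoidHom.coe_mk, OneHom.coe_mk, if_neg he, MulEquiv.inv_apply, map_inv,
      pHom_proj] at h'
    rw [neg_one_smul, ← neg_eq_iff_eq_neg]
    exact congrArg Multiplicative.toAdd h'

theorem not_regular_iff (g : SL(2, F)) :
    ¬ Regular g ↔ (g : Matrix (Fin 2) (Fin 2) F).trace ^ 2 = 1 := by
  have h3 : (3 : F) = 0 := by exact_mod_cast CharP.cast_eq_zero F 3
  rw [Regular, not_not, pow_two, show (4 : F) = 1 by linear_combination h3]

/-- Fixed vectors force a special trace. -/
theorem act_free {g : SL(2, F)} {ε : F} (hε : ε = 1 ∨ ε = -1) (hsq : ∀ c : F, c ^ 2 ≠ -1)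
    (h0 : (g : Matrix (Fin 2) (Fin 2) F).trace ≠ 0)
    (h1 : (g : Matrix (Fin 2) (Fin 2) F).trace ^ 2 ≠ 1) {X : V F} (h : act g X = ε • X) : X = 0 := by
  set t := (g : Matrix (Fin 2) (Fin 2) F).trace with ht
  set B := (tw g⁻¹)ᵀ with hB
  have hgX : (g : Matrix (Fin 2) (Fin 2) F) * X = ε • (X * B) := by
    have h' := congrArg (· * B) h
    simp only [act, mul_assoc, hB, ← Matrix.transpose_mul, ← tw_mul, inv_mul_cancel, tw_one,
      Matrix.transpose_one, mul_one, Matrix.smul_mul] at h'
    exact h'
  have hBt : B.trace = t ^ 3 := by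
    rw [hB, Matrix.trace_transpose, tw, ← AddMonoidHom.map_trace, trace_inv, ← ht]
    rfl
  have hBd : B.det = 1 := by
    rw [hB, Matrix.det_transpose, tw]
    rw [← RingHom.mapMatrix_apply, ← RingHom.map_det, g⁻¹.2, map_one]
  have hgg : (g : Matrix (Fin 2) (Fin 2) F) * g = t • (g : Matrix (Fin 2) (Fin 2) F) - 1 := by
    rw [cayley, g.2, one_smul]
  have hBB : B * B = t ^ 3 • B - 1 := by
    rw [cayley, hBt, hBd, one_smul]
  have key : (t * ε - t ^ 3) • (X * B) = 0 := by
    have e1 : (g : Matrix (Fin 2) (Fin 2) F) * ((g : Matrix (Fin 2) (Fin 2) F) * X) =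
        (t * ε) • (X * B) - X := by
      rw [← mul_assoc, hgg, sub_mul, one_mul, Matrix.smul_mul, hgX, smul_smul]
    have e2 : (g : Matrix (Fin 2) (Fin 2) F) * ((g : Matrix (Fin 2) (Fin 2) F) * X) =
        (t ^ 3) • (X * B) - X := by
      rw [hgX, Matrix.mul_smul, ← mul_assoc, hgX, Matrix.smul_mul, smul_smul, mul_assoc,
        show ε * ε = 1 by rcases hε with rfl | rfl <;> simp, one_smul, hBB, mul_sub,
        Matrix.mul_smul, mul_one]
    rw [sub_smul, sub_eq_zero]
    exact sub_left_injective (e1.symm.trans e2)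
  have hne : t * ε - t ^ 3 ≠ 0 := by
    intro e
    have e' : t * (ε - t ^ 2) = 0 := by rw [← e]; ring
    rcases mul_eq_zero.mp e' with e'' | e''
    · exact h0 e''
    · rcases hε with rfl | rfl
      · exact h1 (sub_eq_zero.mp e'').symm
      · exact hsq t (sub_eq_zero.mp e'').symm
  have hXB := (smul_eq_zero.mp key).resolve_left hne
  have hu : IsUnit B := (Matrix.isUnit_iff_isUnit_det _).mpr (by rw [hBd]; exact isUnit_one)
  exact hu.mul_left_eq_zero.mp hXB

/-- The orders of the elements divide one of four numbers. -/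
theorem orderOf_cases (hq : Nat.card F % 8 = 3) (x : Grp F) :
    orderOf x ∣ 6 ∨ orderOf x ∣ 9 ∨ orderOf x ∣ Nat.card F - 1 ∨
      orderOf x ∣ (Nat.card F + 1) / 2 := by
  haveI := Fintype.ofFinite F
  have h3 : (3 : F) = 0 := by exact_mod_cast CharP.cast_eq_zero F 3
  have hsq : ∀ c : F, c ^ 2 ≠ -1 := fun c hc => by
    have h := FiniteField.isSquare_neg_one_iff.mp ⟨c, by rw [← hc, pow_two]⟩
    rw [← Nat.card_eq_fintype_card] at h
    omega
  obtain ⟨g, hg⟩ := proj_surjective x.right.1
  set e := x.right.2 with he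
  have hright : x.right = (proj g, e) := Prod.ext hg.symm rfl
  have hord : orderOf x.right = Nat.lcm (orderOf (proj g)) (orderOf e) := by
    rw [hright, Prod.orderOf_mk]
  by_cases hreg : Regular g
  · have ht1 : (g : Matrix (Fin 2) (Fin 2) F).trace ^ 2 ≠ 1 := fun h =>
      (not_regular_iff g).mpr h hreg
    by_cases ht0 : (g : Matrix (Fin 2) (Fin 2) F).trace = 0
    · left
      have hgg : g * g = -1 := by
        refine Subtype.ext ?_
        rw [Matrix.SpecialLinearGroup.coe_mul, cayley, ht0, zero_smul, g.2, one_smul, zero_sub,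
          Matrix.SpecialLinearGroup.coe_neg, Matrix.SpecialLinearGroup.coe_one]
      have h2 : orderOf (proj g) ∣ 2 := by
        refine orderOf_dvd_of_pow_eq_one ?_
        rw [pow_two, ← map_mul, hgg, proj_eq_one_iff]
        exact mem_center_iff_not_nonScalar _ |>.mpr (fun h => h (-1) (by
          rw [Matrix.SpecialLinearGroup.coe_neg, Matrix.SpecialLinearGroup.coe_one, neg_one_smul]))
      have he2 : orderOf e ∣ 2 := by
        rcases sign_cases e with h | ⟨-, h⟩
        · rw [h, orderOf_one]; norm_num
        · rw [h]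
      refine (orderOf_dvd_three_mul x).trans ?_
      rw [hord]
      exact Nat.mul_dvd_mul_left 3 (Nat.lcm_dvd h2 he2)
    · have hfree : ∀ w, fullHom x.right w = w → w = 1 := by
        intro w hw
        rw [hright] at hw
        obtain ⟨ε, hε, -, -, hact⟩ := full_fix hw
        exact Multiplicative.toAdd.injective (act_free hε hsq ht0 ht1 hact)
      rw [orderOf_eq_of_free x hfree, hord]
      have hdvd : orderOf (proj g) ∣ Nat.card ((cent g).map proj) :=
        Subgroup.orderOf_dvd_natCard ((cent g).map proj) ⟨g, self_mem_cent g, rfl⟩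
      have hgcd : Nat.gcd 2 (Nat.card F - 1) = 2 :=
        Nat.gcd_eq_left (by omega)
      have he2 : orderOf e ∣ 2 := by
        rcases sign_cases e with h | ⟨-, h⟩
        · rw [h, orderOf_one]; norm_num
        · rw [h]
      rcases (proj_cent_regular hreg).2 with h | h <;> rw [h, hgcd] at hdvd
      · exact Or.inr (Or.inr (Or.inl (Nat.lcm_dvd (hdvd.trans (Nat.div_dvd_of_dvd (by omega)))
          (he2.trans (by omega)))))
      · exact Or.inr (Or.inr (Or.inr (Nat.lcm_dvd hdvd (he2.trans (by omega)))))
  · have h3g : orderOf (proj g) ∣ 3 := by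
      haveI : Fact (Nat.Prime 3) := ⟨Nat.prime_three⟩
      exact orderOf_dvd_of_pow_eq_one (proj_pow_char_of_not_regular hreg 3)
    rcases sign_cases e with h | ⟨hne, h⟩
    · refine Or.inr (Or.inl ((orderOf_dvd_three_mul x).trans ?_))
      rw [hord, h, orderOf_one, Nat.lcm_one_right]
      exact Nat.mul_dvd_mul_left 3 h3g
    · left
      have hfree : ∀ w, fullHom x.right w = w → w = 1 := by
        intro w hw
        rw [hright] at hw
        obtain ⟨ε, -, -, hε, hact⟩ := full_fix hw
        rw [hε hne, neg_one_smul] at hact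
        have hg3 : actHom g ^ 3 = 1 := by
          rw [← map_pow]
          refine actHom_center ?_
          rw [← proj_eq_one_iff, map_pow]
          exact orderOf_dvd_iff_pow_eq_one.mp h3g
        have hw3 := congrArg (fun φ : MulAut (Multiplicative (V F)) => φ w) hg3
        have happ : actHom g w = w⁻¹ := congrArg Multiplicative.ofAdd hact
        rw [pow_succ, pow_two] at hw3
        simp only [MulAut.mul_apply, MulAut.one_apply, happ, map_inv, inv_inv] at hw3
        calc w = w * w * w * (w⁻¹ * w⁻¹) := by group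
          _ = w ^ 3 * (w⁻¹ * w⁻¹) := by rw [pow_succ, pow_two]
          _ = w⁻¹ * w⁻¹ := by rw [cube_eq_one, one_mul]
          _ = 1 := by nth_rewrite 2 [hw3]; exact inv_mul_cancel w
      rw [orderOf_eq_of_free x hfree, hord, h]
      exact (Nat.lcm_dvd (h3g.trans (by norm_num)) (by norm_num))

/-- Orders of the elements of the complement. -/
theorem orderOf_inr (p : ProjectiveSpecialLinearGroup (Fin 2) F) (e : Multiplicative (ZMod 2)) :
    orderOf (SemidirectProduct.inr (p, e) : Grp F) = Nat.lcm (orderOf p) (orderOf e) := by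
  rw [orderOf_injective _ SemidirectProduct.inr_injective, Prod.orderOf_mk]

/-- There is an element of order nine. -/
theorem exists_nine : ∃ x : Grp F, orderOf x = 9 := by
  haveI : Fact (Nat.Prime 3) := ⟨Nat.prime_three⟩
  let u : SL(2, F) := ⟨!![1, 1; 0, 1], by simp [Matrix.det_fin_two_of]⟩
  let X : V F := !![0, 0; 0, 1]
  let x : Grp F := ⟨Multiplicative.ofAdd X, (proj u, 1)⟩
  refine ⟨x, orderOf_eq_prime_pow (p := 3) (n := 1) ?_ ?_⟩
  · rw [pow_one, pow_succ, pow_two]
    intro h
    have hf : ∀ (v : SL(2, F)) (Y : V F), fullHom (proj v, (1 : Multiplicative (ZMod 2)))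
        (Multiplicative.ofAdd Y) = Multiplicative.ofAdd (act v Y) := fun v Y => by
      show pHom (proj v) (negHom 1 (Multiplicative.ofAdd Y)) = _
      rw [map_one]
      rfl
    have hl : (x * x * x).left = Multiplicative.ofAdd X *
        fullHom (proj u, (1 : Multiplicative (ZMod 2))) (Multiplicative.ofAdd X) *
        fullHom ((proj u, (1 : Multiplicative (ZMod 2))) * (proj u, 1)) (Multiplicative.ofAdd X) := rfl
    rw [h, Prod.mk_mul_mk, ← map_mul, mul_one, hf, hf, ← ofAdd_add, ← ofAdd_add] at hl
    have h' : X + act u X + act (u * u) X = 0 := (Multiplicative.ofAdd.injective hl).symm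
    have htw : tw u = !![1, 1; 0, 1] := by
      ext i j
      fin_cases i <;> fin_cases j <;> simp [tw, u]
    have hu : (u : Matrix (Fin 2) (Fin 2) F) = !![1, 1; 0, 1] := rfl
    simp only [act, tw_mul, Matrix.SpecialLinearGroup.coe_mul, hu, htw, X] at h'
    have h'' := congrFun (congrFun h' 0) 0
    simp [Matrix.vecMul, dotProduct, Matrix.transpose_apply, Matrix.vecHead, Fin.sum_univ_two] at h''
    have h3 : (3 : F) = 0 := by exact_mod_cast CharP.cast_eq_zero F 3
    exact one_ne_zero (show (1 : F) = 0 by linear_combination -h'' + 2 * h3)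
  · refine orderOf_dvd_iff_pow_eq_one.mp ?_
    refine (orderOf_dvd_three_mul x).trans ?_
    have h3u : orderOf (proj u) ∣ 3 := by
      refine orderOf_dvd_of_pow_eq_one (proj_pow_char_of_not_regular ?_ 3)
      rw [not_regular_iff]
      simp [u, Matrix.trace_fin_two_of]
      have h3 : (3 : F) = 0 := by exact_mod_cast CharP.cast_eq_zero F 3
      linear_combination h3
    show 3 * orderOf (proj u, (1 : Multiplicative (ZMod 2))) ∣ 3 ^ (1 + 1)
    rw [Prod.orderOf_mk, orderOf_one, Nat.lcm_one_right, pow_succ, pow_one]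
    exact Nat.mul_dvd_mul_left 3 h3u

end CfsgLib.SL2.Twist
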